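import Cfsg.Statements.S4498
import Cfsg.Agent.Lib.Blocks.Kernel
-- import your own Cfsg.Agent.* helpers here

set_option autoImplicit false
open Cfsg

namespace Cfsg.Agent.S4498

/-- Let p and q be distinct primes dividing the order of the finite group G, and suppose G has no element of order p·q. Fix maximal ideals M_p over p and M_q over q of the algebraic integers. Then the principal p-block and the principal q-block of G have a non-principal irreducible character in common. -/
theorem result {G : Type*} [Group G] [Finite G] (p q : ℕ) [Fact p.Prime] [Fact q.Prime] (hpq : p ≠ q) (hp : p ∣ Nat.card G) (hq : q ∣ Nat.card G) (hno : ∀ g : G, orderOf g ≠ p * q) (Mp Mq : Ideal Cfsg.AlgInt) (hMp : Cfsg.IsPModular p Mp) (hMq : Cfsg.IsPModular q Mq) : ∃ χ : Cfsg.IrrCharacter G, (χ : G → ℂ) ≠ (fun _ => 1) ∧ χ ∈ Cfsg.principalBlock Mp G ∧ χ ∈ Cfsg.principalBlock Mq G := by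
  classical
  have : Fintype G := Fintype.ofFinite G
  have := hMp.2.1.isPrime
  have := hMq.2.1.isPrime
  have : Fintype (Cfsg.IrrCharacter G) := Fintype.ofFinite _
  have hP : p.Prime := Fact.out
  have hQ : q.Prime := Fact.out
  obtain ⟨x, hx⟩ := exists_prime_orderOf_dvd_card' p hp
  obtain ⟨y, hy⟩ := exists_prime_orderOf_dvd_card' q hq
  by_contra hcon
  push Not at hcon
  have hBp := CfsgLib.Blocks.isPBlock_principalBlock (M := Mp) (G := G)
  have hBq := CfsgLib.Blocks.isPBlock_principalBlock (M := Mq) (G := G)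
  set A := (Set.toFinite (Cfsg.principalBlock Mp G)).toFinset with hA
  set B := (Set.toFinite (Cfsg.principalBlock Mq G)).toFinset with hB
  have hxp : Cfsg.IsPPart p x x :=
    ⟨1, mul_one x, Commute.one_right x, ⟨1, by rw [pow_one, hx]⟩, by simp [hP.ne_one]⟩
  have hyq : Cfsg.IsPPart q y y :=
    ⟨1, mul_one y, Commute.one_right y, ⟨1, by rw [pow_one, hy]⟩, by simp [hQ.ne_one]⟩
  have hzero : ∀ g : G,
      (∑ χ ∈ A, (χ : G → ℂ) x * (χ : G → ℂ) g⁻¹) * (∑ ψ ∈ B, (ψ : G → ℂ) y * (ψ : G → ℂ) g) = 0 := by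
    intro g
    obtain ⟨u, hu⟩ := CfsgLib.Blocks.exists_pPart hMp.1 g
    obtain ⟨v, hv⟩ := CfsgLib.Blocks.exists_pPart hMq.1 g⁻¹
    by_cases hc : IsConj x u
    · by_cases hd : IsConj y v
      · exfalso
        obtain ⟨c, hc⟩ := isConj_iff.1 hc
        obtain ⟨d, hd⟩ := isConj_iff.1 hd
        have h1 : p ∣ orderOf g := (CfsgLib.Blocks.IsPPart.dvd_orderOf_iff hMp.1 hu).2 fun h => by
          have h' : orderOf x = orderOf u := by
            rw [← hc]; exact (MulEquiv.orderOf_eq (MulAut.conj c) x).symm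
          rw [h, orderOf_one, hx] at h'
          exact hP.ne_one h'
        have h2 : q ∣ orderOf g := by
          rw [← orderOf_inv]
          refine (CfsgLib.Blocks.IsPPart.dvd_orderOf_iff hMq.1 hv).2 fun h => ?_
          have h' : orderOf y = orderOf v := by
            rw [← hd]; exact (MulEquiv.orderOf_eq (MulAut.conj d) y).symm
          rw [h, orderOf_one, hy] at h'
          exact hQ.ne_one h'
        have h3 : p * q ∣ orderOf g := ((Nat.coprime_primes hP hQ).2 hpq).mul_dvd_of_dvd_of_dvd h1 h2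
        refine hno (g ^ (orderOf g / (p * q))) ?_
        exact orderOf_pow_orderOf_div (orderOf_pos g).ne' h3
      · have h := CfsgLib.Blocks.sum_block_apply_mul_eq_zero hMq hBq hyq hv hd
        rw [finsum_mem_eq_finite_toFinset_sum _ (Set.toFinite _)] at h
        simp only [inv_inv] at h
        rw [hB, h, mul_zero]
    · have h := CfsgLib.Blocks.sum_block_apply_mul_eq_zero hMp hBp hxp hu hc
      rw [finsum_mem_eq_finite_toFinset_sum _ (Set.toFinite _)] at h
      rw [hA, h, zero_mul]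
  have hsum : ∑ g : G,
      (∑ χ ∈ A, (χ : G → ℂ) x * (χ : G → ℂ) g⁻¹) * (∑ ψ ∈ B, (ψ : G → ℂ) y * (ψ : G → ℂ) g) = 0 :=
    Finset.sum_eq_zero fun g _ => hzero g
  have horth : ∀ χ ψ : Cfsg.IrrCharacter G,
      ∑ g : G, (χ : G → ℂ) g⁻¹ * (ψ : G → ℂ) g = if ψ = χ then (Nat.card G : ℂ) else 0 := by
    intro χ ψ
    have h := CfsgLib.Char.classInner_irr ψ χ
    rw [Cfsg.classInner, inv_mul_eq_iff_eq_mul₀
      (Nat.cast_ne_zero.2 Nat.card_pos.ne'), mul_ite, mul_one, mul_zero] at h
    rw [← h]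
    exact Finset.sum_congr rfl fun g _ => by rw [CfsgLib.Char.IsIrr.map_inv χ.2, mul_comm]
  simp only [Finset.sum_mul_sum] at hsum
  rw [Finset.sum_comm] at hsum
  have h4 : ∀ χ ∈ A, ∑ g : G, ∑ ψ ∈ B, (χ : G → ℂ) x * (χ : G → ℂ) g⁻¹ * ((ψ : G → ℂ) y * (ψ : G → ℂ) g) =
      if χ = CfsgLib.Char.trivChar G then (Nat.card G : ℂ) else 0 := by
    intro χ hχ
    rw [Finset.sum_comm]
    have h5 : ∀ ψ ∈ B, ∑ g : G, (χ : G → ℂ) x * (χ : G → ℂ) g⁻¹ * ((ψ : G → ℂ) y * (ψ : G → ℂ) g) =
        if ψ = χ then (χ : G → ℂ) x * (χ : G → ℂ) y * (Nat.card G : ℂ) else 0 := by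
      intro ψ _
      calc ∑ g : G, (χ : G → ℂ) x * (χ : G → ℂ) g⁻¹ * ((ψ : G → ℂ) y * (ψ : G → ℂ) g)
          = (χ : G → ℂ) x * (ψ : G → ℂ) y * ∑ g : G, (χ : G → ℂ) g⁻¹ * (ψ : G → ℂ) g := by
            rw [Finset.mul_sum]
            exact Finset.sum_congr rfl fun g _ => by ring
        _ = _ := by
            rw [horth]
            split_ifs with h
            · rw [h]
            · rw [mul_zero]
    rw [Finset.sum_congr rfl h5, Finset.sum_ite_eq']
    by_cases ht : χ = CfsgLib.Char.trivChar G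
    · subst ht
      rw [if_pos rfl, if_pos]
      · simp [CfsgLib.Char.trivChar_apply]
      · rw [hB, Set.Finite.mem_toFinset]
        exact CfsgLib.Blocks.trivChar_mem_principalBlock
    · rw [if_neg ht, if_neg]
      intro hχB
      rw [hB, Set.Finite.mem_toFinset] at hχB
      rw [hA, Set.Finite.mem_toFinset] at hχ
      refine hcon χ (fun e => ht (CfsgLib.Char.irr_ext fun g => ?_)) hχ hχB
      rw [congrFun e g, CfsgLib.Char.trivChar_apply]
  rw [Finset.sum_congr rfl h4, Finset.sum_ite_eq', if_pos] at hsum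
  · exact Nat.cast_ne_zero.2 Nat.card_pos.ne' hsum
  · rw [hA, Set.Finite.mem_toFinset]
    exact CfsgLib.Blocks.trivChar_mem_principalBlock

end Cfsg.Agent.S4498
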