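import Cfsg.Statements.S4500
import Cfsg.Agent.Lib.CharAction.BrauerFeit
import Cfsg.Agent.Lib.Blocks.Kernel
import Cfsg.Agent.Lib.Blocks.Orthogonality
import Cfsg.Agent.Lib.ZStar.PrincipalBlock
import Cfsg.Agent.Lib.Char.Burnside
import Cfsg.Agent.Lib.CharDegree.Basic

set_option autoImplicit false
open Cfsg

namespace Cfsg.Agent.S4500

open CfsgLib

/-- If `|G|_p ≤ p ^ 2` and `p ∣ |G|`, the principal `p`-block has a nontrivial character of
degree prime to `p` and to `r`. -/
theorem exists_prime_to_both {G : Type*} [Group G] [Finite G] (p r : ℕ) (hp : p.Prime)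
    (hr : r.Prime) (hdvd : p ∣ Nat.card G) (ha : (Nat.card G).factorization p ≤ 2) :
    ∃ χ : IrrCharacter G, (χ : G → ℂ) ≠ (fun _ => 1) ∧
      ¬ p ∣ charDegree (χ : G → ℂ) ∧ ¬ r ∣ charDegree (χ : G → ℂ) := by
  classical
  have : Fact p.Prime := ⟨hp⟩
  have : Fintype G := Fintype.ofFinite G
  obtain ⟨M, hM⟩ := ZStar.exists_isPModular hp
  have := hM.2.1.isPrime
  set B := principalBlock M G with hBdef
  have hB : IsPBlock M B := Blocks.isPBlock_principalBlock
  have h1B : Char.trivChar G ∈ B := Blocks.trivChar_mem_principalBlock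
  have h1deg : charDegree ((Char.trivChar G : IrrCharacter G) : G → ℂ) = 1 := by
    simp [charDegree, Char.trivChar_apply]
  have hmin : CharAction.minDeg p B = 0 := by
    have := CharAction.minDeg_le (p := p) h1B
    simpa [CharAction.degVal, h1deg] using this
  have hnd : ∀ χ ∈ B, ¬ p ∣ charDegree (χ : G → ℂ) := by
    intro χ hχ hd
    have h2 : 1 ≤ (charDegree (χ : G → ℂ)).factorization p :=
      hp.factorization_pos_of_dvd (Blocks.charDegree_pos χ).ne' hd
    have h3 := CharAction.height_bound hM hB hχ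
    rw [CharAction.blockHeight_eq_sub, CharAction.blockDefect_eq_sub, hmin] at h3
    simp only [CharAction.degVal] at h3
    omega
  obtain ⟨x, hx⟩ := exists_prime_orderOf_dvd_card' p hdvd
  have horth := Blocks.sum_block_regular_singular hM hB (x := (1 : G)) (y := x)
    (by simpa using hp.ne_one) (dvd_of_eq hx.symm)
  have := Fintype.ofFinite (IrrCharacter G)
  rw [finsum_mem_eq_toFinset_sum, ← Finset.add_sum_erase _ _ (Set.mem_toFinset.2 h1B),
    Char.trivChar_apply, Char.trivChar_apply, one_mul] at horth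
  by_contra hno
  push Not at hno
  have key : IsIntegral ℤ (((1 : ℕ) : ℂ) / (r : ℂ)) := by
    have e : ((1 : ℕ) : ℂ) / (r : ℂ) = - ∑ χ ∈ B.toFinset.erase (Char.trivChar G),
        (χ : G → ℂ) 1 * (χ : G → ℂ) x / (r : ℂ) := by
      rw [← Finset.sum_div, ← neg_div, Nat.cast_one]
      congr 1
      linear_combination horth
    rw [e]
    refine (IsIntegral.sum _ fun χ hχ => ?_).neg
    obtain ⟨hne, hmem⟩ := Finset.mem_erase.1 hχ
    have hmem' := Set.mem_toFinset.1 hmem
    obtain ⟨k, hk⟩ := hno χ (fun e => hne (Subtype.ext (e.trans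
      (funext fun g => (Char.trivChar_apply g).symm)))) (hnd χ hmem')
    have e2 : (χ : G → ℂ) 1 * (χ : G → ℂ) x / (r : ℂ) = (k : ℂ) * (χ : G → ℂ) x := by
      rw [Blocks.apply_one_eq_charDegree, hk]
      have : (r : ℂ) ≠ 0 := Nat.cast_ne_zero.2 hr.ne_zero
      push_cast
      field_simp
    rw [e2]
    exact (isIntegral_algebraMap (R := ℤ) (x := (k : ℤ))).mul
      (Char.IsChar.isIntegral (Char.IsIrr.isCharacter χ.2) x)
  exact hr.not_dvd_one (CharIntegral.dvd_of_isIntegral_div hr.ne_zero key)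

theorem degree_pow {G : Type*} [Group G] [Finite G] {p q r a b c : ℕ} (hp : p.Prime)
    (hq : q.Prime) (hr : r.Prime) (hG : Nat.card G ∣ p ^ a * q ^ b * r ^ c)
    (χ : IrrCharacter G) (hnp : ¬ p ∣ charDegree (χ : G → ℂ))
    (hnr : ¬ r ∣ charDegree (χ : G → ℂ)) : ∃ k, charDegree (χ : G → ℂ) = q ^ k := by
  have : Fintype G := Fintype.ofFinite G
  have hd : charDegree (χ : G → ℂ) ∣ p ^ a * (q ^ b * r ^ c) :=
    mul_assoc (p ^ a) _ _ ▸ (Blocks.charDegree_dvd_card χ).trans hG
  have h1 := Nat.Coprime.dvd_of_dvd_mul_left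
    (((hp.coprime_iff_not_dvd.2 hnp).symm).pow_right a) hd
  have h2 := Nat.Coprime.dvd_of_dvd_mul_right
    (((hr.coprime_iff_not_dvd.2 hnr).symm).pow_right c) h1
  obtain ⟨k, -, hk⟩ := (Nat.dvd_prime_pow hq).1 h2
  exact ⟨k, hk⟩

/-- Let G be a non-trivial finite group of order p^a · q^b · r^c with p, q, r distinct primes and a ≤ 2. Then G has a non-principal irreducible character whose degree is a power of q, and a non-principal irreducible character whose degree is a power of r; the power may be the zeroth, so a non-principal linear character serves for both. -/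
theorem result {G : Type*} [Group G] [Finite G] [Nontrivial G] (p q r a b c : ℕ) (hp : p.Prime) (hq : q.Prime) (hr : r.Prime) (hpq : p ≠ q) (hpr : p ≠ r) (hqr : q ≠ r) (ha : a ≤ 2) (hG : Nat.card G = p ^ a * q ^ b * r ^ c) : (∃ χ : Cfsg.IrrCharacter G, (χ : G → ℂ) ≠ (fun _ => 1) ∧ ∃ k : ℕ, Cfsg.charDegree (χ : G → ℂ) = q ^ k) ∧ ∃ χ : Cfsg.IrrCharacter G, (χ : G → ℂ) ≠ (fun _ => 1) ∧ ∃ k : ℕ, Cfsg.charDegree (χ : G → ℂ) = r ^ k := by
  by_cases hperf : commutator G = ⊤
  · have hpdvd : p ∣ Nat.card G := by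
      by_contra hndvd
      have ha0 : a = 0 := by
        by_contra h
        exact hndvd (hG ▸ ((dvd_pow_self p h).mul_right _).mul_right _)
      have hsol := CfsgLib.Burnside.isSolvable_of_card_eq hq hr (a := b) (b := c)
        (by rw [hG, ha0, pow_zero, one_mul])
      exact (hsol.commutator_lt_top_of_nontrivial G).ne hperf
    have hfac : (Nat.card G).factorization p ≤ 2 := by
      rw [hG, Nat.factorization_mul_apply_of_coprime (by
        exact ((Nat.coprime_pow_primes _ _ hp hr hpr).mul_left (Nat.coprime_pow_primes _ _ hq hr hqr))),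
        Nat.factorization_mul_apply_of_coprime (Nat.coprime_pow_primes _ _ hp hq hpq)]
      simp [Nat.factorization_pow, hp.factorization, hq.factorization, hr.factorization, hpq.symm,
        hpr.symm, ha]
    obtain ⟨χ, hne, hnp, hnt⟩ := exists_prime_to_both p r hp hr hpdvd hfac
    obtain ⟨ψ, hne', hnp', hnt'⟩ := exists_prime_to_both p q hp hq hpdvd hfac
    exact ⟨⟨χ, hne, degree_pow hp hq hr (dvd_of_eq hG) χ hnp hnt⟩,
      ⟨ψ, hne', degree_pow hp hr hq (a := a) (b := c) (c := b)
        (dvd_of_eq (hG.trans (mul_right_comm _ _ _))) ψ hnp' hnt'⟩⟩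
  · obtain ⟨χ, hdeg, hne⟩ := CfsgLib.CharDegree.exists_linear_ne_one hperf
    exact ⟨⟨χ, hne, 0, by rw [hdeg, pow_zero]⟩, ⟨χ, hne, 0, by rw [hdeg, pow_zero]⟩⟩

end Cfsg.Agent.S4500
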