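import Cfsg.Statements.S4501
import Cfsg.Agent.Lib.Blocks.KleinThreePrimes
import Cfsg.Agent.Lib.Recog.SimpleSixty
import Cfsg.Agent.Lib.Char.Burnside
import Cfsg.Agent.S0904
import Cfsg.Agent.S3331

set_option autoImplicit false
open Cfsg

namespace Cfsg.Agent.S4501

open CfsgLib

theorem false_of_two_primes {G : Type*} [Group G] [Finite G] [IsSimpleGroup G]
    (hna : ∃ x y : G, x * y ≠ y * x) {p q a b : ℕ} (hp : p.Prime) (hq : q.Prime)
    (h : Nat.card G = p ^ a * q ^ b) : False := by
  have hs : Group.IsSolvable G := CfsgLib.Burnside.isSolvable_of_card_eq hp hq h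
  refine (Group.IsSolvable.commutator_lt_top_of_nontrivial G).ne
    (CfsgLib.Perm.ThreePrimeOrder.perfect_of_nc fun hc => ?_)
  obtain ⟨x, y, hxy⟩ := hna
  exact hxy (hc.is_comm.comm x y)

/-- Let G be a non-abelian finite simple group and p, q distinct primes. If the order of G is 4·p^a·q^b with a ≤ 2, then G is isomorphic to the alternating group of degree 5. If the order of G is 3·p^a·q^b with a ≤ 2, then G is isomorphic to the alternating group of degree 5 or to PSL(2,7). -/
theorem result {G : Type*} [Group G] [Finite G] [IsSimpleGroup G] (hna : ∃ x y : G, x * y ≠ y * x) (p q a b : ℕ) (hp : p.Prime) (hq : q.Prime) (hpq : p ≠ q) (ha : a ≤ 2) : (Nat.card G = 4 * p ^ a * q ^ b → Nonempty (G ≃* alternatingGroup (Fin 5))) ∧ (Nat.card G = 3 * p ^ a * q ^ b → Nonempty (G ≃* alternatingGroup (Fin 5)) ∨ Nonempty (G ≃* Matrix.ProjectiveSpecialLinearGroup (Fin 2) (ZMod 7))) := by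
  have hnc : ¬ IsMulCommutative G := fun hc => by
    obtain ⟨x, y, hxy⟩ := hna
    exact hxy (hc.is_comm.comm x y)
  refine ⟨fun hG => ?_, fun hG => ?_⟩
  · by_cases hp2 : p = 2
    · subst hp2
      exact (false_of_two_primes hna hp hq (a := a + 2) (b := b)
        (by rw [hG, pow_add]; ring)).elim
    by_cases hq2 : q = 2
    · subst hq2
      exact (false_of_two_primes hna hp hq (a := a) (b := b + 2)
        (by rw [hG, pow_add]; ring)).elim
    have hop := hp.odd_of_ne_two hp2
    have hoq := hq.odd_of_ne_two hq2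
    have hg₀ : Odd (p ^ a * q ^ b) := hop.pow.mul hoq.pow
    have hG' : Nat.card G = 4 * (p ^ a * q ^ b) := by rw [hG, mul_assoc]
    have hpr : ∀ l : ℕ, l.Prime → l ∣ p ^ a * q ^ b → l = p ∨ l = q := fun l hl h => by
      rcases hl.dvd_mul.1 h with h' | h'
      · exact Or.inl ((Nat.prime_dvd_prime_iff_eq hl hp).1 (hl.dvd_of_dvd_pow h'))
      · exact Or.inr ((Nat.prime_dvd_prime_iff_eq hl hq).1 (hl.dvd_of_dvd_pow h'))
    have h3 : p = 3 ∨ q = 3 := by
      haveI : Fact (Nat.Prime 2) := ⟨Nat.prime_two⟩
      obtain ⟨P⟩ : Nonempty (Sylow 2 G) := inferInstance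
      have := Fintype.ofFinite G
      have hnc2 : ¬ ∃ N : Subgroup G, N.Normal ∧ Nat.card N = p ^ a * q ^ b := by
        rintro ⟨N, hN, hNc⟩
        rcases IsSimpleGroup.eq_bot_or_eq_top_of_normal N hN with h | h <;> subst h
        · rw [Subgroup.card_bot] at hNc
          exact false_of_two_primes hna Nat.prime_two Nat.prime_two (a := 2) (b := 0)
            (by rw [hG', ← hNc]; norm_num)
        · rw [Subgroup.card_top, hG'] at hNc
          have := hg₀.pos
          omega
      obtain ⟨hPK, -⟩ := CfsgLib.Blocks.klein_of_no_complement hg₀ hG' hnc2 P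
      have h3G := CfsgLib.Blocks.KleinThreePrimes.three_dvd_card P hPK fun h => by
        have hc := MonoidHom.ker_transferSylow_isComplement' P h
        refine hnc2 ⟨_, MonoidHom.normal_ker (MonoidHom.transferSylow P h), ?_⟩
        have h1 := hc.card_mul_card
        rw [hPK.card_four, hG'] at h1
        omega
      rw [hG'] at h3G
      rcases hpr 3 Nat.prime_three
        ((Nat.Coprime.dvd_mul_left (by norm_num)).1 h3G) with e | e
      · exact Or.inl e.symm
      · exact Or.inr e.symm
    refine CfsgLib.Recog.Sixty.iso_alt_five ?_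
    rcases h3 with e | e
    · exact CfsgLib.Blocks.KleinThreePrimes.card_eq_sixty hna hg₀ hG' hq
        (fun e' => hpq (e.trans e'.symm)) fun l hl h => by
          rcases hpr l hl h with r | r
          · exact Or.inl (r.trans e)
          · exact Or.inr r
    · exact CfsgLib.Blocks.KleinThreePrimes.card_eq_sixty hna hg₀ hG' hp
        (fun e' => hpq (e'.trans e.symm)) fun l hl h => by
          rcases hpr l hl h with r | r
          · exact Or.inr r
          · exact Or.inl (r.trans e)
  · by_cases hp3 : p = 3
    · subst hp3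
      exact (false_of_two_primes hna hp hq (a := a + 1) (b := b)
        (by rw [hG, pow_add]; ring)).elim
    by_cases hq3 : q = 3
    · subst hq3
      exact (false_of_two_primes hna hp hq (a := a) (b := b + 1)
        (by rw [hG, pow_add]; ring)).elim
    haveI : Fact (Nat.Prime 3) := ⟨Nat.prime_three⟩
    obtain ⟨S⟩ : Nonempty (Sylow 3 G) := inferInstance
    have hS : Nat.card (S : Subgroup G) = 3 := by
      have hnd : ¬ 3 ∣ p ^ a * q ^ b := fun h => by
        rcases Nat.prime_three.dvd_mul.1 h with h' | h'
        · exact hp3 ((Nat.prime_dvd_prime_iff_eq Nat.prime_three hp).1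
            (Nat.prime_three.dvd_of_dvd_pow h')).symm
        · exact hq3 ((Nat.prime_dvd_prime_iff_eq Nat.prime_three hq).1
            (Nat.prime_three.dvd_of_dvd_pow h')).symm
      rw [S.card_eq_multiplicity, hG, mul_assoc, Nat.factorization_mul (by norm_num)
        (mul_ne_zero (pow_ne_zero _ hp.ne_zero) (pow_ne_zero _ hq.ne_zero)), Finsupp.add_apply,
        Nat.factorization_eq_zero_of_not_dvd hnd, Nat.Prime.factorization_self Nat.prime_three]
      norm_num
    have hC : Subgroup.centralizer ((S : Subgroup G) : Set G) = (S : Subgroup G) :=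
      Cfsg.Agent.S0904.result p q 3 a b hp hq hpq hp3 hq3 (by rw [hG]; ring) S
    rcases Cfsg.Agent.S3331.result (S : Subgroup G) hS hC with
      ⟨N, hN, -, -, hQ⟩ | ⟨N, hN, -, -, ⟨e⟩⟩ | h
    · exfalso
      rcases IsSimpleGroup.eq_bot_or_eq_top_of_normal N hN with h | h <;> subst h
      · have hc : Nat.card G = 3 ∨ Nat.card G = 6 := by
          rw [← Nat.card_congr (QuotientGroup.quotientBot (G := G)).toEquiv]
          rcases hQ with h | ⟨⟨e⟩⟩
          · exact Or.inl h
          · exact Or.inr (by rw [Nat.card_congr e.toEquiv, Nat.card_perm, Nat.card_fin]; rfl)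
        rcases hc with h | h
        · exact false_of_two_primes hna Nat.prime_three Nat.prime_two (a := 1) (b := 0) (by rw [h]; rfl)
        · exact false_of_two_primes hna Nat.prime_three Nat.prime_two (a := 1) (b := 1) (by rw [h]; rfl)
      · have hc : Nat.card (G ⧸ (⊤ : Subgroup G)) = 1 := Subgroup.index_top
        rcases hQ with h | ⟨⟨e⟩⟩
        · omega
        · rw [Nat.card_congr e.toEquiv, Nat.card_perm, Nat.card_fin] at hc
          exact absurd hc (by decide)
    · rcases IsSimpleGroup.eq_bot_or_eq_top_of_normal N hN with h | h <;> subst h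
      · exact Or.inl ⟨(QuotientGroup.quotientBot (G := G)).symm.trans e⟩
      · exfalso
        have hc : Nat.card (G ⧸ (⊤ : Subgroup G)) = 1 := Subgroup.index_top
        rw [Nat.card_congr e.toEquiv, nat_card_alternatingGroup, Nat.card_fin] at hc
        exact absurd hc (by decide)
    · exact Or.inr h

end Cfsg.Agent.S4501
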