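import Cfsg.Statements.S4507
import Cfsg.Agent.Lib.Blocks.PrimeSylow.Families
import Cfsg.Agent.Lib.Char.ComplexAut

set_option autoImplicit false
open Cfsg

namespace Cfsg.Agent.S4507

/-- Let G be a finite group whose order g is divisible by the prime p exactly once, g′ = g/p, and fix a maximal ideal M of the algebraic integers containing p. Call two irreducible characters p-conjugate when a field automorphism of ℂ fixing the g′-th roots of unity carries one to the other. Let B be a p-block of positive defect (its defect group is a Sylow p-subgroup). Then B contains a subset Y (the exceptional family) such that: Y is a full p-conjugacy class (its members are pairwise p-conjugate and every p-conjugate of a member of Y lies in Y); every member of B outside Y is p-conjugate only to itself; the size t of Y divides p − 1 and B has exactly t + (p − 1)/t members; and there are signs δ_χ = ±1 (χ ∈ B) such that for every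 p-regular element x and every θ ∈ Y, Σ_{χ ∈ B ∖ Y} δ_χ χ(x) + δ_θ θ(x) = 0. -/
theorem result {G : Type*} [Group G] [Finite G] (p : ℕ) [Fact p.Prime] (M : Ideal Cfsg.AlgInt) (hM : Cfsg.IsPModular p M) (hdiv : p ∣ Nat.card G) (hsq : ¬ p ^ 2 ∣ Nat.card G) (B : Set (Cfsg.IrrCharacter G)) (hB : Cfsg.IsPBlock M B) (hd : 0 < Cfsg.blockDefect p B) : ∃ Y : Set (Cfsg.IrrCharacter G), Y ⊆ B ∧ Y.Nonempty ∧ (∀ θ ∈ Y, ∀ ψ : Cfsg.IrrCharacter G, (∃ σ : ℂ ≃+* ℂ, σ (Complex.exp (2 * Real.pi * Complex.I / ((Nat.card G / p ^ (Nat.card G).factorization p) : ℕ))) = Complex.exp (2 * Real.pi * Complex.I / ((Nat.card G / p ^ (Nat.card G).factorization p) : ℕ)) ∧ (ψ : G → ℂ) = fun g => σ ((θ : G → ℂ) g)) ↔ ψ ∈ Y) ∧ (∀ χ ∈ B, χ ∉ Y → ∀ ψ : Cfsg.IrrCharacter G, (∃ σ : ℂ ≃+* ℂ, σ (Complex.exp (2 * Real.pi * Complex.I / ((Nat.card G / p ^ (Nat.card G).factorization p) : ℕ))) = Complex.exp (2 * Real.pi * Complex.I / ((Nat.card G / p ^ (Nat.card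 G).factorization p) : ℕ)) ∧ (ψ : G → ℂ) = fun g => σ ((χ : G → ℂ) g)) → ψ = χ) ∧ Nat.card Y ∣ p - 1 ∧ Nat.card B = Nat.card Y + (p - 1) / Nat.card Y ∧ ∃ δ : Cfsg.IrrCharacter G → ℤ, (∀ χ ∈ B, δ χ = 1 ∨ δ χ = -1) ∧ ∀ x : G, ¬ p ∣ orderOf x → ∀ θ ∈ Y, (∑ᶠ χ ∈ B \ Y, (δ χ : ℂ) * (χ : G → ℂ) x) + (δ θ : ℂ) * (θ : G → ℂ) x = 0 := by
  classical
  haveI := Fintype.ofFinite G
  have hp : p.Prime := Fact.out
  have hfac : (Nat.card G).factorization p = 1 := by
    refine le_antisymm ?_ (hp.factorization_pos_of_dvd Nat.card_pos.ne' hdiv)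
    by_contra hlt
    exact hsq ((pow_dvd_pow p (by omega)).trans (Nat.ordProj_dvd _ _))
  let S : Sylow p G := default
  have hP : Nat.card (S : Subgroup G) = p := by
    rw [S.card_eq_multiplicity, hfac, pow_one]
  obtain ⟨V, hV⟩ := CfsgLib.Blocks.PrimeSylow.exists_setup hP S.not_dvd_index
  haveI : M.IsPrime := hM.2.1.isPrime
  haveI := Fintype.ofFinite V
  haveI := Fintype.ofFinite (S : Subgroup G)
  haveI := Fintype.ofFinite (Cfsg.IrrCharacter G)
  set q := (S : Subgroup G).index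
  have hcard : Nat.card G = p * q := by rw [← (S : Subgroup G).card_mul_index, hP]
  have hq0 : q ≠ 0 := Subgroup.index_ne_zero_of_finite
  have hg' : Nat.card G / p ^ (Nat.card G).factorization p = q := by
    rw [hfac, pow_one, hcard, Nat.mul_div_cancel_left _ hp.pos]
  set ζ := Complex.exp (2 * Real.pi * Complex.I / (Nat.card G : ℕ))
  have hζ : IsPrimitiveRoot ζ (Nat.card G) := Complex.isPrimitiveRoot_exp _ Nat.card_pos.ne'
  have hζp : Complex.exp (2 * Real.pi * Complex.I /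
      ((Nat.card G / p ^ (Nat.card G).factorization p : ℕ) : ℂ)) = ζ ^ p := by
    rw [hg', ← Complex.exp_nat_mul, hcard]
    congr 1
    push_cast
    have hq : (q : ℂ) ≠ 0 := Nat.cast_ne_zero.2 hq0
    have hpc : (p : ℂ) ≠ 0 := Nat.cast_ne_zero.2 hp.ne_zero
    field_simp
  have hζq : IsPrimitiveRoot (ζ ^ p) q := hζ.pow Nat.card_pos hcard
  have hqp : q.Coprime p := (hp.coprime_iff_not_dvd.2 S.not_dvd_index).symm
  have to_k : ∀ σ : ℂ ≃+* ℂ, σ (ζ ^ p) = ζ ^ p → ∃ k, k.Coprime p ∧ k ≡ 1 [MOD q] ∧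
      ∀ (χ : Cfsg.IrrCharacter G) (g : G), σ ((χ : G → ℂ) g) = (χ : G → ℂ) (g ^ k) := by
    intro σ hσ
    haveI : NeZero (Nat.card G) := ⟨Nat.card_pos.ne'⟩
    have hσζ : IsPrimitiveRoot (σ ζ) (Nat.card G) := hζ.map_of_injective σ.injective
    obtain ⟨k, -, hk⟩ := hζ.eq_pow_of_pow_eq_one hσζ.pow_eq_one
    have hcop : k.Coprime (Nat.card G) :=
      (hζ.pow_iff_coprime Nat.card_pos k).1 (hk ▸ hσζ)
    refine ⟨k, hcop.coprime_dvd_right hdiv, ?_, fun χ g =>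
      CfsgLib.ComplexAut.aut_apply (CfsgLib.Char.IsIrr.isCharacter χ.2) hζ σ hk.symm g⟩
    rw [map_pow, ← hk, ← pow_mul, mul_comm, pow_mul] at hσ
    by_cases hq1 : q = 1
    · rw [hq1]; exact Nat.modEq_one
    · haveI : NeZero q := ⟨hq0⟩
      show k % q = 1 % q
      refine hζq.pow_inj (Nat.mod_lt _ (Nat.pos_of_ne_zero hq0))
        (Nat.mod_lt _ (Nat.pos_of_ne_zero hq0)) ?_
      rw [← pow_eq_pow_mod _ hζq.pow_eq_one, ← pow_eq_pow_mod _ hζq.pow_eq_one, pow_one]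
      exact hσ
  obtain ⟨χ₀, hχ₀B, hχ₀⟩ : ∃ χ ∈ B, ¬ p ∣ Cfsg.charDegree (χ : G → ℂ) := by
    by_contra hcon
    push Not at hcon
    rw [Cfsg.blockDefect, hfac] at hd
    obtain ⟨χ, hχ, he⟩ : sInf ((fun χ : Cfsg.IrrCharacter G =>
        (Cfsg.charDegree (χ : G → ℂ)).factorization p) '' B) ∈ (fun χ : Cfsg.IrrCharacter G =>
        (Cfsg.charDegree (χ : G → ℂ)).factorization p) '' B :=
      Nat.sInf_mem ((CfsgLib.Blocks.IsPBlock.nonempty hB).image _)
    have hpos : 0 < (Cfsg.charDegree (χ : G → ℂ)).factorization p :=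
      hp.factorization_pos_of_dvd (CfsgLib.Blocks.charDegree_pos _).ne' (hcon χ hχ)
    simp only at he
    omega
  obtain ⟨η, hη⟩ := hV.exists_mem_blockSet hM hχ₀
  obtain ⟨Y, δ, hYB, hYne, hYdvd, hBcard, hclosed, htrans, hδ, hrel⟩ :=
    hV.exists_families hM η hB hχ₀B hη
  refine ⟨Y, hYB, hYne, fun θ hθ ψ => ⟨?_, fun hψ => ?_⟩, ?_, hYdvd, hBcard, δ, hδ, hrel⟩
  · rintro ⟨σ, hσ, e⟩
    rw [hζp] at hσ
    obtain ⟨k, hk, hk1, hσk⟩ := to_k σ hσ
    obtain ⟨ψ', hψ', e'⟩ := (hclosed k hk hk1).1 θ hθ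
    have : ψ = ψ' := CfsgLib.Char.irr_ext fun g => by rw [e, e' g, ← hσk θ g]
    exact this ▸ hψ'
  · obtain ⟨k, hk, hk1, e⟩ := htrans θ hθ ψ hψ
    have hkG : k.Coprime (Nat.card G) := by
      rw [hcard]
      refine Nat.Coprime.mul_right hk ?_
      rw [Nat.coprime_iff_gcd_eq_one, hk1.gcd_eq, Nat.gcd_one_left]
    obtain ⟨σ, hσ⟩ := CfsgLib.ComplexAut.exists_aut Nat.card_pos.ne' hζ hkG
    refine ⟨σ, ?_, funext fun g => ?_⟩
    · rw [hζp, map_pow, hσ, ← pow_mul, mul_comm, pow_mul,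
        pow_eq_pow_mod k hζq.pow_eq_one, show k % q = 1 % q from hk1,
        ← pow_eq_pow_mod _ hζq.pow_eq_one, pow_one]
    · rw [e g, CfsgLib.ComplexAut.aut_apply (CfsgLib.Char.IsIrr.isCharacter θ.2) hζ σ hσ g]
  · rintro χ hχB hχY ψ ⟨σ, hσ, e⟩
    rw [hζp] at hσ
    obtain ⟨k, hk, hk1, hσk⟩ := to_k σ hσ
    exact CfsgLib.Char.irr_ext fun g => by
      simp only [e, hσk χ g]
      exact (hclosed k hk hk1).2 χ ⟨hχB, hχY⟩ g

end Cfsg.Agent.S4507
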