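import Cfsg.Statements.S4513
import Cfsg.Agent.Lib.Blocks.DefectTwo

set_option autoImplicit false
open Cfsg CfsgLib.Blocks
open scoped ComplexConjugate Classical

namespace Cfsg.Agent.S4513

/-- Blocks of defect one for p = 2. Let M be a maximal ideal of the algebraic integers containing 2, B a 2-block of the finite group G whose defect group is the subgroup generated by an involution x, C = C_G(x), b a block of C inducing B and θ a member of b taking the same value at x as at 1 (there is exactly one). Then B consists of exactly two irreducible characters, which agree on every element of odd order, and they can be labelled χ₁, χ₂ with signs ε₁, ε₂ = ±1, ε₁ε₂ = −1, such that χᵢ(x y) = εᵢ θ(y) for every element y of C of odd order. -/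
theorem result {G : Type*} [Group G] [Finite G] (M : Ideal Cfsg.AlgInt) (hM : Cfsg.IsPModular 2 M) (x : G) (hx : orderOf x = 2)
    (B : Set (Cfsg.IrrCharacter G)) (hB : Cfsg.IsPBlock M B) (hBD : Cfsg.IsDefectGroup 2 M B (Subgroup.zpowers x))
    (b : Set (Cfsg.IrrCharacter ↥(Subgroup.centralizer ({x} : Set G)))) (hb : Cfsg.IsInducedBlock M (Subgroup.centralizer ({x} : Set G)) b B)
    (θ : Cfsg.IrrCharacter ↥(Subgroup.centralizer ({x} : Set G))) (hθ : θ ∈ b)
    (hθx : ∀ z : ↥(Subgroup.centralizer ({x} : Set G)), (z : G) = x → (θ : ↥(Subgroup.centralizer ({x} : Set G)) → ℂ) z = (θ : ↥(Subgroup.centralizer ({x} : Set G)) → ℂ) 1) :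
    Nat.card B = 2 ∧ (∀ χ ∈ B, ∀ ψ ∈ B, ∀ g : G, ¬ 2 ∣ orderOf g → (χ : G → ℂ) g = (ψ : G → ℂ) g) ∧
      ∃ χ₁ ∈ B, ∃ χ₂ ∈ B, χ₁ ≠ χ₂ ∧ ∃ ε₁ ε₂ : ℤ, (ε₁ = 1 ∨ ε₁ = -1) ∧ (ε₂ = 1 ∨ ε₂ = -1) ∧ ε₁ * ε₂ = -1 ∧
        ∀ y : ↥(Subgroup.centralizer ({x} : Set G)), ¬ 2 ∣ orderOf y →
          (χ₁ : G → ℂ) (x * y) = (ε₁ : ℂ) * (θ : ↥(Subgroup.centralizer ({x} : Set G)) → ℂ) y ∧ (χ₂ : G → ℂ) (x * y) = (ε₂ : ℂ) * (θ : ↥(Subgroup.centralizer ({x} : Set G)) → ℂ) y := by
  haveI : M.IsPrime := hM.2.1.isPrime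
  haveI : Fact (Nat.Prime 2) := ⟨Nat.prime_two⟩
  have := Fintype.ofFinite G
  have := Fintype.ofFinite (IrrCharacter G)
  have := Fintype.ofFinite (IrrCharacter (Subgroup.centralizer ({x} : Set G)))
  have hxx : x * x = 1 := by rw [← pow_two, ← hx, pow_orderOf_eq_one]
  have hxinv : x⁻¹ = x := inv_eq_of_mul_eq_one_right hxx
  have hx1 : x ≠ 1 := fun e => by rw [e, orderOf_one] at hx; omega
  have hxk : ∃ k : ℕ, orderOf x = 2 ^ k := ⟨1, by rw [hx, pow_one]⟩
  have hxC : x ∈ (Subgroup.centralizer ({x} : Set G)) := mem_centralizer_singleton.2 (Commute.refl x)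
  have hmem : ∀ g : G, g ∈ Subgroup.zpowers x → g = 1 ∨ g = x := by
    intro g hg
    obtain ⟨k, rfl⟩ := Subgroup.mem_zpowers_iff.1 hg
    rcases Int.even_or_odd k with ⟨m, rfl⟩ | ⟨m, rfl⟩
    · left
      rw [← two_mul, zpow_mul, zpow_two, hxx, one_zpow]
    · right
      rw [zpow_add, zpow_mul, zpow_two, hxx, one_zpow, one_mul, zpow_one]
  have hH : (Subgroup.centralizer ({x} : Set G)) = Subgroup.normalizer (Subgroup.zpowers x : Set G) := by
    ext g
    rw [Subgroup.mem_normalizer_iff, mem_centralizer_singleton]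
    constructor
    · intro hg w
      constructor
      · intro hw
        rcases hmem w hw with rfl | rfl
        · simp
        · rw [hg.eq, mul_inv_cancel_right]; exact hw
      · intro hw
        rcases hmem _ hw with h | h
        · rw [conj_eq_one_iff] at h; subst h; exact one_mem _
        · have : w = x := by
            have := congrArg (fun t => g⁻¹ * t * g) h
            simp only [mul_assoc, inv_mul_cancel_left, inv_mul_cancel, mul_one] at this
            rw [this, ← hg.eq, inv_mul_cancel_left]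
          rw [this]; exact Subgroup.mem_zpowers x
    · intro hg
      rcases hmem _ ((hg x).1 (Subgroup.mem_zpowers x)) with h | h
      · exact absurd (conj_eq_one_iff.1 h) hx1
      · exact mul_inv_eq_iff_eq_mul.1 h
  have hcard : Nat.card (Subgroup.zpowers x) = 2 := by rw [Nat.card_zpowers, hx]
  obtain ⟨χ₁, χ₂, hne, hBeq, h₁, h₂⟩ := exists_pair_of_card_two hM hB hBD hcard
  obtain ⟨hreg, hsing⟩ := pair_values hM hB hBD hcard hne hBeq h₁ h₂
  obtain ⟨hbb, -, -⟩ := isInducedBlock_iff.1 hb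
  have hbD := isDefectGroup_of_eq_normalizer hM hH hBD hb
  have hcardC : Nat.card ((Subgroup.zpowers x).subgroupOf (Subgroup.centralizer ({x} : Set G))) = 2 := by
    rw [Nat.card_congr (Subgroup.subgroupOfEquivOfLe (Subgroup.zpowers_le.2 hxC)).toEquiv, hcard]
  obtain ⟨η₁, η₂, hηne, hbeq, k₁, k₂⟩ := exists_pair_of_card_two hM hbb hbD hcardC
  obtain ⟨hηreg, -⟩ := pair_values hM hbb hbD hcardC hηne hbeq k₁ k₂
  have hθreg : ∀ η ∈ b, ∀ y : (Subgroup.centralizer ({x} : Set G)), ¬ 2 ∣ orderOf y → (η : (Subgroup.centralizer ({x} : Set G)) → ℂ) y = (θ : (Subgroup.centralizer ({x} : Set G)) → ℂ) y := by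
    intro η hη y hy
    rw [hbeq, Set.mem_insert_iff, Set.mem_singleton_iff] at hη hθ
    rcases hη with rfl | rfl <;> rcases hθ with rfl | rfl
    · rfl
    · exact hηreg y hy
    · exact (hηreg y hy).symm
    · rfl
  let a : IrrCharacter G → ℂ := fun χ =>
    ∑ᶠ η ∈ b, classInner (fun c : (Subgroup.centralizer ({x} : Set G)) => (χ : G → ℂ) (x * (c : G))) (η : (Subgroup.centralizer ({x} : Set G)) → ℂ)
  have hbp : ∀ χ : IrrCharacter G, ∀ y : (Subgroup.centralizer ({x} : Set G)), ¬ 2 ∣ orderOf y →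
      blockPart b (fun c : (Subgroup.centralizer ({x} : Set G)) => (χ : G → ℂ) (x * (c : G))) y = a χ * (θ : (Subgroup.centralizer ({x} : Set G)) → ℂ) y := by
    intro χ y hy
    simp only [a]
    rw [blockPart_eq, finsum_mem_eq_finite_toFinset_sum _ (Set.toFinite b),
      finsum_mem_eq_finite_toFinset_sum _ (Set.toFinite b), Finset.sum_mul]
    exact Finset.sum_congr rfl fun η hη => by
      rw [hθreg η ((Set.Finite.mem_toFinset _).1 hη) y hy]
  have hval : ∀ χ ∈ B, ∀ y : (Subgroup.centralizer ({x} : Set G)), ¬ 2 ∣ orderOf y →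
      (χ : G → ℂ) (x * (y : G)) = a χ * (θ : (Subgroup.centralizer ({x} : Set G)) → ℂ) y := by
    intro χ hχ y hy
    rw [apply_mul_eq_sum_blockPart hM hxk hB hχ hy, ← hbp χ y hy, Finset.sum_eq_single b]
    · intro b' hb' hne'
      exact absurd (eq_of_induced_of_eq_normalizer hM hH hBD (Finset.mem_filter.1 hb').2 hb) hne'
    · intro hn
      refine absurd ?_ hn
      obtain ⟨ψ, hψ⟩ := hbb
      exact Finset.mem_filter.2 ⟨Finset.mem_image.2 ⟨ψ, Finset.mem_univ _, hψ.symm⟩, hb⟩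
  have h11 : ¬ 2 ∣ orderOf (1 : (Subgroup.centralizer ({x} : Set G))) := by simp
  have hθ0 : (θ : (Subgroup.centralizer ({x} : Set G)) → ℂ) 1 ≠ 0 := CfsgLib.Char.IsIrr.apply_one_ne_zero θ.2
  have hm₁ : χ₁ ∈ B := hBeq ▸ Set.mem_insert _ _
  have hm₂ : χ₂ ∈ B := hBeq ▸ Set.mem_insert_of_mem _ rfl
  have hnorm : a χ₁ * conj (a χ₁) + a χ₂ * conj (a χ₂) = 2 := by
    have h := sum_all_blockPart_norm hM hxk hbb h11
    rw [← Finset.sum_subset (Finset.subset_univ (Set.toFinite B).toFinset) fun χ _ hχ => ?_] at h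
    · rw [show (Set.toFinite B).toFinset = {χ₁, χ₂} by ext; simp [hBeq],
        show (Set.toFinite b).toFinset = {η₁, η₂} by ext; simp [hbeq], Finset.sum_pair hne,
        Finset.sum_pair hηne, hbp χ₁ 1 h11, hbp χ₂ 1 h11,
        hθreg η₁ (hbeq ▸ Set.mem_insert _ _) 1 h11,
        hθreg η₂ (hbeq ▸ Set.mem_insert_of_mem _ rfl) 1 h11, map_mul, map_mul] at h
      refine mul_right_cancel₀ (mul_ne_zero hθ0 ((map_ne_zero _).2 hθ0) :
        (θ : (Subgroup.centralizer ({x} : Set G)) → ℂ) 1 * conj ((θ : (Subgroup.centralizer ({x} : Set G)) → ℂ) 1) ≠ 0) ?_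
      linear_combination h
    · rw [Set.Finite.mem_toFinset] at hχ
      rw [blockPart_eq_zero_of_not_induced hM hxk (isPBlock_blockOf χ) (mem_blockOf_self χ) hbb
        (fun hi => hχ (IsInducedBlock.eq hb hi ▸ mem_blockOf_self χ)) h11, zero_mul]
  have hsum : a χ₁ + a χ₂ = 0 := by
    have h := hsing (x * ((1 : (Subgroup.centralizer ({x} : Set G))) : G)) (by rw [Subgroup.coe_one, mul_one, hx])
    rw [hval χ₁ hm₁ 1 h11, hval χ₂ hm₂ 1 h11, ← add_mul, mul_eq_zero] at h
    exact h.resolve_right hθ0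
  have hreal : conj (a χ₁) = a χ₁ := by
    have h := hval χ₁ hm₁ 1 h11
    rw [Subgroup.coe_one, mul_one] at h
    have hθc : conj ((θ : (Subgroup.centralizer ({x} : Set G)) → ℂ) 1) = (θ : (Subgroup.centralizer ({x} : Set G)) → ℂ) 1 := by
      rw [← CfsgLib.Char.IsIrr.map_inv θ.2, inv_one]
    have hc := congrArg conj h
    rw [← CfsgLib.Char.IsIrr.map_inv χ₁.2, hxinv, h, map_mul, hθc] at hc
    exact (mul_right_cancel₀ hθ0 hc).symm
  have ha2 : a χ₂ = -a χ₁ := eq_neg_of_add_eq_zero_right hsum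
  have hsq : a χ₁ * a χ₁ = 1 := by
    rw [ha2, map_neg, hreal] at hnorm
    linear_combination hnorm / 2
  refine ⟨?_, ?_, χ₁, hm₁, χ₂, hm₂, hne, ?_⟩
  · rw [hBeq, Nat.card_coe_set_eq, Set.ncard_pair hne]
  · intro χ hχ ψ hψ g hg
    rw [hBeq, Set.mem_insert_iff, Set.mem_singleton_iff] at hχ hψ
    rcases hχ with rfl | rfl <;> rcases hψ with rfl | rfl
    · rfl
    · exact hreg g hg
    · exact (hreg g hg).symm
    · rfl
  · rcases mul_self_eq_one_iff.1 hsq with h | h
    · refine ⟨1, -1, Or.inl rfl, Or.inr rfl, by norm_num, fun y hy => ⟨?_, ?_⟩⟩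
      · rw [hval χ₁ hm₁ y hy, h]; norm_num
      · rw [hval χ₂ hm₂ y hy, ha2, h]; norm_num
    · refine ⟨-1, 1, Or.inr rfl, Or.inl rfl, by norm_num, fun y hy => ⟨?_, ?_⟩⟩
      · rw [hval χ₁ hm₁ y hy, h]; norm_num
      · rw [hval χ₂ hm₂ y hy, ha2, h]; norm_num

end Cfsg.Agent.S4513
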