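import Cfsg.Statements.S4514
import Cfsg.Agent.Lib.Blocks.ConstantDifference.Final

set_option autoImplicit false
open Cfsg

namespace Cfsg.Agent.S4514

/-- Let G be a finite group, u an element of G, and fix a maximal ideal M of the algebraic integers containing 2 (defining the 2-blocks). There is a complex number k with χ(1) − χ(u) = k for every non-principal irreducible character χ in the principal 2-block if and only if one of the following holds: u lies in O(G); or G/O(G) has order 2 and u ∉ O(G); or G/O(G) ≅ PSL(2, 2ⁿ) for some n ≥ 2, u ∉ O(G) and u² ∈ O(G). -/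
theorem result {G : Type*} [Group G] [Finite G] (M : Ideal Cfsg.AlgInt) (hM : Cfsg.IsPModular 2 M) (u : G) :
    (∃ k : ℂ, ∀ χ : Cfsg.IrrCharacter G, χ ∈ Cfsg.principalBlock M G → (χ : G → ℂ) ≠ (fun _ => 1) →
        (χ : G → ℂ) 1 - (χ : G → ℂ) u = k) ↔
      (u ∈ Cfsg.oddCore G ∨ (Nat.card (G ⧸ Cfsg.oddCore G) = 2 ∧ u ∉ Cfsg.oddCore G) ∨
        (∃ (F : Type) (_ : Field F) (_ : Fintype F) (n : ℕ), 2 ≤ n ∧ Fintype.card F = 2 ^ n ∧
          Nonempty (G ⧸ Cfsg.oddCore G ≃* Matrix.ProjectiveSpecialLinearGroup (Fin 2) F) ∧ u ∉ Cfsg.oddCore G ∧ u ^ 2 ∈ Cfsg.oddCore G)) := by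
  haveI := Fintype.ofFinite G
  haveI : M.IsPrime := hM.2.1.isPrime
  have htriv : ∀ χ : Cfsg.IrrCharacter G,
      χ ≠ CfsgLib.Char.trivChar G ↔ (χ : G → ℂ) ≠ (fun _ => 1) := fun χ =>
    not_congr ⟨fun e => e ▸ rfl, fun e => Subtype.ext e⟩
  constructor
  · rintro ⟨k, hk⟩
    by_cases hu : u ∈ Cfsg.oddCore G
    · exact Or.inl hu
    · rcases CfsgLib.ConstantDiff.forward hM (fun χ hχ hne => hk χ hχ ((htriv χ).1 hne)) hu with
        h2 | ⟨F, iF, iFt, n, hn, hF, he, hu2⟩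
      · exact Or.inr (Or.inl ⟨h2, hu⟩)
      · exact Or.inr (Or.inr ⟨F, iF, iFt, n, hn, hF, he, hu, hu2⟩)
  · intro h
    obtain ⟨k, hk⟩ := CfsgLib.ConstantDiff.converse hM h
    exact ⟨k, fun χ hχ hne => hk χ hχ ((htriv χ).2 hne)⟩

end Cfsg.Agent.S4514
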