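import Cfsg.Statements.S4517
import Cfsg.Agent.Lib.CharAction.DefectCount
import Cfsg.Agent.Lib.CharAction.RegBlock
-- import your own Cfsg.Agent.* helpers here

set_option autoImplicit false
open Cfsg

namespace Cfsg.Agent.S4517

/-- Let G be a finite group, M a maximal ideal of the algebraic integers containing 2, and k a natural number coprime to the order of G with g ^ k = g⁻¹ for every element g of odd order (so that g ↦ g ^ k induces a field automorphism of the character values inverting the roots of unity of odd order). If B is a 2-block of full defect (its defect equals the exponent of 2 in the order of G) that is stable under χ ↦ χ ∘ (· ^ k), then B is the principal 2-block. -/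
theorem result {G : Type*} [Group G] [Finite G] (M : Ideal Cfsg.AlgInt) (hM : Cfsg.IsPModular 2 M) (k : ℕ) (hk : Nat.Coprime k (Nat.card G)) (hk₂ : ∀ g : G, Odd (orderOf g) → g ^ k = g⁻¹) (B : Set (Cfsg.IrrCharacter G)) (hB : Cfsg.IsPBlock M B) (hdef : Cfsg.blockDefect 2 B = (Nat.card G).factorization 2) (hstab : ∀ χ ∈ B, ∃ ψ ∈ B, ∀ g : G, (ψ : G → ℂ) g = (χ : G → ℂ) (g ^ k)) : B = Cfsg.principalBlock M G := by
  classical
  have : Fintype G := Fintype.ofFinite G
  have : M.IsPrime := hM.2.1.isPrime
  have : Fact (Nat.Prime 2) := ⟨Nat.prime_two⟩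
  obtain ⟨χ, hχ, hmin⟩ := CfsgLib.CharAction.exists_minDeg 2
    (CfsgLib.Blocks.IsPBlock.nonempty hB)
  have hodd : ¬ 2 ∣ Cfsg.charDegree (χ : G → ℂ) := by
    intro h2
    have h1 := Nat.prime_two.factorization_pos_of_dvd (CfsgLib.Blocks.charDegree_pos χ).ne' h2
    rw [CfsgLib.CharAction.blockDefect_eq_sub] at hdef
    have h3 := CfsgLib.CharAction.minDeg_le_card (p := 2) (CfsgLib.Blocks.IsPBlock.nonempty hB)
    have hmin' : (Cfsg.charDegree (χ : G → ℂ)).factorization 2 = CfsgLib.CharAction.minDeg 2 B := hmin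
    omega
  choose f hf1 hf2 using hstab
  let σ : Cfsg.IrrCharacter G → Cfsg.IrrCharacter G := fun ψ => if h : ψ ∈ B then f ψ h else ψ
  refine CfsgLib.CharAction.eq_principalBlock_of_map hM hB hχ hodd σ
    (fun ψ hψ => by simp only [σ, dif_pos hψ]; exact hf1 ψ hψ) ?_ ?_
  · intro a b hab
    by_cases ha : a ∈ B <;> by_cases hb : b ∈ B <;> simp only [σ, ha, hb, dif_pos, dif_neg,
      not_false_eq_true] at hab
    · refine CfsgLib.Char.irr_ext fun g => ?_
      obtain ⟨g, rfl⟩ := (powCoprime hk.symm).surjective g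
      rw [powCoprime_apply, ← hf2 a ha, ← hf2 b hb, hab]
    · exact absurd (hab ▸ hf1 a ha) hb
    · exact absurd (hab.symm ▸ hf1 b hb) ha
    · exact hab
  · intro ψ g hψ hg
    simp only [σ, dif_pos hψ]
    rw [hf2 ψ hψ g, hk₂ g (Nat.odd_iff.2 (Nat.two_dvd_ne_zero.1 hg))]

end Cfsg.Agent.S4517
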