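import Cfsg.Statements.S4520
import Cfsg.Agent.Lib.CharAction.PrincipalOverOdd
import Cfsg.Agent.Lib.Blocks.Quotient
-- import your own Cfsg.Agent.* helpers here

set_option autoImplicit false
open Cfsg

namespace Cfsg.Agent.S4520

/-- Let N be a normal subgroup of odd index in the finite group G, M a maximal ideal of the algebraic integers containing 2, and k coprime to the order of G with k ^ (2 ^ e) ≡ 1 modulo the order of G for some e and g ^ k = g⁻¹ for every element g of odd order. Let θ be an irreducible character of N and χ an irreducible character of G over θ, both unchanged by composing with g ↦ g ^ k. Then χ lies in the principal 2-block of G if and only if θ lies in the principal 2-block of N. -/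
theorem result {G : Type*} [Group G] [Fintype G] (M : Ideal Cfsg.AlgInt) (hM : Cfsg.IsPModular 2 M) (N : Subgroup G) [N.Normal] [Fintype N] (hidx : Odd N.index) (k e : ℕ) (hk : Nat.Coprime k (Nat.card G)) (hke : k ^ (2 ^ e) ≡ 1 [MOD Nat.card G]) (hk₂ : ∀ g : G, Odd (orderOf g) → g ^ k = g⁻¹) (θ : Cfsg.IrrCharacter N) (hθ : ∀ n : N, (θ : N → ℂ) (n ^ k) = (θ : N → ℂ) n) (χ : Cfsg.IrrCharacter G) (hχ : ∀ g : G, (χ : G → ℂ) (g ^ k) = (χ : G → ℂ) g) (hover : Cfsg.classInner (fun n : N => (χ : G → ℂ) n) (θ : N → ℂ) ≠ 0) : χ ∈ Cfsg.principalBlock M G ↔ θ ∈ Cfsg.principalBlock M N := by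
  classical
  have := hM.2.1.isPrime
  have : Fact (Nat.Prime 2) := ⟨Nat.prime_two⟩
  refine ⟨fun h => CfsgLib.CharAction.mem_principalBlock_of_constituent N h hover, fun h => ?_⟩
  obtain ⟨ξ, hξB, hξN⟩ := CfsgLib.CharAction.exists_trivial_mem N hM h hover
  -- `ξ` has odd degree
  have hodd : ¬ 2 ∣ charDegree (ξ : G → ℂ) := by
    have := Fintype.ofFinite (G ⧸ N)
    obtain ⟨η, hη⟩ := CfsgLib.Blocks.exists_inflate_eq N ξ fun n hn => hξN ⟨n, hn⟩
    have hd : charDegree (ξ : G → ℂ) = charDegree (η : G ⧸ N → ℂ) := by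
      rw [← hη, charDegree, charDegree, CfsgLib.Blocks.inflate_apply, QuotientGroup.mk_one]
    rw [hd]
    exact (Odd.of_dvd_nat hidx
      (Subgroup.index_eq_card N ▸ CfsgLib.Blocks.charDegree_dvd_card η)).not_two_dvd_nat
  let h' : CfsgLib.CharAction.OddInv G k e := ⟨hk, hke, hk₂⟩
  have hcent : ∀ g : G, Subgroup.centralizer ({g ^ k} : Set G) =
      Subgroup.centralizer ({g} : Set G) := fun g => by
    obtain ⟨m, hm⟩ := exists_pow_eq_self_of_coprime (x := g)
      (hk.coprime_dvd_right (orderOf_dvd_natCard g))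
    ext x
    simp only [CfsgLib.Blocks.mem_centralizer_singleton]
    exact ⟨fun hx => hm ▸ hx.pow_right m, fun hx => hx.pow_right k⟩
  have hmaps : ∀ ψ ∈ blockOf M (χ : G → ℂ),
      CfsgLib.CharAction.powIrr h' ψ ∈ blockOf M (χ : G → ℂ) := by
    intro ψ hψ g
    have hψg : MemLocalIdeal M
        (centralChar (χ : G → ℂ) (g ^ k) - centralChar (ψ : G → ℂ) (g ^ k)) := hψ (g ^ k)
    have e1 : centralChar (χ : G → ℂ) (g ^ k) = centralChar (χ : G → ℂ) g := by
      rw [centralChar, centralChar, hcent, hχ]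
    have e2 : centralChar (CfsgLib.CharAction.powIrr h' ψ : G → ℂ) g =
        centralChar (ψ : G → ℂ) (g ^ k) := by
      rw [centralChar, centralChar, hcent]
      show _ * (ψ : G → ℂ) (g ^ k) / (ψ : G → ℂ) (1 ^ k) = _
      rw [one_pow]
    rw [e2, ← e1]
    exact hψg
  have hB := CfsgLib.CharAction.eq_principalBlock_of_map hM
    (CfsgLib.Blocks.isPBlock_blockOf χ) hξB hodd (CfsgLib.CharAction.powIrr h') hmaps
    (fun a b hab => Subtype.ext (funext fun g => by
      obtain ⟨g', rfl⟩ := (powCoprime hk.symm).surjective g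
      exact congrFun (congrArg Subtype.val hab) g'))
    (fun ψ g _ hg => by
      show (ψ : G → ℂ) (g ^ k) = _
      rw [hk₂ g (Nat.odd_iff.2 (Nat.two_dvd_ne_zero.1 hg))])
  exact hB ▸ CfsgLib.Blocks.mem_blockOf_self χ

end Cfsg.Agent.S4520
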