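import Cfsg.Statements.S4530
import Cfsg.Agent.Lib.Blocks.QuaternionDefect.Restrict

set_option autoImplicit false
open Cfsg CfsgLib.Blocks CfsgLib.Blocks.QuaternionDefect

namespace Cfsg.Agent.S4530

/-- Let B be a 2-block of the finite group G (relative to a maximal ideal M of the algebraic integers containing 2) whose defect group D is generalized quaternion of order 2 ^ n, n ≥ 3. Then its 2-regular rank l is between 1 and 3, the number of irreducible characters in B is l + 2 ^ (n - 2) + 2, exactly four members have height zero, and every other member has height one or height n - 2; when n ≥ 4 exactly 2 ^ (n - 2) - 1 members have height one. -/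
theorem result {G : Type*} [Group G] [Finite G] (M : Ideal Cfsg.AlgInt) (hM : Cfsg.IsPModular 2 M) (B : Set (Cfsg.IrrCharacter G)) (hB : Cfsg.IsPBlock M B) (D : Subgroup G) (hD : Cfsg.IsDefectGroup 2 M B D) (n : ℕ) (hn : 3 ≤ n) (hq : Nonempty (D ≃* QuaternionGroup (2 ^ (n - 2)))) : 1 ≤ Cfsg.blockRank 2 B ∧ Cfsg.blockRank 2 B ≤ 3 ∧ Nat.card B = Cfsg.blockRank 2 B + 2 ^ (n - 2) + 2 ∧ Nat.card {χ : Cfsg.IrrCharacter G // χ ∈ B ∧ Cfsg.blockHeight 2 B (χ : G → ℂ) = 0} = 4 ∧ (∀ χ ∈ B, Cfsg.blockHeight 2 B (χ : G → ℂ) = 0 ∨ Cfsg.blockHeight 2 B (χ : G → ℂ) = 1 ∨ Cfsg.blockHeight 2 B (χ : G → ℂ) = n - 2) ∧ (4 ≤ n → Nat.card {χ : Cfsg.IrrCharacter G // χ ∈ B ∧ Cfsg.blockHeight 2 B (χ : G → ℂ) = 1} = 2 ^ (n - 2) - 1) := by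
  classical
  have := Fintype.ofFinite G
  have : Fact (Nat.Prime 2) := ⟨Nat.prime_two⟩
  have := hM.2.1.isPrime
  obtain ⟨m, rfl⟩ : ∃ m, n = m + 3 := ⟨n - 3, by omega⟩
  obtain ⟨eP⟩ := hq
  rw [show m + 3 - 2 = m + 1 by omega, pow_succ'] at eP
  rw [show m + 3 - 2 = m + 1 by omega, pow_succ']
  obtain ⟨σ, τ, l, h⟩ := exists_quat D Nat.one_le_two_pow ⟨m, rfl⟩ eP
  have hkl := blockRank_add_le_card hM hB hD h eP
  obtain ⟨K, b, D', σ', τ', l', e, F, ξ₀, Φ, C, -⟩ := exists_ctx hM hB hD h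
  have := Fintype.ofFinite (IrrCharacter D')
  obtain ⟨h1, h2, h3, h4, h5, h6⟩ := C.invariants hkl
  have hd : blockDefect 2 B = m + 3 := by
    refine Nat.pow_right_injective le_rfl ?_
    show 2 ^ blockDefect 2 B = 2 ^ (m + 3)
    rw [C.pow, pow_add]
    ring
  refine ⟨h1, h2, h3, h4, fun χ hχ => ?_, fun h4n => h6 ?_⟩
  · rcases h5 χ hχ with e | e | e
    · exact Or.inl e
    · exact Or.inr (Or.inl e)
    · exact Or.inr (Or.inr (by omega))
  · exact le_trans (by norm_num) (Nat.pow_le_pow_right (show 1 ≤ 2 by norm_num) (show 1 ≤ m by omega))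

end Cfsg.Agent.S4530
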