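import Cfsg.Statements.S4531
import Cfsg.Agent.Lib.Blocks.RankThree.Solvable

set_option autoImplicit false
open Cfsg CfsgLib.Blocks CfsgLib.Blocks.RankThree

namespace Cfsg.Agent.S4531

/-- Let the finite group G have a 2-block B (relative to a maximal ideal M of the algebraic integers containing 2) of 2-regular rank three (three irreducible Brauer characters) whose defect group D is dihedral of order 2 ^ n with n ≥ 3 or semidihedral. Then the centre of G has odd order and G is not solvable. -/
theorem result {G : Type*} [Group G] [Finite G] (M : Ideal Cfsg.AlgInt) (hM : Cfsg.IsPModular 2 M) (B : Set (Cfsg.IrrCharacter G)) (hB : Cfsg.IsPBlock M B) (D : Subgroup G) (hD : Cfsg.IsDefectGroup 2 M B D) (hD' : (∃ n : ℕ, 3 ≤ n ∧ Nonempty (D ≃* DihedralGroup (2 ^ (n - 1)))) ∨ Cfsg.IsQuasiDihedral D) (hl : Cfsg.blockRank 2 B = 3) : Odd (Nat.card (Subgroup.center G)) ∧ ¬ Group.IsSolvable G := by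
  classical
  have := Fintype.ofFinite G
  have : Fact (Nat.Prime 2) := ⟨Nat.prime_two⟩
  have := hM.2.1.isPrime
  refine ⟨Nat.not_even_iff_odd.1 fun heven => ?_,
    fun hsol => false_aux hM _ G rfl hsol hB hD hD' hl⟩
  obtain ⟨x, hx⟩ := exists_prime_orderOf_dvd_card' (G := Subgroup.center G) 2
    (even_iff_two_dvd.1 heven)
  set u : G := (x : G)
  have hu2 : orderOf u = 2 := by rw [← hx]; exact Subgroup.orderOf_coe x
  have huc : ∀ g : G, Commute u g := fun g => (Subgroup.mem_center_iff.1 x.2 g).symm
  have : (Subgroup.zpowers u).Normal := ⟨fun y hy g => by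
    obtain ⟨i, rfl⟩ := Subgroup.mem_zpowers_iff.1 hy
    rw [((huc g).symm.zpow_right i).eq, mul_inv_cancel_right]
    exact hy⟩
  have huD : u ∈ D := IsDefectGroup.normal_le hM hB hD
    (IsPGroup.of_card (n := 1) (by rw [Nat.card_zpowers, hu2, pow_one])) (Subgroup.mem_zpowers u)
  have huu : u * u = 1 := by rw [← pow_two, ← hu2, pow_orderOf_eq_one]
  have hu1 : u ≠ 1 := fun e => by rw [e, orderOf_one] at hu2; omega
  rcases coords_of_rank_three hM hB hD hD' hl with ⟨σ, τ, q, l, h, hk⟩ | ⟨σ, τ, r, l, h, hk⟩
  · have hz : u = σ ^ q := (h.eq_one_or_z (h.mem_zpowers_of_commute huD (huc σ)) huu).resolve_left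
      hu1
    have := blockRank_eq_one_of_dihedral_central hM hB hD h fun g => hz ▸ huc g
    omega
  · rcases h.commute_τ huD (huc τ) with e | e | e | e
    · exact hu1 e
    · have := SemiDefect.blockRank_add_le_card_of_central hM hB hD h fun g => e ▸ huc g
      omega
    all_goals
      have hcom : Commute τ σ := by
        first
          | exact e ▸ huc σ
          | (have h1 := ((Commute.refl σ).pow_left (2 * r)).inv_left.mul_left (e ▸ huc σ)
             rwa [inv_mul_cancel_left] at h1)
      have h2 := h.rel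
      rw [hcom.eq, mul_inv_cancel_right, eq_inv_mul_iff_mul_eq, ← pow_two] at h2
      have h3 : σ ^ (2 * r - 2) = 1 := by
        rw [pow_sub _ (by have := h.two_le; omega : 2 ≤ 2 * r), h2, mul_inv_cancel]
      have h4 := Nat.le_of_dvd (by have := h.two_le; omega) (orderOf_dvd_of_pow_eq_one h3)
      rw [h.ord] at h4
      have := h.two_le
      omega

end Cfsg.Agent.S4531
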