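import Cfsg.Statements.S4549
import Cfsg.Agent.Lib.Blocks.OddFixed
-- import your own Cfsg.Agent.* helpers here

set_option autoImplicit false
open Cfsg

namespace Cfsg.Agent.S4549

open CfsgLib CfsgLib.Char CfsgLib.Blocks

/-- Let G be a finite group and M a maximal ideal of the algebraic integers containing 2. Let k be a natural number with g ^ k = g ^ 3 for every 2-element g and g ^ k = g for every element g of odd order (such k exist); an irreducible character χ is unchanged by g ↦ g ^ k exactly when it is fixed by the field automorphism that cubes the 2-power roots of unity and fixes the roots of unity of odd order. Then G has a normal 2-complement if and only if every member χ of the principal 2-block of odd degree with χ (g ^ k) = χ g for all g has degree one. -/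
theorem result {G : Type*} [Group G] [Finite G] (M : Ideal Cfsg.AlgInt) (hM : Cfsg.IsPModular 2 M) (k : ℕ) (hk₁ : ∀ g : G, (∃ j : ℕ, orderOf g = 2 ^ j) → g ^ k = g ^ 3) (hk₂ : ∀ g : G, Odd (orderOf g) → g ^ k = g) : Cfsg.HasNormalPComplement 2 G ↔ ∀ χ ∈ Cfsg.principalBlock M G, Odd (Cfsg.charDegree (χ : G → ℂ)) → (∀ g : G, (χ : G → ℂ) (g ^ k) = (χ : G → ℂ) g) → Cfsg.charDegree (χ : G → ℂ) = 1 := by
  classical
  have := Fintype.ofFinite G
  have := hM.2.1.isPrime
  have h2 : Fact (Nat.Prime 2) := ⟨Nat.prime_two⟩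
  have hp := Nat.prime_two
  constructor
  · rintro ⟨P, K, hK, hKP⟩ χ hχ hodd -
    have := Fintype.ofFinite K
    have hidx : K.index = Nat.card (P : Subgroup G) := hKP.symm.index_eq_card
    obtain ⟨a, ha⟩ := P.isPGroup'.exists_card_eq
    have hKodd : ¬ 2 ∣ Nat.card K := by
      intro h
      have h1 := hKP.card_mul
      have h3 : 2 ∣ (P : Subgroup G).index := by
        have h4 := (P : Subgroup G).card_mul_index
        rw [← h1, mul_comm (Nat.card K)] at h4
        rw [Nat.eq_of_mul_eq_mul_left Nat.card_pos h4]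
        exact h
      exact P.not_dvd_index h3
    have hker := apply_eq_of_mem_principalBlock K hM hKodd hχ
    have hirr := CharExt.isIrr_restrict_of_coprime (K := K) χ (by
      rw [hidx, ha]
      exact Nat.Coprime.pow_right a (Nat.coprime_two_right.2 hodd))
    have h1 := classInner_irr_self (G := K) ⟨_, hirr⟩
    simp only [Cfsg.classInner] at h1
    rw [Finset.sum_congr rfl (g := fun _ => ((Cfsg.charDegree (χ : G → ℂ) : ℂ) * (Cfsg.charDegree (χ : G → ℂ) : ℂ)))
      fun x _ => by rw [hker x x.2, apply_one_eq_charDegree, Complex.conj_natCast],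
      Finset.sum_const, Finset.card_univ, nsmul_eq_mul, ← Nat.card_eq_fintype_card,
      inv_mul_cancel_left₀ (Nat.cast_ne_zero.2 Nat.card_pos.ne'), ← Nat.cast_mul, Nat.cast_eq_one] at h1
    exact Nat.eq_one_of_mul_eq_one_right h1
  · intro hlin
    by_contra hnc
    let N := Cfsg.pResidual 2 G
    have : N.Normal := inferInstance
    have := Fintype.ofFinite N
    obtain ⟨a, ha⟩ := CfsgLib.Transfer.exists_index_pResidual (G := G) (p := 2)
    have heven : 2 ∣ Nat.card N := by
      by_contra h
      exact hnc (CfsgLib.Transfer.hasNormalPComplement_of_coprime_pResidual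
        ((Nat.Prime.coprime_iff_not_dvd hp).2 h).symm)
    have hkcop : k.Coprime (Nat.card G) := by
      refine Nat.coprime_of_dvd fun r hr hrk hrG => ?_
      have := Fact.mk hr
      obtain ⟨x, hx⟩ := exists_prime_orderOf_dvd_card' (G := G) r hrG
      have h1 : x ^ k = 1 := orderOf_dvd_iff_pow_eq_one.1 (hx ▸ hrk)
      by_cases hr2 : r = 2
      · have h3 := hk₁ x ⟨1, by rw [pow_one, hx, hr2]⟩
        have h4 : orderOf x ∣ 3 := orderOf_dvd_iff_pow_eq_one.2 (h3.symm.trans h1)
        rw [hx, hr2] at h4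
        omega
      · have h3 := hk₂ x (by rw [hx]; exact hr.odd_of_ne_two hr2)
        rw [h1] at h3
        rw [← h3, orderOf_one] at hx
        exact hr.ne_one hx.symm
    set j := (Nat.card G).factorization 2
    have hiter : ∀ g : G, g ^ k ^ 2 ^ j = g := by
      intro g
      obtain ⟨u, w, rfl, hc, ⟨i, hu⟩, hw⟩ := CfsgLib.Blocks.exists_pPart (p := 2) hp g
      have hij : i ≤ j := (hp.pow_dvd_iff_le_factorization Nat.card_pos.ne').1
        (hu ▸ orderOf_dvd_natCard u)
      have hku : k ≡ 3 [MOD orderOf u] := pow_eq_pow_iff_modEq.1 (hk₁ u ⟨i, hu⟩)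
      have hkw : k ≡ 1 [MOD orderOf w] := pow_eq_pow_iff_modEq.1 (by
        rw [pow_one]; exact hk₂ w (Nat.odd_iff.2 (by omega)))
      rw [hc.mul_pow]
      suffices hu1 : u ^ k ^ 2 ^ j = u ∧ w ^ k ^ 2 ^ j = w by rw [hu1.1, hu1.2]
      rw [← and_comm]
      refine ⟨(pow_eq_pow_iff_modEq.2 ?_).trans (pow_one w),
        (pow_eq_pow_iff_modEq.2 ?_).trans (pow_one u)⟩
      · simpa using hkw.pow (2 ^ j)
      · refine (hku.pow (2 ^ j)).trans ?_
        rw [hu]
        rcases Nat.eq_zero_or_pos i with rfl | hi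
        · exact Nat.modEq_one
        · have ht := Nat.ModEq.pow_totient ((Nat.coprime_primes Nat.prime_three hp).2 (by norm_num) |>.pow_right i)
          rw [Nat.totient_prime_pow hp hi] at ht
          norm_num at ht
          have hs : 2 ^ j = 2 ^ (i - 1) * 2 ^ (j - (i - 1)) := by
            rw [← pow_add]; congr 1; omega
          rw [hs, pow_mul]
          simpa using ht.pow (2 ^ (j - (i - 1)))
    have hNres : Cfsg.pResidual 2 (N : Subgroup G) = ⊤ := CfsgLib.Transfer.pResidual_pResidual
    obtain ⟨P⟩ := (inferInstance : Nonempty (Sylow 2 G))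
    obtain ⟨θ, hθB, hθo, hθ1, hθP, hθk⟩ := CfsgLib.OddFixed.exists_fixed_nonlinear (N := N) P hM hNres
      heven (hkcop.coprime_dvd_right (Subgroup.card_subgroup_dvd_card N))
      (j := j) (fun n => Subtype.ext (by rw [SubgroupClass.coe_pow]; exact hiter _))
    have hinv : ∀ g n, (θ : N → ℂ) (CharExt.cn g n) = (θ : N → ℂ) n := by
      intro g n
      obtain ⟨m, hm, x, hx, rfl⟩ := Subgroup.mem_sup_of_normal_left.1
        (CfsgLib.Transfer.pResidual_sup_sylow (p := 2) P ▸ Subgroup.mem_top g)
      refine Eq.trans ?_ (hθP x hx n)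
      refine Eq.trans (congrArg (θ : N → ℂ) (Subtype.ext ?_))
        (IsIrr.isClassFunction θ.2 ⟨x * n * x⁻¹, (inferInstance : N.Normal).conj_mem n n.2 x⟩ ⟨m, hm⟩)
      simp [CharExt.cn, mul_assoc]
    obtain ⟨χ, hχN, hχk⟩ := CfsgLib.GaloisExt.exists_fixed_extension (N := N) rfl
      (fun h => Nat.not_even_iff_odd.2 hθo (even_iff_two_dvd.2 h)) hinv hkcop hθk
    have hdeg : Cfsg.charDegree (χ : G → ℂ) = Cfsg.charDegree (θ : N → ℂ) := by
      have h := hχN 1
      rw [OneMemClass.coe_one] at h
      unfold Cfsg.charDegree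
      rw [h]
    exact hθ1 (hdeg ▸ hlin χ ((CfsgLib.OddFixed.mem_principalBlock_iff_restrict hM N ha hχN).2 hθB)
      (hdeg ▸ hθo) hχk)

end Cfsg.Agent.S4549
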