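import Cfsg.Statements.S4550
import Cfsg.Agent.Lib.Blocks.KleinBlock
import Cfsg.Agent.Lib.Blocks.PrincipalGalois
import Mathlib.GroupTheory.Perm.Cycle.Type
-- import your own Cfsg.Agent.* helpers here

set_option autoImplicit false
open Cfsg CfsgLib.Blocks

namespace Cfsg.Agent.S4550

/-- Let G be a finite group of even order and M a maximal ideal of the algebraic integers containing 2. Let k be a natural number with g ^ k = g ^ 3 for every 2-element g and g ^ k = g for every element g of odd order (such k exist); an irreducible character χ is unchanged by g ↦ g ^ k exactly when it is fixed by the field automorphism that cubes the 2-power roots of unity and fixes the roots of unity of odd order. Then the number of members χ of the principal 2-block of odd degree with χ (g ^ k) = χ g for all g is even. -/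
theorem result {G : Type*} [Group G] [Finite G] (M : Ideal Cfsg.AlgInt) (hM : Cfsg.IsPModular 2 M) (hev : Even (Nat.card G)) (k : ℕ) (hk₁ : ∀ g : G, (∃ j : ℕ, orderOf g = 2 ^ j) → g ^ k = g ^ 3) (hk₂ : ∀ g : G, Odd (orderOf g) → g ^ k = g) : Even (Nat.card {χ : Cfsg.IrrCharacter G // χ ∈ Cfsg.principalBlock M G ∧ Odd (Cfsg.charDegree (χ : G → ℂ)) ∧ ∀ g : G, (χ : G → ℂ) (g ^ k) = (χ : G → ℂ) g}) := by
  classical
  have := hM.2.1.isPrime
  have : Fact (Nat.Prime 2) := ⟨Nat.prime_two⟩
  have := Fintype.ofFinite G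
  have := charP_residueField hM
  obtain ⟨t, ht⟩ := exists_prime_orderOf_dvd_card' 2 (hev.two_dvd)
  -- `k` is prime to the group order
  have hk : k.Coprime (Nat.card G) := by
    refine Nat.coprime_of_dvd fun q hq hqk hqG => ?_
    have : Fact q.Prime := ⟨hq⟩
    obtain ⟨g, hg⟩ := exists_prime_orderOf_dvd_card' q hqG
    have h1 : g ^ k = 1 := orderOf_dvd_iff_pow_eq_one.1 (hg ▸ hqk)
    have hg1 : g ≠ 1 := fun e => hq.ne_one (by rw [← hg, e, orderOf_one])
    rcases hq.eq_two_or_odd' with rfl | hodd
    · rw [hk₁ g ⟨1, by rw [hg, pow_one]⟩, pow_succ, ← hg, pow_orderOf_eq_one, one_mul] at h1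
      exact hg1 h1
    · exact hg1 ((hk₂ g (hg ▸ hodd)).symm.trans h1)
  set A : Set (IrrCharacter G) :=
    {χ | χ ∈ principalBlock M G ∧ Odd (charDegree (χ : G → ℂ))} with hA
  have hdeg : ∀ χ : IrrCharacter G,
      charDegree (powTwist hk χ : G → ℂ) = charDegree (χ : G → ℂ) := fun χ =>
    charDegree_eq (χ := powTwist hk χ) (by rw [powTwist_apply, one_pow, apply_one_eq_charDegree])
  -- an even number of characters of odd degree
  have hAeven : Even (Nat.card A) := by
    have hB := isPBlock_principalBlock (G := G) (M := M)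
    have h0 := sum_block_regular_singular hM hB (x := 1) (by simp) (y := t) (by rw [ht])
    choose z hz using fun χ : IrrCharacter G => exists_int_apply_of_orderOf_two χ ht
    rw [finsum_mem_eq_finite_toFinset_sum _ (Set.toFinite _),
      Finset.sum_congr rfl (g := fun χ : IrrCharacter G =>
        (((charDegree (χ : G → ℂ) : ℤ) * z χ : ℤ) : ℂ))
        fun χ _ => by rw [apply_one_eq_charDegree, hz]; push_cast; rfl, ← Int.cast_sum,
      Int.cast_eq_zero] at h0
    have hpar : ∀ χ : IrrCharacter G, ((z χ : ℤ) : ZMod 2) = (charDegree (χ : G → ℂ) : ZMod 2) := by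
      intro χ
      have h := apply_mul_congr hM χ (x := t) (y := 1) (Commute.one_right t) ⟨1, by rw [ht, pow_one]⟩
      rw [mul_one] at h
      have h2 : IsLocalRing.residue (localRing M) (z χ : localRing M) =
          IsLocalRing.residue (localRing M) ((charDegree (χ : G → ℂ) : ℕ) : localRing M) := by
        refine residue_eq_iff.2 ?_
        simpa [← hz, ← apply_one_eq_charDegree] using h
      rw [map_intCast, map_natCast, ← Int.cast_natCast, ← sub_eq_zero, ← Int.cast_sub,
        CharP.intCast_eq_zero_iff _ 2] at h2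
      rw [← Int.cast_natCast (R := ZMod 2), ← sub_eq_zero, ← Int.cast_sub,
        ZMod.intCast_zmod_eq_zero_iff_dvd]
      exact h2
    have h1 := congrArg (Int.cast : ℤ → ZMod 2) h0
    rw [Int.cast_sum, Int.cast_zero, Finset.sum_congr rfl
      (g := fun χ : IrrCharacter G => if Odd (charDegree (χ : G → ℂ)) then (1 : ZMod 2) else 0)
      fun χ _ => ?_, Finset.sum_boole, ZMod.natCast_eq_zero_iff_even] at h1
    · rw [Nat.card_coe_set_eq, Set.ncard_eq_toFinset_card _ (Set.toFinite A)]
      convert h1 using 2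
      ext χ
      simp [hA]
    · rw [Int.cast_mul, hpar, Int.cast_natCast]
      split_ifs with h
      · rw [ZMod.natCast_eq_one_iff_odd.2 h, one_mul]
      · rw [Nat.not_odd_iff_even] at h
        rw [ZMod.natCast_eq_zero_iff_even.2 h, zero_mul]
  -- the Galois permutation of these characters
  let f : A → A := fun χ => ⟨powTwist hk χ.1, powTwist_mem_principalBlock hM hk χ.2.1,
    by rw [hdeg]; exact χ.2.2⟩
  have hfi : Function.Injective f := fun a b h =>
    Subtype.ext (powTwist_injective hk (congrArg Subtype.val h))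
  let σ : Equiv.Perm A := Equiv.ofBijective f hfi.bijective_of_finite
  set N := (Nat.card G).factorization 2
  have hiter : ∀ (m : ℕ) (χ : A) (g : G),
      (((σ ^ m) χ).1 : G → ℂ) g = (χ.1 : G → ℂ) (g ^ k ^ m) := by
    intro m
    induction m with
    | zero => intro χ g; simp
    | succ m ih =>
      intro χ g
      rw [pow_succ', Equiv.Perm.mul_apply]
      show (powTwist hk ((σ ^ m) χ).1 : G → ℂ) g = _
      rw [powTwist_apply, ih, pow_succ', pow_mul]
  have hσ : σ ^ 2 ^ N = 1 := by
    ext χ : 1
    refine Subtype.ext (Subtype.ext (funext fun g => ?_))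
    rw [hiter, Equiv.Perm.one_apply]
    refine congrArg (χ.1 : G → ℂ) ?_
    obtain ⟨a, o, ho, hord⟩ := Nat.exists_eq_pow_mul_and_not_dvd (orderOf_pos g).ne' 2 (by omega)
    have hodd : Odd o := Nat.not_even_iff_odd.1 fun h => ho h.two_dvd
    have ha : a ≤ N := by
      have h2 : 2 ^ a ∣ Nat.card G := (hord ▸ dvd_mul_right _ _).trans (orderOf_dvd_natCard g)
      exact (Nat.prime_two.pow_dvd_iff_le_factorization Nat.card_pos.ne').1 h2
    conv_rhs => rw [← pow_one g]
    refine (pow_eq_pow_iff_modEq (G := G) (x := g)).2 ?_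
    rw [hord]
    refine (Nat.modEq_and_modEq_iff_modEq_mul
      ((Nat.coprime_two_left.2 hodd).pow_left a)).1 ⟨?_, ?_⟩
    · have hk2 : k.Coprime (2 ^ a) := (hk.coprime_dvd_right hev.two_dvd).pow_right a
      have hphi : (2 ^ a).totient ∣ 2 ^ N := by
        rcases Nat.eq_zero_or_pos a with rfl | h0
        · simp
        · rw [Nat.totient_prime_pow Nat.prime_two h0]
          simpa using pow_dvd_pow 2 (show a - 1 ≤ N by omega)
      obtain ⟨c, hc⟩ := hphi
      rw [hc, pow_mul]
      simpa using (Nat.ModEq.pow_totient hk2).pow c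
    · have hgo : orderOf (g ^ 2 ^ a) = o := by
        rw [orderOf_pow' _ (pow_ne_zero _ two_ne_zero), hord, Nat.gcd_mul_right_left,
          Nat.mul_div_cancel_left _ (pow_pos two_pos a)]
      have h := hk₂ (g ^ 2 ^ a) (by rw [hgo]; exact hodd)
      have h' : k ≡ 1 [MOD o] := by
        rw [← hgo]
        exact pow_eq_pow_iff_modEq.1 (h.trans (pow_one (g ^ 2 ^ a)).symm)
      simpa using h'.pow (2 ^ N)
  have := Fintype.ofFinite A
  have hcard := Equiv.Perm.card_compl_support_modEq (p := 2) (n := N) hσ
  have hfix : Nat.card {χ : IrrCharacter G // χ ∈ principalBlock M G ∧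
      Odd (charDegree (χ : G → ℂ)) ∧ ∀ g : G, (χ : G → ℂ) (g ^ k) = (χ : G → ℂ) g} =
      (σ.supportᶜ : Finset A).card := by
    rw [← Fintype.card_coe, ← Nat.card_eq_fintype_card]
    have hσapp : ∀ χ : A, σ χ = χ ↔ ∀ g : G, (χ.1 : G → ℂ) (g ^ k) = (χ.1 : G → ℂ) g := by
      intro χ
      constructor
      · intro h g
        have := congrArg (fun ψ : A => (ψ.1 : G → ℂ) g) h
        exact (powTwist_apply hk χ.1 g).symm.trans this
      · intro h
        refine Subtype.ext (Subtype.ext (funext fun g => ?_))
        exact (powTwist_apply hk χ.1 g).trans (h g)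
    refine Nat.card_congr
      { toFun := fun χ => ⟨⟨χ.1, χ.2.1, χ.2.2.1⟩, ?_⟩
        invFun := fun χ => ⟨χ.1.1, χ.1.2.1, χ.1.2.2, (hσapp χ.1).1 ?_⟩
        left_inv := fun χ => rfl
        right_inv := fun χ => rfl }
    · rw [Finset.mem_compl, Equiv.Perm.notMem_support]
      exact (hσapp _).2 χ.2.2.2
    · have := χ.2
      rwa [Finset.mem_compl, Equiv.Perm.notMem_support] at this
  rw [hfix, Nat.even_iff, hcard, ← Nat.card_eq_fintype_card]
  exact Nat.even_iff.1 hAeven

end Cfsg.Agent.S4550
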