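import Cfsg.Statements.S4552
import Cfsg.Agent.Lib.Blocks.FreeInertial.Homocyclic
-- import your own Cfsg.Agent.* helpers here

set_option autoImplicit false
open Cfsg CfsgLib.Blocks CfsgLib.Pairs CfsgLib.FreeInertial
open scoped IsMulCommutative

namespace Cfsg.Agent.S4552

/-- Let B be a 2-block of the finite group G (relative to a maximal ideal M of the algebraic integers containing 2) whose defect group D is the direct product of two cyclic groups of the same order 2 ^ m, m ≥ 2. Then either B has 2-regular rank one and exactly 4 ^ m irreducible characters, or B has 2-regular rank three and exactly (4 ^ m + 8) / 3 irreducible characters. -/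
theorem result {G : Type*} [Group G] [Finite G] (M : Ideal Cfsg.AlgInt) (hM : Cfsg.IsPModular 2 M) (B : Set (Cfsg.IrrCharacter G)) (hB : Cfsg.IsPBlock M B) (D : Subgroup G) (hD : Cfsg.IsDefectGroup 2 M B D) (m : ℕ) (hm : 2 ≤ m) (hiso : Nonempty (D ≃* Multiplicative (ZMod (2 ^ m) × ZMod (2 ^ m)))) : (Cfsg.blockRank 2 B = 1 ∧ Nat.card B = 4 ^ m) ∨ (Cfsg.blockRank 2 B = 3 ∧ 3 * Nat.card B = 4 ^ m + 8) := by
  classical
  have := hM.2.1.isPrime
  have := Fintype.ofFinite G
  obtain ⟨ι⟩ := hiso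
  have hab : IsMulCommutative ↥D := ⟨⟨fun a b => ι.injective (by rw [map_mul, map_mul, mul_comm])⟩⟩
  have : NeZero (2 ^ m) := ⟨pow_ne_zero m two_ne_zero⟩
  have hcard : Nat.card D = 4 ^ m := by
    rw [Nat.card_congr (ι.toEquiv.trans Multiplicative.toAdd), Nat.card_prod, Nat.card_zmod,
      ← mul_pow]
    norm_num
  have h4 : 1 < 4 ^ m := Nat.one_lt_pow (by omega) (by norm_num)
  have hD1 : D ≠ ⊥ := fun h => by
    rw [h, Subgroup.card_bot] at hcard
    omega
  obtain ⟨c, hc⟩ := exists_pairOf_of_isDefectGroup hM hB hD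
  have hmax := isMaximal_of_isDefectGroup hM hc hD
  have hDp := CfsgLib.Blocks.IsDefectGroup.isPGroup hD
  have hΩ : Nat.card {y : D // y ^ 2 = 1} ≤ 4 := by
    refine le_trans (le_of_eq (Nat.card_congr (Equiv.subtypeEquiv ι.toEquiv fun y => ?_)))
      (card_sq_eq_one_le (2 ^ m))
    show y ^ 2 = 1 ↔ ι y ^ 2 = 1
    rw [← map_pow, map_eq_one_iff _ ι.injective]
  have hodd := not_dvd_card_inertAut_of_maximal hM hmax
  have hfree : ∀ σ ∈ inertAut D c, ∀ x : D, x ≠ 1 → σ x = x → σ = 1 := fun σ hσ x hx hfix => by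
    refine eq_one_of_fixed hDp hΩ ?_ hx hfix
    rw [Nat.odd_iff]
    have hdvd : orderOf σ ∣ Nat.card (inertAut D c) := Subgroup.orderOf_dvd_natCard _ hσ
    by_contra h
    exact hodd ((Nat.dvd_of_mod_eq_zero (by omega)).trans hdvd)
  have hf : IsFree 2 M B D c := ⟨hM, hmax, fun g hg x hx hx1 hfix => by
    obtain ⟨σ, hσ, hσe⟩ := exists_mem_inertAut hg
    have h1 := hfree σ hσ ⟨x, hx⟩ (fun h => hx1 (congrArg Subtype.val h))
      (Subtype.ext ((hσe _).trans hfix))
    refine Subgroup.mem_centralizer_iff.2 fun y hy => ?_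
    have h2 := hσe ⟨y, hy⟩
    rw [h1] at h2
    exact (eq_mul_inv_iff_mul_eq.1 h2), hD1⟩
  obtain ⟨h1, -, h3⟩ := counts hf
  obtain ⟨u, hu⟩ := exists_ne_one hf
  obtain ⟨a, ha, ha1, -⟩ := exists_involution_fixed (σ := 1) hDp hu rfl
  have hle := card_le_three hΩ hfree ha ha1
  have hl := h3 hle
  have hmod : 4 ^ m % 3 = 1 := by rw [Nat.pow_mod]; simp
  rcases (show Nat.card (inertAut D c) = 1 ∨ Nat.card (inertAut D c) = 3 by
    have := Nat.card_pos (α := inertAut D c)
    omega) with he | he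
  · rw [he] at h1 hl
    left
    rw [hcard, Nat.div_one] at h1
    omega
  · rw [he] at h1 hl
    right
    rw [hcard] at h1
    omega

end Cfsg.Agent.S4552
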