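import Cfsg.Statements.S4553
import Cfsg.Agent.Lib.Char.GaloisFixedExtension
import Cfsg.Agent.Lib.Blocks.Covering
import Cfsg.Agent.Lib.Blocks.Kernel
-- import your own Cfsg.Agent.* helpers here

set_option autoImplicit false
open Cfsg

namespace Cfsg.Agent.S4553

open CfsgLib CfsgLib.Char CfsgLib.Blocks

/-- Let G be a finite group, p a prime, P a Sylow p-subgroup, N the p-residual of G (the subgroup generated by the elements of order prime to p, the smallest normal subgroup with G/N a p-group), and M a maximal ideal of the algebraic integers containing p; suppose G/N is cyclic and nontrivial. Let k be a natural number with g ^ k = g ^ (1 + p) for every p-element g and g ^ k = g for every element g of order prime to p (so that χ (g ^ k) is the image of χ g under the field automorphism that raises p-power roots of unity to the power 1 + p and fixes the roots of unity of order prime to p). Then the number of members χ of the principal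 block of G of degree prime to p with χ (g ^ k) = χ g for all g equals p times the number of members θ of the principal block of N of degree prime to p that are invariant under conjugation by P and satisfy θ (n ^ k) = θ n for all n. -/
theorem result {G : Type*} [Group G] [Finite G] (p : ℕ) [Fact p.Prime] (M : Ideal Cfsg.AlgInt) (hM : Cfsg.IsPModular p M) (P : Sylow p G) (N : Subgroup G) [hN : N.Normal] (hNres : N = Cfsg.pResidual p G) (hcyc : IsCyclic (G ⧸ N)) (hnt : N ≠ ⊤) (k : ℕ) (hk₁ : ∀ g : G, (∃ j : ℕ, orderOf g = p ^ j) → g ^ k = g ^ (1 + p)) (hk₂ : ∀ g : G, Nat.Coprime (orderOf g) p → g ^ k = g) : Nat.card {χ : Cfsg.IrrCharacter G // χ ∈ Cfsg.principalBlock M G ∧ ¬ p ∣ Cfsg.charDegree (χ : G → ℂ) ∧ ∀ g : G, (χ : G → ℂ) (g ^ k) = (χ : G → ℂ) g} = p * Nat.card {θ : Cfsg.IrrCharacter ↥N // θ ∈ Cfsg.principalBlock M ↥N ∧ ¬ p ∣ Cfsg.charDegree (θ : ↥N → ℂ) ∧ (∀ x ∈ (P : Subgroup G), ∀ n : ↥N, (θ : ↥N → ℂ) ⟨x * n * x⁻¹, hN.conj_mem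 n n.2 x⟩ = (θ : ↥N → ℂ) n) ∧ ∀ n : ↥N, (θ : ↥N → ℂ) (n ^ k) = (θ : ↥N → ℂ) n} := by
  classical
  have := Fintype.ofFinite G
  have := Fintype.ofFinite N
  have := hM.2.1.isPrime
  have hp : p.Prime := Fact.out
  obtain ⟨a, ha⟩ := CfsgLib.Transfer.exists_index_pResidual (G := G) (p := p)
  rw [← hNres] at ha
  have hQp : IsPGroup p (G ⧸ N) := IsPGroup.of_card (n := a) (by rw [← Subgroup.index_eq_card, ha])
  have : Nontrivial (G ⧸ N) := (Finite.one_lt_card_iff_nontrivial).1 (by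
    rw [← Subgroup.index_eq_card]
    exact lt_of_le_of_ne (Nat.one_le_iff_ne_zero.2 Subgroup.index_ne_zero_of_finite)
      (fun h => hnt (Subgroup.index_eq_one.1 h.symm)))
  -- the exponent
  obtain ⟨hkcop, hkQ⟩ : k.Coprime (Nat.card G) ∧ ∀ q : G ⧸ N, q ^ k = q ^ (1 + p) := by
    have hk' : ∀ r : ℕ, r.Prime → r ∣ Nat.card G → ¬ r ∣ k := by
      intro r hr hrG hrk
      have := Fact.mk hr
      obtain ⟨x, hx⟩ := exists_prime_orderOf_dvd_card' (G := G) r hrG
      have h1 : x ^ k = 1 := orderOf_dvd_iff_pow_eq_one.1 (hx ▸ hrk)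
      by_cases hrp : r = p
      · have h2 := hk₁ x ⟨1, by rw [pow_one, hx, hrp]⟩
        have h3 : orderOf x ∣ 1 + p := orderOf_dvd_iff_pow_eq_one.2 (h2.symm.trans h1)
        rw [hx, hrp] at h3
        exact hp.not_dvd_one ((Nat.dvd_add_left dvd_rfl).1 h3)
      · have h2 := hk₂ x (by rw [hx]; exact (Nat.coprime_primes hr hp).2 hrp)
        rw [h1] at h2
        rw [← h2, orderOf_one] at hx
        exact hr.ne_one hx.symm
    refine ⟨Nat.coprime_of_dvd fun r hr hrk hrG => hk' r hr hrG hrk, fun q => ?_⟩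
    obtain ⟨g, rfl⟩ := QuotientGroup.mk'_surjective N q
    obtain ⟨u, w, rfl, hc, hu, hw⟩ := CfsgLib.Blocks.exists_pPart (p := p) hp g
    have hwN : w ∈ N := by
      rw [hNres]
      exact Subgroup.subset_closure (Nat.Coprime.symm ((Nat.Prime.coprime_iff_not_dvd hp).2 hw))
    rw [map_mul, show QuotientGroup.mk' N w = 1 from (QuotientGroup.eq_one_iff w).2 hwN, mul_one,
      ← map_pow, ← map_pow, hk₁ u hu]
  have hfixQ := CfsgLib.GaloisExt.card_fixed_of_cyclic (Q := G ⧸ N) hQp hkQ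
  -- invariant characters
  have hPN := CfsgLib.Transfer.pResidual_sup_sylow (p := p) P
  rw [← hNres] at hPN
  have hinv : ∀ θ : IrrCharacter N, (∀ x ∈ (P : Subgroup G), ∀ n : N,
      (θ : N → ℂ) ⟨x * n * x⁻¹, hN.conj_mem n n.2 x⟩ = (θ : N → ℂ) n) →
      ∀ g n, (θ : N → ℂ) (CharExt.cn g n) = (θ : N → ℂ) n := by
    intro θ hθ g n
    obtain ⟨m, hm, x, hx, rfl⟩ := Subgroup.mem_sup_of_normal_left.1 (hPN ▸ Subgroup.mem_top g)
    refine Eq.trans ?_ (hθ x hx n)
    have h := IsIrr.isClassFunction θ.2 ⟨x * n * x⁻¹, hN.conj_mem n n.2 x⟩ ⟨m, hm⟩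
    refine Eq.trans (congrArg (θ : N → ℂ) (Subtype.ext ?_)) h
    simp [CharExt.cn, mul_assoc]
  have hres : ∀ χ : IrrCharacter G, ¬ p ∣ Cfsg.charDegree (χ : G → ℂ) →
      IsIrrCharacter N fun n : N => (χ : G → ℂ) n := fun χ hχ =>
    CharExt.isIrr_restrict_of_coprime χ (by
      rw [ha]
      exact Nat.Coprime.pow_right a (Nat.Coprime.symm ((Nat.Prime.coprime_iff_not_dvd hp).2 hχ)))
  have hB0 : ∀ (χ : IrrCharacter G) (θ : IrrCharacter N), (∀ n : N, (χ : G → ℂ) n = (θ : N → ℂ) n) →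
      (χ ∈ principalBlock M G ↔ θ ∈ principalBlock M N) := by
    intro χ θ h
    have hne : ∀ (χ : IrrCharacter G) (θ : IrrCharacter N), (∀ n : N, (χ : G → ℂ) n = (θ : N → ℂ) n) →
        classInner (fun n : N => (χ : G → ℂ) n) (θ : N → ℂ) ≠ 0 := fun χ θ h => by
      rw [show (fun n : N => (χ : G → ℂ) n) = θ from funext h, classInner_irr_self]
      exact one_ne_zero
    have h1 := hne (trivChar G) (trivChar N) fun n => rfl
    constructor
    · intro hχ
      obtain ⟨g, hg⟩ := exists_conj_of_sameBlock N (show SameBlock M (trivChar G : G → ℂ) (χ : G → ℂ) from hχ) h1 (hne χ θ h)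
      rwa [show conjIrr N g (trivChar N) = trivChar N from Subtype.ext (funext fun n => rfl)] at hg
    · intro hθ
      exact sameBlock_of_constituent N hM ha h1 (hne χ θ h) hθ
  let Fix := {β : IrrCharacter (G ⧸ N) // ∀ q : G ⧸ N, (β : G ⧸ N → ℂ) (q ^ k) = (β : G ⧸ N → ℂ) q}
  let SN := {θ : Cfsg.IrrCharacter ↥N // θ ∈ Cfsg.principalBlock M ↥N ∧ ¬ p ∣ Cfsg.charDegree (θ : ↥N → ℂ) ∧ (∀ x ∈ (P : Subgroup G), ∀ n : ↥N, (θ : ↥N → ℂ) ⟨x * n * x⁻¹, hN.conj_mem n n.2 x⟩ = (θ : ↥N → ℂ) n) ∧ ∀ n : ↥N, (θ : ↥N → ℂ) (n ^ k) = (θ : ↥N → ℂ) n}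
  choose E hE hEk using fun θ : SN => CfsgLib.GaloisExt.exists_fixed_extension hNres θ.2.2.1
    (hinv θ.1 θ.2.2.2.1) hkcop θ.2.2.2.2
  have hEres : ∀ θ : SN, IsIrrCharacter N fun n : N => (E θ : G → ℂ) n := fun θ => by
    rw [show (fun n : N => (E θ : G → ℂ) n) = θ.1 from funext (hE θ)]
    exact θ.1.2
  have hβ1 : ∀ β : IrrCharacter (G ⧸ N), (β : G ⧸ N → ℂ) 1 = 1 := fun β =>
    let := IsCyclic.commGroup (α := G ⧸ N)
    CfsgLib.Clifford.apply_one_eq_one_of_commute (fun x y => mul_comm x y) β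
  let T : SN × Fix → IrrCharacter G := fun z =>
    ⟨_, Gallagher.isIrr_twistBy (IsIrr.isCharacter (E z.1).2) (hEres z.1) z.2.1⟩
  have hT : ∀ z, ∀ n : N, (T z : G → ℂ) n = (z.1.1 : N → ℂ) n := fun z n => by
    show Gallagher.twistBy (E z.1 : G → ℂ) (z.2.1 : G ⧸ N → ℂ) n = _
    rw [Gallagher.twistBy_apply_coe, hβ1, one_mul, hE]
  have hmem : ∀ z, T z ∈ Cfsg.principalBlock M G ∧ ¬ p ∣ Cfsg.charDegree (T z : G → ℂ) ∧
      ∀ g : G, (T z : G → ℂ) (g ^ k) = (T z : G → ℂ) g := fun z => by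
    refine ⟨(hB0 _ _ (hT z)).2 z.1.2.1, ?_, fun g => ?_⟩
    · have h := hT z 1
      rw [OneMemClass.coe_one] at h
      unfold Cfsg.charDegree
      rw [h]
      exact z.1.2.2.1
    · show Gallagher.twistBy (E z.1 : G → ℂ) (z.2.1 : G ⧸ N → ℂ) (g ^ k) = _
      rw [Gallagher.twistBy_apply, hEk, map_pow, z.2.2]
      rfl
  let F : SN × Fix → {χ : Cfsg.IrrCharacter G // χ ∈ Cfsg.principalBlock M G ∧ ¬ p ∣ Cfsg.charDegree (χ : G → ℂ) ∧ ∀ g : G, (χ : G → ℂ) (g ^ k) = (χ : G → ℂ) g} :=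
    fun z => ⟨T z, hmem z⟩
  have hbij : Function.Bijective F := by
    constructor
    · rintro ⟨θ, β⟩ ⟨θ', β'⟩ h
      have h' : T (θ, β) = T (θ', β') := congrArg Subtype.val h
      obtain rfl : θ = θ' := Subtype.ext (Subtype.ext (funext fun n =>
        (hT (θ, β) n).symm.trans ((congrArg (fun χ : IrrCharacter G => (χ : G → ℂ) n) h').trans
          (hT (θ', β') n))))
      exact Prod.ext rfl (Subtype.ext (Gallagher.twistBy_injective (IsIrr.isCharacter (E θ).2)
        (hEres θ) (congrArg Subtype.val h')))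
    · rintro ⟨χ, hχB, hχd, hχk⟩
      let θ : IrrCharacter N := ⟨_, hres χ hχd⟩
      have hθ : θ ∈ Cfsg.principalBlock M N := (hB0 χ θ fun _ => rfl).1 hχB
      let θ' : SN := ⟨θ, hθ, (by
          show ¬ p ∣ ⌊((χ : G → ℂ) ((1 : N) : G)).re⌋₊
          exact hχd),
        fun x _ n => IsIrr.isClassFunction χ.2 _ _,
        fun n => by show (χ : G → ℂ) ((n ^ k : N) : G) = _; rw [SubgroupClass.coe_pow]; exact hχk _⟩
      obtain ⟨β, hβ⟩ := Gallagher.exists_eq_twistBy (IsIrr.isCharacter (E θ').2) (hEres θ') χ (by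
        rw [show (fun n : N => (E θ' : G → ℂ) n) = θ from funext (hE θ')]
        show classInner (θ : N → ℂ) θ ≠ 0
        rw [classInner_irr_self]
        exact one_ne_zero)
      have hkQcard : k.Coprime (Nat.card (G ⧸ N)) :=
        hkcop.coprime_dvd_right (Subgroup.card_quotient_dvd_card N)
      have := Fintype.ofFinite (G ⧸ N)
      let β' : IrrCharacter (G ⧸ N) := ⟨_, isIrrCharacter_pow β.2 hkQcard⟩
      have heq : Gallagher.twistBy (E θ' : G → ℂ) (β' : G ⧸ N → ℂ) =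
          Gallagher.twistBy (E θ' : G → ℂ) (β : G ⧸ N → ℂ) := by
        funext g
        rw [← hβ, ← hχk g, hβ, Gallagher.twistBy_apply, Gallagher.twistBy_apply, hEk, map_pow]
      have hfixβ : ∀ q : G ⧸ N, (β : G ⧸ N → ℂ) (q ^ k) = (β : G ⧸ N → ℂ) q := fun q =>
        congrArg (fun b : IrrCharacter (G ⧸ N) => (b : G ⧸ N → ℂ) q)
          (Gallagher.twistBy_injective (IsIrr.isCharacter (E θ').2) (hEres θ') heq : β' = β)
      exact ⟨(θ', ⟨β, hfixβ⟩), Subtype.ext (Subtype.ext hβ.symm)⟩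
  rw [← Nat.card_eq_of_bijective F hbij, Nat.card_prod, hfixQ, mul_comm]

end Cfsg.Agent.S4553
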