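import Cfsg.Statements.S4560
import Cfsg.Agent.Lib.Char.MultiTransitive
import Mathlib.GroupTheory.Perm.Cycle.PossibleTypes
import Mathlib.GroupTheory.SpecificGroups.Alternating.MaximalSubgroups

set_option autoImplicit false
open Cfsg Finset

namespace Cfsg.Agent.S4560

/-- For n ≥ 7 the alternating group on n letters has an irreducible character that vanishes at some 2-element and is the restriction of an irreducible character of the symmetric group, and an irreducible character that vanishes at some element of order 3 and is the restriction of an irreducible character of the symmetric group. -/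
theorem result (n : ℕ) (hn : 7 ≤ n) : (∃ χ : Cfsg.IrrCharacter (alternatingGroup (Fin n)), (∃ x : alternatingGroup (Fin n), (∃ j : ℕ, orderOf x = 2 ^ j) ∧ (χ : alternatingGroup (Fin n) → ℂ) x = 0) ∧ ∃ ψ : Cfsg.IrrCharacter (Equiv.Perm (Fin n)), ∀ x : alternatingGroup (Fin n), (ψ : Equiv.Perm (Fin n) → ℂ) x = (χ : alternatingGroup (Fin n) → ℂ) x) ∧ (∃ χ : Cfsg.IrrCharacter (alternatingGroup (Fin n)), (∃ y : alternatingGroup (Fin n), orderOf y = 3 ∧ (χ : alternatingGroup (Fin n) → ℂ) y = 0) ∧ ∃ ψ : Cfsg.IrrCharacter (Equiv.Perm (Fin n)), ∀ x : alternatingGroup (Fin n), (ψ : Equiv.Perm (Fin n) → ℂ) x = (χ : alternatingGroup (Fin n) → ℂ) x) := by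
  classical
  have h4 : 4 ≤ Nat.card (Fin n) := by simp; omega
  have hA : MulAction.IsMultiplyPretransitive (alternatingGroup (Fin n)) (Fin n) 4 := by
    have := alternatingGroup.isMultiplyPretransitive (Fin n)
    exact MulAction.isMultiplyPretransitive_of_le (n := Nat.card (Fin n) - 2) (by simp; omega)
      (Nat.sub_le _ _)
  have hS : MulAction.IsMultiplyPretransitive (Equiv.Perm (Fin n)) (Fin n) 4 :=
    Equiv.Perm.isMultiplyPretransitive (Fin n) 4
  open CfsgLib.MultiTrans in
  have key : ∀ m : Multiset ℕ, m.sum ≤ n → (∀ a ∈ m, 3 ≤ a) ∨ n - m.sum = 1 ∧ (∀ a ∈ m, 2 ≤ a) →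
      Even (m.sum + Multiset.card m) → n - m.sum ∈ ({0, 1, 2, 3} : Finset ℕ) →
      ∀ d : ℕ, (∀ a ∈ m, a ∣ d) → ∃ χ : Cfsg.IrrCharacter (alternatingGroup (Fin n)),
        (∃ x : alternatingGroup (Fin n), (orderOf x = m.lcm ∧ orderOf x ∣ d) ∧
          (χ : alternatingGroup (Fin n) → ℂ) x = 0) ∧
        ∃ ψ : Cfsg.IrrCharacter (Equiv.Perm (Fin n)), ∀ x : alternatingGroup (Fin n),
          (ψ : Equiv.Perm (Fin n) → ℂ) x = (χ : alternatingGroup (Fin n) → ℂ) x := by
    intro m hle hlen heven hfix d hd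
    have h2 : ∀ a ∈ m, 2 ≤ a := by
      rcases hlen with h | h
      · exact fun a ha => by have := h a ha; omega
      · exact h.2
    obtain ⟨g, hg⟩ := (Equiv.Perm.exists_with_cycleType_iff (Fin n)).2 ⟨by simpa using hle, h2⟩
    have hsign : Equiv.Perm.sign g = 1 := by
      rw [Equiv.Perm.sign_of_cycleType, hg, heven.neg_one_pow]
    let x : alternatingGroup (Fin n) := ⟨g, Equiv.Perm.mem_alternatingGroup.2 hsign⟩
    have hord : orderOf x = m.lcm := by
      rw [← Subgroup.orderOf_coe, show ((x : Equiv.Perm (Fin n))) = g from rfl,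
        ← Equiv.Perm.lcm_cycleType, hg]
    have hx : orderOf x = m.lcm ∧ orderOf x ∣ d := ⟨hord, hord ▸ Multiset.lcm_dvd.2 hd⟩
    have hf : fixN (Fin n) x = n - m.sum := by
      have e := Equiv.Perm.card_fixedPoints g
      rw [Fintype.card_fin, hg] at e
      rw [fixN, ← e, ← Nat.card_eq_fintype_card]
      exact Nat.card_congr (Equiv.refl _)
    have ht : (∀ a ∈ m, 3 ≤ a) → twoN (Fin n) x = 0 := by
      intro h3
      rw [twoN, Nat.card_eq_zero]
      refine Or.inl ⟨fun ⟨a, ha, ha'⟩ => ?_⟩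
      have hga : g a ≠ a := ha'
      have hgga : g (g a) = a := ha
      have hc := Equiv.Perm.isCycle_cycleOf g hga
      have hpow : (g.cycleOf a) ^ 2 = 1 := by
        refine hc.pow_eq_one_iff.2 ⟨a, ?_, ?_⟩
        · rwa [Equiv.Perm.cycleOf_apply_self]
        · rw [Equiv.Perm.cycleOf_pow_apply_self]
          exact hgga
      have hmem : #(g.cycleOf a).support ∈ m := by
        rw [← hg, Equiv.Perm.cycleType_def, Multiset.mem_map]
        exact ⟨g.cycleOf a, by
          rw [Finset.mem_val]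
          exact Equiv.Perm.cycleOf_mem_cycleFactorsFinset_iff.2 (Equiv.Perm.mem_support.2 hga), rfl⟩
      have h1 := hc.orderOf
      have h2' := Nat.le_of_dvd two_pos (orderOf_dvd_of_pow_eq_one hpow)
      have := h3 _ hmem
      omega
    rcases hlen with h3 | h1
    · simp only [Finset.mem_insert, Finset.mem_singleton] at hfix
      rcases hfix with h | h | h | h
      · refine ⟨⟨chiTwo (Fin n), isIrr_chiTwo h4⟩, ⟨x, hx, ?_⟩,
          ⟨chiTwo (Fin n), isIrr_chiTwo h4⟩, fun y => rfl⟩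
        simp [chiTwo, hf, h, ht h3]
      · refine ⟨⟨chiOne (Fin n), isIrr_chiOne h4⟩, ⟨x, hx, ?_⟩,
          ⟨chiOne (Fin n), isIrr_chiOne h4⟩, fun y => rfl⟩
        simp [chiOne, hf, h]
      · refine ⟨⟨chiThree (Fin n), isIrr_chiThree h4⟩, ⟨x, hx, ?_⟩,
          ⟨chiThree (Fin n), isIrr_chiThree h4⟩, fun y => rfl⟩
        simp [chiThree, hf, h, ht h3]; norm_num
      · refine ⟨⟨chiTwo (Fin n), isIrr_chiTwo h4⟩, ⟨x, hx, ?_⟩,
          ⟨chiTwo (Fin n), isIrr_chiTwo h4⟩, fun y => rfl⟩
        simp [chiTwo, hf, h, ht h3]; norm_num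
    · refine ⟨⟨chiOne (Fin n), isIrr_chiOne h4⟩, ⟨x, hx, ?_⟩,
        ⟨chiOne (Fin n), isIrr_chiOne h4⟩, fun y => rfl⟩
      simp [chiOne, hf, h1.1]
  constructor
  · have hm : ∃ m : Multiset ℕ, m.sum ≤ n ∧ ((∀ a ∈ m, 3 ≤ a) ∨ n - m.sum = 1 ∧ ∀ a ∈ m, 2 ≤ a) ∧
        Even (m.sum + Multiset.card m) ∧ n - m.sum ∈ ({0, 1, 2, 3} : Finset ℕ) ∧
        ∀ a ∈ m, a ∣ 2 ^ 3 := by
      rcases Nat.even_or_odd n with ⟨r, hr⟩ | ⟨r, hr⟩
      · obtain ⟨k, hk⟩ : ∃ k, k = (if r % 2 = 0 then n else n - 2) / 4 := ⟨_, rfl⟩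
        rcases Nat.even_or_odd k with ⟨l, hl⟩ | ⟨l, hl⟩
        · refine ⟨Multiset.replicate k 4, ?_, Or.inl fun a ha => ?_, ?_, ?_, fun a ha => ?_⟩
          · simp; split_ifs at hk <;> omega
          · rw [Multiset.eq_of_mem_replicate ha]; norm_num
          · simp [Nat.even_iff]; omega
          · simp; split_ifs at hk <;> omega
          · rw [Multiset.eq_of_mem_replicate ha]; norm_num
        · refine ⟨8 ::ₘ Multiset.replicate (k - 2) 4, ?_, Or.inl fun a ha => ?_, ?_, ?_, fun a ha => ?_⟩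
          · simp; split_ifs at hk <;> omega
          · rcases Multiset.mem_cons.1 ha with rfl | ha
            · norm_num
            · rw [Multiset.eq_of_mem_replicate ha]; norm_num
          · simp [Nat.even_iff]; split_ifs at hk <;> omega
          · simp; split_ifs at hk <;> omega
          · rcases Multiset.mem_cons.1 ha with rfl | ha
            · norm_num
            · rw [Multiset.eq_of_mem_replicate ha]; norm_num
      · rcases Nat.even_or_odd r with ⟨l, hl⟩ | ⟨l, hl⟩
        · refine ⟨Multiset.replicate r 2, ?_, Or.inr ⟨?_, fun a ha => ?_⟩, ?_, ?_, fun a ha => ?_⟩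
          · simp; omega
          · simp; omega
          · rw [Multiset.eq_of_mem_replicate ha]
          · simp [Nat.even_iff]; omega
          · simp; omega
          · rw [Multiset.eq_of_mem_replicate ha]; norm_num
        · refine ⟨4 ::ₘ Multiset.replicate (r - 2) 2, ?_, Or.inr ⟨?_, fun a ha => ?_⟩, ?_, ?_,
            fun a ha => ?_⟩
          · simp; omega
          · simp; omega
          · rcases Multiset.mem_cons.1 ha with rfl | ha
            · norm_num
            · rw [Multiset.eq_of_mem_replicate ha]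
          · simp [Nat.even_iff]; omega
          · simp; omega
          · rcases Multiset.mem_cons.1 ha with rfl | ha
            · norm_num
            · rw [Multiset.eq_of_mem_replicate ha]; norm_num
    obtain ⟨m, h1, h2, h3, h4, h5⟩ := hm
    obtain ⟨χ, ⟨x, hx, h0⟩, hψ⟩ := key m h1 h2 h3 h4 _ h5
    obtain ⟨j, -, hj⟩ := (Nat.dvd_prime_pow Nat.prime_two).1 hx.2
    exact ⟨χ, ⟨x, ⟨j, hj⟩, h0⟩, hψ⟩
  · have hk : 0 < n / 3 := by omega
    obtain ⟨χ, ⟨y, hy, h0⟩, hψ⟩ := key (Multiset.replicate (n / 3) 3) (by simp; omega)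
      (Or.inl fun a ha => (Multiset.eq_of_mem_replicate ha).ge) (by simp [Nat.even_iff]; omega)
      (by simp; omega) 3 (fun a ha => by rw [Multiset.eq_of_mem_replicate ha])
    refine ⟨χ, ⟨y, ?_, h0⟩, hψ⟩
    refine (Nat.dvd_prime Nat.prime_three).1 hy.2 |>.resolve_left fun h => ?_
    have : (3 : ℕ) ∣ (Multiset.replicate (n / 3) 3).lcm :=
      Multiset.dvd_lcm (Multiset.mem_replicate.2 ⟨hk.ne', rfl⟩)
    rw [← hy.1, h] at this
    omega

end Cfsg.Agent.S4560
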