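import Cfsg.Statements.S4565
import Cfsg.Agent.Lib.CharDegree.CyclicExtend
import Cfsg.Agent.Lib.CharDegree.Restriction
import Cfsg.Agent.Lib.Char.CosetZeros
-- import your own Cfsg.Agent.* helpers here

set_option autoImplicit false
open Cfsg

namespace Cfsg.Agent.S4565

/-- Let χ be an irreducible character of the finite group H that is fully ramified over the normal subgroup Z: the restriction of χ to Z is e times an irreducible character of Z with e ^ 2 equal to the index of Z. If Z ≠ H, then H/Z has no cyclic subgroup that is its own centralizer. -/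
theorem result {H : Type*} [Group H] [Finite H] (Z : Subgroup H) [Z.Normal] (χ : Cfsg.IrrCharacter H) (hfr : ∃ (θ : Cfsg.IrrCharacter ↥Z) (e : ℕ), e ^ 2 = Z.index ∧ ∀ z : ↥Z, (χ : H → ℂ) z = (e : ℂ) * (θ : ↥Z → ℂ) z) (hZ : Z ≠ ⊤) (C : Subgroup (H ⧸ Z)) (hC : IsCyclic C) : Subgroup.centralizer (C : Set (H ⧸ Z)) ≠ C := by
  classical
  have := Fintype.ofFinite H
  have := Fintype.ofFinite Z
  have := Fintype.ofFinite (Cfsg.IrrCharacter H)
  obtain ⟨θ, e, he, hres⟩ := hfr
  intro hcent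
  have hZn : Z.Normal := inferInstance
  have hcard : (Z.index : ℂ) * Nat.card Z = Nat.card H := by exact_mod_cast Z.index_mul_card
  have he0 : (e : ℂ) ≠ 0 := by
    rintro h0
    rw [Nat.cast_eq_zero.1 h0] at he
    exact Subgroup.index_ne_zero_of_finite (by simpa using he.symm)
  -- `θ` is invariant
  have hinv : ∀ g : H, CfsgLib.Clifford.conjFn hZn (θ : Z → ℂ) g = θ := fun g => funext fun n => by
    refine mul_left_cancel₀ he0 ?_
    rw [← hres, CfsgLib.Clifford.conjFn_apply, ← hres]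
    exact CfsgLib.Char.IsIrr.isClassFunction χ.2 (n : H) g
  have hmχ : Cfsg.classInner (fun n : Z => (χ : H → ℂ) n) (θ : Z → ℂ) = e := by
    rw [show (fun n : Z => (χ : H → ℂ) n) = (e : ℂ) • (θ : Z → ℂ) from funext hres,
      CfsgLib.Char.classInner_smul_left, CfsgLib.Char.classInner_irr_self, mul_one]
  -- `χ` is the only character over `θ`
  have honly : ∀ ξ : Cfsg.IrrCharacter H, ξ ≠ χ →
      Cfsg.classInner (fun n : Z => (ξ : H → ℂ) n) (θ : Z → ℂ) = 0 := by
    intro ξ hξ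
    obtain ⟨m, hm⟩ := CfsgLib.Char.IsChar.exists_sum
      (CfsgLib.Char.isCharacter_indFun Z (CfsgLib.Char.IsIrr.isCharacter θ.2))
    have hmult : ∀ η : Cfsg.IrrCharacter H,
        Cfsg.classInner (fun n : Z => (η : H → ℂ) n) (θ : Z → ℂ) = m η := fun η => by
      have h1 : Cfsg.classInner (Cfsg.indFun Z (θ : Z → ℂ)) (η : H → ℂ) = m η := by
        rw [hm, CfsgLib.Char.classInner_sum_irr]
      rw [CfsgLib.Char.frobenius_reciprocity Z _ (CfsgLib.Char.IsIrr.isClassFunction η.2)] at h1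
      rw [← CfsgLib.Char.classInner_conj_symm, h1, map_natCast]
    have h1 := CfsgLib.Clifford.card_mul_classInner_indFun hZn θ.2
    rw [Nat.card_congr (Equiv.subtypeUnivEquiv hinv), hm, CfsgLib.Char.classInner_sum_right] at h1
    simp only [CfsgLib.Char.classInner_smul_right, CfsgLib.Char.classInner_sum_irr,
      map_natCast] at h1
    rw [← hcard, mul_comm (Z.index : ℂ)] at h1
    have h2 : ∑ η : Cfsg.IrrCharacter H, (m η : ℂ) * m η = (Z.index : ℂ) :=
      mul_left_cancel₀ (Nat.cast_ne_zero.2 Nat.card_pos.ne') h1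
    have h3 : ∑ η : Cfsg.IrrCharacter H, m η * m η = Z.index := by exact_mod_cast h2
    have hχm : m χ = e := by
      have h4 := hmult χ
      rw [hmχ] at h4
      exact_mod_cast h4.symm
    rw [← Finset.add_sum_erase _ _ (Finset.mem_univ χ), hχm, ← sq, he, add_eq_left] at h3
    rw [hmult, Nat.cast_eq_zero]
    exact mul_self_eq_zero.1 ((Finset.sum_eq_zero_iff.1 h3) ξ (by simp [hξ]))
  -- `χ` vanishes off `Z`
  have hvan : ∀ g : H, g ∉ Z → (χ : H → ℂ) g = 0 := by
    intro g hg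
    have h1 := CfsgLib.CharDegree.sum_norm_sq χ
    have h2 := CfsgLib.CharDegree.sum_norm_sq θ
    have h3 : ∑ n : Z, ‖(χ : H → ℂ) n‖ ^ 2 = (Nat.card H : ℝ) := by
      simp only [hres, norm_mul, Complex.norm_natCast, mul_pow]
      rw [← Finset.mul_sum, h2, ← Nat.cast_pow, ← Nat.cast_mul, he, Z.index_mul_card]
    rw [← Finset.sum_filter_add_sum_filter_not Finset.univ (fun x => x ∈ Z),
      Finset.sum_subtype (Finset.univ.filter fun x => x ∈ Z) (p := fun x => x ∈ Z)
        (fun x => by simp) (fun x => ‖(χ : H → ℂ) x‖ ^ 2), h3, add_eq_left] at h1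
    have h4 := (Finset.sum_eq_zero_iff_of_nonneg fun x _ => by positivity).1 h1 g (by simp [hg])
    simpa using h4
  -- the preimage of `C`
  set U := C.comap (QuotientGroup.mk' Z) with hU
  have := Fintype.ofFinite U
  have hZU : Z ≤ U := fun z hz => by
    rw [hU, Subgroup.mem_comap, QuotientGroup.mk'_apply, (QuotientGroup.eq_one_iff z).2 hz]
    exact one_mem C
  obtain ⟨ū, hū⟩ := hC.exists_generator
  obtain ⟨u, hu⟩ := QuotientGroup.mk'_surjective Z (ū : H ⧸ Z)
  have huU : u ∈ U := by rw [hU, Subgroup.mem_comap, hu]; exact ū.2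
  have huZ : u ∉ Z := by
    intro hz
    apply hZ
    have hC1 : C = ⊥ := by
      refine (Subgroup.eq_bot_iff_forall C).2 fun c hc => ?_
      obtain ⟨i, hi⟩ := Subgroup.mem_zpowers_iff.1 (hū ⟨c, hc⟩)
      have h1 := congrArg Subtype.val hi
      simp only [SubgroupClass.coe_zpow] at h1
      rw [← h1, ← hu, QuotientGroup.mk'_apply, (QuotientGroup.eq_one_iff u).2 hz, one_zpow]
    refine eq_top_iff.2 fun x _ => (QuotientGroup.eq_one_iff x).1 (Subgroup.mem_bot.1 ?_)
    rw [← hC1, ← hcent, hC1]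
    exact Subgroup.mem_centralizer_iff.2 fun y hy => by
      rw [Subgroup.mem_bot.1 hy, one_mul, mul_one]
  -- elements commuting with `u` modulo `Z` lie in `U`
  have hcU : ∀ x : H, x⁻¹ * u * x * u⁻¹ ∈ Z → x ∈ U := by
    intro x hx
    rw [hU, Subgroup.mem_comap, ← hcent]
    refine Subgroup.mem_centralizer_iff.2 fun c hc => ?_
    obtain ⟨i, hi⟩ := Subgroup.mem_zpowers_iff.1 (hū ⟨c, hc⟩)
    have h1 := congrArg Subtype.val hi
    simp only [SubgroupClass.coe_zpow] at h1
    rw [← h1, ← hu]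
    refine (Commute.zpow_left ?_ i).eq
    have h2 := (QuotientGroup.eq_one_iff _).2 hx
    simp only [QuotientGroup.mk_mul, QuotientGroup.mk_inv] at h2
    rw [QuotientGroup.mk'_apply, QuotientGroup.mk'_apply]
    show (u : H ⧸ Z) * x = x * u
    rw [mul_inv_eq_one, mul_assoc, inv_mul_eq_iff_eq_mul] at h2
    exact h2
  -- an extension of `θ` to `U`
  set Z' := Z.subgroupOf U with hZ'
  have := Fintype.ofFinite Z'
  let i : Z' ≃* Z := Subgroup.subgroupOfEquivOfLe hZU
  have hcyc : IsCyclic (U ⧸ Z') := by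
    let f : U ⧸ Z' →* C := QuotientGroup.lift Z'
      (((QuotientGroup.mk' Z).comp U.subtype).codRestrict C fun x => x.2) fun x hx =>
        Subtype.ext ((QuotientGroup.eq_one_iff _).2 hx)
    refine isCyclic_of_injective f ((injective_iff_map_eq_one f).2 fun q hq => ?_)
    induction q using QuotientGroup.induction_on with
    | H y =>
      exact (QuotientGroup.eq_one_iff (N := Z') y).2
        ((QuotientGroup.eq_one_iff (N := Z) (y : H)).1 (congrArg Subtype.val hq))
  obtain ⟨d, σ, hσ, hσc⟩ := CfsgLib.Char.IsIrr.comp_surjective i.toMonoidHom i.surjective θ.2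
  have := hσ
  obtain ⟨ρ, hρ⟩ := CfsgLib.CharDegree.exists_extension_of_cyclic σ (fun g n => by
    rw [hσc]
    exact (congrArg (θ : Z → ℂ) (Subtype.ext rfl)).trans (congrFun (hinv g) (i n))) hcyc
  have hρirr : ρ.IsIrreducible := CfsgLib.CharExt.isIrreducible_of_restrict ρ Z'.subtype σ hρ
  let γ : Cfsg.IrrCharacter U := ⟨ρ.character, CfsgLib.Char.isIrrCharacter_rep ρ⟩
  have hγ : ∀ n : Z', (γ : U → ℂ) n = (θ : Z → ℂ) (i n) := fun n => by
    show ρ.character n = _
    rw [Representation.character, hρ]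
    exact congrFun hσc n
  have hγirr : Cfsg.IsIrrCharacter Z' fun n : Z' => (γ : U → ℂ) n := by
    rw [funext hγ]
    exact CfsgLib.Char.IsIrr.comp_surjective i.toMonoidHom i.surjective θ.2
  obtain ⟨z₀, hz₀⟩ : ∃ z : Z', (γ : U → ℂ) ((z : U) * ⟨u, huU⟩) ≠ 0 := by
    by_contra hno
    push Not at hno
    exact (CfsgLib.Char.restriction_reducible_iff Z' γ).2 ⟨⟨u, huU⟩, hno⟩ hγirr
  -- the test function
  let φ : H → ℂ := fun h => if hh : h ∈ U ∧ h * u⁻¹ ∈ Z then (γ : U → ℂ) ⟨h, hh.1⟩ else 0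
  let f : H → ℂ := fun h => ∑ x : H, φ (x⁻¹ * h * x)
  have hf : Cfsg.IsClassFunction H f := fun a b => by
    refine Fintype.sum_equiv (Equiv.mulLeft b⁻¹) _ _ fun x => ?_
    simp only [Equiv.coe_mulLeft]
    congr 1
    group
  set g₀ : H := ((z₀ : U) : H) * u with hg₀
  have hg₀U : g₀ ∈ U := mul_mem (z₀ : U).2 huU
  have hg₀Z : g₀ * u⁻¹ ∈ Z := by rw [hg₀, mul_inv_cancel_right]; exact z₀.2
  have hfg : f g₀ = (Nat.card U : ℂ) * (γ : U → ℂ) ⟨g₀, hg₀U⟩ := by
    have hterm : ∀ x : H, φ (x⁻¹ * g₀ * x) =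
        if x ∈ U then (γ : U → ℂ) ⟨g₀, hg₀U⟩ else 0 := by
      intro x
      by_cases hx : x ∈ U
      · rw [if_pos hx]
        have hmemU : x⁻¹ * g₀ * x ∈ U := mul_mem (mul_mem (inv_mem hx) hg₀U) hx
        have hmemZ : x⁻¹ * g₀ * x * u⁻¹ ∈ Z := by
          refine (QuotientGroup.eq_one_iff _).1 ?_
          have hxu : Commute (u : H ⧸ Z) (x : H ⧸ Z) := by
            obtain ⟨j, hj⟩ := Subgroup.mem_zpowers_iff.1 (hū ⟨(x : H ⧸ Z), hx⟩)
            have h1 := congrArg Subtype.val hj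
            simp only [SubgroupClass.coe_zpow] at h1
            rw [← hu, QuotientGroup.mk'_apply] at h1
            rw [← h1]
            exact (Commute.refl _).zpow_right j
          have hg : (g₀ : H ⧸ Z) = (u : H ⧸ Z) := by
            rw [hg₀, QuotientGroup.mk_mul, (QuotientGroup.eq_one_iff _).2 (show ((z₀ : U) : H) ∈ Z from z₀.2), one_mul]
          simp only [QuotientGroup.mk_mul, QuotientGroup.mk_inv, hg]
          rw [mul_assoc _ (u : H ⧸ Z), hxu.eq, inv_mul_cancel_left, mul_inv_cancel]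
        rw [show φ (x⁻¹ * g₀ * x) = (γ : U → ℂ) ⟨_, hmemU⟩ from dif_pos ⟨hmemU, hmemZ⟩]
        rw [← CfsgLib.Char.IsIrr.isClassFunction γ.2 ⟨g₀, hg₀U⟩ (⟨x, hx⟩ : U)⁻¹]
        exact congrArg _ (Subtype.ext (by simp [mul_assoc]))
      · rw [if_neg hx]
        refine dif_neg fun ⟨h1, h2⟩ => hx (hcU x ?_)
        have h3 : x⁻¹ * u * x * u⁻¹ =
            (x⁻¹ * ((z₀ : U) : H)⁻¹ * (x⁻¹)⁻¹) * (x⁻¹ * g₀ * x * u⁻¹) := by
          rw [hg₀]; group
        rw [h3]
        exact mul_mem (hZn.conj_mem _ (inv_mem z₀.2) x⁻¹) h2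
    show ∑ x : H, φ (x⁻¹ * g₀ * x) = _
    rw [Finset.sum_congr rfl fun x _ => hterm x, ← Finset.sum_filter, Finset.sum_const,
      nsmul_eq_mul, Nat.card_eq_fintype_card, Fintype.card_subtype]
  have hne : f g₀ ≠ 0 := by
    rw [hfg]
    exact mul_ne_zero (Nat.cast_ne_zero.2 Nat.card_pos.ne') hz₀
  -- only `χ` occurs in `f`
  have hperp : ∀ ξ : Cfsg.IrrCharacter H, ξ ≠ χ → Cfsg.classInner f (ξ : H → ℂ) = 0 := by
    intro ξ hξ
    have h1 : ∀ x : H, ∑ h : H, φ (x⁻¹ * h * x) * starRingEnd ℂ ((ξ : H → ℂ) h) =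
        ∑ h : H, φ h * starRingEnd ℂ ((ξ : H → ℂ) h) := fun x => by
      refine Fintype.sum_equiv (MulAut.conj x⁻¹).toEquiv _ _ fun h => ?_
      have hξc := CfsgLib.Char.IsIrr.isClassFunction ξ.2 h x⁻¹
      simp only [inv_inv] at hξc
      simp [hξc]
    have h2 : ∑ h : H, φ h * starRingEnd ℂ ((ξ : H → ℂ) h) = 0 := by
      have h3 : ∑ h : H, φ h * starRingEnd ℂ ((ξ : H → ℂ) h) =
          ∑ z : Z', (γ : U → ℂ) ((z : U) * ⟨u, huU⟩) *
            starRingEnd ℂ ((ξ : H → ℂ) (((z : U) : H) * u)) := by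
        refine (Fintype.sum_of_injective (fun z : Z' => ((z : U) : H) * u) (fun a b hab =>
          Subtype.ext (Subtype.ext (mul_right_cancel hab))) _ _ (fun h hh => ?_) fun z => ?_).symm
        · rw [show φ h = 0 from dif_neg fun ⟨h1, h2⟩ => hh
            ⟨⟨⟨h * u⁻¹, hZU h2⟩, h2⟩, inv_mul_cancel_right h u⟩, zero_mul]
        · rw [show φ (((z : U) : H) * u) = (γ : U → ℂ) ((z : U) * ⟨u, huU⟩) from
            dif_pos ⟨mul_mem (z : U).2 huU, by rw [mul_inv_cancel_right]; exact z.2⟩]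
      rw [h3]
      -- the product character has no trivial constituent on `Z'`
      let prd : U → ℂ := fun x => (γ : U → ℂ) x * starRingEnd ℂ ((ξ : H → ℂ) x)
      have hprd : Cfsg.IsCharacter U prd := CfsgLib.Char.IsChar.mul
        (CfsgLib.Char.IsIrr.isCharacter γ.2)
        (CfsgLib.Char.IsChar.restrict U
          (CfsgLib.Char.IsIrr.isCharacter (CfsgLib.Char.IsIrr.conj ξ.2)))
      have := Fintype.ofFinite (Cfsg.IrrCharacter U)
      obtain ⟨c, hc⟩ := CfsgLib.Char.IsChar.exists_sum hprd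
      have hsum0 : ∑ z : Z', prd z = 0 := by
        have h4 := honly ξ hξ
        rw [← CfsgLib.Char.classInner_conj_symm, map_eq_zero, Cfsg.classInner, mul_eq_zero] at h4
        refine Eq.trans ?_ (h4.resolve_left (by simp [Nat.card_pos.ne']))
        refine Fintype.sum_equiv i.toEquiv _ _ fun z => ?_
        show (γ : U → ℂ) z * _ = _
        rw [hγ]
        rfl
      have hc' : ∀ x : U, prd x = ∑ η, (c η : ℂ) * (η : U → ℂ) x := fun x => by
        rw [congrFun hc x]; simp
      show ∑ z : Z', prd ((z : U) * ⟨u, huU⟩) = 0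
      simp only [hc'] at hsum0 ⊢
      rw [Finset.sum_comm] at hsum0 ⊢
      refine Finset.sum_eq_zero fun η _ => ?_
      rw [← Finset.mul_sum]
      by_cases hη : c η = 0
      · simp [hη]
      refine mul_eq_zero_of_right _ (CfsgLib.CharDegree.sum_coset_eq_zero η Z' ?_ _)
      by_contra htriv
      push Not at htriv
      -- a constituent trivial on `Z'` would contribute positively
      have hpos : ∀ ζ : Cfsg.IrrCharacter U, ∃ b : ℕ,
          ∑ z : Z', (ζ : U → ℂ) z = ((Nat.card Z' * b : ℕ) : ℂ) := fun ζ => by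
        obtain ⟨b, hb⟩ := CfsgLib.Char.IsChar.classInner_eq_natCast
          (CfsgLib.Char.IsChar.restrict Z' (CfsgLib.Char.IsIrr.isCharacter ζ.2))
          (CfsgLib.Char.IsIrr.isCharacter (CfsgLib.Char.trivChar Z').2)
        refine ⟨b, ?_⟩
        rw [Cfsg.classInner, inv_mul_eq_iff_eq_mul₀ (Nat.cast_ne_zero.2 Nat.card_pos.ne')] at hb
        rw [Nat.cast_mul, ← hb]
        exact Finset.sum_congr rfl fun z _ => by simp
      choose b hb using hpos
      simp only [← Finset.mul_sum, hb] at hsum0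
      have hsum0' : ∑ ζ, c ζ * (Nat.card Z' * b ζ) = 0 := by exact_mod_cast hsum0
      have h5 := Finset.sum_eq_zero_iff.1 hsum0' η (Finset.mem_univ _)
      have h6 := hb η
      rw [show Nat.card Z' * b η = 0 from (mul_eq_zero.1 h5).resolve_left hη, Nat.cast_zero,
        Finset.sum_congr rfl fun (z : Z') _ => htriv z z.2, Finset.sum_const, nsmul_eq_mul,
        mul_eq_zero] at h6
      exact h6.elim (by simp) (CfsgLib.Char.IsIrr.apply_one_ne_zero η.2)
    rw [Cfsg.classInner]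
    refine mul_eq_zero_of_right _ ?_
    show ∑ h : H, (∑ x : H, φ (x⁻¹ * h * x)) * starRingEnd ℂ ((ξ : H → ℂ) h) = 0
    simp only [Finset.sum_mul]
    rw [Finset.sum_comm]
    simp only [h1, h2, Finset.sum_const_zero]
  apply hne
  rw [CfsgLib.Char.classFunction_apply_eq_sum hf g₀,
    Finset.sum_eq_single χ (fun ξ _ hξ => by rw [hperp ξ hξ, zero_mul])
      (fun h => absurd (Finset.mem_univ _) h), hvan g₀ fun hm => huZ ?_, mul_zero]
  have h1 := mul_mem (inv_mem (show ((z₀ : U) : H) ∈ Z from z₀.2)) hm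
  rwa [hg₀, inv_mul_cancel_left] at h1

end Cfsg.Agent.S4565
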