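import Cfsg.Statements.S4566
import Cfsg.Agent.Lib.CharAction.PGroup
import Cfsg.Agent.Lib.Char.DegreeCenter

set_option autoImplicit false
open Cfsg

namespace Cfsg.Agent.S4566

/-- Let N be a central subgroup of the finite group G, ψ a faithful irreducible (hence degree-one) character of N, and χ an irreducible character of G whose restriction to N contains ψ. If g ∈ G and some x ∈ G has commutator x⁻¹ g⁻¹ x g in N but different from 1, then χ g = 0. -/
theorem result {G : Type*} [Group G] [Fintype G] (N : Subgroup G) [Fintype N] (hN : N ≤ Subgroup.center G) (ψ : Cfsg.IrrCharacter ↥N) (hfaith : ∀ n : ↥N, (ψ : ↥N → ℂ) n = (ψ : ↥N → ℂ) 1 → n = 1) (χ : Cfsg.IrrCharacter G) (hover : Cfsg.classInner (fun n : ↥N => (χ : G → ℂ) n) (ψ : ↥N → ℂ) ≠ 0) (g x : G) (hcomm : x⁻¹ * g⁻¹ * x * g ∈ N) (hne : x⁻¹ * g⁻¹ * x * g ≠ 1) : (χ : G → ℂ) g = 0 := by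
  classical
  obtain ⟨m, ρ, hρ, hχeq⟩ := χ.2
  have hs : ∀ n : N, ∃ c : ℂ, ρ n = c • LinearMap.id := fun n =>
    CfsgLib.CharIntegral.exists_scalar_of_mem_center ρ (hN n.2)
  choose c hc using hs
  have hmul : ∀ (n : N) (y : G), (χ : G → ℂ) ((n : G) * y) = c n * (χ : G → ℂ) y := fun n y => by
    rw [← hχeq]
    show LinearMap.trace ℂ _ (ρ ((n : G) * y)) = c n * LinearMap.trace ℂ _ (ρ y)
    rw [map_mul, hc n, smul_mul_assoc, map_smul, smul_eq_mul, ← Module.End.one_eq_id, one_mul]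
  have hχ1 : (χ : G → ℂ) 1 ≠ 0 := CfsgLib.Char.IsIrr.apply_one_ne_zero χ.2
  have hone : ∀ n : N, (χ : G → ℂ) n = c n * (χ : G → ℂ) 1 := fun n => by simpa using hmul n 1
  have hc1 : c 1 = 1 := mul_right_cancel₀ hχ1 (by rw [← hone 1, one_mul]; rfl)
  have hcmul : ∀ a b : N, c (a * b) = c a * c b := fun a b => mul_right_cancel₀ hχ1 (by
    rw [← hone (a * b), Subgroup.coe_mul, hmul, hone b, mul_assoc])
  let l : N →* ℂ := { toFun := c, map_one' := hc1, map_mul' := hcmul }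
  let γ : Cfsg.IrrCharacter N := ⟨fun n => (l.toHomUnits n : ℂ),
    CfsgLib.Char.isIrrCharacter_linear l.toHomUnits⟩
  have hγ : ∀ n : N, (γ : N → ℂ) n = c n := fun n => rfl
  have hres : (fun n : N => (χ : G → ℂ) n) = (χ : G → ℂ) 1 • (γ : N → ℂ) := funext fun n => by
    simp [hγ n, hone n, mul_comm]
  have hψ : γ = ψ := by
    by_contra hne'
    apply hover
    rw [hres, CfsgLib.Char.classInner_smul_left, CfsgLib.Char.classInner_irr_of_ne hne', mul_zero]
  set n : N := ⟨_, hcomm⟩ with hn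
  have hne' : c n ≠ 1 := fun h => hne (congrArg Subtype.val (hfaith n (by
    rw [← hψ, hγ, hγ, h, hc1])))
  have hconj : (χ : G → ℂ) (x⁻¹ * g * x) = (χ : G → ℂ) g := by
    simpa using CfsgLib.Char.IsIrr.isClassFunction χ.2 g x⁻¹
  have hval : (χ : G → ℂ) g = c n * (χ : G → ℂ) (x⁻¹ * g * x) := by
    rw [← hmul]
    have hz := Subgroup.mem_center_iff.mp (hN hcomm) (x⁻¹ * g * x)
    refine congrArg (χ : G → ℂ) ?_
    show g = x⁻¹ * g⁻¹ * x * g * (x⁻¹ * g * x)
    rw [← hz]; group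
  rw [hconj] at hval
  by_contra hg0
  exact hne' (mul_right_cancel₀ hg0 (by rw [← hval, one_mul]))

end Cfsg.Agent.S4566
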