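import Cfsg.Statements.S4567
import Cfsg.Agent.S4566
import Cfsg.Agent.Lib.Char.AbelianInertia
import Cfsg.Agent.Lib.Blocks.MajorSubsection
import Cfsg.Agent.Lib.Char.CliffordRestrict
-- import your own Cfsg.Agent.* helpers here

set_option autoImplicit false
open Cfsg

namespace Cfsg.Agent.S4567

/-- Let N be a central subgroup of the finite group G and ψ a faithful irreducible (hence degree-one) character of N. Call a coset g N special when every x ∈ G whose commutator x⁻¹ g⁻¹ x g lies in N actually commutes with g (this depends only on the coset). Then the number of irreducible characters of G whose restriction to N contains ψ equals the number of conjugacy classes of G/N consisting of special cosets. -/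
theorem result {G : Type*} [Group G] [Fintype G] (N : Subgroup G) [N.Normal] [Fintype N] (hN : N ≤ Subgroup.center G) (ψ : Cfsg.IrrCharacter ↥N) (hfaith : ∀ n : ↥N, (ψ : ↥N → ℂ) n = (ψ : ↥N → ℂ) 1 → n = 1) : Nat.card {χ : Cfsg.IrrCharacter G // Cfsg.classInner (fun n : ↥N => (χ : G → ℂ) n) (ψ : ↥N → ℂ) ≠ 0} = Nat.card {C : ConjClasses (G ⧸ N) // ∃ g : G, ConjClasses.mk (g : G ⧸ N) = C ∧ ∀ x : G, x⁻¹ * g⁻¹ * x * g ∈ N → x * g = g * x} := by
  classical
  have := Fintype.ofFinite (G ⧸ N)
  have := Fintype.ofFinite (Cfsg.IrrCharacter G)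
  have : Finite (ConjClasses (G ⧸ N)) := Finite.of_surjective _ ConjClasses.mk_surjective
  have := Fintype.ofFinite (ConjClasses (G ⧸ N))
  have hNn : N.Normal := inferInstance
  have hG0 : (Nat.card G : ℂ) ≠ 0 := Nat.cast_ne_zero.2 Nat.card_pos.ne'
  have hN0 : (Nat.card N : ℂ) ≠ 0 := Nat.cast_ne_zero.2 Nat.card_pos.ne'
  let good : G → Prop := fun g => ∀ x : G, x⁻¹ * g⁻¹ * x * g ∈ N → x * g = g * x
  let ov : Cfsg.IrrCharacter G → Prop := fun χ =>
    Cfsg.classInner (fun n : N => (χ : G → ℂ) n) (ψ : N → ℂ) ≠ 0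
  have hψ1 : (ψ : N → ℂ) 1 = 1 := CfsgLib.Clifford.apply_one_eq_one_of_commute
    (fun a b => Subtype.ext (Subgroup.mem_center_iff.1 (hN b.2) a)) ψ
  -- the projection of a character to `ψ` on a coset
  have hproj : ∀ (χ : Cfsg.IrrCharacter G) (g : G),
      (Nat.card N : ℂ)⁻¹ * ∑ n : N, starRingEnd ℂ ((ψ : N → ℂ) n) * (χ : G → ℂ) (g * n) =
        if ov χ then (χ : G → ℂ) g else 0 := by
    intro χ g
    have hm : Cfsg.classInner (fun n : N => (χ : G → ℂ) n) (ψ : N → ℂ) =
        if ov χ then (χ : G → ℂ) 1 else 0 := by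
      by_cases ho : ov χ
      · rw [if_pos ho]
        have h := congrFun (CfsgLib.Clifford.restrict_eq_smul_orbit_sum hNn χ.2 ψ.2 ho) 1
        have hO : Finset.univ.image (CfsgLib.Clifford.conjFn hNn (ψ : N → ℂ)) = {(ψ : N → ℂ)} := by
          refine Finset.eq_singleton_iff_unique_mem.2 ⟨Finset.mem_image.2 ⟨1, Finset.mem_univ _,
            CfsgLib.Clifford.conjFn_one hNn _⟩, fun f hf => ?_⟩
          obtain ⟨y, -, rfl⟩ := Finset.mem_image.1 hf
          funext n
          rw [CfsgLib.Clifford.conjFn_apply]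
          refine congrArg _ (Subtype.ext ?_)
          show y * (n : G) * y⁻¹ = n
          rw [Subgroup.mem_center_iff.1 (hN n.2) y, mul_inv_cancel_right]
        rw [hO, Finset.sum_singleton, Pi.smul_apply, smul_eq_mul, hψ1, mul_one,
          OneMemClass.coe_one] at h
        exact h.symm
      · rw [if_neg ho]; exact not_not.1 ho
    refine mul_right_cancel₀ (CfsgLib.Char.IsIrr.apply_one_ne_zero χ.2) ?_
    rw [mul_assoc, Finset.sum_mul]
    have h1 : ∀ n : N, starRingEnd ℂ ((ψ : N → ℂ) n) * (χ : G → ℂ) (g * n) * (χ : G → ℂ) 1 =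
        (χ : G → ℂ) g * ((χ : G → ℂ) n * starRingEnd ℂ ((ψ : N → ℂ) n)) := fun n => by
      have hz : ∀ y : G, y * (n : G) = n * y := fun y => Subgroup.mem_center_iff.1 (hN n.2) y
      rw [hz, mul_assoc, CfsgLib.Blocks.apply_central_mul χ hz g]
      ring
    rw [Finset.sum_congr rfl fun n _ => h1 n, ← Finset.mul_sum, mul_left_comm,
      show (Nat.card N : ℂ)⁻¹ * ∑ n : N, (χ : G → ℂ) n * starRingEnd ℂ ((ψ : N → ℂ) n) =
        Cfsg.classInner (fun n : N => (χ : G → ℂ) n) (ψ : N → ℂ) from rfl]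
    refine (congrArg ((χ : G → ℂ) g * ·) hm).trans ?_
    by_cases ho : ov χ <;> simp [ho]
  -- the local sums
  have hloc : ∀ g : G, ∑ χ ∈ Finset.univ.filter ov, (χ : G → ℂ) g * starRingEnd ℂ ((χ : G → ℂ) g)
      = if good g then (Nat.card N : ℂ)⁻¹ * Nat.card (Subgroup.centralizer ({g} : Set G)) else 0 := by
    intro g
    by_cases hg : good g
    · rw [if_pos hg, Finset.sum_filter]
      rw [Finset.sum_congr rfl
        (g := fun χ : Cfsg.IrrCharacter G => ((Nat.card N : ℂ)⁻¹ *
          ∑ n : N, starRingEnd ℂ ((ψ : N → ℂ) n) * (χ : G → ℂ) (g * n)) *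
          starRingEnd ℂ ((χ : G → ℂ) g))
        fun χ _ => by
          rw [hproj]
          by_cases ho : ov χ
          · rw [if_pos ho, if_pos ho]
          · rw [if_neg ho, if_neg ho, zero_mul]]
      simp only [mul_assoc, Finset.sum_mul, ← Finset.mul_sum]
      congr 1
      rw [Finset.sum_comm, Finset.sum_eq_single (1 : N)]
      · rw [← Finset.mul_sum, OneMemClass.coe_one, mul_one,
          CfsgLib.Char.column_orthogonality g g, if_pos (IsConj.refl g), hψ1, map_one, one_mul]
      · intro n _ hn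
        rw [← Finset.mul_sum, CfsgLib.Char.column_orthogonality, if_neg, mul_zero]
        intro hc
        obtain ⟨y, hy⟩ := isConj_iff.1 hc.symm
        apply hn
        have hz := Subgroup.mem_center_iff.1 (hN n.2) g
        have hmem : y⁻¹⁻¹ * g⁻¹ * y⁻¹ * g = ((n : G))⁻¹ := by
          rw [inv_inv, show y * g⁻¹ * y⁻¹ = (y * g * y⁻¹)⁻¹ by group, hy, mul_inv_rev,
            inv_mul_cancel_right]
        have h := hg y⁻¹ (by rw [hmem]; exact inv_mem n.2)
        refine Subtype.ext (mul_left_cancel (a := g) ?_)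
        rw [← hy, OneMemClass.coe_one, mul_one]
        have h2 : Commute y g := by
          have h3 : Commute y⁻¹ g := h
          simpa using h3.inv_left
        rw [h2.eq, mul_inv_cancel_right]
      · exact fun h => absurd (Finset.mem_univ _) h
    · rw [if_neg hg]
      simp only [good, not_forall] at hg
      obtain ⟨x, hx, hne⟩ := hg
      refine Finset.sum_eq_zero fun χ hχ => ?_
      rw [Cfsg.Agent.S4566.result N hN ψ hfaith χ (Finset.mem_filter.1 hχ).2 g x hx fun h1 => hne
        (by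
          rw [mul_assoc, mul_assoc, inv_mul_eq_one] at h1
          conv_rhs => rw [h1]
          group), zero_mul]
  -- total
  have htot : ((Finset.univ.filter ov).card : ℂ) * Nat.card G =
      ∑ g : G, if good g then (Nat.card N : ℂ)⁻¹ * Nat.card (Subgroup.centralizer ({g} : Set G))
        else 0 := by
    rw [← Finset.sum_congr rfl fun g _ => hloc g, Finset.sum_comm,
      Finset.sum_congr rfl fun (χ : Cfsg.IrrCharacter G) _ => show
        ∑ g : G, (χ : G → ℂ) g * starRingEnd ℂ ((χ : G → ℂ) g) = (Nat.card G : ℂ) by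
          have h := CfsgLib.Char.classInner_irr_self χ
          rwa [Cfsg.classInner, inv_mul_eq_iff_eq_mul₀ hG0, mul_one] at h,
      Finset.sum_const, nsmul_eq_mul]
  let Gd : ConjClasses (G ⧸ N) → Prop := fun C => ∃ g : G, ConjClasses.mk (g : G ⧸ N) = C ∧ good g
  -- goodness depends only on the class
  have hgood : ∀ a b : G, good a → IsConj (a : G ⧸ N) (b : G ⧸ N) → good b := by
    intro a b ha hab x hx
    obtain ⟨y, hy⟩ := isConj_iff.1 hab
    obtain ⟨y, rfl⟩ := QuotientGroup.mk_surjective y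
    rw [← QuotientGroup.mk_inv, ← QuotientGroup.mk_mul, ← QuotientGroup.mk_mul,
      QuotientGroup.eq] at hy
    have hb : ∃ n ∈ N, b = y * a * y⁻¹ * n := ⟨_, hy, (mul_inv_cancel_left _ _).symm⟩
    obtain ⟨n, hn, rfl⟩ := hb
    have hz : ∀ w : G, w * n = n * w := fun w => Subgroup.mem_center_iff.1 (hN hn) w
    have hni : ∀ w : G, w * n⁻¹ = n⁻¹ * w := fun w =>
      Subgroup.mem_center_iff.1 (hN (inv_mem hn)) w
    have key : x⁻¹ * (y * a * y⁻¹ * n)⁻¹ * x * (y * a * y⁻¹ * n) =
        y * ((y⁻¹ * x * y)⁻¹ * a⁻¹ * (y⁻¹ * x * y) * a) * y⁻¹ := by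
      have h1 : (y * a * y⁻¹ * n)⁻¹ = (y * a * y⁻¹)⁻¹ * n⁻¹ := by
        rw [mul_inv_rev, hni]
      rw [h1]
      calc x⁻¹ * ((y * a * y⁻¹)⁻¹ * n⁻¹) * x * (y * a * y⁻¹ * n)
          = x⁻¹ * (y * a * y⁻¹)⁻¹ * (n⁻¹ * (x * (y * a * y⁻¹))) * n := by group
        _ = x⁻¹ * (y * a * y⁻¹)⁻¹ * ((x * (y * a * y⁻¹)) * n⁻¹) * n := by rw [hni (x * _)]
        _ = _ := by group
    rw [key] at hx
    have h2 := ha (y⁻¹ * x * y) (by
      have := hNn.conj_mem _ hx y⁻¹
      simpa [mul_assoc] using this)
    calc x * (y * a * y⁻¹ * n) = y * (y⁻¹ * x * y * a) * y⁻¹ * n := by group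
      _ = y * (a * (y⁻¹ * x * y)) * y⁻¹ * n := by rw [h2]
      _ = y * a * y⁻¹ * (x * n) := by group
      _ = y * a * y⁻¹ * n * x := by rw [hz x, ← mul_assoc]
  -- centralizers of good elements
  have hcent : ∀ g : G, good g → Nat.card (Subgroup.centralizer ({g} : Set G)) =
      Nat.card N * Nat.card (Subgroup.centralizer ({(g : G ⧸ N)} : Set (G ⧸ N))) := by
    intro g hg
    have hcm : Subgroup.centralizer ({g} : Set G) =
        (Subgroup.centralizer ({(g : G ⧸ N)} : Set (G ⧸ N))).comap (QuotientGroup.mk' N) := by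
      ext x
      simp only [Subgroup.mem_comap, QuotientGroup.mk'_apply,
        CfsgLib.Blocks.mem_centralizer_singleton]
      refine ⟨fun hx => hx.map (QuotientGroup.mk' N), fun hx => hg x ?_⟩
      refine (QuotientGroup.eq_one_iff _).1 ?_
      simp only [QuotientGroup.mk_mul, QuotientGroup.mk_inv]
      rw [mul_assoc, hx.eq]
      group
    rw [hcm]
    have h1 := ((Subgroup.centralizer ({(g : G ⧸ N)} : Set (G ⧸ N))).comap
      (QuotientGroup.mk' N)).card_mul_index
    rw [Subgroup.index_comap_of_surjective _ (QuotientGroup.mk'_surjective N),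
      ← N.card_mul_index, Subgroup.index_eq_card N,
      ← (Subgroup.centralizer ({(g : G ⧸ N)} : Set (G ⧸ N))).card_mul_index, ← mul_assoc] at h1
    exact mul_right_cancel₀ Subgroup.index_ne_zero_of_finite h1
  -- the sum ov each class
  have hclass : ∀ C : ConjClasses (G ⧸ N),
      ∑ g ∈ Finset.univ.filter (fun g : G => ConjClasses.mk (g : G ⧸ N) = C),
        (if good g then (Nat.card N : ℂ)⁻¹ * Nat.card (Subgroup.centralizer ({g} : Set G)) else 0)
      = if Gd C then (Nat.card G : ℂ) else 0 := by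
    intro C
    by_cases hC : Gd C
    · obtain ⟨a, ha, hga⟩ := hC
      rw [if_pos ⟨a, ha, hga⟩]
      have hall : ∀ g ∈ Finset.univ.filter (fun g : G => ConjClasses.mk (g : G ⧸ N) = C),
          (if good g then (Nat.card N : ℂ)⁻¹ * Nat.card (Subgroup.centralizer ({g} : Set G)) else 0)
            = (Nat.card (Subgroup.centralizer ({(a : G ⧸ N)} : Set (G ⧸ N))) : ℂ) := by
        intro g hg
        have hconj : IsConj (a : G ⧸ N) (g : G ⧸ N) := ConjClasses.mk_eq_mk_iff_isConj.1
          (ha.trans (Finset.mem_filter.1 hg).2.symm)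
        have hgg := hgood a g hga hconj
        rw [if_pos hgg, hcent g hgg, Nat.cast_mul, inv_mul_cancel_left₀ hN0, Nat.cast_inj]
        have e1 := CfsgLib.Char.card_carrier_eq_index (a : G ⧸ N)
        have e2 := CfsgLib.Char.card_carrier_eq_index (g : G ⧸ N)
        rw [ConjClasses.mk_eq_mk_iff_isConj.2 hconj] at e1
        have h1 := (Subgroup.centralizer ({(a : G ⧸ N)} : Set (G ⧸ N))).card_mul_index
        have h2 := (Subgroup.centralizer ({(g : G ⧸ N)} : Set (G ⧸ N))).card_mul_index
        rw [← e1, ← h2, ← e2] at h1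
        exact (mul_right_cancel₀ (by rw [e2]; exact Subgroup.index_ne_zero_of_finite) h1).symm
      rw [Finset.sum_congr rfl hall, Finset.sum_const, nsmul_eq_mul]
      have hc : (Finset.univ.filter (fun g : G => ConjClasses.mk (g : G ⧸ N) = C)).card =
          Nat.card (ConjClasses.mk (a : G ⧸ N)).carrier * Nat.card N := by
        rw [← Fintype.card_subtype, ← Nat.card_eq_fintype_card, ha,
          mul_comm, ← Nat.card_prod]
        exact Nat.card_congr ((Equiv.subtypeEquivRight fun g => by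
          simp only [Set.mem_preimage, ConjClasses.mem_carrier_iff_mk_eq]).trans
          (QuotientGroup.preimageMkEquivSubgroupProdSet N C.carrier))
      rw [hc, CfsgLib.Char.card_carrier_eq_index, ← Nat.cast_mul, Nat.cast_inj,
        mul_right_comm, Subgroup.index_mul_card, ← Subgroup.index_eq_card, Subgroup.index_mul_card]
    · rw [if_neg hC]
      exact Finset.sum_eq_zero fun g hg => if_neg fun h => hC ⟨g, (Finset.mem_filter.1 hg).2, h⟩
  rw [← Finset.sum_fiberwise Finset.univ (fun g : G => ConjClasses.mk (g : G ⧸ N)),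
    Finset.sum_congr rfl fun C _ => hclass C, ← Finset.sum_filter, Finset.sum_const, nsmul_eq_mul]
    at htot
  rw [Nat.card_eq_fintype_card, Nat.card_eq_fintype_card, Fintype.card_subtype,
    Fintype.card_subtype]
  exact_mod_cast mul_right_cancel₀ hG0 htot

end Cfsg.Agent.S4567
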