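import Cfsg.Statements.S4571
import Cfsg.Agent.Lib.Blocks.CentralizerProduct
import Cfsg.Agent.Lib.CharAction.Rank
-- import your own Cfsg.Agent.* helpers here

set_option autoImplicit false
open Cfsg CfsgLib.Blocks
open scoped ComplexConjugate

namespace Cfsg.Agent.S4571

/-- Let Q be a normal p-subgroup of the finite group G with G = Q·C_G(Q), and M a maximal ideal of the algebraic integers containing p. Then the principal p-blocks of G and of G/Q have the same p-regular rank (the same number of irreducible Brauer characters). -/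
theorem result {G : Type*} [Group G] [Finite G] (p : ℕ) [Fact p.Prime] (M : Ideal Cfsg.AlgInt) (hM : Cfsg.IsPModular p M) (Q : Subgroup G) [Q.Normal] (hQ : IsPGroup p Q) (hsup : Q ⊔ Subgroup.centralizer (Q : Set G) = ⊤) : Cfsg.blockRank p (Cfsg.principalBlock M G) = Cfsg.blockRank p (Cfsg.principalBlock M (G ⧸ Q)) := by
  classical
  have := hM.2.1.isPrime
  have := Fintype.ofFinite G
  have := Fintype.ofFinite (G ⧸ Q)
  have := Fintype.ofFinite (IrrCharacter (G ⧸ Q))
  have hp : p.Prime := Fact.out
  obtain ⟨k, hk⟩ := exists_index_centralizer hsup hQ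
  have hG0 := isPBlock_principalBlock (G := G) (M := M)
  have hQ0 := isPBlock_principalBlock (G := G ⧸ Q) (M := M)
  have htriv : inflate Q (CfsgLib.Char.trivChar (G ⧸ Q)) = CfsgLib.Char.trivChar G :=
    Subtype.ext (funext fun g => rfl)
  have hmem : ∀ η : IrrCharacter (G ⧸ Q),
      η ∈ principalBlock M (G ⧸ Q) ↔ inflate Q η ∈ principalBlock M G := by
    intro η
    constructor
    · intro h
      have := sameBlock_inflate Q (M := M) (IsPBlock.sameBlock hQ0 trivChar_mem_principalBlock h)
      rw [htriv] at this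
      exact this
    · intro h
      exact sameBlock_of_inflate_of_pGroup hM Q hQ hk
        (χ := CfsgLib.Char.trivChar (G ⧸ Q)) (ψ := η) (by rw [htriv]; exact h)
  let L : (G ⧸ Q → ℂ) →ₗ[ℂ] (G → ℂ) :=
    { toFun := fun f x => if p ∣ orderOf x then 0 else f (x : G ⧸ Q)
      map_add' := fun f g => funext fun x => by
        simp only [Pi.add_apply]
        split_ifs <;> simp
      map_smul' := fun c f => funext fun x => by
        simp only [Pi.smul_apply, RingHom.id_apply]
        split_ifs <;> simp }
  -- regular lifts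
  have hlift : ∀ q : G ⧸ Q, ¬ p ∣ orderOf q → ∃ y : G, ¬ p ∣ orderOf y ∧ (y : G ⧸ Q) = q := by
    intro q hq
    obtain ⟨g, rfl⟩ := QuotientGroup.mk_surjective q
    obtain ⟨u, hu⟩ := exists_pPart hp g
    obtain ⟨y, rfl, hc, ⟨i, hi⟩, hy⟩ := hu
    refine ⟨y, hy, ?_⟩
    have hu1 : (u : G ⧸ Q) = 1 := by
      have hcq : Commute (u : G ⧸ Q) (y : G ⧸ Q) := hc.map (QuotientGroup.mk' Q)
      have hdu : orderOf (u : G ⧸ Q) ∣ p ^ i := hi ▸ orderOf_map_dvd (QuotientGroup.mk' Q) u
      obtain ⟨l, -, hl⟩ := (Nat.dvd_prime_pow hp).1 hdu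
      rcases Nat.eq_zero_or_pos l with h0 | h0
      · exact orderOf_eq_one_iff.1 (by rw [hl, h0, pow_zero])
      exfalso
      refine hq ?_
      rw [QuotientGroup.mk_mul, hcq.orderOf_mul_eq_mul_orderOf_of_coprime, hl]
      · exact (dvd_pow_self p h0.ne').mul_right _
      · rw [hl]
        exact Nat.Coprime.coprime_dvd_right (orderOf_map_dvd (QuotientGroup.mk' Q) y)
          (((Nat.Prime.coprime_iff_not_dvd hp).2 hy).pow_left l)
    rw [QuotientGroup.mk_mul, hu1, one_mul]
  have hmk : ∀ x : G, ¬ p ∣ orderOf x → ¬ p ∣ orderOf (x : G ⧸ Q) := fun x hx hd =>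
    hx (hd.trans (orderOf_map_dvd (QuotientGroup.mk' Q) x))
  set S := Submodule.span ℂ ((fun χ : IrrCharacter (G ⧸ Q) =>
    pRegularPart p (χ : G ⧸ Q → ℂ)) '' principalBlock M (G ⧸ Q)) with hS
  have hmap : S.map L = Submodule.span ℂ ((fun χ : IrrCharacter G =>
      pRegularPart p (χ : G → ℂ)) '' principalBlock M G) := by
    rw [hS, Submodule.map_span, ← Set.image_comp]
    refine le_antisymm (Submodule.span_le.2 ?_) (Submodule.span_le.2 ?_)
    · rintro _ ⟨η, hη, rfl⟩
      refine Submodule.subset_span ⟨inflate Q η, (hmem η).1 hη, funext fun x => ?_⟩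
      simp only [Function.comp_apply, CfsgLib.CharAction.pRegularPart_eq_regCut,
        CfsgLib.Char.regCut, L, LinearMap.coe_mk, AddHom.coe_mk, inflate_apply]
      by_cases hx : p ∣ orderOf x
      · simp [hx]
      · simp [hx, hmk x hx]
    · rintro _ ⟨χ, hχ, rfl⟩
      let F : G ⧸ Q → ℂ := fun q =>
        ∑ x ∈ Finset.univ.filter (fun x : G => ¬ p ∣ orderOf x ∧ (x : G ⧸ Q) = q), (χ : G → ℂ) x
      have hF : IsClassFunction (G ⧸ Q) F := by
        intro q c
        obtain ⟨g, rfl⟩ := QuotientGroup.mk_surjective c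
        refine (Finset.sum_equiv (MulAut.conj g).toEquiv (fun x => ?_) fun x _ => ?_).symm
        · simp only [Finset.mem_filter, Finset.mem_univ, true_and, MulEquiv.toEquiv_eq_coe,
            MulEquiv.coe_toEquiv, MulEquiv.orderOf_eq]
          refine and_congr_right fun _ => ⟨fun e => ?_, fun e => ?_⟩
          · rw [MulAut.conj_apply, QuotientGroup.mk_mul, QuotientGroup.mk_mul,
              QuotientGroup.mk_inv, e]
          · rw [MulAut.conj_apply, QuotientGroup.mk_mul, QuotientGroup.mk_mul,
              QuotientGroup.mk_inv] at e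
            exact mul_left_cancel (mul_right_cancel e)
        · exact (CfsgLib.Char.IsIrr.isClassFunction χ.2 x g).symm
      have hzero : ∀ η : IrrCharacter (G ⧸ Q), η ∉ principalBlock M (G ⧸ Q) →
          classInner F (η : G ⧸ Q → ℂ) = 0 := by
        intro η hη
        rw [classInner]
        refine mul_eq_zero_of_right _ ?_
        have h0 := sum_regular_eq_zero hM (χ := χ) (ψ := inflate Q η) fun hs =>
          hη ((hmem η).2 (by rw [IsPBlock.eq_blockOf hG0 hχ]; exact hs))
        rw [← h0, ← Finset.sum_fiberwise (Finset.univ.filter fun x : G => ¬ p ∣ orderOf x)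
          (fun x : G => (x : G ⧸ Q))]
        refine Finset.sum_congr rfl fun q _ => ?_
        simp only [F, Finset.sum_mul, Finset.filter_filter]
        refine Finset.sum_congr rfl fun x hx => ?_
        rw [CfsgLib.Char.IsIrr.map_inv (inflate Q η).2, inflate_apply,
          (Finset.mem_filter.1 hx).2.2]
      have hFreg : ∀ q : G ⧸ Q, p ∣ orderOf q → F q = 0 := fun q hq =>
        Finset.sum_eq_zero fun x hx => by
          obtain ⟨-, hx1, hx2⟩ := Finset.mem_filter.1 hx
          exact absurd (hx2 ▸ hq) (hmk x hx1)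
      have hFS : F ∈ S := by
        have hexp : F = ∑ η : IrrCharacter (G ⧸ Q),
            classInner F (η : G ⧸ Q → ℂ) • pRegularPart p (η : G ⧸ Q → ℂ) := by
          funext q
          rw [Finset.sum_apply]
          by_cases hq : p ∣ orderOf q
          · rw [hFreg q hq]
            simp [CfsgLib.CharAction.pRegularPart_eq_regCut, CfsgLib.Char.regCut, hq]
          · conv_lhs => rw [CfsgLib.Char.classFunction_apply_eq_sum hF q]
            simp [CfsgLib.CharAction.pRegularPart_eq_regCut, CfsgLib.Char.regCut, hq]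
        rw [hexp]
        refine Submodule.sum_mem _ fun η _ => ?_
        by_cases hη : η ∈ principalBlock M (G ⧸ Q)
        · exact Submodule.smul_mem _ _ (Submodule.subset_span ⟨η, hη, rfl⟩)
        · rw [hzero η hη, zero_smul]
          exact Submodule.zero_mem _
      rw [Set.image_comp, ← Submodule.map_span, ← hS]
      refine ⟨F, hFS, funext fun x => ?_⟩
      simp only [L, LinearMap.coe_mk, AddHom.coe_mk, CfsgLib.CharAction.pRegularPart_eq_regCut,
        CfsgLib.Char.regCut]
      split_ifs with hx
      · rfl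
      · refine Finset.sum_eq_single x (fun z hz hne => ?_) fun h => absurd (by simp [hx]) h
        obtain ⟨-, hz1, hz2⟩ := Finset.mem_filter.1 hz
        refine absurd ?_ hne
        have hu : x⁻¹ * z ∈ Q := QuotientGroup.eq.1 hz2.symm
        have := eq_one_of_regular_mul Q hQ hk hu hx (by rwa [mul_inv_cancel_left])
        exact (inv_mul_eq_one.1 this).symm
  rw [blockRank, blockRank, ← hmap, ← hS]
  have hinj : Function.Injective (L.domRestrict S) := by
    rw [← LinearMap.ker_eq_bot, LinearMap.ker_eq_bot']
    rintro ⟨f, hf⟩ h0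
    refine Subtype.ext (funext fun q => ?_)
    by_cases hq : p ∣ orderOf q
    · clear h0
      induction hf using Submodule.span_induction with
      | mem f hf =>
        obtain ⟨η, -, rfl⟩ := hf
        simp [CfsgLib.CharAction.pRegularPart_eq_regCut, CfsgLib.Char.regCut, hq]
      | zero => rfl
      | add a b _ _ ha hb => simp_all
      | smul c a _ ha => simp_all
    · obtain ⟨y, hy, rfl⟩ := hlift q hq
      have := congrFun h0 y
      simpa [L, hy] using this
  rw [← LinearMap.range_domRestrict, LinearMap.finrank_range_of_inj hinj]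

end Cfsg.Agent.S4571
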