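import Cfsg.Statements.S4573
import Cfsg.Agent.Lib.Char.MonomialWreath
import Cfsg.Agent.Lib.Orders.SelfNormalizingSolvable

set_option autoImplicit false
universe u
open Cfsg

namespace Cfsg.Agent.S4573

/-- Every finite solvable group is isomorphic to a subgroup of a finite M-group, a group each of whose irreducible characters is induced from a homomorphism of some subgroup into ℂˣ. -/
theorem result {G : Type u} [Group G] [Finite G] (hsolv : Group.IsSolvable G) : ∃ (M : Type u) (_ : Group M) (_ : Fintype M), (∀ χ : M → ℂ, Cfsg.IsIrrCharacter M χ → (∃ (H : Subgroup M) (lam : ↥H →* ℂˣ), χ = Cfsg.indFun H (fun h => (lam h : ℂ)))) ∧ ∃ f : G →* M, Function.Injective f := by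
  classical
  induction hn : Nat.card G using Nat.strongRecOn generalizing G with
  | ind m ih =>
    rcases subsingleton_or_nontrivial G with hs | hs
    · have := Fintype.ofFinite G
      exact ⟨G, inferInstance, this, fun χ hχ => CfsgLib.Clifford.isMonomial_of_isNilpotent χ hχ,
        MonoidHom.id G, Function.injective_id⟩
    · obtain ⟨N, p, hp, hN, hidx⟩ := CfsgLib.Orders.SelfNorm.exists_prime_index_normal (G := G)
      have hlt : Nat.card N < m := by
        rw [← hn, ← N.card_mul_index, hidx]
        exact lt_mul_of_one_lt_right Nat.card_pos hp.one_lt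
      obtain ⟨M, _, _, hM, f, hf⟩ := ih _ hlt (G := N) inferInstance rfl
      have : Fact p.Prime := ⟨hp⟩
      have hQ : Nat.card (Multiplicative (ZMod p)) = p := by simp
      have hGN : Nat.card (G ⧸ N) = p := hidx
      have := isCyclic_of_prime_card hGN
      obtain ⟨e⟩ : Nonempty (G ⧸ N ≃* Multiplicative (ZMod p)) :=
        ⟨mulEquivOfCyclicCardEq (hGN.trans hQ.symm)⟩
      let π : G →* Multiplicative (ZMod p) := e.toMonoidHom.comp (QuotientGroup.mk' N)
      have hπs : Function.Surjective π := e.surjective.comp (QuotientGroup.mk'_surjective N)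
      have hπ : ∀ g, π g = 1 ↔ g ∈ N := fun g =>
        (map_eq_one_iff e e.injective).trans (QuotientGroup.eq_one_iff g)
      let s := Function.surjInv hπs
      have hs' : ∀ q, π (s q) = q := Function.surjInv_eq hπs
      have hmem : ∀ g q, (s q)⁻¹ * g * s ((π g)⁻¹ * q) ∈ N := fun g q => by
        rw [← hπ, map_mul, map_mul, map_inv, hs', hs']
        group
      let φ : G →* M ≀ᵣ Multiplicative (ZMod p) := MonoidHom.mk'
        (fun g => ⟨fun q => f ⟨_, hmem g q⟩, π g⟩) fun g h => RegularWreathProduct.ext
          (funext fun q => by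
            simp only [RegularWreathProduct.mul_left, Pi.mul_apply]
            rw [← map_mul]
            refine congrArg f (Subtype.ext ?_)
            simp only [map_mul, mul_inv_rev, Subgroup.coe_mul, mul_assoc]
            group)
          (map_mul π g h)
      have := Fintype.ofFinite (M ≀ᵣ Multiplicative (ZMod p))
      refine ⟨M ≀ᵣ Multiplicative (ZMod p), inferInstance, this,
        CfsgLib.MonomialWreath.isMonomial_wreath hM hp hQ, φ,
        (injective_iff_map_eq_one φ).2 fun g hg => ?_⟩
      have h1 : π g = 1 := congrArg RegularWreathProduct.right hg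
      have h2 := congrFun (congrArg RegularWreathProduct.left hg) 1
      have h3 : (s 1)⁻¹ * g * s ((π g)⁻¹ * 1) = 1 :=
        congrArg Subtype.val ((map_eq_one_iff f hf).1 h2)
      rw [h1, inv_one, one_mul, mul_assoc] at h3
      simpa [inv_mul_eq_one] using (eq_inv_of_mul_eq_one_right h3)

end Cfsg.Agent.S4573
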