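import Cfsg.Statements.S4574
import Cfsg.Agent.Lib.CharAction.Galois
import Cfsg.Agent.Lib.Char.Integral

set_option autoImplicit false
open Cfsg

namespace Cfsg.Agent.S4574

/-- Let χ be an irreducible character of the finite group G, of degree d, and let Z(χ) be the set of elements g with |χ g| = d (the centre of χ). Then χ vanishes on at least (d ^ 2 - 1) · |Z(χ)| elements of G, with equality when every value |χ g| is 0, 1 or d. -/
theorem result {G : Type*} [Group G] [Fintype G] [DecidableEq G] (χ : G → ℂ) (hχ : Cfsg.IsIrrCharacter G χ) : (Cfsg.charDegree χ ^ 2 - 1) * (Finset.univ.filter (fun g : G => ‖χ g‖ = (Cfsg.charDegree χ : ℝ))).card ≤ (Finset.univ.filter (fun g : G => χ g = 0)).card ∧ ((∀ g : G, ‖χ g‖ = 0 ∨ ‖χ g‖ = 1 ∨ ‖χ g‖ = (Cfsg.charDegree χ : ℝ)) → (Cfsg.charDegree χ ^ 2 - 1) * (Finset.univ.filter (fun g : G => ‖χ g‖ = (Cfsg.charDegree χ : ℝ))).card = (Finset.univ.filter (fun g : G => χ g = 0)).card) := by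
  set n := Cfsg.charDegree χ with hn
  have hchar := CfsgLib.Char.IsIrr.isCharacter hχ
  obtain ⟨d, hd, hd1⟩ := CfsgLib.Char.IsIrr.exists_degree hχ
  have hnd : n = d := CfsgLib.CharAction.charDegree_eq_of_apply_one hd1
  set Z := Finset.univ.filter (fun g : G => ‖χ g‖ = (n : ℝ)) with hZ
  set O := Finset.univ.filter (fun g : G => χ g = 0) with hO
  set T := Finset.univ.filter (fun g : G => χ g ≠ 0 ∧ ‖χ g‖ ≠ (n : ℝ)) with hT
  have hsplit : ∀ f : G → ℝ, ∑ g, f g = ∑ g ∈ Z, f g + ∑ g ∈ O, f g + ∑ g ∈ T, f g := by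
    intro f
    simp only [hZ, hO, hT, Finset.sum_filter, ← Finset.sum_add_distrib]
    refine Finset.sum_congr rfl fun g _ => ?_
    have h0 : χ g = 0 → ¬ ‖χ g‖ = (n : ℝ) := fun h h' => by
      rw [h, norm_zero] at h'
      have : 0 < n := hnd ▸ hd
      exact absurd h'.symm (by positivity)
    split_ifs <;> simp_all
  have hnorm : ∑ g, ‖χ g‖ ^ 2 = (Fintype.card G : ℝ) := by
    have h := CfsgLib.CharAction.sum_irr_mul_conj (⟨χ, hχ⟩ : Cfsg.IrrCharacter G) ⟨χ, hχ⟩
    rw [if_pos rfl] at h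
    apply Complex.ofReal_injective
    push_cast
    rw [← Nat.card_eq_fintype_card, ← h]
    exact Finset.sum_congr rfl fun g _ => (Complex.mul_conj' (χ g)).symm
  have hcard : (Fintype.card G : ℝ) = Z.card + O.card + T.card := by
    simpa using hsplit (fun _ => 1)
  rw [hsplit] at hnorm
  rw [Finset.sum_congr rfl (g := fun _ => (n : ℝ) ^ 2) (fun g hg => by
      rw [(Finset.mem_filter.mp hg).2]),
    Finset.sum_eq_zero (s := O) (fun g hg => by rw [(Finset.mem_filter.mp hg).2]; simp),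
    Finset.sum_const, nsmul_eq_mul, hcard] at hnorm
  have hTle : (T.card : ℝ) ≤ ∑ g ∈ T, ‖χ g‖ ^ 2 := by
    obtain ⟨S, hS, hScop, w, hw, hgal⟩ := CfsgLib.CharAction.exists_galois_conjugates G
    have hperm : ∀ k ∈ S, ∑ g ∈ T, ‖χ (g ^ k)‖ ^ 2 = ∑ g ∈ T, ‖χ g‖ ^ 2 := by
      intro k hk
      have hcop : (Nat.card G).Coprime k := (hScop k hk).symm
      let e : G ≃ G := powCoprime hcop
      have hpres : ∀ g, g ∈ T → g ^ k ∈ T := by
        intro g hg
        simp only [hT, Finset.mem_filter, Finset.mem_univ, true_and] at hg ⊢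
        obtain ⟨m, ρ, hρ, rfl⟩ := hχ
        obtain ⟨r, hr⟩ : ∃ r : ℕ, (g ^ k) ^ r = g :=
          exists_pow_eq_self_of_coprime (hcop.coprime_dvd_left (orderOf_dvd_natCard g)).symm
        have hsc : ∀ (h : G) (r : ℕ), ‖ρ.character h‖ = (n : ℝ) →
            ‖ρ.character (h ^ r)‖ = (n : ℝ) := by
          intro h r hh
          have hmd : (n : ℕ) = Module.finrank ℂ (Fin m → ℂ) := by
            rw [hnd]
            exact Nat.cast_injective (R := ℂ) (hd1.symm.trans (Representation.char_one ρ))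
          rw [hmd] at hh ⊢
          obtain ⟨ω, hω⟩ := CfsgLib.CharIntegral.exists_scalar_of_norm_character_eq ρ h hh
          have hω' : ρ (h ^ r) = ω ^ r • (LinearMap.id : (Fin m → ℂ) →ₗ[ℂ] _) := by
            rw [map_pow, hω, smul_pow, ← Module.End.one_eq_id, one_pow]
          have hω1 : ‖ω‖ = 1 := by
            have hc : ρ.character h = ω * (Module.finrank ℂ (Fin m → ℂ) : ℂ) := by
              show LinearMap.trace ℂ _ (ρ h) = _
              rw [hω, map_smul, LinearMap.trace_id, smul_eq_mul]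
            rw [hc, norm_mul, Complex.norm_natCast] at hh
            refine (mul_eq_right₀ ?_).mp hh
            rw [← hmd, hnd]; positivity
          show ‖LinearMap.trace ℂ _ (ρ (h ^ r))‖ = _
          rw [hω', map_smul, LinearMap.trace_id, smul_eq_mul, norm_mul, norm_pow, hω1, one_pow,
            one_mul, Complex.norm_natCast]
        refine ⟨fun h0 => ?_, fun h1 => hg.2 (hr ▸ hsc _ r h1)⟩
        exact hg.1 (CfsgLib.CharAction.eq_zero_of_pow_eq_zero ⟨m, ρ, rfl⟩ hcop h0)
      have himg : T.map e.toEmbedding = T := by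
        refine Finset.eq_of_subset_of_card_le (fun g hg => ?_) (by simp)
        obtain ⟨x, hx, rfl⟩ := Finset.mem_map.mp hg
        exact hpres x hx
      conv_rhs => rw [← himg]
      rw [Finset.sum_map]
      rfl
    have h1 : ∑ g ∈ T, ((∑ k ∈ S, w k : ℕ) : ℝ) ≤
        ∑ g ∈ T, ∑ k ∈ S, (w k : ℝ) * ‖χ (g ^ k)‖ ^ 2 :=
      Finset.sum_le_sum fun g hg => hgal χ g hchar (Finset.mem_filter.mp hg).2.1
    rw [Finset.sum_comm (s := T)] at h1
    simp only [Finset.sum_const, nsmul_eq_mul, ← Finset.mul_sum] at h1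
    rw [Finset.sum_congr rfl (fun k hk => congrArg (fun y => (w k : ℝ) * y) (hperm k hk)),
      ← Finset.sum_mul, Nat.cast_sum, mul_comm (T.card : ℝ)] at h1
    refine le_of_mul_le_mul_left h1 (Finset.sum_pos (fun k hk => ?_) hS)
    exact_mod_cast hw k hk
  have h1n : 1 ≤ n ^ 2 := Nat.one_le_pow _ _ (hnd ▸ hd)
  constructor
  · have h : (((n ^ 2 - 1) * Z.card : ℕ) : ℝ) ≤ (O.card : ℕ) := by
      push_cast [Nat.cast_sub h1n]; nlinarith
    exact_mod_cast h
  · intro hall
    have hTeq : ∑ g ∈ T, ‖χ g‖ ^ 2 = (T.card : ℝ) := by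
      rw [Finset.sum_congr rfl (g := fun _ => (1 : ℝ)), Finset.sum_const, nsmul_eq_mul, mul_one]
      intro g hg
      simp only [hT, Finset.mem_filter, Finset.mem_univ, true_and] at hg
      rcases hall g with h | h | h
      · exact absurd (norm_eq_zero.mp h) hg.1
      · rw [h, one_pow]
      · exact absurd h hg.2
    have h : (((n ^ 2 - 1) * Z.card : ℕ) : ℝ) = (O.card : ℕ) := by
      push_cast [Nat.cast_sub h1n]; nlinarith
    exact_mod_cast h

end Cfsg.Agent.S4574
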