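import Cfsg.Statements.S4575
import Cfsg.Agent.Lib.Blocks.Cyclo.Bounds
-- import your own Cfsg.Agent.* helpers here

set_option autoImplicit false
open Cfsg

namespace Cfsg.Agent.S4575

/-- Let B be a 2-block of the finite group G (relative to a maximal ideal M of the algebraic integers containing 2) of defect d with defect group D. Let z be an element of D commuting with every element of D, and let b be a block of the centralizer of z with defect group D that induces B (a major subsection (z, b)). If the number of irreducible characters in B exceeds the 2-regular rank of b by at most three, then B contains at most 2 ^ d irreducible characters. -/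
theorem result {G : Type*} [Group G] [Finite G] (M : Ideal Cfsg.AlgInt) (hM : Cfsg.IsPModular 2 M) (B : Set (Cfsg.IrrCharacter G)) (hB : Cfsg.IsPBlock M B) (D : Subgroup G) (hD : Cfsg.IsDefectGroup 2 M B D) (z : G) (hzD : z ∈ D) (hzc : ∀ d ∈ D, d * z = z * d) (b : Set (Cfsg.IrrCharacter ↥(Subgroup.centralizer ({z} : Set G)))) (hb : Cfsg.IsInducedBlock M (Subgroup.centralizer ({z} : Set G)) b B) (hbD : Cfsg.IsDefectGroup 2 M b (D.subgroupOf (Subgroup.centralizer ({z} : Set G)))) (h : Nat.card B ≤ Cfsg.blockRank 2 b + 3) : Nat.card B ≤ 2 ^ Cfsg.blockDefect 2 B := by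
  classical
  haveI := Fintype.ofFinite G
  haveI := Fintype.ofFinite (Cfsg.IrrCharacter G)
  haveI : Fact (Nat.Prime 2) := ⟨Nat.prime_two⟩
  haveI : M.IsPrime := hM.2.1.isPrime
  obtain ⟨hy, hd⟩ := CfsgLib.Blocks.SubForm.major_data hM hB hD hzD hzc
    (CfsgLib.Blocks.isInducedBlock_iff.1 hb).1 hbD
  have hw := CfsgLib.Blocks.SubForm.weighted_major hM hy hb hd (Or.inr h)
  set S := (Set.toFinite B).toFinset
  have hS : Nat.card B = S.card := by
    rw [Nat.card_coe_set_eq, Set.ncard_eq_toFinset_card _ (Set.toFinite B)]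
  have hsplit := Finset.card_filter_add_card_filter_not (s := S)
    (fun χ : Cfsg.IrrCharacter G => Cfsg.blockHeight 2 B (χ : G → ℂ) = 0)
  rw [Finset.filter_congr (s := S) (p := fun χ : Cfsg.IrrCharacter G => ¬ Cfsg.blockHeight 2 B (χ : G → ℂ) = 0)
    (q := fun χ => 1 ≤ Cfsg.blockHeight 2 B (χ : G → ℂ)) fun χ _ => Nat.one_le_iff_ne_zero.symm] at hsplit
  have h3 : 3 * (S.filter fun χ : Cfsg.IrrCharacter G => 1 ≤ Cfsg.blockHeight 2 B (χ : G → ℂ)).card ≤
      2 * ∑ χ ∈ S.filter (fun χ : Cfsg.IrrCharacter G => 1 ≤ Cfsg.blockHeight 2 B (χ : G → ℂ)),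
        2 ^ Cfsg.blockHeight 2 B (χ : G → ℂ) := by
    rw [Finset.mul_sum, Finset.card_eq_sum_ones, Finset.mul_sum]
    refine Finset.sum_le_sum fun χ hχ => ?_
    have := Nat.pow_le_pow_right two_pos (Finset.mem_filter.1 hχ).2
    omega
  rw [hS]
  omega

end Cfsg.Agent.S4575
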