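import Cfsg.Statements.S4580
import Cfsg.Agent.Lib.CharAction.DefectCount
import Cfsg.Agent.Lib.CharDegree.Twist
import Cfsg.Agent.Lib.Char.Gallagher
import Cfsg.Agent.Lib.Char.Extension
import Cfsg.Agent.Lib.Char.Real
-- import your own Cfsg.Agent.* helpers here

set_option autoImplicit false
open Cfsg

namespace Cfsg.Agent.S4580

/-- Let N be a normal subgroup of the finite group G, M a maximal ideal of the algebraic integers containing 2, and θ a real-valued irreducible character of N of odd degree that extends to G (some irreducible character of G restricts to θ). Then θ has an extension to G lying in the principal 2-block of G. -/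
theorem result {G : Type*} [Group G] [Finite G] (N : Subgroup G) [N.Normal] (M : Ideal Cfsg.AlgInt) (hM : Cfsg.IsPModular 2 M) (θ : Cfsg.IrrCharacter N) (hreal : ∀ n : N, ((θ : N → ℂ) n).im = 0) (hodd : Odd (Cfsg.charDegree (θ : N → ℂ))) (hext : ∃ η : Cfsg.IrrCharacter G, ∀ n : N, (η : G → ℂ) n = (θ : N → ℂ) n) :
    ∃ η : Cfsg.IrrCharacter G, (∀ n : N, (η : G → ℂ) n = (θ : N → ℂ) n) ∧ η ∈ Cfsg.principalBlock M G := by
  classical
  have := hM.2.1.isPrime
  have : Fact (Nat.Prime 2) := ⟨Nat.prime_two⟩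
  have := Fintype.ofFinite G
  have := Fintype.ofFinite N
  obtain ⟨η, hη⟩ := hext
  -- the complex conjugate of `η` is a twist of `η`
  have hres : (fun n : N => (η : G → ℂ) n) = (θ : N → ℂ) := funext hη
  have hirr : Cfsg.IsIrrCharacter N fun n : N => (η : G → ℂ) n := hres ▸ θ.2
  have := Fintype.ofFinite (G ⧸ N)
  obtain ⟨β, hβ⟩ := CfsgLib.Gallagher.exists_eq_twistBy (CfsgLib.Char.IsIrr.isCharacter η.2) hirr
    (CfsgLib.Char.conjIrr η) (by
      rw [hres, show (fun n : N => (CfsgLib.Char.conjIrr η : G → ℂ) n) = (θ : N → ℂ) from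
        funext fun n => by
          rw [CfsgLib.Char.conjIrr_apply, hη, Complex.conj_eq_iff_im.2 (hreal n)],
        CfsgLib.Char.classInner_irr_self]
      exact one_ne_zero)
  have hβ1 : (β : G ⧸ N → ℂ) 1 = 1 := by
    have h1 := congrFun hβ 1
    have h2 : (CfsgLib.Char.conjIrr η : G → ℂ) 1 = (η : G → ℂ) 1 := by
      rw [CfsgLib.Char.conjIrr_apply]
      obtain ⟨d, -, hd⟩ := CfsgLib.Char.IsIrr.exists_degree η.2
      rw [hd, map_natCast]
    rw [h2, CfsgLib.Gallagher.twistBy_apply, map_one] at h1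
    exact (mul_eq_right₀ (CfsgLib.Char.IsIrr.apply_one_ne_zero η.2)).1 h1.symm
  obtain ⟨l', hl'⟩ := CfsgLib.Char.exists_linear_of_degree_one
    (CfsgLib.Char.IsIrr.isCharacter β.2) hβ1
  let l : G →* ℂˣ := l'.comp (QuotientGroup.mk' N)
  have hl : ∀ g : G, starRingEnd ℂ ((η : G → ℂ) g) = (η : G → ℂ) g * (l g : ℂ) := fun g => by
    have h1 := congrFun hβ g
    rw [CfsgLib.Char.conjIrr_apply, CfsgLib.Gallagher.twistBy_apply, congrFun hl' _] at h1
    rw [h1, mul_comm]; rfl
  -- make the twist have `2`-power order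
  have hfin : orderOf l ≠ 0 := (CfsgLib.CharExt.orderOf_hom_pos l).ne'
  obtain ⟨a, b, hb, hab⟩ := Nat.exists_eq_two_pow_mul_odd hfin
  obtain ⟨c, hc⟩ := hb
  let μ : G →* ℂˣ := l ^ (c + 1)
  let η' := CfsgLib.CharDegree.twist η μ
  have hμN : ∀ n : N, (μ n : ℂ) = 1 := fun n => by
    show ((l (n : G) ^ (c + 1) : ℂˣ) : ℂ) = 1
    rw [show l (n : G) = 1 by
      show l' (QuotientGroup.mk' N (n : G)) = 1
      rw [QuotientGroup.mk'_apply, (QuotientGroup.eq_one_iff _).2 n.2, map_one], one_pow]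
    rfl
  have hμc : ∀ g : G, starRingEnd ℂ (μ g : ℂ) = ((μ g)⁻¹ : ℂˣ) := fun g => by
    rw [Units.val_inv_eq_inv_val, Complex.inv_eq_conj (CfsgLib.CharDegree.norm_hom_units μ g)]
  -- `conj η' = η' * z` with `z` a root of unity of `2`-power order
  have hconj : ∀ g : G, ∃ z : ℂˣ, z ^ 2 ^ a = 1 ∧
      starRingEnd ℂ ((η' : G → ℂ) g) = (η' : G → ℂ) g * (z : ℂ) := fun g => by
    refine ⟨(l g) * (μ g)⁻¹ * (μ g)⁻¹, ?_, ?_⟩
    · have h1 : l g ^ (2 ^ a * b) = 1 := by
        rw [← hab, ← MonoidHom.pow_apply, pow_orderOf_eq_one, MonoidHom.one_apply]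
      have h2 : l g * (μ g)⁻¹ * (μ g)⁻¹ = (l g ^ b)⁻¹ := by
        show l g * (l g ^ (c + 1))⁻¹ * (l g ^ (c + 1))⁻¹ = _
        rw [mul_assoc, ← mul_inv, ← pow_add, show c + 1 + (c + 1) = b + 1 by omega, pow_succ,
          mul_inv, mul_left_comm, mul_inv_cancel, mul_one]
      rw [h2, inv_pow, ← pow_mul, mul_comm b, h1, inv_one]
    · simp only [η', CfsgLib.CharDegree.twist_apply, map_mul, hl, hμc, Units.val_mul,
        Units.val_inv_eq_inv_val]
      field_simp
  have hodd' : ¬ 2 ∣ Cfsg.charDegree (η' : G → ℂ) := by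
    rw [CfsgLib.CharDegree.charDegree_twist,
      show Cfsg.charDegree (η : G → ℂ) = Cfsg.charDegree (θ : N → ℂ) by
        rw [charDegree, charDegree, ← hη 1, OneMemClass.coe_one]]
    exact hodd.not_two_dvd_nat
  have hstab : CfsgLib.Char.conjIrr η' ∈ blockOf M (η' : G → ℂ) := by
    intro g
    obtain ⟨z, hz, hzg⟩ := hconj g
    have hzmem : (z : ℂ) ∈ CfsgLib.Blocks.localRing M :=
      CfsgLib.Blocks.mem_localRing_of_pow_eq_one (pow_ne_zero a two_ne_zero)
        (by rw [← Units.val_pow_eq_pow_val, hz, Units.val_one])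
    have h1 := (CfsgLib.Blocks.centralCharO M η' g).2
    have e : centralChar (CfsgLib.Char.conjIrr η' : G → ℂ) g =
        centralChar (η' : G → ℂ) g * (z : ℂ) := by
      rw [centralChar, centralChar, CfsgLib.Char.conjIrr_apply, hzg, CfsgLib.Char.conjIrr_apply]
      obtain ⟨d, -, hd⟩ := CfsgLib.Char.IsIrr.exists_degree η'.2
      rw [hd, map_natCast]
      ring
    rw [e]
    show MemLocalIdeal M ((CfsgLib.Blocks.centralCharO M η' g : ℂ) -
      ((CfsgLib.Blocks.centralCharO M η' g * ⟨(z : ℂ), hzmem⟩ : CfsgLib.Blocks.localRing M) : ℂ))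
    rw [← CfsgLib.Blocks.residue_eq_iff (z := CfsgLib.Blocks.centralCharO M η' g)
      (w := CfsgLib.Blocks.centralCharO M η' g * ⟨(z : ℂ), hzmem⟩), map_mul,
      CfsgLib.Blocks.residue_eq_one_of_pow_prime_pow hM (z := ⟨(z : ℂ), hzmem⟩) (k := a)
        (Subtype.ext (by
          rw [SubmonoidClass.coe_pow, ← Units.val_pow_eq_pow_val, hz, Units.val_one]; rfl)),
      mul_one]
  have hB := CfsgLib.CharAction.eq_principalBlock_of_conj hM
    (CfsgLib.Blocks.isPBlock_blockOf η') (CfsgLib.Blocks.mem_blockOf_self η') hodd' fun ψ hψ => by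
      refine CfsgLib.Blocks.SameBlock.trans' hstab fun g => ?_
      have hinv : ∀ χ : Cfsg.IrrCharacter G,
          centralChar (CfsgLib.Char.conjIrr χ : G → ℂ) g = centralChar (χ : G → ℂ) g⁻¹ := fun χ => by
        have hC : Subgroup.centralizer ({g⁻¹} : Set G) = Subgroup.centralizer ({g} : Set G) := by
          ext x
          rw [CfsgLib.Blocks.mem_centralizer_singleton, CfsgLib.Blocks.mem_centralizer_singleton,
            Commute.inv_right_iff]
        rw [centralChar, centralChar, hC, CfsgLib.Char.conjIrr_apply, CfsgLib.Char.conjIrr_apply,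
          ← CfsgLib.Char.IsIrr.map_inv χ.2, ← CfsgLib.Char.IsIrr.map_inv χ.2, inv_one]
      rw [hinv, hinv]
      exact hψ g⁻¹
  exact ⟨η', fun n => by rw [CfsgLib.CharDegree.twist_apply, hμN, mul_one, hη],
    hB ▸ CfsgLib.Blocks.mem_blockOf_self η'⟩

end Cfsg.Agent.S4580
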