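import Cfsg.Statements.S4581
import Cfsg.Agent.Lib.Char.RealOddDegree

set_option autoImplicit false
open Cfsg

namespace Cfsg.Agent.S4581

open CfsgLib CfsgLib.Char CfsgLib.Clifford CfsgLib.RealOdd
open scoped ComplexConjugate

universe u

variable {G : Type u} [Group G] [Finite G]

theorem over_of_ind [Fintype G] (P : Sylow 2 G) (χ : IrrCharacter G)
    (l : (P : Subgroup G) →* ℂˣ) [Fintype (P : Subgroup G)]
    (h : classInner (indFun (P : Subgroup G) (fun x => (l x : ℂ))) (χ : G → ℂ) ≠ 0) :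
    Over (P : Subgroup G) (χ : G → ℂ) l := by
  rw [over_iff]
  rw [frobenius_reciprocity _ _ (IsIrr.isClassFunction χ.2), ← classInner_conj_symm] at h
  exact fun h0 => h (by rw [h0, map_zero])

theorem ind_one [Fintype G] (P : Sylow 2 G) (l : (P : Subgroup G) →* ℂˣ) :
    indFun (P : Subgroup G) (fun x => (l x : ℂ)) 1 = ((P : Subgroup G).index : ℂ) := by
  rw [indFun_apply_one, map_one, Units.val_one, mul_one]

theorem odd_index (P : Sylow 2 G) : Odd (P : Subgroup G).index :=
  Nat.not_even_iff_odd.mp fun h => P.not_dvd_index (even_iff_two_dvd.mp h)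

theorem exists_real_over (P : Sylow 2 G) (l : (P : Subgroup G) →* ℂˣ) (hl : ∀ x, l x * l x = 1) :
    ∃ χ : IrrCharacter G, RealVal (χ : G → ℂ) ∧ Md (P : Subgroup G) χ l := by
  classical
  have := Fintype.ofFinite G
  have := Fintype.ofFinite (P : Subgroup G)
  have hlr : ∀ x, conj (l x : ℂ) = (l x : ℂ) := fun x => by
    have h2 : (l x : ℂ) * (l x : ℂ) = 1 := by rw [← Units.val_mul, hl, Units.val_one]
    rcases mul_self_eq_one_iff.mp h2 with e | e <;> rw [e] <;> simp
  obtain ⟨χ, hr, ho, hc⟩ := exists_real_constituent_odd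
    (f := indFun (P : Subgroup G) (fun x => (l x : ℂ)))
    (isCharacter_indFun _ (IsIrr.isCharacter (isIrrCharacter_linear l)))
    (fun g => Complex.conj_eq_iff_im.mp (by
      simp only [indFun, map_mul, map_inv₀, map_natCast, map_sum]
      refine congrArg _ (Finset.sum_congr rfl fun x _ => ?_)
      by_cases hx : x⁻¹ * g * x ∈ (P : Subgroup G)
      · rw [extendByZero_of_mem _ _ hx, hlr]
      · rw [extendByZero_of_notMem _ _ hx, map_zero]))
    (ind_one P l) (odd_index P)
  exact ⟨χ, hr, ho, over_of_ind P χ l hc, Or.inl ⟨hr, hl⟩⟩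

theorem exists_odd_over (P : Sylow 2 G) (l : (P : Subgroup G) →* ℂˣ) :
    ∃ χ : IrrCharacter G, Odd (charDegree (χ : G → ℂ)) ∧ Over (P : Subgroup G) (χ : G → ℂ) l := by
  classical
  have := Fintype.ofFinite G
  have := Fintype.ofFinite (P : Subgroup G)
  obtain ⟨χ, ho, hc⟩ := PPrimeKernel.exists_constituent_not_dvd
    (isCharacter_indFun (P : Subgroup G) (IsIrr.isCharacter (isIrrCharacter_linear l))) (ind_one P l)
    (P.not_dvd_index)
  exact ⟨χ, Nat.not_even_iff_odd.mp fun h => ho (even_iff_two_dvd.mp h), over_of_ind P χ l hc⟩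

/-- A real character of odd degree has a real linear constituent on a Sylow 2-subgroup. -/
theorem exists_linear_real (P : Sylow 2 G) (χ : IrrCharacter G) (hr : RealVal (χ : G → ℂ))
    (ho : Odd (charDegree (χ : G → ℂ))) :
    ∃ l : (P : Subgroup G) →* ℂˣ, (∀ x, l x * l x = 1) ∧ Md (P : Subgroup G) χ l := by
  classical
  have := Fintype.ofFinite G
  have := Fintype.ofFinite (P : Subgroup G)
  obtain ⟨φ, hφr, hφo, hφc⟩ := exists_real_constituent_odd
    (IsChar.restrict (P : Subgroup G) (IsIrr.isCharacter χ.2)) (fun x => hr _)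
    (n := charDegree (χ : G → ℂ)) (natCast_charDegree χ) ho
  have hd : charDegree (φ : ↥(P : Subgroup G) → ℂ) = 1 := by
    obtain ⟨k, hk⟩ := P.2.exists_card_eq
    obtain ⟨j, -, hj⟩ := (Nat.dvd_prime_pow Nat.prime_two).1 (hk ▸ CharDegree.charDegree_dvd_card φ)
    rcases j with _ | j
    · simpa using hj
    · rw [hj, pow_succ] at hφo
      exact absurd hφo (Nat.not_odd_iff_even.mpr (even_iff_two_dvd.mpr (dvd_mul_left 2 _)))
  obtain ⟨l, hl⟩ := exists_linear_of_degree_one (IsIrr.isCharacter φ.2)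
    ((natCast_charDegree φ).trans (by rw [hd, Nat.cast_one]))
  have hl2 : ∀ x, l x * l x = 1 := fun x => by
    have h1 := Complex.conj_eq_iff_im.mpr (hφr x)
    rw [congrFun hl x] at h1
    have h2 : ((l x : ℂˣ) : ℂ)⁻¹ = (l x : ℂ) := by
      rw [← Units.val_inv_eq_inv_val, ← map_inv]
      exact ((IsIrr.map_inv (isIrrCharacter_linear l) x)).trans h1
    refine Units.ext ?_
    rw [Units.val_mul, Units.val_one]
    nth_rw 1 [← h2]
    exact inv_mul_cancel₀ (Units.ne_zero _)
  refine ⟨l, hl2, ho, (over_iff _ _ _).mpr ?_, Or.inl ⟨hr, hl2⟩⟩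
  rw [← hl]
  exact hφc

/-- All characters of odd degree real forces a self-normalizing Sylow 2-subgroup. -/
theorem self_normalizing_of_real : ∀ (n : ℕ) (H : Type u) [Group H] [Finite H]
    [Group.IsSolvable H], Nat.card H = n →
    (∀ χ : IrrCharacter H, Odd (charDegree (χ : H → ℂ)) → RealVal (χ : H → ℂ)) →
    ∀ P : Sylow 2 H, Subgroup.normalizer ((P : Subgroup H) : Set H) = P := by
  intro n
  induction n using Nat.strong_induction_on with
  | _ n ih =>
  intro H _ _ _ hn hreal P
  classical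
  have := Fintype.ofFinite H
  refine le_antisymm ?_ Subgroup.le_normalizer
  have hstep : ∀ L : Subgroup H, L.Normal → L ≠ ⊥ →
      Subgroup.normalizer ((P : Subgroup H) : Set H) ≤ (P : Subgroup H) ⊔ L := by
    intro L hLn hLb g hg
    have hlt : Nat.card (H ⧸ L) < n := by
      rw [← hn, L.card_eq_card_quotient_mul_card_subgroup]
      exact lt_mul_of_one_lt_right Nat.card_pos ((Subgroup.one_lt_card_iff_ne_bot L).mpr hLb)
    have h1 := ih _ hlt (H ⧸ L) rfl (fun ψ hψ q => by
      obtain ⟨x, rfl⟩ := QuotientGroup.mk'_surjective L q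
      exact hreal (CharDegree.infl L ψ) hψ x) (bar P L)
    have h2 : QuotientGroup.mk' L g ∈
        Subgroup.normalizer ((bar P L : Subgroup (H ⧸ L)) : Set (H ⧸ L)) := by
      refine Subgroup.le_normalizer_map (QuotientGroup.mk' L) ⟨g, hg, rfl⟩
    rw [h1] at h2
    obtain ⟨a, ha, hag⟩ := h2
    have h3 : a⁻¹ * g ∈ L := (QuotientGroup.eq_one_iff _).mp (by
      rw [QuotientGroup.mk_mul, QuotientGroup.mk_inv, ← QuotientGroup.mk'_apply,
        ← QuotientGroup.mk'_apply, hag, inv_mul_cancel])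
    rw [show g = a * (a⁻¹ * g) by group]
    exact mul_mem (Subgroup.mem_sup_left ha) (Subgroup.mem_sup_right h3)
  by_cases hO : pPrimeCore 2 H = ⊥
  · by_cases hQ : pCore 2 H = ⊥
    · rcases subsingleton_or_nontrivial H with hs | hnt
      · intro g _
        rw [Subsingleton.elim g 1]
        exact one_mem _
      · obtain ⟨q, hq, hqne⟩ := Core.exists_pCore_ne_bot (G := H)
        rcases eq_or_ne q 2 with rfl | hne
        · exact absurd hQ hqne
        · exact absurd (le_bot_iff.mp
            ((Core.pCore_le_pPrimeCore_of_ne Nat.prime_two hq hne).trans hO.le)) hqne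
    · exact (hstep _ inferInstance hQ).trans (sup_le le_rfl (Core.pCore_le_sylow P))
  · set L := pPrimeCore 2 H with hL
    have := Fintype.ofFinite L
    have hcop : (Nat.card L).Coprime (Nat.card (P : Subgroup H)) := by
      obtain ⟨k, hk⟩ := P.2.exists_card_eq
      rw [hk]
      exact Nat.Coprime.pow_right k (Core.coprime_card_pPrimeCore 2 H)
    have hLn : L.Normal := inferInstance
    have hfix : L ⊓ Subgroup.centralizer ((P : Subgroup H) : Set H) = ⊥ := by
      by_contra hne
      obtain ⟨θ, hθ, hθ1⟩ := PPrimeKernel.exists_invariant (N := L) P hcop hne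
      obtain ⟨χ, hχ, himp⟩ := PPrimeKernel.exists_over_invariant (N := L) P hcop θ hθ
      refine hθ1 (himp fun x => ?_)
      have hodd : Odd (charDegree (χ : H → ℂ)) :=
        Nat.not_even_iff_odd.mp fun h => hχ (even_iff_two_dvd.mp h)
      exact trivial_on_odd hLn odd_card_core χ (hreal χ hodd) hodd x.2
    intro g hg
    have h1 : g ∈ (((P : Subgroup H) ⊔ L : Subgroup H) : Set H) := hstep L hLn hO hg
    rw [Subgroup.mul_normal] at h1
    obtain ⟨a, ha, x, hx, rfl⟩ := Set.mem_mul.mp h1
    have hxN : x ∈ Subgroup.normalizer ((P : Subgroup H) : Set H) := by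
      simpa using mul_mem (inv_mem (Subgroup.le_normalizer ha)) hg
    have hxC : x ∈ L ⊓ Subgroup.centralizer ((P : Subgroup H) : Set H) := by
      refine ⟨hx, Subgroup.mem_centralizer_iff.mpr fun y hy => ?_⟩
      have h2 : y⁻¹ * (x * y * x⁻¹) ∈ L ⊓ (P : Subgroup H) := by
        refine Subgroup.mem_inf.mpr ⟨?_, mul_mem (inv_mem (show y ∈ (P : Subgroup H) from hy)) ((Subgroup.mem_normalizer_iff.mp hxN y).mp hy)⟩
        have h3 := mul_mem (hLn.conj_mem x hx y⁻¹) (inv_mem hx)
        simpa [mul_assoc] using h3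
      have h4 : L ⊓ (P : Subgroup H) = ⊥ := Subgroup.inf_eq_bot_of_coprime hcop
      rw [h4, Subgroup.mem_bot, inv_mul_eq_one] at h2
      calc y * x = (x * y * x⁻¹) * x := congrArg (· * x) h2
        _ = x * y := inv_mul_cancel_right _ _
    rw [hfix, Subgroup.mem_bot] at hxC
    rw [hxC, mul_one]
    exact ha

theorem commutator_eq_frattini_iff (P : Sylow 2 G) :
    commutator (P : Subgroup G) = frattini (P : Subgroup G) ↔
      ∀ (l : (P : Subgroup G) →* ℂˣ) (x : (P : Subgroup G)), l x * l x = 1 := by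
  have : Fact (Nat.Prime 2) := ⟨Nat.prime_two⟩
  rw [PGroups.frattini_eq_commutator_sup P.2]
  constructor
  · intro h l x
    rw [← map_mul, ← MonoidHom.mem_ker]
    refine Abelianization.commutator_subset_ker l ?_
    rw [h]
    exact Subgroup.mem_sup_right (Subgroup.subset_closure ⟨x, sq x⟩)
  · intro h
    refine le_antisymm le_sup_left (sup_le le_rfl ((Subgroup.closure_le _).mpr ?_))
    rintro _ ⟨x, rfl⟩
    by_contra hx
    obtain ⟨θ, hθ, hθx⟩ := PPrimeKernel.exists_linear (x := x ^ 2) hx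
    obtain ⟨l, hl⟩ := exists_linear_of_degree_one (IsIrr.isCharacter θ.2)
      ((natCast_charDegree θ).trans (by rw [hθ, Nat.cast_one]))
    refine hθx ?_
    rw [hl]
    simp only [sq, map_mul, map_one, h l x]

/-- Let G be a finite solvable group, P a Sylow 2-subgroup and N its normalizer. Then G and N have the same number of real-valued irreducible characters of odd degree; and every odd-degree irreducible character of G is real-valued exactly when the derived subgroup of P equals the Frattini subgroup of P and P is its own normalizer in G. -/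
theorem result {G : Type*} [Group G] [Finite G] [Group.IsSolvable G] (P : Sylow 2 G) :
    Nat.card {χ : Cfsg.IrrCharacter G // (∀ g : G, ((χ : G → ℂ) g).im = 0) ∧ Odd (Cfsg.charDegree (χ : G → ℂ))} =
      Nat.card {ψ : Cfsg.IrrCharacter (Subgroup.normalizer ((P : Subgroup G) : Set G)) // (∀ g, ((ψ : Subgroup.normalizer ((P : Subgroup G) : Set G) → ℂ) g).im = 0) ∧ Odd (Cfsg.charDegree (ψ : Subgroup.normalizer ((P : Subgroup G) : Set G) → ℂ))} ∧
    ((∀ χ : Cfsg.IrrCharacter G, Odd (Cfsg.charDegree (χ : G → ℂ)) → ∀ g : G, ((χ : G → ℂ) g).im = 0) ↔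
      (commutator (P : Subgroup G) = frattini (P : Subgroup G) ∧ Subgroup.normalizer ((P : Subgroup G) : Set G) = (P : Subgroup G))) := by
  classical
  have := Fintype.ofFinite G
  set N := Subgroup.normalizer ((P : Subgroup G) : Set G) with hN
  constructor
  · have hPN : (P : Subgroup G) ≤ N := Subgroup.le_normalizer
    let PN : Sylow 2 N := P.subtype hPN
    let e : (PN : Subgroup N) ≃* (P : Subgroup G) := Subgroup.subgroupOfEquivOfLe hPN
    let A := {χ : IrrCharacter G // (∀ g : G, ((χ : G → ℂ) g).im = 0) ∧ Odd (charDegree (χ : G → ℂ))}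
    let B := {ψ : IrrCharacter N // (∀ g, ((ψ : N → ℂ) g).im = 0) ∧ Odd (charDegree (ψ : N → ℂ))}
    choose l hl2 hlm using fun χ : A => exists_linear_real P χ.1 χ.2.1 χ.2.2
    choose f hfr hfm using fun χ : A =>
      exists_real_over PN ((l χ).comp e.toMonoidHom) (fun x => hl2 χ (e x))
    let F : A → B := fun χ => ⟨f χ, hfr χ, (hfm χ).1⟩
    refine Nat.card_eq_of_bijective F ⟨fun χ χ' h => ?_, fun ψ => ?_⟩
    · have hf : f χ = f χ' := congrArg Subtype.val h
      have h' := hfm χ'
      rw [← hf] at h'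
      obtain ⟨n, hn, hnl⟩ := (goal PN).2 (f χ) _ _ (hfm χ) h'
      have hn' : (n : G) ∈ Subgroup.normalizer ((P : Subgroup G) : Set G) := n.2
      have e2 : l χ' = cjP (n : G) hn' (l χ) := MonoidHom.ext fun x =>
        DFunLike.congr_fun hnl ⟨⟨x, hPN x.2⟩, x.2⟩
      have h2 := md_cjP hn' (hlm χ)
      rw [← e2] at h2
      exact Subtype.ext ((goal P).1 χ.1 χ'.1 (l χ') h2 (hlm χ'))
    · obtain ⟨m, hm2, hmm⟩ := exists_linear_real PN ψ.1 ψ.2.1 ψ.2.2
      obtain ⟨χ, hχr, hχm⟩ := exists_real_over P (m.comp e.symm.toMonoidHom) (fun x => hm2 _)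
      refine ⟨⟨χ, hχr, hχm.1⟩, Subtype.ext ?_⟩
      obtain ⟨n, hn, hnl⟩ := (goal P).2 χ _ _ hχm (hlm ⟨χ, hχr, hχm.1⟩)
      have hn' : (⟨n, hn⟩ : N) ∈ Subgroup.normalizer ((PN : Subgroup N) : Set N) := by
        rw [Sylow.coe_subtype, ← Subgroup.subgroupOf_normalizer_eq hPN]
        exact hn
      have e2 : (l ⟨χ, hχr, hχm.1⟩).comp e.toMonoidHom = cjP (⟨n, hn⟩ : N) hn' m :=
        MonoidHom.ext fun x => DFunLike.congr_fun hnl (e x)
      have h2 := md_cjP hn' hmm
      rw [← e2] at h2
      exact ((goal PN).1 ψ.1 _ _ h2 (hfm ⟨χ, hχr, hχm.1⟩)).symm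
  · constructor
    · intro h
      have hself := self_normalizing_of_real _ G rfl (fun χ hχ => h χ hχ) P
      refine ⟨(commutator_eq_frattini_iff P).mpr fun l x => ?_, hself⟩
      obtain ⟨χ, ho, hov⟩ := exists_odd_over P l
      have hr : RealVal (χ : G → ℂ) := h χ ho
      let lb : (P : Subgroup G) →* ℂˣ := l⁻¹
      have hlb : Over (P : Subgroup G) (χ : G → ℂ) lb := by
        have := Fintype.ofFinite (P : Subgroup G)
        intro h0
        refine hov ?_
        rw [finsum_eq_sum_of_fintype] at h0 ⊢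
        have h1 := congrArg (starRingEnd ℂ) h0
        rw [map_sum, map_zero] at h1
        rw [← h1]
        refine Finset.sum_congr rfl fun y _ => ?_
        rw [map_mul, hr.conj_eq, Complex.conj_conj, MonoidHom.inv_apply, ← map_inv]
        exact congrArg _ ((IsIrr.map_inv (isIrrCharacter_linear l) y)).symm
      obtain ⟨n, hn, hnl⟩ := (goal P).2 χ l lb ⟨ho, hov, Or.inr hself⟩ ⟨ho, hlb, Or.inr hself⟩
      have hnP : n ∈ (P : Subgroup G) := hself.le hn
      have h3 := DFunLike.congr_fun hnl x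
      rw [cjP_apply, show (⟨n * x * n⁻¹, _⟩ : (P : Subgroup G)) = ⟨n, hnP⟩ * x * ⟨n, hnP⟩⁻¹ from
        Subtype.ext rfl, map_mul, map_mul, map_inv, mul_comm (l ⟨n, hnP⟩), mul_inv_cancel_right,
        MonoidHom.inv_apply] at h3
      nth_rw 1 [← h3]
      exact inv_mul_cancel _
    · rintro ⟨hc, hself⟩ χ ho
      have := Fintype.ofFinite (P : Subgroup G)
      have h2 := (commutator_eq_frattini_iff P).mp hc
      obtain ⟨φ, hφo, hφc⟩ := PPrimeKernel.exists_constituent_not_dvd (p := 2)
        (IsChar.restrict (P : Subgroup G) (IsIrr.isCharacter χ.2)) (n := charDegree (χ : G → ℂ))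
        (natCast_charDegree χ) (fun hd => Nat.not_even_iff_odd.mpr ho (even_iff_two_dvd.mpr hd))
      have hd : charDegree (φ : ↥(P : Subgroup G) → ℂ) = 1 := by
        obtain ⟨k, hk⟩ := P.2.exists_card_eq
        obtain ⟨j, -, hj⟩ :=
          (Nat.dvd_prime_pow Nat.prime_two).1 (hk ▸ CharDegree.charDegree_dvd_card φ)
        rcases j with _ | j
        · simpa using hj
        · exact absurd (hj ▸ dvd_pow_self 2 (Nat.succ_ne_zero j)) hφo
      obtain ⟨l, hl⟩ := exists_linear_of_degree_one (IsIrr.isCharacter φ.2)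
        ((natCast_charDegree φ).trans (by rw [hd, Nat.cast_one]))
      have hov : Over (P : Subgroup G) (χ : G → ℂ) l := by
        rw [over_iff, ← hl]
        exact hφc
      obtain ⟨χ', hr', hm'⟩ := exists_real_over P l (h2 l)
      obtain rfl := (goal P).1 χ χ' l ⟨ho, hov, Or.inr hself⟩ ⟨hm'.1, hm'.2.1, Or.inr hself⟩
      exact hr'

end Cfsg.Agent.S4581
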