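import Cfsg.Statements.S4582
import Mathlib.GroupTheory.Transfer
-- import your own Cfsg.Agent.* helpers here

set_option autoImplicit false
open Cfsg

namespace Cfsg.Agent.S4582

/-- Let N be a normal subgroup of the finite group G, P a Sylow 2-subgroup of G and Q = P ∩ N. Suppose that P/QP' and Q/Q' are elementary abelian (every square of an element of P lies in the subgroup generated by Q and the derived subgroup of P, and every square of an element of Q lies in the derived subgroup of Q), and that the commutator factor group N/N' has odd order. Then P/P' is elementary abelian. -/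
theorem result {G : Type*} [Group G] [Finite G] (N : Subgroup G) [N.Normal] (P : Sylow 2 G)
    (hP : ∀ x ∈ (P : Subgroup G), x ^ 2 ∈ ((P : Subgroup G) ⊓ N) ⊔ ⁅(P : Subgroup G), (P : Subgroup G)⁆)
    (hQ : ∀ x ∈ (P : Subgroup G) ⊓ N, x ^ 2 ∈ ⁅(P : Subgroup G) ⊓ N, (P : Subgroup G) ⊓ N⁆)
    (hodd : Odd (Nat.card (Abelianization N))) :
    ∀ x ∈ (P : Subgroup G), x ^ 2 ∈ ⁅(P : Subgroup G), (P : Subgroup G)⁆ := by
  classical
  intro x hx
  have : ∀ H : Subgroup G, N ⊔ (P : Subgroup G) = H →
      x ^ 2 ∈ ⁅(P : Subgroup G), (P : Subgroup G)⁆ := by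
    intro H hH
    have hNH : N ≤ H := hH ▸ le_sup_left
    have hPH : (P : Subgroup G) ≤ H := hH ▸ le_sup_right
    let PH : Subgroup H := (P : Subgroup G).subgroupOf H
    let NH : Subgroup H := N.subgroupOf H
    haveI : NH.Normal := inferInstanceAs (N.subgroupOf H).Normal
    let lam : PH →* Abelianization PH := Abelianization.of
    let μ : H →* Abelianization (H ⧸ NH) := Abelianization.of.comp (QuotientGroup.mk' NH)
    haveI : Fact (Nat.Prime 2) := ⟨Nat.prime_two⟩
    have hoddI : Odd PH.index := by
      have h1 : PH.index ∣ (P : Subgroup G).index := Subgroup.relIndex_dvd_index_of_le hPH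
      exact Odd.of_dvd_nat (Nat.odd_iff.mpr (Nat.two_dvd_ne_zero.mp P.not_dvd_index)) h1
    have hPHp : IsPGroup 2 PH := P.isPGroup'.comap_subtype
    have sup_top : PH ⊔ NH = ⊤ := by
      rw [← Subgroup.subgroupOf_sup hPH hNH, sup_comm, hH, Subgroup.subgroupOf_self]
    -- kernel of μ on PH
    have hker : ∀ q : PH, μ (q : H) = 1 → ∃ r : PH, (r : H) ∈ NH ∧ lam r = lam q := by
      intro q hq
      let f : PH →* H ⧸ NH := (QuotientGroup.mk' NH).comp PH.subtype
      have hf : Function.Surjective f := by
        intro z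
        obtain ⟨h, rfl⟩ := QuotientGroup.mk'_surjective NH z
        have : h ∈ PH ⊔ NH := by rw [sup_top]; trivial
        obtain ⟨a, ha, b, hb, rfl⟩ := Subgroup.mem_sup_of_normal_right.mp this
        exact ⟨⟨a, ha⟩, (QuotientGroup.mk_mul_of_mem a hb).symm⟩
      have h2 : f q ∈ commutator (H ⧸ NH) := by
        rw [← Abelianization.ker_of]; exact hq
      have h3 : commutator (H ⧸ NH) = (commutator PH).map f := by
        rw [commutator_def, commutator_def, Subgroup.map_commutator,
          Subgroup.map_top_of_surjective f hf]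
      rw [h3] at h2
      obtain ⟨c, hc, hcq⟩ := h2
      refine ⟨c⁻¹ * q, ?_, ?_⟩
      · have : (QuotientGroup.mk (c : H) : H ⧸ NH) = QuotientGroup.mk (q : H) := hcq
        simpa using QuotientGroup.eq.mp this
      · have : lam c = 1 := by rw [← MonoidHom.mem_ker, Abelianization.ker_of]; exact hc
        rw [map_mul, map_inv, this, inv_one, one_mul]
    have hsq : ∀ r : PH, (r : H) ∈ NH → lam r ^ 2 = 1 := by
      intro r hr
      have h1 : ((r : H) : G) ^ 2 ∈ ⁅(P : Subgroup G) ⊓ N, (P : Subgroup G) ⊓ N⁆ :=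
        hQ _ ⟨r.2, hr⟩
      have h2 : ⁅(P : Subgroup G) ⊓ N, (P : Subgroup G) ⊓ N⁆ ≤
          (commutator PH).map ((H.subtype).comp PH.subtype) := by
        rw [commutator_def, Subgroup.map_commutator, ← MonoidHom.range_eq_map]
        have : (P : Subgroup G) ⊓ N ≤ ((H.subtype).comp PH.subtype).range := fun y hy =>
          ⟨⟨⟨y, hPH hy.1⟩, hy.1⟩, rfl⟩
        exact Subgroup.commutator_mono this this
      obtain ⟨c, hc, hc'⟩ := h2 h1
      have hce : c = r ^ 2 := by
        apply Subtype.ext; apply Subtype.ext; simpa using hc'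
      rw [← map_pow, ← hce, ← MonoidHom.mem_ker, Abelianization.ker_of]; exact hc
    let V : H →* Abelianization PH := MonoidHom.transfer lam
    have hVμ : ∀ q : PH, ∃ r : PH, (r : H) ∈ NH ∧ V (q : H) = lam q ^ PH.index * lam r := by
      intro q
      letI := PH.fintypeQuotientOfFiniteIndex
      let T : PH.LeftTransversal := default
      let α := T.2.leftQuotientEquiv
      let β := ((q : H) • T).2.leftQuotientEquiv
      let el : H ⧸ PH → PH := fun z => ⟨(α z : H)⁻¹ * β z,
        QuotientGroup.leftRel_apply.mp <|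
          Quotient.exact' ((α.symm_apply_apply z).trans (β.symm_apply_apply z).symm)⟩
      have hV : V (q : H) = ∏ z, lam (el z) := MonoidHom.transfer_def lam T (q : H)
      have hb : ∀ z : H ⧸ PH, (β z : H) = (q : H) * (α ((q : H)⁻¹ • z) : H) := fun z => by
        have := Subgroup.smul_apply_eq_smul_apply_inv_smul (q : H) T z
        simpa [α, β] using this
      have hμ : ∏ z, μ (el z : H) = μ (q : H) ^ PH.index := by
        simp only [el, hb, map_mul, map_inv]
        rw [Finset.prod_mul_distrib, Finset.prod_mul_distrib, Finset.prod_inv_distrib,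
          Finset.prod_const, Finset.card_univ, ← Nat.card_eq_fintype_card, ← Subgroup.index_eq_card]
        have e : ∏ z, μ (α ((q : H)⁻¹ • z) : H) = ∏ z, μ (α z : H) :=
          Equiv.prod_comp (MulAction.toPerm ((q : H)⁻¹)) (fun z => μ (α z : H))
        rw [e, mul_comm (μ (q : H) ^ _), inv_mul_cancel_left]
      obtain ⟨e, hel⟩ : ∃ e : PH, lam e = ∏ z, lam (el z) := by
        generalize (∏ z, lam (el z)) = a
        exact QuotientGroup.mk'_surjective _ a
      have hμe : μ (e : H) = ∏ z, μ (el z : H) := by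
        have h := congrArg (Abelianization.lift (μ.comp PH.subtype)) hel
        simp only [map_prod, lam, Abelianization.lift_apply_of] at h
        exact h
      obtain ⟨r, hr, hr'⟩ := hker ((q ^ PH.index)⁻¹ * e) (by
        simp only [Subgroup.coe_mul, Subgroup.coe_inv, SubgroupClass.coe_pow, map_mul, map_inv,
          map_pow, hμe, hμ, inv_mul_cancel])
      refine ⟨r, hr, ?_⟩
      rw [hV, ← hel, hr', map_mul, map_inv, map_pow, mul_inv_cancel_left]
    have hVN : ∀ h : H, h ∈ NH → V h = 1 := by
      intro h hh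
      let W : Abelianization N →* Abelianization PH :=
        Abelianization.lift (V.comp (Subgroup.inclusion hNH))
      let a : Abelianization N := Abelianization.of ⟨(h : G), hh⟩
      have h1 : W a ^ Nat.card (Abelianization N) = 1 := by
        rw [← map_pow, pow_card_eq_one', map_one]
      obtain ⟨y, hy⟩ : ∃ y : PH, lam y = W a := QuotientGroup.mk'_surjective _ (W a)
      obtain ⟨k, hk'⟩ := hPHp y
      have hk : W a ^ 2 ^ k = 1 := by rw [← hy, ← map_pow, hk', map_one]
      have h2 : W a = 1 := by
        rw [← orderOf_eq_one_iff]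
        exact Nat.eq_one_of_dvd_coprimes ((Nat.coprime_two_left.mpr hodd).pow_left k)
          (orderOf_dvd_of_pow_eq_one hk) (orderOf_dvd_of_pow_eq_one h1)
      have e : Subgroup.inclusion hNH ⟨(h : G), hh⟩ = h := rfl
      simpa [W, a, e] using h2
    let xx : PH := ⟨⟨x, hPH hx⟩, hx⟩
    have hVx : V (xx : H) ^ 2 = 1 := by
      have hle : ((P : Subgroup G) ⊓ N) ⊔ ⁅(P : Subgroup G), (P : Subgroup G)⁆ ≤
          V.ker.map H.subtype := by
        refine sup_le (fun y hy => ⟨⟨y, hPH hy.1⟩, hVN _ hy.2, rfl⟩) ?_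
        refine Subgroup.commutator_le.mpr fun a ha b hb =>
          ⟨(⟨a, hPH ha⟩ : H) * ⟨b, hPH hb⟩ * (⟨a, hPH ha⟩ : H)⁻¹ * (⟨b, hPH hb⟩ : H)⁻¹, ?_, rfl⟩
        exact MonoidHom.mem_ker.mpr (by
          rw [map_mul, map_mul, map_mul, map_inv, map_inv, mul_inv_cancel_comm, mul_inv_cancel])
      obtain ⟨h, hh, he⟩ := hle (hP x hx)
      have : (xx : H) ^ 2 = h := Subtype.ext (by simpa using he.symm)
      rw [← map_pow, this]; exact hh
    have h7 : lam xx ^ 2 = 1 := by
      obtain ⟨r, hr, hV⟩ := hVμ xx
      rw [hV, mul_pow, hsq r hr, mul_one, ← pow_mul, Nat.mul_comm, pow_mul] at hVx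
      obtain ⟨j, hj⟩ := hPHp xx
      have h6 : (lam xx ^ 2) ^ (2 ^ j) = 1 := by
        rw [← pow_mul, Nat.mul_comm, pow_mul, ← map_pow, hj, map_one, one_pow]
      rw [← orderOf_eq_one_iff]
      exact Nat.eq_one_of_dvd_coprimes ((Nat.coprime_two_left.mpr hoddI).pow_left j)
        (orderOf_dvd_of_pow_eq_one h6) (orderOf_dvd_of_pow_eq_one hVx)
    rw [← map_pow, ← MonoidHom.mem_ker, Abelianization.ker_of] at h7
    have := Subgroup.mem_map_of_mem ((H.subtype).comp PH.subtype) h7
    rw [commutator_def, Subgroup.map_commutator, ← MonoidHom.range_eq_map] at this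
    have hr : ((H.subtype).comp PH.subtype).range ≤ (P : Subgroup G) := by
      rintro _ ⟨z, rfl⟩; exact z.2
    exact Subgroup.commutator_mono hr hr (by simpa using this)
  exact this _ rfl

end Cfsg.Agent.S4582
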