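import Cfsg.Statements.S4583
import Cfsg.Agent.Lib.CharAction.PrincipalOverOdd
import Cfsg.Agent.Lib.Pairs.Transport
-- import your own Cfsg.Agent.* helpers here

set_option autoImplicit false
open Cfsg

namespace Cfsg.Agent.S4583

/-- Let N be a normal subgroup of the finite group G, p a prime, M a maximal ideal of the algebraic integers containing p, and P a Sylow p-subgroup of G. Let θ be an irreducible character of N of degree prime to p lying in the principal p-block of N, and suppose θ extends to the subgroup NP (some irreducible character of NP restricts to θ). Then some irreducible character χ of G of degree prime to p in the principal p-block of G lies over θ (θ is a constituent of the restriction of χ to N). -/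
theorem result {G : Type*} [Group G] [Finite G] (N : Subgroup G) [N.Normal] (p : ℕ) [Fact p.Prime] (M : Ideal Cfsg.AlgInt) (hM : Cfsg.IsPModular p M) (P : Sylow p G)
    (θ : Cfsg.IrrCharacter N) (hθ : θ ∈ Cfsg.principalBlock M N) (hdeg : ¬ p ∣ Cfsg.charDegree (θ : N → ℂ))
    (hext : ∃ η : Cfsg.IrrCharacter ↥(N ⊔ (P : Subgroup G)), ∀ n : N, (η : ↥(N ⊔ (P : Subgroup G)) → ℂ) (Subgroup.inclusion le_sup_left n) = (θ : N → ℂ) n) :
    ∃ χ : Cfsg.IrrCharacter G, χ ∈ Cfsg.principalBlock M G ∧ ¬ p ∣ Cfsg.charDegree (χ : G → ℂ) ∧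
      haveI := Fintype.ofFinite N; Cfsg.classInner (fun n : N => (χ : G → ℂ) n) (θ : N → ℂ) ≠ 0 := by
  classical
  have := hM.2.1.isPrime
  have hp : p.Prime := Fact.out
  have := Fintype.ofFinite G
  letI := Fintype.ofFinite N
  have := Fintype.ofFinite (IrrCharacter G)
  set H : Subgroup G := N ⊔ (P : Subgroup G) with hH
  have := Fintype.ofFinite H
  obtain ⟨η, hη⟩ := hext
  have hdegη : Cfsg.charDegree (η : H → ℂ) = Cfsg.charDegree (θ : N → ℂ) := by
    rw [charDegree, charDegree, ← hη 1, map_one]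
  -- `η` is principal: the index of `N` in `H` is a power of `p`
  set N' := N.subgroupOf H
  have := Fintype.ofFinite N'
  have hidx : ∃ j : ℕ, N'.index = p ^ j := by
    have h1 : N'.index ∣ Nat.card (P : Subgroup G) := by
      show N.relIndex (N ⊔ (P : Subgroup G)) ∣ _
      rw [sup_comm, Subgroup.relIndex_sup_right]
      exact Subgroup.relIndex_dvd_card _ _
    obtain ⟨n, hn⟩ := IsPGroup.iff_card.1 P.2
    obtain ⟨j, -, hj⟩ := (Nat.dvd_prime_pow hp).1 (hn ▸ h1)
    exact ⟨j, hj⟩
  obtain ⟨j, hj⟩ := hidx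
  let i : N' ≃* N := Subgroup.subgroupOfEquivOfLe le_sup_left
  let θ' : IrrCharacter N' := CfsgLib.Pairs.mapIrr i θ
  have hresθ : (fun n : N' => (η : H → ℂ) n) = (θ' : N' → ℂ) := funext fun n => by
    rw [CfsgLib.Pairs.mapIrr_apply, ← hη]
    rfl
  have hθ' : θ' ∈ principalBlock M N' := by
    have h : SameBlock M (CfsgLib.Pairs.mapIrr i (CfsgLib.Char.trivChar N) : N' → ℂ)
        (θ' : N' → ℂ) := CfsgLib.Pairs.sameBlock_mapIrr i |>.2 hθ
    exact h
  have hηB : η ∈ principalBlock M H :=
    CfsgLib.Blocks.sameBlock_of_constituent N' hM hj (χ := CfsgLib.Char.trivChar H) (χ' := η)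
      (θ := CfsgLib.Char.trivChar N') (θ' := θ')
      (by rw [CfsgLib.CharAction.classInner_trivChar_restrict]; exact one_ne_zero)
      (by rw [hresθ, CfsgLib.Char.classInner_irr_self]; exact one_ne_zero) hθ'
  have hvη : CfsgLib.CharAction.degVal p (η : H → ℂ) = 0 := by
    rw [CfsgLib.CharAction.degVal, hdegη]
    exact Nat.factorization_eq_zero_of_not_dvd hdeg
  have hnd : ¬ (p : ℤ) ∣ CfsgLib.CharAction.regNum p
      ((CfsgLib.Char.trivChar H : IrrCharacter H) : H → ℂ) (η : H → ℂ) := by
    have h1 := (CfsgLib.CharAction.not_pow_succ_dvd_regNum_iff hM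
      CfsgLib.Blocks.isPBlock_principalBlock (p := p)
      CfsgLib.Blocks.trivChar_mem_principalBlock hηB).2 (CfsgLib.Blocks.blockHeight_trivChar _)
    rwa [hvη, zero_add, pow_one] at h1
  -- the two scalings agree
  have ha : (Nat.card H).factorization p = (Nat.card G).factorization p := by
    refine le_antisymm ((Nat.factorization_le_iff_dvd Nat.card_pos.ne' Nat.card_pos.ne').2
      (Subgroup.card_subgroup_dvd_card _) p) ?_
    have h1 := (Nat.factorization_le_iff_dvd Nat.card_pos.ne' Nat.card_pos.ne').2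
      (Subgroup.card_dvd_of_le (show (P : Subgroup G) ≤ H from le_sup_right)) p
    rwa [Sylow.card_eq_multiplicity, hp.factorization_pow, Finsupp.single_eq_same] at h1
  obtain ⟨m, hm⟩ := CfsgLib.Char.IsChar.exists_sum
    (CfsgLib.Char.isCharacter_indFun H (CfsgLib.Char.IsIrr.isCharacter η.2))
  have hsum : CfsgLib.CharAction.regNum p
      ((CfsgLib.Char.trivChar H : IrrCharacter H) : H → ℂ) (η : H → ℂ) =
      ∑ ξ, (m ξ : ℤ) * CfsgLib.CharAction.regNum p
        ((CfsgLib.Char.trivChar G : IrrCharacter G) : G → ℂ) (ξ : G → ℂ) := by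
    have h1 : classInner (CfsgLib.Char.regCut p ((CfsgLib.Char.trivChar H : IrrCharacter H) : H → ℂ))
        (η : H → ℂ) = classInner (CfsgLib.Char.regCut p ((CfsgLib.Char.trivChar G : IrrCharacter G) : G → ℂ))
        (indFun H (η : H → ℂ)) := by
      have hf : IsClassFunction G
          (CfsgLib.Char.regCut p ((CfsgLib.Char.trivChar G : IrrCharacter G) : G → ℂ)) := fun a b => by
        simp only [CfsgLib.Char.regCut]
        rw [show orderOf (b * a * b⁻¹) = orderOf a from
          MulEquiv.orderOf_eq (MulAut.conj b) a,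
          CfsgLib.Char.trivChar_apply, CfsgLib.Char.trivChar_apply]
      refine Eq.symm ?_
      refine (CfsgLib.Char.classInner_conj_symm (indFun H (η : H → ℂ))
        (CfsgLib.Char.regCut p ((CfsgLib.Char.trivChar G : IrrCharacter G) : G → ℂ))).symm.trans ?_
      rw [CfsgLib.Char.frobenius_reciprocity H _ hf, CfsgLib.Char.classInner_conj_symm]
      congr 1
      funext x
      simp [CfsgLib.Char.regCut, Subgroup.orderOf_coe]
    rw [hm, CfsgLib.Char.classInner_sum_right] at h1
    have h2 := CfsgLib.CharAction.regNum_eq (p := p) (CfsgLib.Char.trivChar H) η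
    rw [h1, ha, Finset.mul_sum] at h2
    simp only [CfsgLib.Char.classInner_smul_right, map_natCast, mul_left_comm _ (m _ : ℂ),
      CfsgLib.CharAction.regNum_eq] at h2
    exact_mod_cast h2.symm
  obtain ⟨ξ, hξ⟩ : ∃ ξ, m ξ ≠ 0 ∧ ¬ (p : ℤ) ∣ CfsgLib.CharAction.regNum p
      ((CfsgLib.Char.trivChar G : IrrCharacter G) : G → ℂ) (ξ : G → ℂ) := by
    by_contra hno
    push Not at hno
    refine hnd (hsum ▸ Finset.dvd_sum fun ξ _ => ?_)
    by_cases h : m ξ = 0
    · simp [h]
    · exact (hno ξ h).mul_left _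
  refine ⟨ξ, by_contra fun hnot => hξ.2 ?_, fun hd => hξ.2 ?_, ?_⟩
  · rw [CfsgLib.CharAction.regNum_eq_zero_of_notMem hM CfsgLib.Blocks.isPBlock_principalBlock
      CfsgLib.Blocks.trivChar_mem_principalBlock hnot]
    exact dvd_zero _
  · refine (dvd_pow_self (p : ℤ) ?_).trans (CfsgLib.CharAction.pow_dvd_regNum_right (p := p) _ ξ)
    exact (hp.factorization_pos_of_dvd (CfsgLib.Blocks.charDegree_pos ξ).ne' hd).ne'
  · intro h0
    -- `ξ` lies over `η`, which restricts to `θ`
    have := Fintype.ofFinite (IrrCharacter H)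
    obtain ⟨c, hc⟩ := CfsgLib.Char.IsChar.exists_sum
      (CfsgLib.Char.IsChar.restrict H (CfsgLib.Char.IsIrr.isCharacter ξ.2))
    have hc' : (fun x : H => (ξ : G → ℂ) x) = ∑ ψ, (c ψ : ℂ) • (ψ : H → ℂ) := hc
    have hcη : c η ≠ 0 := by
      intro h
      apply hξ.1
      have h1 : classInner (indFun H (η : H → ℂ)) (ξ : G → ℂ) = (m ξ : ℂ) := by
        rw [hm, CfsgLib.Char.classInner_sum_irr]
      rw [CfsgLib.Char.frobenius_reciprocity H _ (CfsgLib.Char.IsIrr.isClassFunction ξ.2),
        ← CfsgLib.Char.classInner_conj_symm, hc', CfsgLib.Char.classInner_sum_irr, h,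
        Nat.cast_zero, map_zero] at h1
      exact_mod_cast h1.symm
    have hN : (fun n : N => (ξ : G → ℂ) n) = ∑ ψ, (c ψ : ℂ) •
        fun n : N => (ψ : H → ℂ) (Subgroup.inclusion le_sup_left n) := funext fun n => by
      have := congrFun hc' (Subgroup.inclusion le_sup_left n)
      simpa using this
    rw [hN, CfsgLib.Char.classInner_sum_left] at h0
    simp only [CfsgLib.Char.classInner_smul_left] at h0
    have hnat : ∀ ψ : IrrCharacter H, ∃ b : ℕ, classInner
        (fun n : N => (ψ : H → ℂ) (Subgroup.inclusion le_sup_left n)) (θ : N → ℂ) = b := fun ψ =>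
      CfsgLib.Char.IsChar.classInner_eq_natCast
        (CfsgLib.Char.IsChar.comp (Subgroup.inclusion le_sup_left)
          (CfsgLib.Char.IsIrr.isCharacter ψ.2)) (CfsgLib.Char.IsIrr.isCharacter θ.2)
    choose b hb using hnat
    have hb1 : b η = 1 := by
      have h1 := hb η
      rw [funext hη, CfsgLib.Char.classInner_irr_self] at h1
      exact_mod_cast h1.symm
    simp only [hb] at h0
    have h0' : ∑ ψ, c ψ * b ψ = 0 := by exact_mod_cast h0
    have := Finset.sum_eq_zero_iff.1 h0' η (Finset.mem_univ _)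
    rw [hb1, mul_one] at this
    exact hcη this

end Cfsg.Agent.S4583
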