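import Cfsg.Statements.S4584
import Cfsg.Agent.Lib.CharAction.CyclicExtension
import Cfsg.Agent.Lib.PGroups.Basic

set_option autoImplicit false
open Cfsg

namespace Cfsg.Agent.S4584

open scoped commutatorElement

theorem iff_aux {P : Type*} [Group P] [Finite P] (p : ℕ) [hp : Fact p.Prime] (hP : Nat.card P = p ^ 4) :
    Nat.card (commutator P) = p ↔ (Subgroup.center P).index = p ^ 2 := by
  have hPp : IsPGroup p P := IsPGroup.of_card hP
  haveI := hPp.isNilpotent
  have h1p : 1 < p := hp.out.one_lt
  by_cases hZ : Subgroup.center P = ⊤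
  · have hab : commutator P = ⊥ := (commutator_eq_bot_iff_center_eq_top (G := P)).mpr hZ
    rw [hZ, hab, Subgroup.index_top, Subgroup.card_bot]
    constructor
    · intro h; omega
    · intro h; exact absurd h.symm (by have := Nat.one_lt_pow (n := 2) two_ne_zero h1p; omega)
  obtain ⟨a, -, ha⟩ := SetLike.exists_of_lt (lt_top_iff_ne_top.mpr hZ)
  set A := Subgroup.centralizer ({a} : Set P) with hAdef
  have haA : a ∈ A := Subgroup.mem_centralizer_singleton_iff.mpr rfl
  have hZA : Subgroup.center P ≤ A := fun z hz =>
    Subgroup.mem_centralizer_singleton_iff.mpr ((Subgroup.mem_center_iff.mp hz a).symm)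
  have hAtop : A ≠ ⊤ := fun h => ha (Subgroup.mem_center_iff.mpr fun g =>
    Subgroup.mem_centralizer_singleton_iff.mp (show g ∈ A by rw [h]; trivial))
  have hZlt : Subgroup.center P < A := lt_of_le_of_ne hZA fun h => ha (h ▸ haA)
  obtain ⟨z, hz⟩ := IsPGroup.iff_card.mp (hPp.to_subgroup (Subgroup.center P))
  obtain ⟨i, hi⟩ := hPp.index A
  obtain ⟨k, hk⟩ := IsPGroup.iff_card.mp (hPp.to_subgroup A)
  have hZi : (Subgroup.center P).index = p ^ (4 - z) ∧ z ≤ 4 := by
    have h := (Subgroup.center P).card_mul_index
    obtain ⟨j, hj⟩ := hPp.index (Subgroup.center P)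
    rw [hz, hj, hP, ← pow_add] at h
    have := Nat.pow_right_injective hp.out.two_le h
    exact ⟨by rw [hj]; congr 1; omega, by omega⟩
  have hik : k + i = 4 ∧ 0 < i := by
    have h := A.card_mul_index
    rw [hk, hi, hP, ← pow_add] at h
    refine ⟨Nat.pow_right_injective hp.out.two_le h, ?_⟩
    rcases Nat.eq_zero_or_pos i with h0 | h0
    · subst h0; exact absurd (Subgroup.index_eq_one.mp (by simpa using hi)) hAtop
    · exact h0
  have hz1 : 0 < z := by
    haveI : Nontrivial P := Finite.one_lt_card_iff_nontrivial.mp (hP ▸ Nat.one_lt_pow (by omega) h1p)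
    rcases Nat.eq_zero_or_pos z with h0 | h0
    · subst h0
      exact absurd (Subgroup.card_eq_one.mp (by simpa using hz)) ((Subgroup.nontrivial_iff_ne_bot _).mp hPp.center_nontrivial)
    · exact h0
  have hzk : z < k := by
    have h := Subgroup.card_le_of_le hZA
    rw [hz, hk] at h
    rcases eq_or_lt_of_le ((Nat.pow_le_pow_iff_right h1p).mp h) with h' | h'
    · exact absurd (Subgroup.eq_of_le_of_card_ge hZA (by rw [hz, hk, h'])) hZlt.ne
    · exact h'
  -- index one of `A` in both cases
  have main : A.index = p → Nat.card (commutator P) * Nat.card (Subgroup.center P) = p ^ 3 := by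
    intro hidx
    have hk3 : k = 3 := by
      have := hik.1
      rw [hi] at hidx
      have := Nat.pow_right_injective hp.out.two_le (hidx.trans (pow_one p).symm)
      omega
    have hAab : ∀ x ∈ A, ∀ y ∈ A, x * y = y * x := by
      have hsub : (Subgroup.center P ⊔ Subgroup.zpowers a).subgroupOf A ≤ Subgroup.center A := by
        intro x hx
        refine Subgroup.mem_center_iff.mpr fun w => Subtype.ext ?_
        have hle : Subgroup.center P ⊔ Subgroup.zpowers a ≤ Subgroup.centralizer ({(w : P)} : Set P) :=
          sup_le (fun z hz => Subgroup.mem_centralizer_singleton_iff.mpr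
              ((Subgroup.mem_center_iff.mp hz _).symm))
            (Subgroup.zpowers_le.mpr (Subgroup.mem_centralizer_singleton_iff.mpr
              (Subgroup.mem_centralizer_singleton_iff.mp w.2).symm))
        exact (Subgroup.mem_centralizer_singleton_iff.mp (hle hx)).symm
      have hBA : Subgroup.center P ⊔ Subgroup.zpowers a ≤ A :=
        sup_le hZA (Subgroup.zpowers_le.mpr haA)
      set B := (Subgroup.center P ⊔ Subgroup.zpowers a).subgroupOf A with hB
      haveI : B.Normal := ⟨fun x hx g => by
        rw [Subgroup.mem_center_iff.mp (hsub hx) g, mul_inv_cancel_right]; exact hx⟩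
      have hAp : IsPGroup p A := hPp.to_subgroup A
      obtain ⟨j, hj⟩ := hAp.index B
      obtain ⟨l, hl⟩ := IsPGroup.iff_card.mp (hAp.to_subgroup B)
      have hl2 : 2 ≤ l := by
        have h1 : Nat.card B = Nat.card ↥(Subgroup.center P ⊔ Subgroup.zpowers a) :=
          Nat.card_congr (Subgroup.subgroupOfEquivOfLe hBA).toEquiv
        have h2 : Subgroup.center P < Subgroup.center P ⊔ Subgroup.zpowers a :=
          lt_of_le_of_ne le_sup_left fun h =>
            ha (h ▸ Subgroup.mem_sup_right (Subgroup.mem_zpowers a))
        have h3 := Subgroup.card_le_of_le h2.le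
        rw [← h1, hl, hz] at h3
        rcases eq_or_lt_of_le ((Nat.pow_le_pow_iff_right h1p).mp h3) with h4 | h4
        · exact absurd (Subgroup.eq_of_le_of_card_ge h2.le (by rw [← h1, hl, hz, h4])) h2.ne
        · omega
      have hj1 : j ≤ 1 := by
        have h := B.card_mul_index
        rw [hl, hj, hk, ← pow_add] at h
        have := Nat.pow_right_injective hp.out.two_le h
        omega
      haveI : IsCyclic (A ⧸ B) := by
        rcases Nat.le_one_iff_eq_zero_or_eq_one.mp hj1 with h0 | h0 <;> subst h0
        · haveI : Subsingleton (A ⧸ B) :=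
            (Nat.card_eq_one_iff_unique.mp (by rw [← Subgroup.index_eq_card, hj, pow_zero])).1
          exact isCyclic_of_subsingleton
        · exact isCyclic_of_prime_card (p := p) (by rw [← Subgroup.index_eq_card, hj, pow_one])
      intro x hx y hy
      exact congrArg Subtype.val
        ((CfsgLib.PGroups.isMulCommutative_of_cyclic_quotient hsub).is_comm.comm ⟨x, hx⟩ ⟨y, hy⟩)
    have hmax : IsCoatom A := by
      refine ⟨hAtop, fun B hB => ?_⟩
      have h := Subgroup.relIndex_mul_index hB.le
      rw [hidx] at h
      rcases hp.out.eq_one_or_self_of_dvd _ (Dvd.intro_left _ h) with h' | h'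
      · exact Subgroup.index_eq_one.mp h'
      · rw [h', Nat.mul_eq_right hp.out.ne_zero] at h
        exact absurd (Subgroup.relIndex_eq_one.mp h) hB.not_ge
    haveI := CfsgLib.PGroups.normal_of_isCoatom' hPp hmax
    obtain ⟨b, -, hb⟩ := SetLike.exists_of_lt (lt_top_iff_ne_top.mpr hAtop)
    have htop : A ⊔ Subgroup.zpowers b = ⊤ := hmax.2 _
      (lt_of_le_of_ne le_sup_left fun h => hb (h ▸ Subgroup.mem_sup_right (Subgroup.mem_zpowers b)))
    have h := CfsgLib.CyclicExtension.card_eq_mul A hAab b htop
    rw [hk, hk3, Nat.card_congr (Subgroup.subgroupOfEquivOfLe hZA).toEquiv] at h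
    exact h.symm
  constructor
  · intro hc
    have hcen : commutator P ≤ Subgroup.center P := by
      have hne : commutator P ≠ ⊥ := fun h => by rw [h, Subgroup.card_bot] at hc; omega
      have h1 := CfsgLib.PGroups.inf_center_ne_bot hPp hne
      haveI := Fact.mk (hc ▸ hp.out : (Nat.card (commutator P)).Prime)
      rcases Subgroup.eq_bot_or_eq_top_of_prime_card
        ((Subgroup.center P).subgroupOf (commutator P)) with h | h
      · exact absurd (by rw [inf_comm]; exact Subgroup.subgroupOf_eq_bot.mp h |>.eq_bot) h1
      · exact Subgroup.subgroupOf_eq_top.mp h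
    let f : P →* commutator P :=
      { toFun := fun y => ⟨⁅a, y⁆,
          Subgroup.commutator_mem_commutator (Subgroup.mem_top a) (Subgroup.mem_top y)⟩
        map_one' := Subtype.ext (commutatorElement_one_right a)
        map_mul' := fun x y => Subtype.ext (by
          have hy : ∀ g : P, g * ⁅a, y⁆ = ⁅a, y⁆ * g := Subgroup.mem_center_iff.mp (hcen
            (Subgroup.commutator_mem_commutator (Subgroup.mem_top a) (Subgroup.mem_top y)))
          show ⁅a, x * y⁆ = ⁅a, x⁆ * ⁅a, y⁆
          calc ⁅a, x * y⁆ = ⁅a, x⁆ * (x * ⁅a, y⁆ * x⁻¹) := by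
                simp only [commutatorElement_def]; group
            _ = ⁅a, x⁆ * ⁅a, y⁆ := by rw [hy x, mul_inv_cancel_right]) }
    have hker : f.ker = A := by
      ext y
      rw [MonoidHom.mem_ker, Subtype.ext_iff]
      show ⁅a, y⁆ = 1 ↔ _
      rw [commutatorElement_eq_one_iff_mul_comm, Subgroup.mem_centralizer_singleton_iff]
      exact eq_comm
    have hidx : A.index = p := by
      have h : A.index ∣ p := by
        rw [← hker, Subgroup.index_ker, ← hc]
        exact Subgroup.card_subgroup_dvd_card _
      exact (hp.out.eq_one_or_self_of_dvd _ h).resolve_left fun h => hAtop (Subgroup.index_eq_one.mp h)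
    have h := main hidx
    rw [hc, hz, ← pow_succ'] at h
    have := Nat.pow_right_injective hp.out.two_le h
    rw [hZi.1]; congr 1; omega
  · intro hc
    rw [hZi.1] at hc
    have hz2 : z = 2 := by
      have := Nat.pow_right_injective hp.out.two_le hc
      omega
    have h := main (by rw [hi]; conv_rhs => rw [← pow_one p]
                       congr 1; omega)
    rw [hz, hz2, show p ^ 3 = p * p ^ 2 by ring] at h
    exact Nat.eq_of_mul_eq_mul_right (pow_pos hp.out.pos 2) h


/-- Let p be a prime and P a group of order p^4. Then the derived subgroup P' has order p if and only if the centre Z(P) has index p^2 in P. -/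
theorem result {P : Type*} [Group P] [Finite P] (p : ℕ) [Fact p.Prime] (hP : Nat.card P = p ^ 4) :
    Nat.card (commutator P) = p ↔ (Subgroup.center P).index = p ^ 2 := by
  exact iff_aux p hP

end Cfsg.Agent.S4584
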