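import Cfsg.Statements.S4585
import Cfsg.Agent.S4584

set_option autoImplicit false
open Cfsg

namespace Cfsg.Agent.S4585

/-- Let p be a prime and P a group of order p^4. Then P' has index p^2 in P if and only if P has maximal nilpotency class, that is, nilpotency class exactly 3. -/
theorem result {P : Type*} [Group P] [Finite P] (p : ℕ) [Fact p.Prime] (hP : Nat.card P = p ^ 4) :
    (commutator P).index = p ^ 2 ↔ Group.nilpotencyClass P = 3 := by
  have hp : p.Prime := Fact.out
  have hPp : IsPGroup p P := IsPGroup.of_card hP
  haveI := hPp.isNilpotent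
  set L := fun i => (⊤ : Subgroup P).lowerCentralSeries i with hL
  have hL1 : L 1 = commutator P := Subgroup.top_lowerCentralSeries_one
  obtain ⟨c, hc⟩ := IsPGroup.iff_card.mp (hPp.to_subgroup (commutator P))
  obtain ⟨d, hd⟩ := hPp.index (commutator P)
  have hcd : c + d = 4 := by
    have h := (commutator P).card_mul_index
    rw [hc, hd, hP, ← pow_add] at h
    exact Nat.pow_right_injective hp.two_le h
  have hstrict : ∀ i, L (i + 1) = L i → L i = ⊥ := by
    intro i hi
    have hconst : ∀ j, L (i + j) = L i := by
      intro j
      induction j with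
      | zero => rfl
      | succ j ih =>
        show (⊤ : Subgroup P).lowerCentralSeries (i + j + 1) = _
        rw [Subgroup.lowerCentralSeries_succ]
        show ⁅L (i + j), ⊤⁆ = L i
        rw [ih]
        conv_rhs => rw [← hi]
        exact (Subgroup.lowerCentralSeries_succ _ i).symm
    rw [← hconst (Group.nilpotencyClass P), eq_bot_iff]
    calc L (i + Group.nilpotencyClass P) ≤ L (Group.nilpotencyClass P) :=
          Subgroup.lowerCentralSeries_antitone _ (Nat.le_add_left _ _)
      _ = ⊥ := lowerCentralSeries_nilpotencyClass
  have hdrop : ∀ i k, Nat.card (L i) ∣ p ^ (k + 1) → Nat.card (L (i + 1)) ∣ p ^ k := by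
    intro i k h
    have hle : L (i + 1) ≤ L i := Subgroup.lowerCentralSeries_antitone _ (Nat.le_succ i)
    obtain ⟨u, hu⟩ := IsPGroup.iff_card.mp (hPp.to_subgroup (L (i + 1)))
    obtain ⟨v, hv⟩ := IsPGroup.iff_card.mp (hPp.to_subgroup (L i))
    rw [hv] at h
    have hvk : v ≤ k + 1 := (Nat.pow_dvd_pow_iff_le_right hp.one_lt).mp h
    rcases Nat.lt_or_ge u v with hlt | hge
    · rw [hu]; exact pow_dvd_pow p (by omega)
    · have he := Subgroup.eq_of_le_of_card_ge hle
        (by rw [hu, hv]; exact Nat.pow_le_pow_right hp.pos hge)
      rw [he, hstrict i he, Subgroup.card_bot]; exact one_dvd _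
  have hfrat : 2 ≤ d ∨ commutator P = ⊥ := by
    by_contra hcon
    push Not at hcon
    apply hcon.2
    have hidx : (frattini P).index ≤ p := by
      refine Nat.le_of_dvd hp.pos ((Subgroup.index_dvd_of_le
        (CfsgLib.PGroups.commutator_le_frattini' hPp)).trans ?_)
      rw [hd]
      conv_rhs => rw [← pow_one p]
      exact pow_dvd_pow p (by omega)
    haveI := CfsgLib.PGroups.isCyclic_of_index_frattini_le hPp hidx
    exact (commutator_eq_bot_iff_center_eq_top (G := P)).mpr
      (eq_top_iff.mpr fun g _ => Subgroup.mem_center_iff.mpr fun h =>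
        (IsCyclic.isMulCommutative (α := P)).is_comm.comm h g)
  constructor
  · intro hidx
    have hd2 : d = 2 := Nat.pow_right_injective hp.two_le (hd.symm.trans hidx)
    have h3 : L 3 = ⊥ := by
      rw [← Subgroup.card_eq_one]
      have h1 : Nat.card (L 1) ∣ p ^ 2 := by rw [hL1, hc]; exact pow_dvd_pow p (by omega)
      simpa using hdrop 2 0 (hdrop 1 1 h1)
    have h2 : L 2 ≠ ⊥ := by
      intro h
      have hcen : commutator P ≤ Subgroup.center P := by
        intro x hx
        rw [← hL1] at hx
        refine Subgroup.mem_center_iff.mpr fun g => ?_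
        have hm : x * g * x⁻¹ * g⁻¹ ∈ L 2 :=
          Subgroup.commutator_mem_commutator hx (Subgroup.mem_top g)
        rw [h, Subgroup.mem_bot] at hm
        exact (mul_inv_eq_iff_eq_mul.mp (mul_inv_eq_one.mp hm)).symm
      have hc2 : c = 2 := by omega
      obtain ⟨e, he⟩ := hPp.index (Subgroup.center P)
      have hedvd : e ≤ 2 := by
        have := Subgroup.index_dvd_of_le hcen
        rw [hd, he, hd2] at this
        exact (Nat.pow_dvd_pow_iff_le_right hp.one_lt).mp this
      rcases Nat.lt_or_ge e 2 with he2 | he2
      · have hcenC : commutator P = ⊥ := by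
          rw [commutator_eq_bot_iff_center_eq_top]
          haveI : IsCyclic (P ⧸ Subgroup.center P) := by
            interval_cases e
            · haveI : Subsingleton (P ⧸ Subgroup.center P) :=
                (Nat.card_eq_one_iff_unique.mp (by rw [← Subgroup.index_eq_card, he, pow_zero])).1
              exact isCyclic_of_subsingleton
            · exact isCyclic_of_prime_card (p := p) (by rw [← Subgroup.index_eq_card, he, pow_one])
          have := CfsgLib.PGroups.isMulCommutative_of_cyclic_quotient
            (le_refl (Subgroup.center P))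
          exact eq_top_iff.mpr fun g _ => Subgroup.mem_center_iff.mpr fun y => this.is_comm.comm y g
        rw [hcenC, Subgroup.card_bot] at hc
        have := (Nat.pow_eq_one.mp hc.symm).resolve_left hp.ne_one
        omega
      · have h4 := (Cfsg.Agent.S4584.iff_aux p hP).mpr (by rw [he]; congr 1; omega)
        rw [hc, hc2] at h4
        have := Nat.pow_right_injective hp.two_le (h4.trans (pow_one p).symm)
        omega
    have hle : Group.nilpotencyClass P ≤ 3 :=
      lowerCentralSeries_eq_bot_iff_nilpotencyClass_le.mp h3
    have hgt : ¬ Group.nilpotencyClass P ≤ 2 := fun h =>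
      h2 (lowerCentralSeries_eq_bot_iff_nilpotencyClass_le.mpr h)
    omega
  · intro hcl
    have h2 : L 2 ≠ ⊥ := fun h => by
      have := lowerCentralSeries_eq_bot_iff_nilpotencyClass_le.mp h
      omega
    have hc2 : 2 ≤ c := by
      by_contra hcon
      apply h2
      rw [← Subgroup.card_eq_one]
      have h1 : Nat.card (L 1) ∣ p ^ 1 := by rw [hL1, hc]; exact pow_dvd_pow p (by omega)
      simpa using hdrop 1 0 h1
    rw [hd]
    rcases hfrat with h | h
    · congr 1; omega
    · exfalso
      rw [h, Subgroup.card_bot] at hc
      have := (Nat.pow_eq_one.mp hc.symm).resolve_left hp.ne_one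
      omega

end Cfsg.Agent.S4585
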