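import Cfsg.Statements.S4586
import Cfsg.Agent.Lib.CharAction.CyclicExtension
import Cfsg.Agent.Lib.PGroups.Basic

set_option autoImplicit false
open Cfsg

namespace Cfsg.Agent.S4586

/-- Let p be a prime, P a finite p-group and N a normal subgroup of P of index p. For x ∈ P write c(x) for the number of elements n of N whose commutator x n x⁻¹ n⁻¹ lies in the derived subgroup N' (so c(x)/#N' is the order of the centralizer of x acting on N/N'). Then [P : P'] = p² if and only if c(x) = p·#N' for every x ∈ P outside N, and also if and only if c(x) = p·#N' for some x ∈ P outside N. -/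
theorem result {P : Type*} [Group P] [Finite P] (p : ℕ) [Fact p.Prime] (hP : IsPGroup p P) (N : Subgroup P) [N.Normal] (hN : N.index = p) :
    ((commutator P).index = p ^ 2 ↔ ∀ x : P, x ∉ N →
        Nat.card {n : N // x * n * x⁻¹ * (n : P)⁻¹ ∈ (commutator N).map N.subtype} = p * Nat.card (commutator N)) ∧
    ((commutator P).index = p ^ 2 ↔ ∃ x : P, x ∉ N ∧
        Nat.card {n : N // x * n * x⁻¹ * (n : P)⁻¹ ∈ (commutator N).map N.subtype} = p * Nat.card (commutator N)) := by
  classical
  have hp : p.Prime := Fact.out
  set R := (commutator N).map N.subtype with hR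
  haveI hRn : R.Normal := by rw [hR]; infer_instance
  have hRN : R ≤ N := Subgroup.map_subtype_le _
  have hRc : Nat.card R = Nat.card (commutator N) :=
    Subgroup.card_map_of_injective N.subtype_injective
  have hRP : R ≤ commutator P := by
    rw [hR, commutator_def, Subgroup.map_commutator]
    exact Subgroup.commutator_mono le_top le_top
  have key : ∀ x : P, x ∉ N →
      ((commutator P).index = p ^ 2 ↔
        Nat.card {n : N // x * n * x⁻¹ * (n : P)⁻¹ ∈ R} = p * Nat.card (commutator N)) := by
    intro x hx
    let π : P →* P ⧸ R := QuotientGroup.mk' R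
    set A := N.map π with hA
    haveI : A.Normal := Subgroup.Normal.map inferInstance π (QuotientGroup.mk'_surjective R)
    have hAab : ∀ u ∈ A, ∀ v ∈ A, u * v = v * u := by
      rintro _ ⟨u, hu, rfl⟩ _ ⟨v, hv, rfl⟩
      have h : u * v * u⁻¹ * v⁻¹ ∈ R := Subgroup.mem_map_of_mem N.subtype
        (Subgroup.commutator_mem_commutator (Subgroup.mem_top (⟨u, hu⟩ : N))
          (Subgroup.mem_top (⟨v, hv⟩ : N)))
      have h1 : π (u * v * u⁻¹ * v⁻¹) = 1 := (QuotientGroup.eq_one_iff _).mpr h
      simp only [map_mul, map_inv] at h1
      exact mul_inv_eq_iff_eq_mul.mp (mul_inv_eq_one.mp h1)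
    have htop : A ⊔ Subgroup.zpowers (π x) = ⊤ := by
      have h1 : N ⊔ Subgroup.zpowers x = ⊤ := by
        have h := Subgroup.relIndex_mul_index (le_sup_left : N ≤ N ⊔ Subgroup.zpowers x)
        rw [hN] at h
        rcases hp.eq_one_or_self_of_dvd _ (Dvd.intro_left _ h) with h' | h'
        · exact Subgroup.index_eq_one.mp h'
        · rw [h', Nat.mul_eq_right hp.ne_zero] at h
          exact absurd (Subgroup.relIndex_eq_one.mp h
            (Subgroup.mem_sup_right (Subgroup.mem_zpowers x))) hx
      rw [hA, ← MonoidHom.map_zpowers, ← Subgroup.map_sup, h1,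
        Subgroup.map_top_of_surjective _ (QuotientGroup.mk'_surjective R)]
    have hker : ∀ u : A, u ∈ (CfsgLib.CyclicExtension.commHom A hAab (π x)).ker ↔
        π x * u * (π x)⁻¹ * (u : P ⧸ R)⁻¹ = 1 := fun u => Iff.rfl
    let g : N →* A := π.subgroupMap N
    have hg : Function.Surjective g := π.subgroupMap_surjective N
    let K := (CfsgLib.CyclicExtension.commHom A hAab (π x)).ker
    have hcount : Nat.card {n : N // x * n * x⁻¹ * (n : P)⁻¹ ∈ R} = Nat.card (K.comap g) := by
      refine Nat.card_congr (Equiv.subtypeEquivRight fun n => ?_)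
      rw [Subgroup.mem_comap, hker, show ((g n : A) : P ⧸ R) = π n from rfl, ← map_inv, ← map_inv,
        ← map_mul, ← map_mul, ← map_mul]
      exact (QuotientGroup.eq_one_iff _).symm
    have hgker : Nat.card g.ker = Nat.card R := by
      rw [← Nat.card_congr (Subgroup.subgroupOfEquivOfLe hRN).toEquiv]
      refine Nat.card_congr (Equiv.subtypeEquivRight fun n => ?_)
      rw [MonoidHom.mem_ker, Subtype.ext_iff, Subgroup.mem_subgroupOf]
      exact QuotientGroup.eq_one_iff _
    have hcomap : Nat.card (K.comap g) = Nat.card K * Nat.card g.ker := by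
      have h1 : (K.comap g).index = K.index := Subgroup.index_comap_of_surjective K hg
      have h2 := (K.comap g).card_mul_index
      have h3 := K.card_mul_index
      have h4 := g.ker.card_mul_index
      rw [Subgroup.index_ker, MonoidHom.range_eq_top.mpr hg, Subgroup.card_top] at h4
      rw [h1] at h2
      have hpos : 0 < K.index := Nat.pos_of_ne_zero Subgroup.index_ne_zero_of_finite
      apply Nat.eq_of_mul_eq_mul_right hpos
      rw [h2, ← h4, ← h3]; ring
    rw [hcount, hcomap, hgker, hRc, Nat.mul_left_inj (Nat.card_pos).ne']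
    -- compare with the index
    have hAidx : A.index = p := by
      rw [hA, Subgroup.index_map_eq N (QuotientGroup.mk'_surjective R)
        (by rw [QuotientGroup.ker_mk']; exact hRN), hN]
    have hrange : (CfsgLib.CyclicExtension.commHom A hAab (π x)).range = (commutator P).map π := by
      rw [CfsgLib.CyclicExtension.range_eq_commutator A hAab (π x) htop, commutator_def,
        commutator_def, Subgroup.map_commutator,
        Subgroup.map_top_of_surjective _ (QuotientGroup.mk'_surjective R)]
    have hidx : ((commutator P).map π).index = (commutator P).index :=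
      Subgroup.index_map_eq _ (QuotientGroup.mk'_surjective R)
        (by rw [QuotientGroup.ker_mk']; exact hRP)
    have h1 := K.card_mul_index
    rw [show K.index = Nat.card (CfsgLib.CyclicExtension.commHom A hAab (π x)).range from
      Subgroup.index_ker _, hrange] at h1
    have h2 := ((commutator P).map π).card_mul_index
    have h3 := A.card_mul_index
    rw [hidx] at h2
    rw [hAidx, ← h1, ← h2] at h3
    have h4 : (commutator P).index = Nat.card K * p := by
      apply Nat.eq_of_mul_eq_mul_left (Nat.card_pos (α := ↥((commutator P).map π)))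
      rw [← h3]; ring
    rw [h4, sq, Nat.mul_left_inj hp.ne_zero]
  obtain ⟨x, -, hx⟩ := SetLike.exists_of_lt (lt_top_iff_ne_top.mpr (fun h : N = ⊤ => by
    rw [h, Subgroup.index_top] at hN
    exact hp.ne_one hN.symm))
  exact ⟨⟨fun h y hy => (key y hy).mp h, fun h => (key x hx).mpr (h x hx)⟩,
    ⟨fun h => ⟨x, hx, (key x hx).mp h⟩, fun ⟨y, hy, h⟩ => (key y hy).mpr h⟩⟩

end Cfsg.Agent.S4586
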