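import Cfsg.Statements.S4587
import Cfsg.Agent.Lib.PGroups.SmallAbelianization.Group

set_option autoImplicit false
open Cfsg

namespace Cfsg.Agent.S4587

/-- Let G be a finite group, p a prime and P a Sylow p-subgroup of order at least p². Assume that G has no nontrivial normal subgroup of order prime to p, that the derived subgroup P' of P contains no nontrivial normal subgroup of G, and that G is not almost simple (there is no non-abelian simple normal subgroup of G with trivial centralizer). Then [P : P'] = p² if and only if some p-element x of G has centralizer whose order has p-part exactly p². -/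
theorem result {G : Type*} [Group G] [Finite G] (p : ℕ) [Fact p.Prime] (P : Sylow p G) (hbig : p ^ 2 ∣ Nat.card G) (hcore : Cfsg.pPrimeCore p G = ⊥)
    (hcore' : (⁅(P : Subgroup G), (P : Subgroup G)⁆).normalCore = ⊥) (hnas : ¬ ∃ S : Subgroup G, S.Normal ∧ IsSimpleGroup S ∧ ¬ IsMulCommutative S ∧ Subgroup.centralizer (S : Set G) = ⊥) :
    (⁅(P : Subgroup G), (P : Subgroup G)⁆).relIndex (P : Subgroup G) = p ^ 2 ↔
      ∃ x : G, (∃ k : ℕ, orderOf x = p ^ k) ∧ (Nat.card (Subgroup.centralizer ({x} : Set G))).factorization p = 2 := by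
  have hcm : (⁅(P : Subgroup G), (P : Subgroup G)⁆).relIndex (P : Subgroup G) =
      (commutator (P : Subgroup G)).index := by
    rw [Subgroup.relIndex, ← Subgroup.map_subtype_commutator]
    congr 1
    exact Subgroup.comap_map_eq_self_of_injective (Subgroup.subtype_injective _) _
  rw [hcm]
  have hpp := (Fact.out : p.Prime)
  have hPbig : p ^ 2 ≤ Nat.card (P : Subgroup G) := by
    rw [P.card_eq_multiplicity]
    exact Nat.pow_le_pow_right hpp.pos
      ((hpp.pow_dvd_iff_le_factorization Nat.card_pos.ne').1 hbig)
  constructor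
  · intro hidx
    by_cases hne : commutator (P : Subgroup G) = ⊥
    · refine ⟨1, ⟨0, by rw [orderOf_one, pow_zero]⟩, ?_⟩
      rw [hne, Subgroup.index_bot] at hidx
      have h1 : Subgroup.centralizer ({(1 : G)} : Set G) = ⊤ := by
        rw [eq_top_iff]
        intro x _
        exact Subgroup.mem_centralizer_singleton_iff.2 (by rw [mul_one, one_mul])
      rw [h1, Subgroup.card_top]
      rw [P.card_eq_multiplicity] at hidx
      exact Nat.pow_right_injective hpp.two_le hidx
    · obtain ⟨N, hNn, hNi, hNc⟩ :=
        CfsgLib.SmallAbelianization.exists_normal_inter P hcore hcore' hnas hidx hne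
      haveI := hNn
      haveI : (N.subgroupOf (P : Subgroup G)).Normal := hNn.subgroupOf _
      obtain ⟨b, hb⟩ : ∃ b, b ∉ N.subgroupOf (P : Subgroup G) := by
        by_contra h
        push Not at h
        rw [Subgroup.index_eq_one.2 (eq_top_iff.2 fun x _ => h x)] at hNi
        exact hpp.ne_one hNi.symm
      have hx : ∃ k : ℕ, orderOf (b : G) = p ^ k := by
        obtain ⟨k, hk⟩ := IsPGroup.iff_orderOf.1 P.isPGroup' b
        exact ⟨k, by rw [Subgroup.orderOf_coe, hk]⟩
      refine ⟨b, hx, ?_⟩
      obtain ⟨g, hg, hcard⟩ := CfsgLib.SmallAbelianization.exists_conj_mem P hx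
      have hout : (⟨_, hg⟩ : (P : Subgroup G)) ∉ N.subgroupOf (P : Subgroup G) := fun h => hb (by
        have h1 : g * (b : G) * g⁻¹ ∈ N := h
        have h2 := hNn.conj_mem _ h1 g⁻¹
        rw [Subgroup.mem_subgroupOf]
        simpa [mul_assoc] using h2)
      have hle := CfsgLib.SmallAbelianization.centralizer_le_sq hidx _ hNi hNc hout
      have hge := CfsgLib.SmallAbelianization.card_le_centralizer_mul_commutator
        (⟨_, hg⟩ : (P : Subgroup G))
      have hm := (commutator (P : Subgroup G)).card_mul_index
      rw [hidx] at hm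
      rw [← hm, mul_comm (Nat.card _) (p ^ 2)] at hge
      have hge' := Nat.le_of_mul_le_mul_right hge Nat.card_pos
      rw [hcard] at hle hge'
      exact le_antisymm ((Nat.pow_le_pow_iff_right hpp.one_lt).1 hle)
        ((Nat.pow_le_pow_iff_right hpp.one_lt).1 hge')
  · rintro ⟨x, hx, hfac⟩
    obtain ⟨g, hg, hcard⟩ := CfsgLib.SmallAbelianization.exists_conj_mem P hx
    rw [hfac] at hcard
    have hge := CfsgLib.SmallAbelianization.card_le_centralizer_mul_commutator
      (⟨_, hg⟩ : (P : Subgroup G))
    have hm := (commutator (P : Subgroup G)).card_mul_index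
    rw [hcard, ← hm, mul_comm (p ^ 2)] at hge
    have hle : (commutator (P : Subgroup G)).index ≤ p ^ 2 :=
      Nat.le_of_mul_le_mul_left hge Nat.card_pos
    obtain ⟨j, hj⟩ := P.isPGroup'.index (commutator (P : Subgroup G))
    rw [hj] at hle ⊢
    have hj2 : j ≤ 2 := (Nat.pow_le_pow_iff_right hpp.one_lt).1 hle
    by_contra hne
    have hj1 : j ≤ 1 := by
      rcases Nat.lt_or_ge j 2 with h | h
      · omega
      · exact absurd (by rw [le_antisymm hj2 h]) hne
    have hsmall : (commutator (P : Subgroup G)).index ≤ p := by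
      rw [hj]
      calc p ^ j ≤ p ^ 1 := Nat.pow_le_pow_right hpp.pos hj1
        _ = p := pow_one p
    rw [CfsgLib.SmallAbelianization.comm_of_index_le P.isPGroup' hsmall, Subgroup.index_bot] at hsmall
    have : p < p ^ 2 := by
      calc p = p ^ 1 := (pow_one p).symm
        _ < p ^ 2 := Nat.pow_lt_pow_right hpp.one_lt (by omega)
    omega

end Cfsg.Agent.S4587
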