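import Cfsg.Statements.S4588
import Cfsg.Agent.Lib.Blocks.DefectOne.Count
import Cfsg.Agent.Lib.Blocks.Principal

set_option autoImplicit false
open Cfsg

namespace Cfsg.Agent.S4588

/-- Let G be a finite group, p a prime and M a maximal ideal of the algebraic integers containing p. If some p-element x of G (possibly x = 1) has centralizer whose order has p-part at most p², then the principal p-block of G contains at most p² irreducible characters of degree prime to p. -/
theorem result {G : Type*} [Group G] [Finite G] (p : ℕ) [Fact p.Prime] (M : Ideal Cfsg.AlgInt) (hM : Cfsg.IsPModular p M)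
    (hx : ∃ x : G, (∃ k : ℕ, orderOf x = p ^ k) ∧ (Nat.card (Subgroup.centralizer ({x} : Set G))).factorization p ≤ 2) :
    Nat.card {χ : Cfsg.IrrCharacter G // χ ∈ Cfsg.principalBlock M G ∧ ¬ p ∣ Cfsg.charDegree (χ : G → ℂ)} ≤ p ^ 2 := by
  classical
  haveI := Fintype.ofFinite G
  haveI : M.IsPrime := hM.2.1.isPrime
  haveI := Fintype.ofFinite (IrrCharacter G)
  obtain ⟨x, hxk, hx2⟩ := hx
  set B := principalBlock M G with hBdef
  have hB : IsPBlock M B := CfsgLib.Blocks.isPBlock_principalBlock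
  rcases eq_or_ne x 1 with rfl | hne
  · have hC : Subgroup.centralizer ({(1 : G)} : Set G) = ⊤ := eq_top_iff.2 fun g _ =>
      Subgroup.mem_centralizer_singleton_iff.2 (by simp)
    rw [hC, Subgroup.card_top, ← CfsgLib.DefectOne.blockDefect_principal M G, ← hBdef] at hx2
    refine le_trans ?_ (((CfsgLib.DefectOne.card_block_le hM _ G rfl B hB).1 hx2).trans
      (Nat.pow_le_pow_right hM.1.pos hx2))
    exact Nat.card_le_card_of_injective (fun χ => (⟨χ.1, χ.2.1⟩ : B))
      fun a c h => Subtype.ext (congrArg (fun t : B => (t : IrrCharacter G)) h)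
  haveI := Fintype.ofFinite (IrrCharacter (Subgroup.centralizer ({x} : Set G)))
  set b := principalBlock M (Subgroup.centralizer ({x} : Set G)) with hbdef
  have hb : IsPBlock M b := CfsgLib.Blocks.isPBlock_principalBlock
  have hind : IsInducedBlock M (Subgroup.centralizer ({x} : Set G)) b B :=
    (CfsgLib.Blocks.isInducedBlock_principal_iff hM hxk hb).2 rfl
  have hd : blockDefect p b ≤ 2 := by rw [hbdef, CfsgLib.DefectOne.blockDefect_principal]; exact hx2
  obtain ⟨k, hk⟩ := hxk
  obtain ⟨k, rfl⟩ : ∃ j, k = j + 1 := ⟨k - 1, by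
    rcases k with _ | k
    · exact absurd (orderOf_eq_one_iff.1 (by rw [hk, pow_zero])) hne
    · omega⟩
  set z : Subgroup.centralizer ({x} : Set G) :=
    ⟨x, Subgroup.mem_centralizer_singleton_iff.2 rfl⟩ ^ p ^ k with hzdef
  have hz : orderOf z = p := by
    rw [hzdef, orderOf_pow_of_dvd (pow_ne_zero _ hM.1.ne_zero), Subgroup.orderOf_mk, hk, pow_succ,
      Nat.mul_div_cancel_left _ (pow_pos hM.1.pos k)]
    rw [Subgroup.orderOf_mk, hk]
    exact pow_dvd_pow p (Nat.le_succ k)
  have hcen : ∀ g : Subgroup.centralizer ({x} : Set G), g * z = z * g := fun g =>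
    ((show Commute g ⟨x, Subgroup.mem_centralizer_singleton_iff.2 rfl⟩ from
      Subtype.ext (Subgroup.mem_centralizer_singleton_iff.1 g.2)).pow_right _).eq
  set A := (Set.toFinite B).toFinset.filter fun χ : IrrCharacter G => ¬ p ∣ charDegree (χ : G → ℂ)
  have hA : Nat.card {χ : Cfsg.IrrCharacter G // χ ∈ B ∧ ¬ p ∣ Cfsg.charDegree (χ : G → ℂ)} = A.card := by
    rw [← Nat.card_eq_finsetCard]
    exact Nat.card_congr (Equiv.subtypeEquivRight fun χ => by simp [A])
  have hh : ∀ χ ∈ A, χ ∈ B ∧ blockHeight p B (χ : G → ℂ) = 0 := fun χ hχ => by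
    obtain ⟨h1, h2⟩ := Finset.mem_filter.1 hχ
    exact ⟨(Set.Finite.mem_toFinset _).1 h1, by
      simp [blockHeight, Nat.factorization_eq_zero_of_not_dvd h2]⟩
  have h := CfsgLib.DefectOne.card_mul_le_of_min hM ⟨k + 1, hk⟩ hind A (fun χ hχ => (hh χ hχ).1)
    (fun χ hχ => ⟨CfsgLib.Char.trivChar G,
      CfsgLib.Blocks.SubForm.entry_ne_zero_of_height_zero hM ⟨k + 1, hk⟩ hind (hh χ hχ).1
        CfsgLib.Blocks.trivChar_mem_principalBlock (hh χ hχ).2
        (CfsgLib.Blocks.blockHeight_trivChar B)⟩)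
    (μ := max 1 (blockRank p b : ℤ)) (le_trans zero_le_one (le_max_left _ _))
    fun v hv => (CfsgLib.DefectOne.rank_le_form_of_central hM hz hcen hb hd v).resolve_left hv
  rw [hA]
  have h' : (A.card : ℤ) * max 1 (blockRank p b : ℤ) ≤
      ((p ^ blockDefect p b : ℕ) : ℤ) * max 1 (blockRank p b : ℤ) := by
    push_cast
    exact h.trans (mul_le_mul_of_nonneg_left (le_max_right _ _) (by positivity))
  have h'' : A.card ≤ p ^ blockDefect p b := by
    exact_mod_cast le_of_mul_le_mul_right h' (lt_of_lt_of_le zero_lt_one (le_max_left _ _))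
  exact h''.trans (Nat.pow_le_pow_right hM.1.pos hd)

end Cfsg.Agent.S4588
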