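import Cfsg.Statements.S4594
import Cfsg.Agent.Lib.TwoGroups.CentreIndexFour.Reduce
import Cfsg.Agent.Lib.TwoGroups.CentreIndexFour.Endgame
import Cfsg.Agent.Lib.Bender.Gen.Final

set_option autoImplicit false
open Cfsg

namespace Cfsg.Agent.S4594

/-- Let G be a finite quasisimple group with a non-abelian Sylow 2-subgroup P whose centre has index 4 in P. Then P has order 8, and G is isomorphic to the alternating group on 7 letters, or G has centre of order 3 with central quotient isomorphic to the alternating group on 7 letters, or the central quotient of G is isomorphic to PSL(2, F) for some finite field F of odd order. -/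
theorem result {G : Type*} [Group G] [Finite G] (hq : Cfsg.IsQuasisimple G) (P : Sylow 2 G) (hna : ¬ IsMulCommutative (P : Subgroup G)) (hZ : (Subgroup.center (P : Subgroup G)).index = 4) :
    Nat.card (P : Subgroup G) = 8 ∧
      (Nonempty (G ≃* alternatingGroup (Fin 7)) ∨
       (Nat.card (Subgroup.center G) = 3 ∧ Nonempty (G ⧸ Subgroup.center G ≃* alternatingGroup (Fin 7))) ∨
       ∃ (F : Type) (_ : Field F) (_ : Fintype F), Odd (Fintype.card F) ∧ Nonempty (G ⧸ Subgroup.center G ≃* Matrix.ProjectiveSpecialLinearGroup (Fin 2) F)) := by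
  haveI : Fact (Nat.Prime 2) := ⟨Nat.prime_two⟩
  have hL := CfsgLib.TwoGroups.CentreIndexFour.center_inf_sylow_le hq.1.commutator_eq_top P
  have h8 := CfsgLib.TwoGroups.CentreIndexFour.card_eight CfsgLib.Bender.benderGen hq P hna hZ hL
  exact ⟨h8, CfsgLib.TwoGroups.CentreIndexFour.identify hq P hna h8⟩

end Cfsg.Agent.S4594
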