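import Cfsg.Statements.S4604
import Cfsg.Agent.Lib.CharAction.Galois
import Cfsg.Agent.Lib.Char.DegreeCenter

set_option autoImplicit false
open Cfsg

namespace Cfsg.Agent.S4604

/-- Let G be a finite group, p a prime and p^a the p-part of the order of G. Let x, y ∈ G and let x′, y′ be their p-regular parts: x′ has order prime to p, commutes with x·x′⁻¹, and x·x′⁻¹ has p-power order (likewise for y). Then x′ and y′ are conjugate in G if and only if for every irreducible character χ of G the algebraic integer χ(x)^(p^a) − χ(y)^(p^a) is p times an algebraic integer. -/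
theorem result {G : Type*} [Group G] [Finite G] (p : ℕ) [Fact p.Prime] (x y x' y' : G)
    (hx : (∃ k : ℕ, orderOf (x * x'⁻¹) = p ^ k) ∧ Commute (x * x'⁻¹) x' ∧ ¬ p ∣ orderOf x')
    (hy : (∃ k : ℕ, orderOf (y * y'⁻¹) = p ^ k) ∧ Commute (y * y'⁻¹) y' ∧ ¬ p ∣ orderOf y') :
    IsConj x' y' ↔ ∀ χ : Cfsg.IrrCharacter G, ∃ γ : Cfsg.AlgInt,
      (χ : G → ℂ) x ^ (p ^ (Nat.card G).factorization p) - (χ : G → ℂ) y ^ (p ^ (Nat.card G).factorization p) = (p : ℂ) * (γ : ℂ) := by
  classical
  haveI := Fintype.ofFinite G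
  haveI := Fintype.ofFinite (Cfsg.IrrCharacter G)
  set a := (Nat.card G).factorization p with ha
  set q := p ^ a with hq
  have hp : p.Prime := Fact.out
  have key : ∀ z z' : G, (∃ k : ℕ, orderOf (z * z'⁻¹) = p ^ k) ∧ Commute (z * z'⁻¹) z' ∧
      ¬ p ∣ orderOf z' → z ^ q = z' ^ q := by
    rintro z z' ⟨⟨k, hk⟩, hc, -⟩
    have h1 : (z * z'⁻¹) ^ q = 1 := orderOf_dvd_iff_pow_eq_one.mp (by
      rw [hk, hq]
      refine pow_dvd_pow p ?_
      have h := orderOf_dvd_natCard (G := G) (z * z'⁻¹)
      rw [hk] at h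
      exact (hp.pow_dvd_iff_le_factorization Nat.card_pos.ne').mp h)
    calc z ^ q = (z * z'⁻¹ * z') ^ q := by rw [inv_mul_cancel_right]
      _ = z' ^ q := by rw [hc.mul_pow, h1, one_mul]
  have hcong : ∀ (χ : Cfsg.IrrCharacter G) (z : G),
      CfsgLib.CharAction.CongMod p ((χ : G → ℂ) z ^ q) ((χ : G → ℂ) (z ^ q)) := fun χ z =>
    CfsgLib.CharAction.congMod_char_pow (CfsgLib.Char.IsIrr.isCharacter χ.2) z a
  constructor
  · intro h χ
    obtain ⟨c, hc⟩ := isConj_iff.mp h
    have e : (χ : G → ℂ) (x ^ q) = (χ : G → ℂ) (y ^ q) := by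
      rw [key x x' hx, key y y' hy, ← hc, conj_pow]
      exact (CfsgLib.Char.IsIrr.isClassFunction χ.2 _ c).symm
    obtain ⟨b, hb, hbe⟩ := (hcong χ x).trans ((CfsgLib.CharAction.CongMod.of_eq e).trans (hcong χ y).symm)
    exact ⟨⟨b, hb⟩, hbe⟩
  · intro h
    by_contra hne
    set z := x' ^ q with hz
    set w := y' ^ q with hw
    have hzw : ∀ χ : Cfsg.IrrCharacter G,
        CfsgLib.CharAction.CongMod p ((χ : G → ℂ) z) ((χ : G → ℂ) w) := fun χ => by
      rw [hz, hw, ← key x x' hx, ← key y y' hy]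
      obtain ⟨γ, hγ⟩ := h χ
      exact (hcong χ x).symm.trans
        ((show CfsgLib.CharAction.CongMod p _ _ from ⟨γ, γ.2, hγ⟩).trans (hcong χ y))
    have hcop : ∀ v : G, ¬ p ∣ orderOf v → q.Coprime (orderOf v) := fun v hv =>
      ((hp.coprime_iff_not_dvd).mpr hv).pow_left a
    have hnconj : ¬ IsConj z w := fun hc => hne (by
      obtain ⟨c, hc⟩ := isConj_iff.mp hc
      rw [hz, hw, ← conj_pow] at hc
      refine isConj_iff.mpr ⟨c, ?_⟩
      have ho : orderOf (c * x' * c⁻¹) = orderOf x' :=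
        orderOf_injective (MulAut.conj c).toMonoidHom (MulAut.conj c).injective x'
      have hxy : orderOf (c * x' * c⁻¹) = orderOf y' := by
        have h1 := (hcop _ (ho ▸ hx.2.2)).symm
        have h2 := (hcop _ hy.2.2).symm
        rw [← Nat.Coprime.orderOf_pow h1, hc, Nat.Coprime.orderOf_pow h2]
      have h2 := hcop _ hy.2.2
      rcases Nat.eq_or_lt_of_le (orderOf_pos y' : 1 ≤ orderOf y') with h3 | h3
      · rw [orderOf_eq_one_iff.mp h3.symm, ← orderOf_eq_one_iff, hxy, ← h3]
      · obtain ⟨r, -, hr⟩ := Nat.exists_mul_mod_eq_one_of_coprime h2 h3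
        have := congrArg (· ^ r) hc
        simp only [← pow_mul] at this
        rw [← pow_mod_orderOf, hxy, hr] at this
        rw [pow_one] at this
        rw [this, ← pow_mod_orderOf, hr, pow_one])
    have hzreg : ¬ p ∣ orderOf z := fun hd => hx.2.2 (hd.trans (orderOf_pow_dvd q))
    have hwreg : ¬ p ∣ orderOf w := fun hd => hy.2.2 (hd.trans (orderOf_pow_dvd q))
    -- a Sylow subgroup of the centralizer of `z`
    let Cz := Subgroup.centralizer ({z} : Set G)
    obtain ⟨P⟩ := (inferInstance : Nonempty (Sylow p Cz))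
    haveI := Fintype.ofFinite ↥(P : Subgroup Cz)
    haveI := Fintype.ofFinite Cz
    haveI := Fintype.ofFinite (Cfsg.IrrCharacter Cz)
    have hzC : z ∈ (Subgroup.center Cz).map Cz.subtype := by
      refine ⟨⟨z, Subgroup.mem_centralizer_singleton_iff.mpr rfl⟩,
        Subgroup.mem_center_iff.mpr fun v => Subtype.ext ?_, rfl⟩
      exact Subgroup.mem_centralizer_singleton_iff.mp v.2
    obtain ⟨zC, hzc, hzCe⟩ := hzC
    let A : Cfsg.IrrCharacter G → ℂ := fun χ =>
      (Nat.card (P : Subgroup Cz) : ℂ)⁻¹ * ∑ u : (P : Subgroup Cz),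
        starRingEnd ℂ ((χ : G → ℂ) (((zC * u : Cz) : G)))
    have hA : ∀ χ, IsIntegral ℤ (A χ) := by
      intro χ
      have hd := CfsgLib.CharAction.apply_eq_sum_mult Cz.subtype χ
      let B : Cfsg.IrrCharacter Cz → ℂ := fun η =>
        starRingEnd ℂ ((η : Cz → ℂ) zC / (η : Cz → ℂ) 1) *
          Cfsg.classInner (fun u : (P : Subgroup Cz) => (1 : ℂ))
            (fun u : (P : Subgroup Cz) => (η : Cz → ℂ) u)
      have hsc : ∀ (η : Cfsg.IrrCharacter Cz) (u : Cz),
          (η : Cz → ℂ) (zC * u) = (η : Cz → ℂ) zC / (η : Cz → ℂ) 1 * (η : Cz → ℂ) u ∧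
          IsIntegral ℤ ((η : Cz → ℂ) zC / (η : Cz → ℂ) 1) := by
        intro η u
        obtain ⟨m, σ, hσ, he⟩ := η.2
        obtain ⟨c, hc⟩ := CfsgLib.CharIntegral.exists_scalar_of_mem_center σ hzc
        have hm : ∀ v : Cz, (η : Cz → ℂ) (zC * v) = c * (η : Cz → ℂ) v := fun v => by
          rw [← he]
          show LinearMap.trace ℂ _ (σ (zC * v)) = c * LinearMap.trace ℂ _ (σ v)
          rw [map_mul, hc, smul_mul_assoc, map_smul, smul_eq_mul, ← Module.End.one_eq_id, one_mul]
        have h1 := CfsgLib.Char.IsIrr.apply_one_ne_zero η.2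
        have hc' : (η : Cz → ℂ) zC / (η : Cz → ℂ) 1 = c := by
          rw [div_eq_iff h1]; simpa using hm 1
        refine ⟨by rw [hc', hm], hc' ▸ ?_⟩
        haveI := CfsgLib.CharIntegral.nontrivial_of_irreducible σ
        obtain ⟨v, hv⟩ := exists_ne (0 : Fin m → ℂ)
        have hp' : ∀ i : ℕ, σ (zC ^ i) v = c ^ i • v := fun i => by
          induction i with
          | zero => simp
          | succ i ih => rw [pow_succ', map_mul, Module.End.mul_apply, ih, map_smul, hc,
              LinearMap.smul_apply, LinearMap.id_apply, smul_smul, pow_succ]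
        refine IsIntegral.of_pow (orderOf_pos zC) ?_
        have h2 := hp' (orderOf zC)
        rw [pow_orderOf_eq_one, map_one, Module.End.one_apply] at h2
        have h3 : (c ^ orderOf zC - 1) • v = 0 := by rw [sub_smul, one_smul, ← h2, sub_self]
        rw [sub_eq_zero.mp ((smul_eq_zero.mp h3).resolve_right hv)]
        exact isIntegral_one
      have hAB : A χ = ∑ η, (CfsgLib.CharAction.mult Cz.subtype χ η : ℂ) * B η := by
        simp only [A, B, Cfsg.classInner]
        simp only [show ∀ u : (P : Subgroup Cz), (χ : G → ℂ) ((zC * u : Cz) : G) = _ from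
          fun u => hd (zC * (u : Cz))]
        simp only [fun η u => (hsc η u).1, map_sum, map_mul, map_natCast, Finset.mul_sum, one_mul]
        rw [Finset.sum_comm]
        exact Finset.sum_congr rfl fun η _ => Finset.sum_congr rfl fun u _ => by ring
      rw [hAB]
      refine IsIntegral.sum _ fun η _ => IsIntegral.mul
        (by simpa using (isIntegral_algebraMap (R := ℤ) (A := ℂ)
          (x := (CfsgLib.CharAction.mult Cz.subtype χ η : ℤ)))) ?_
      refine IsIntegral.mul ((hsc η 1).2.map ((Complex.conjAe.toAlgHom).restrictScalars ℤ)) ?_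
      obtain ⟨k, hk⟩ := CfsgLib.Char.IsChar.classInner_eq_natCast
        (CfsgLib.Char.isCharacter_one (G := (P : Subgroup Cz)))
        (CfsgLib.Char.IsChar.restrict (P : Subgroup Cz) (CfsgLib.Char.IsIrr.isCharacter η.2))
      rw [hk]
      simpa using (isIntegral_algebraMap (R := ℤ) (A := ℂ) (x := (k : ℤ)))
    have hsum : ∀ g : G, ∑ χ, A χ * (χ : G → ℂ) g = (Nat.card (P : Subgroup Cz) : ℂ)⁻¹ *
        ∑ u : (P : Subgroup Cz), if IsConj g ((zC * u : Cz) : G) then
          (Nat.card (Subgroup.centralizer ({g} : Set G)) : ℂ) else 0 := by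
      intro g
      simp only [A, mul_assoc, ← Finset.mul_sum, Finset.sum_mul]
      congr 1
      rw [Finset.sum_comm]
      refine Finset.sum_congr rfl fun u _ => ?_
      rw [← CfsgLib.Char.column_orthogonality g _]
      exact Finset.sum_congr rfl fun χ _ => mul_comm _ _
    have hzu : ∀ (u : (P : Subgroup Cz)) (g : G), ¬ p ∣ orderOf g →
        IsConj g ((zC * u : Cz) : G) → u = 1 := by
      intro u g hg hc
      obtain ⟨c, hc⟩ := isConj_iff.mp hc
      have ho : orderOf ((zC * u : Cz) : G) = orderOf g :=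
        hc ▸ orderOf_injective (MulAut.conj c).toMonoidHom (MulAut.conj c).injective g
      obtain ⟨k, hk⟩ := IsPGroup.iff_orderOf.mp P.isPGroup' u
      rw [← Subgroup.orderOf_coe] at hk
      have hzord : orderOf zC = orderOf z := by rw [← hzCe]; exact (Subgroup.orderOf_coe zC).symm
      rw [Subgroup.orderOf_coe, (show Commute zC (u : Cz) from
        (Subgroup.mem_center_iff.mp hzc _).symm).orderOf_mul_eq_mul_orderOf_of_coprime
          (by rw [hzord, hk]; exact ((hp.coprime_iff_not_dvd).mpr hzreg).symm.pow_right k), hk] at ho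
      rcases k with _ | k
      · rw [pow_zero] at hk; exact Subtype.ext (orderOf_eq_one_iff.mp hk)
      · exact absurd (ho ▸ (dvd_pow_self p k.succ_ne_zero).mul_left _) hg
    have hz1 : ∑ χ, A χ * (χ : G → ℂ) z = ((P : Subgroup Cz).index : ℂ) := by
      rw [hsum, Finset.sum_eq_single 1 (fun u _ hu => if_neg fun hc => hu (hzu u z hzreg hc))
        (fun h => absurd (Finset.mem_univ _) h)]
      rw [if_pos (by simpa using (show IsConj z (zC : G) by rw [show (zC : G) = z from hzCe]))]
      rw [inv_mul_eq_iff_eq_mul₀ (Nat.cast_ne_zero.mpr Nat.card_pos.ne'), ← Nat.cast_mul,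
        Subgroup.card_mul_index]
    have hw1 : ∑ χ, A χ * (χ : G → ℂ) w = 0 := by
      rw [hsum, Finset.sum_eq_zero, mul_zero]
      intro u _
      refine if_neg fun hc => hnconj ?_
      have := hzu u w hwreg hc
      subst this
      simpa [show (zC : G) = z from hzCe] using hc.symm
    have hfin := CfsgLib.CharAction.CongMod.sum (p := p) Finset.univ
      fun χ (_ : χ ∈ Finset.univ) => (hzw χ).mul_left (hA χ)
    rw [hz1, hw1] at hfin
    exact P.not_dvd_index (CfsgLib.CharAction.CongMod.dvd_of_natCast hp.ne_zero hfin)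

end Cfsg.Agent.S4604
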