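import Cfsg.Statements.S4606
import Cfsg.Agent.Lib.Blocks.DeficitOne.Reduce

set_option autoImplicit false
open Cfsg CfsgLib.Blocks CfsgLib.Blocks.DeficitOne

namespace Cfsg.Agent.S4606

/-- Let G be a finite group, p a prime, M a maximal ideal of the algebraic integers containing p, and B a p-block of G with defect group D. Suppose the number of irreducible characters in B exceeds the p-regular rank of B (the number of irreducible Brauer characters in B) by exactly one. If B is the principal block, or if G is p-solvable, then D is elementary abelian. -/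
theorem result {G : Type*} [Group G] [Finite G] (p : ℕ) [Fact p.Prime] (M : Ideal Cfsg.AlgInt) (hM : Cfsg.IsPModular p M) (B : Set (Cfsg.IrrCharacter G)) (hB : Cfsg.IsPBlock M B) (D : Subgroup G) (hD : Cfsg.IsDefectGroup p M B D)
    (hk : Nat.card B = Cfsg.blockRank p B + 1) (hB0 : B = Cfsg.principalBlock M G ∨ Cfsg.IsPSolvable p G) :
    Cfsg.IsElementaryAbelian p D := by
  classical
  have := Fintype.ofFinite G
  have := hM.2.1.isPrime
  have hconj : ∀ u ∈ D, ∀ v ∈ D, u ≠ 1 → v ≠ 1 → IsConj u v := fun u hu v hv hu1 hv1 =>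
    isConj_of_card_le hM hB hD hk.le hu hv hu1 hv1
  have hP := IsDefectGroup.isPGroup hD
  refine ⟨⟨⟨fun a b => Subtype.ext ?_⟩⟩, fun a ha => pow_eq_one_of_isConj hP hconj ha⟩
  show (a : G) * b = b * a
  rcases hB0 with hB0 | hsol
  · subst hB0
    obtain ⟨S, rfl⟩ := (CfsgLib.Pairs.isDefectGroup_principal_iff hM D).1 hD
    exact commute_of_nilpotent_centralizers S hconj (fun y hy hy1 =>
      hasNormalPComplement_centralizer hM hk.le (exists_orderOf_eq_pow hP hy) hy1) a a.2 b b.2
  · exact commute_of_card_le_aux hM _ G rfl hsol hB hD hk.le a a.2 b b.2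

end Cfsg.Agent.S4606
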