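import Cfsg.Statements.S4607
import Cfsg.Agent.Lib.Blocks.Brauer.DefectBound
import Cfsg.Agent.Lib.Blocks.DefectTwo
import Cfsg.Agent.Lib.Blocks.DefectOne.Count
import Cfsg.Agent.S4733
-- import your own Cfsg.Agent.* helpers here

set_option autoImplicit false
open Cfsg

namespace Cfsg.Agent.S4607

/-- Let G be a finite group, p a prime, M a maximal ideal of the algebraic integers containing p, and B a p-block of G with defect group D. Then B contains exactly two irreducible characters if and only if D has order 2. -/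
theorem result {G : Type*} [Group G] [Finite G] (p : ℕ) [Fact p.Prime] (M : Ideal Cfsg.AlgInt) (hM : Cfsg.IsPModular p M) (B : Set (Cfsg.IrrCharacter G)) (hB : Cfsg.IsPBlock M B) (D : Subgroup G) (hD : Cfsg.IsDefectGroup p M B D) : Nat.card B = 2 ↔ Nat.card D = 2 := by
  classical
  have := hM.2.1.isPrime
  have := Fintype.ofFinite G
  have := Fintype.ofFinite (Cfsg.IrrCharacter G)
  have hp := (Fact.out : p.Prime)
  have hcard := CfsgLib.Blocks.IsDefectGroup.card_eq hM hB hD
  constructor
  · intro hk
    obtain ⟨hrle, -, hr0⟩ := Cfsg.Agent.S4733.result p M hM B hB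
    have hd0 : Cfsg.blockDefect p B ≠ 0 := fun h => by
      have h1 := CfsgLib.DefectOne.card_eq_one_of_defect_zero hM hB h
      omega
    obtain ⟨Dt⟩ := CfsgLib.IBr.nonempty_data (G := G) (M := M)
    have hr : Cfsg.blockRank p B = 1 := by
      have hne : Nat.card B ≠ Cfsg.blockRank p B := fun h => hd0 (hr0.2 h)
      have hpos : 0 < Cfsg.blockRank p B := by
        obtain ⟨χ, hχ⟩ := CfsgLib.Blocks.IsPBlock.nonempty hB
        rw [← Dt.card_block_eq hM hB, Nat.card_pos_iff]
        refine ⟨?_, inferInstance⟩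
        by_contra hemp
        rw [not_nonempty_iff] at hemp
        have h := congrFun (Dt.pRegularPart_eq_sum hM χ) 1
        rw [Finset.sum_eq_zero fun δ _ => by
          rw [Dt.dec_eq_zero_of_ne hM hB hχ (fun h => hemp.false ⟨δ, h⟩), Nat.cast_zero, zero_smul]] at h
        simp [Cfsg.pRegularPart, Cfsg.IsPRegular, hp.ne_one] at h
        exact CfsgLib.Char.IsIrr.apply_one_ne_zero χ.2 h
      omega
    have hDk := CfsgLib.IBr.card_defect_eq_card hM hB hD hr (Or.inl (by omega))
    omega
  · intro h2
    have hp2 : p = 2 := by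
      rw [hcard] at h2
      rcases Nat.eq_zero_or_pos (Cfsg.blockDefect p B) with h | h
      · rw [h] at h2; simp at h2
      · exact ((Nat.prime_dvd_prime_iff_eq hp Nat.prime_two).1 (h2 ▸ dvd_pow_self p h.ne'))
    subst hp2
    obtain ⟨χ₁, χ₂, hne, hBeq, -, -⟩ := CfsgLib.Blocks.exists_pair_of_card_two hM hB hD h2
    rw [hBeq, Nat.card_coe_set_eq, Set.ncard_pair hne]

end Cfsg.Agent.S4607
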