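import Cfsg.Statements.S4608
import Cfsg.Agent.Lib.Blocks.FiveChars.Defect
import Cfsg.Agent.Lib.Blocks.FiveChars.Abelian
import Cfsg.Agent.Lib.Blocks.Brauer.DefectBound

set_option autoImplicit false
open Cfsg

namespace Cfsg.Agent.S4608

/-- Let G be a finite group, p a prime, M a maximal ideal of the algebraic integers containing p, and B a p-block of G with defect group D. If B has p-regular rank one and exactly five irreducible characters, then D is cyclic of order 5, or D has order 8 and is non-abelian (dihedral or quaternion). -/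
theorem result {G : Type*} [Group G] [Finite G] (p : ℕ) [Fact p.Prime] (M : Ideal Cfsg.AlgInt) (hM : Cfsg.IsPModular p M) (B : Set (Cfsg.IrrCharacter G)) (hB : Cfsg.IsPBlock M B) (D : Subgroup G) (hD : Cfsg.IsDefectGroup p M B D)
    (hl : Cfsg.blockRank p B = 1) (hk : Nat.card B = 5) :
    (Nat.card D = 5) ∨ (Nat.card D = 8 ∧ ¬ IsMulCommutative D) := by
  classical
  have := Fintype.ofFinite G
  have := hM.2.1.isPrime
  obtain ⟨d, hd, hsum, hle⟩ := CfsgLib.FiveChars.exists_sum_sq hM hB hD hl hk.le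
  have hcard : (Set.toFinite B).toFinset.card = 5 := by
    rw [← Set.ncard_eq_toFinset_card B (Set.toFinite B), ← Nat.card_coe_set_eq, hk]
  obtain ⟨χ₁, χ₂, χ₃, χ₄, χ₅, h5⟩ : ∃ a b c e g : ℕ, (1 ≤ a ∧ 1 ≤ b ∧ 1 ≤ c ∧ 1 ≤ e ∧ 1 ≤ g) ∧
      a ^ 2 + b ^ 2 + c ^ 2 + e ^ 2 + g ^ 2 = Nat.card D := by
    obtain ⟨f, hf⟩ : ∃ f : Fin 5 ≃ (Set.toFinite B).toFinset, True :=
      ⟨(Finset.equivFinOfCardEq hcard).symm, trivial⟩
    have h1 : ∀ i, 1 ≤ d (f i) := fun i =>
      Nat.one_le_iff_ne_zero.2 (hd _ ((Set.Finite.mem_toFinset _).1 (f i).2))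
    refine ⟨d (f 0), d (f 1), d (f 2), d (f 3), d (f 4), ⟨h1 0, h1 1, h1 2, h1 3, h1 4⟩, ?_⟩
    rw [← hsum, ← Finset.sum_coe_sort _ (fun χ => d χ ^ 2), ← f.sum_comp, Fin.sum_univ_five]
  have hcases : Nat.card D = 5 ∨ Nat.card D = 8 ∨ Nat.card D = 11 := by
    obtain ⟨⟨ha, hb, hc, he, hg⟩, hs⟩ := h5
    have : ∀ x, 1 ≤ x → x ^ 2 ≤ 11 → x = 1 ∨ x = 2 ∨ x = 3 := by
      intro x hx hx'
      have : x ≤ 3 := by nlinarith
      omega
    rcases this χ₁ ha (by omega) with rfl | rfl | rfl <;>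
    rcases this χ₂ hb (by omega) with rfl | rfl | rfl <;>
    rcases this χ₃ hc (by omega) with rfl | rfl | rfl <;>
    rcases this χ₄ he (by omega) with rfl | rfl | rfl <;>
    rcases this χ₅ hg (by omega) with rfl | rfl | rfl <;>
    omega
  rcases hcases with h | h | h
  · exact Or.inl h
  · refine Or.inr ⟨h, fun hc => CfsgLib.FiveChars.false_of_abelian_eight hM hB hD hl hk h
      fun x hx y hy => ?_⟩
    exact congrArg Subtype.val (hc.is_comm.comm (⟨x, hx⟩ : D) ⟨y, hy⟩)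
  · have : Fact (Nat.Prime 11) := ⟨by norm_num⟩
    have := CfsgLib.IBr.card_defect_eq_card hM hB hD hl (Or.inr (isCyclic_of_prime_card h))
    omega

end Cfsg.Agent.S4608
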