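import Cfsg.Agent.Lib.Blocks.ThreeChars.Reduce
import Cfsg.Agent.Lib.Blocks.QuotientDefect
import Cfsg.Agent.Lib.PGroups.Basic
import Cfsg.Agent.S4607
-- import your own Cfsg.Agent.* helpers here

set_option autoImplicit false
open Cfsg CfsgLib.Blocks CfsgLib.Char

namespace Cfsg.Agent.S4609

/-- Let G be a finite group, p a prime, M a maximal ideal of the algebraic integers containing p, and B a p-block of G with defect group D containing exactly three irreducible characters. Suppose the number of height-zero characters of B equals the number of height-zero characters of its Brauer correspondent b, the block of N_G(D) with defect group D inducing B (as the Alperin–McKay conjecture predicts). Then D has order 3. -/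
theorem result {G : Type*} [Group G] [Finite G] (p : ℕ) [Fact p.Prime] (M : Ideal Cfsg.AlgInt) (hM : Cfsg.IsPModular p M) (B : Set (Cfsg.IrrCharacter G)) (hB : Cfsg.IsPBlock M B) (D : Subgroup G) (hD : Cfsg.IsDefectGroup p M B D) (hk : Nat.card B = 3)
    (b : Set (Cfsg.IrrCharacter (Subgroup.normalizer (D : Set G)))) (hbB : Cfsg.IsInducedBlock M (Subgroup.normalizer (D : Set G)) b B)
    (hbD : Cfsg.IsDefectGroup p M b (D.subgroupOf (Subgroup.normalizer (D : Set G))))
    (hAM : Nat.card {χ : Cfsg.IrrCharacter G // χ ∈ B ∧ Cfsg.blockHeight p B (χ : G → ℂ) = 0} =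
           Nat.card {ψ : Cfsg.IrrCharacter (Subgroup.normalizer (D : Set G)) // ψ ∈ b ∧ Cfsg.blockHeight p b (ψ : Subgroup.normalizer (D : Set G) → ℂ) = 0}) :
    Nat.card D = 3 := by
  classical
  have := hM.2.1.isPrime
  have := Fintype.ofFinite G
  have hp := (Fact.out : p.Prime)
  have hb := (CfsgLib.Blocks.isInducedBlock_iff.1 hbB).1
  let N := Subgroup.normalizer (D : Set G)
  have : Fintype N := Fintype.ofFinite N
  let P : Subgroup N := D.subgroupOf N
  have hPn : P.Normal := Subgroup.normal_in_normalizer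
  have hPp : IsPGroup p P :=
    (CfsgLib.Blocks.IsDefectGroup.isPGroup hbD)
  let K : Subgroup N := ⁅P, P⁆
  have hKn : K.Normal := inferInstanceAs (⁅P, P⁆ : Subgroup N).Normal
  have hKP : K ≤ P := Subgroup.commutator_le_left P P
  have := Fintype.ofFinite (N ⧸ K)
  obtain ⟨Bq, χ₀, Dq, hBq, hχ₀, hinfl, hDq, hsub⟩ :=
    CfsgLib.Blocks.exists_quotient_block K hM (hPp.to_le hKP) hb hbD
  let π := QuotientGroup.mk' K
  let Q : Subgroup (N ⧸ K) := P.map π
  have hQn : Q.Normal := hPn.map π (QuotientGroup.mk'_surjective K)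
  -- the defect group of the block of the quotient
  have hDqQ : Dq = Q := by
    obtain ⟨x, hx⟩ := CfsgLib.Blocks.subConj_defectGroup_quotient K hM hBq hb hχ₀ hinfl hDq hbD
    refine Subgroup.eq_of_le_of_card_ge (fun a ha => ?_) (Nat.le_of_dvd Nat.card_pos hsub.card_dvd)
    have h := hQn.conj_mem _ (hx a ha) x⁻¹
    simpa [mul_assoc] using h
  subst hDqQ
  have hQab : ∀ a ∈ Q, ∀ c ∈ Q, a * c = c * a := by
    rintro _ ⟨a, ha, rfl⟩ _ ⟨c, hc, rfl⟩
    rw [← commutatorElement_eq_one_iff_mul_comm, ← map_commutatorElement]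
    exact (QuotientGroup.eq_one_iff _).2 (Subgroup.commutator_mem_commutator ha hc)
  -- the inflations have height zero
  have hcardP : Nat.card Q * Nat.card K = Nat.card P := by
    rw [← Subgroup.relIndex_bot_left P, ← Subgroup.relIndex_mul_relIndex _ _ _ bot_le hKP,
      Subgroup.relIndex_bot_left, mul_comm]
    congr 1
    have h : π.ker.relIndex P = Nat.card Q := Subgroup.relIndex_ker P π
    rw [QuotientGroup.ker_mk'] at h
    rw [h]
  obtain ⟨k, hkK⟩ := IsPGroup.iff_card.1 (hPp.to_le hKP)
  have hinf : ∀ η ∈ Bq, CfsgLib.Blocks.inflate K η ∈ b ∧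
      Cfsg.blockHeight p b (CfsgLib.Blocks.inflate K η : N → ℂ) = 0 := by
    intro η hη
    have hmem : CfsgLib.Blocks.inflate K η ∈ b := by
      rw [CfsgLib.Blocks.IsPBlock.eq_blockOf hb hinfl]
      exact CfsgLib.Blocks.sameBlock_inflate K (CfsgLib.Blocks.IsPBlock.sameBlock hBq hχ₀ hη)
    refine ⟨hmem, ?_⟩
    obtain ⟨g, hg, -, -⟩ := CfsgLib.Blocks.isDefectGroup_iff.1 hbD
    obtain ⟨q, hq, -, -⟩ := CfsgLib.Blocks.isDefectGroup_iff.1 hDq
    rw [CfsgLib.Blocks.blockHeight_eq_zero_iff hM hb hg hmem]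
    have h0 := (CfsgLib.Blocks.blockHeight_eq_zero_iff hM hBq hq hη).1
      (CfsgLib.Blocks.ThreeChars.blockHeight_eq_zero hM hBq hDq hQab hη)
    have hdeg : charDegree (CfsgLib.Blocks.inflate K η : N → ℂ) =
        charDegree (η : N ⧸ K → ℂ) := CfsgLib.Blocks.charDegree_eq (χ := CfsgLib.Blocks.inflate K η) (by
      rw [CfsgLib.Blocks.inflate_apply, QuotientGroup.mk_one]
      exact apply_one_eq_charDegree η)
    rw [hdeg, h0]
    have e1 := CfsgLib.Blocks.factorization_card_eq_index_add (p := p) hM (G := N)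
      (Subgroup.centralizer ({g} : Set N))
    have e2 := CfsgLib.Blocks.factorization_card_eq_index_add (p := p) hM (G := N ⧸ K)
      (Subgroup.centralizer ({q} : Set (N ⧸ K)))
    rw [← CfsgLib.Blocks.blockDefect_eq hM hb hg] at e1
    rw [← CfsgLib.Blocks.blockDefect_eq hM hBq hq] at e2
    have e3 : (Nat.card N).factorization p = (Nat.card (N ⧸ K)).factorization p + k := by
      rw [Subgroup.card_eq_card_quotient_mul_card_subgroup K, hkK,
        Nat.factorization_mul Nat.card_pos.ne' (pow_ne_zero _ hp.ne_zero), Finsupp.add_apply,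
        Nat.factorization_pow_self hp]
    have e4 : Cfsg.blockDefect p Bq + k = Cfsg.blockDefect p b := by
      refine Nat.pow_right_injective hp.two_le ?_
      show p ^ _ = p ^ _
      rw [pow_add, ← CfsgLib.Blocks.IsDefectGroup.card_eq hM hBq hDq, ← hkK,
        ← CfsgLib.Blocks.IsDefectGroup.card_eq hM hb hbD]
      exact hcardP
    omega
  -- the count
  have hkq : Nat.card Bq ≤ 3 := by
    refine le_trans ?_ ((hAM.symm.le.trans (Nat.card_le_card_of_injective
      (fun χ : {χ : Cfsg.IrrCharacter G // χ ∈ B ∧ Cfsg.blockHeight p B (χ : G → ℂ) = 0} =>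
        (⟨χ.1, χ.2.1⟩ : B)) fun a c h => Subtype.ext (congrArg (fun x : B => x.1) h))).trans hk.le)
    refine Nat.card_le_card_of_injective
      (fun η : Bq => (⟨CfsgLib.Blocks.inflate K η.1, hinf η.1 η.2⟩ :
        {ψ : Cfsg.IrrCharacter N // ψ ∈ b ∧ Cfsg.blockHeight p b (ψ : N → ℂ) = 0})) ?_
    intro a c h
    exact Subtype.ext (CfsgLib.Blocks.inflate_injective K (congrArg Subtype.val h))
  have hQ3 : Nat.card Q ≤ 3 :=
    CfsgLib.Blocks.ThreeChars.card_le_three_of_normal hM hBq hDq hQab hkq
  -- the commutator subgroup is trivial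
  have hKc : K.subgroupOf P = commutator P := by
    rw [show K = (commutator P).map P.subtype from (Subgroup.map_subtype_commutator P).symm,
      Subgroup.subgroupOf, Subgroup.comap_map_eq_self_of_injective P.subtype_injective]
  have hquot : Nat.card (P ⧸ commutator P) ≤ 3 := by
    refine le_trans (le_of_eq ?_) hQ3
    have h : π.ker.relIndex P = Nat.card Q := Subgroup.relIndex_ker P π
    rw [QuotientGroup.ker_mk'] at h
    rw [← Subgroup.index_eq_card, ← hKc]
    exact h.trans rfl
  have hcyc : IsCyclic (P ⧸ commutator P) := by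
    have hpos : 0 < Nat.card (P ⧸ commutator P) := Nat.card_pos
    interval_cases h : Nat.card (P ⧸ commutator P)
    · exact @isCyclic_of_subsingleton _ _ (Nat.card_eq_one_iff_unique.1 h).1
    · exact @isCyclic_of_prime_card _ _ 2 ⟨Nat.prime_two⟩ h
    · exact @isCyclic_of_prime_card _ _ 3 ⟨Nat.prime_three⟩ h
  obtain ⟨q, hq⟩ := hcyc.exists_generator
  obtain ⟨x, rfl⟩ := QuotientGroup.mk_surjective q
  have hgen : Subgroup.zpowers x = ⊤ := by
    refine frattini_nongenerating (eq_top_iff.2 fun y _ => ?_)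
    refine sup_le_sup_left (CfsgLib.PGroups.commutator_le_frattini' hPp) _ ?_
    have h : y ∈ ((Subgroup.zpowers x).map (QuotientGroup.mk' (commutator P))).comap
        (QuotientGroup.mk' (commutator P)) := by
      rw [Subgroup.mem_comap, MonoidHom.map_zpowers]
      exact hq _
    rwa [Subgroup.comap_map_eq, QuotientGroup.ker_mk'] at h
  have hPc : ∀ a c : P, a * c = c * a := by
    intro a c
    obtain ⟨i, rfl⟩ := Subgroup.mem_zpowers_iff.1 (hgen.symm ▸ Subgroup.mem_top a : a ∈ _)
    obtain ⟨j, rfl⟩ := Subgroup.mem_zpowers_iff.1 (hgen.symm ▸ Subgroup.mem_top c : c ∈ _)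
    exact (Commute.zpow_zpow_self x i j).eq
  have hK1 : K = ⊥ := by
    rw [eq_bot_iff, Subgroup.commutator_le]
    intro a ha c hc
    rw [Subgroup.mem_bot, commutatorElement_eq_one_iff_mul_comm]
    exact congrArg Subtype.val (hPc ⟨a, ha⟩ ⟨c, hc⟩)
  have hD3 : Nat.card D ≤ 3 := by
    rw [← Nat.card_congr (Subgroup.subgroupOfEquivOfLe (H := D) (K := N)
      Subgroup.le_normalizer).toEquiv]
    show Nat.card P ≤ 3
    rw [← hcardP, (Subgroup.eq_bot_iff_card K).1 hK1, mul_one]
    exact hQ3
  have h0 : 0 < Nat.card D := Nat.card_pos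
  interval_cases hD' : Nat.card D
  · have hd := CfsgLib.Blocks.IsDefectGroup.card_eq hM hB hD
    rcases Nat.pow_eq_one.1 (hd.symm.trans hD') with h | h
    · exact absurd h hp.ne_one
    · have := CfsgLib.DefectOne.card_eq_one_of_defect_zero hM hB h
      omega
  · have := (Cfsg.Agent.S4607.result p M hM B hB D hD).2 hD'
    omega
  · rfl

end Cfsg.Agent.S4609
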