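import Cfsg.Statements.S4611
import Cfsg.Agent.Lib.Blocks.PrincipalPSolvable
import Cfsg.Agent.Lib.Blocks.SimplePrincipal
import Cfsg.Agent.Lib.Core.PLengthTwoMaximal

set_option autoImplicit false
open Cfsg

namespace Cfsg.Agent.S4611

/-- Let G be a finite solvable group and π a nonempty set of primes, each dividing the order of G; fix for each p in π a maximal ideal M p of the algebraic integers containing p. Then the only irreducible character lying in the principal p-block for every p in π is the principal character if and only if G is generated by the subgroups O_{p'}(G), p in π (the largest normal subgroups of order prime to p). -/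
theorem result {G : Type*} [Group G] [Finite G] [Group.IsSolvable G] (π : Set ℕ) (hπ : ∀ p ∈ π, p.Prime ∧ p ∣ Nat.card G) (hne : π.Nonempty) (M : ℕ → Ideal Cfsg.AlgInt) (hM : ∀ p ∈ π, Cfsg.IsPModular p (M p)) :
    (∀ χ : Cfsg.IrrCharacter G, (∀ p ∈ π, χ ∈ Cfsg.principalBlock (M p) G) → (χ : G → ℂ) = fun _ => 1) ↔
      ⨆ p ∈ π, Cfsg.pPrimeCore p G = ⊤ := by
  classical
  have := Fintype.ofFinite G
  have hn : ∀ p, (pPrimeCore p G).Normal := fun p => Subgroup.sSup_normal _ fun _ h => h.1
  have key : ∀ χ : IrrCharacter G, (∀ p ∈ π, χ ∈ principalBlock (M p) G) ↔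
      ⨆ p ∈ π, pPrimeCore p G ≤ CfsgLib.Blocks.charKer χ := by
    intro χ
    rw [iSup₂_le_iff]
    refine forall₂_congr fun p hp => ?_
    have : Fact p.Prime := ⟨(hπ p hp).1⟩
    exact CfsgLib.Blocks.mem_principalBlock_iff_of_isPSolvable (hM p hp)
      (CfsgLib.Core.isPSolvable_of_isSolvable inferInstance) χ
  constructor
  · intro h
    by_contra hK
    set K := ⨆ p ∈ π, pPrimeCore p G with hKdef
    have : K.Normal := by
      have : ∀ p, (⨆ _ : p ∈ π, pPrimeCore p G).Normal := fun p => Subgroup.iSup_normal _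
      exact Subgroup.iSup_normal _
    have := Fintype.ofFinite (IrrCharacter G)
    have hsum := CfsgLib.Blocks.sum_degree_sq_trivial (G := G) (N := K)
    have hle : Finset.univ.filter
        (fun χ : IrrCharacter G => ∀ n ∈ K, (χ : G → ℂ) n = (χ : G → ℂ) 1) ⊆
        {CfsgLib.Char.trivChar G} := by
      intro χ hχ
      rw [Finset.mem_filter] at hχ
      rw [Finset.mem_singleton]
      exact Subtype.ext ((h χ ((key χ).2 fun n hn => CfsgLib.Blocks.mem_charKer.2 (hχ.2 n hn))).trans rfl)
    have h2 := (Finset.sum_le_sum_of_subset hle).trans_eq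
      (Finset.sum_singleton (fun χ : IrrCharacter G => charDegree (χ : G → ℂ) ^ 2) _)
    rw [hsum] at h2
    have h1 : charDegree (CfsgLib.Char.trivChar G : G → ℂ) = 1 := by
      simp [charDegree, CfsgLib.Char.trivChar_apply]
    rw [h1, one_pow] at h2
    exact hK (Subgroup.index_eq_one.1 (le_antisymm h2 (Nat.one_le_iff_ne_zero.2
      Subgroup.index_ne_zero_of_finite)))
  · intro h χ hχ
    rw [CfsgLib.Blocks.eq_trivChar_of_charKer_eq_top (top_unique (h.ge.trans ((key χ).1 hχ)))]
    rfl

end Cfsg.Agent.S4611
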