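import Cfsg.Statements.S4620
import Cfsg.Agent.Lib.Core.Cores
import Mathlib.GroupTheory.GroupAction.ConjAct

set_option autoImplicit false
open scoped Pointwise
open Cfsg

namespace Cfsg.Agent.S4620

open scoped Pointwise
open CfsgLib.Core

/-- Distinct Sylow subgroups meet trivially. -/
def SylowTI (p : ℕ) (H : Type*) [Group H] : Prop :=
  ∀ S T : Sylow p H, ∀ x : H, x ≠ 1 → x ∈ (S : Subgroup H) → x ∈ (T : Subgroup H) → S = T

/-- In a group without cores and with trivial intersection Sylow subgroups, nontrivial normal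
subgroups have trivial centralizer. -/
theorem centralizer_eq_bot {H : Type*} [Group H] [Finite H] {p : ℕ} [Fact p.Prime]
    (hOp : Cfsg.pCore p H = ⊥) (hOp' : Cfsg.pPrimeCore p H = ⊥) (hTI : SylowTI p H)
    {A : Subgroup H} [A.Normal] (hA : A ≠ ⊥) : Subgroup.centralizer (A : Set H) = ⊥ := by
  set B := Subgroup.centralizer (A : Set H) with hB
  have hBn : B.Normal := Subgroup.normal_centralizer
  have hpA : p ∣ Nat.card A := by
    by_contra hd
    exact hA (eq_bot_iff.2 ((le_pPrimeCore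
      ((Nat.Prime.coprime_iff_not_dvd Fact.out).2 hd).symm).trans_eq hOp'))
  obtain ⟨a, ha⟩ := exists_prime_orderOf_dvd_card' p hpA
  have hap : orderOf (a : H) = p := by rw [Subgroup.orderOf_coe, ha]
  have ha1 : (a : H) ≠ 1 := fun h => (Fact.out : p.Prime).ne_one (by rw [← hap, h, orderOf_one])
  obtain ⟨S, hS⟩ : ∃ S : Sylow p H, (a : H) ∈ (S : Subgroup H) := by
    obtain ⟨S, hS⟩ := (IsPGroup.of_card (n := 1) (by rw [Nat.card_zpowers, hap, pow_one]) :
      IsPGroup p (Subgroup.zpowers (a : H))).exists_le_sylow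
    exact ⟨S, hS (Subgroup.mem_zpowers _)⟩
  have hnorm : B ≤ Subgroup.normalizer ((S : Subgroup H) : Set H) := by
    intro b hb
    refine Sylow.smul_eq_iff_mem_normalizer.1 (?_ : b • S = S)
    refine hTI _ _ a ha1 ?_ hS
    refine (Subgroup.mem_smul_pointwise_iff_exists _ _ _).2 ⟨a, hS, ?_⟩
    show b * a * b⁻¹ = a
    rw [← Subgroup.mem_centralizer_iff.1 hb a a.2, mul_inv_cancel_right]
  -- the Sylow subgroup of `B` is normal
  have hn : ((S : Subgroup H).subgroupOf B).Normal := by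
    refine ⟨fun x hx b => ?_⟩
    exact (Subgroup.mem_normalizer_iff.1 (hnorm b.2) _).1 hx
  have h1 : (S : Subgroup H).subgroupOf B = ⊥ := by
    refine (Subgroup.map_eq_bot_iff_of_injective _ B.subtype_injective).1 (eq_bot_iff.2 ?_)
    exact (Subgroup.map_mono (@le_pCore _ _ p _ hn S.2.comap_subtype)).trans
      ((map_subtype_pCore_le B).trans_eq hOp)
  have hd : ¬ p ∣ Nat.card B := by
    intro hd
    obtain ⟨b, hb⟩ := exists_prime_orderOf_dvd_card' p hd
    obtain ⟨T, hT⟩ := (IsPGroup.of_card (n := 1) (by rw [Nat.card_zpowers, hb, pow_one]) :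
      IsPGroup p (Subgroup.zpowers b)).exists_le_sylow
    have := (inferInstance : ((S : Subgroup H).subgroupOf B).Normal)
    obtain ⟨R, hR⟩ := T.2.map B.subtype |>.exists_le_sylow
    obtain ⟨c, hc⟩ := MulAction.exists_smul_eq H S R
    have hbR : (b : H) ∈ (R : Subgroup H) := hR ⟨b, hT (Subgroup.mem_zpowers b), rfl⟩
    rw [← hc] at hbR
    obtain ⟨y, hy, hy'⟩ := (Subgroup.mem_smul_pointwise_iff_exists _ _ _).1 hbR
    have hyB : y ∈ B := by
      have := hBn.conj_mem _ b.2 c⁻¹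
      rw [← hy'] at this
      simpa [MulAut.smul_def, mul_assoc] using this
    have : (⟨y, hyB⟩ : B) ∈ (S : Subgroup H).subgroupOf B := hy
    rw [h1, Subgroup.mem_bot] at this
    have hy1 : y = 1 := congrArg Subtype.val this
    rw [hy1, smul_one] at hy'
    rw [show b = 1 from Subtype.ext hy'.symm, orderOf_one] at hb
    exact (Fact.out : p.Prime).ne_one hb.symm
  exact eq_bot_iff.2 ((le_pPrimeCore
    ((Nat.Prime.coprime_iff_not_dvd Fact.out).2 hd).symm).trans_eq hOp')

/-- The nontrivial normal subgroups have a smallest member. -/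
theorem exists_smallest {H : Type*} [Group H] [Finite H] [Nontrivial H]
    (hc : ∀ A : Subgroup H, A.Normal → A ≠ ⊥ → Subgroup.centralizer (A : Set H) = ⊥) :
    ∃ N : Subgroup H, N.Normal ∧ N ≠ ⊥ ∧ ∀ K : Subgroup H, K.Normal → K ≠ ⊥ → N ≤ K := by
  obtain ⟨N, ⟨hNn, hN⟩, hmin⟩ := (Set.toFinite {N : Subgroup H | N.Normal ∧ N ≠ ⊥}).exists_minimal
    ⟨⊤, inferInstance, top_ne_bot⟩
  refine ⟨N, hNn, hN, fun K hK hK' => ?_⟩
  by_cases h : N ⊓ K = ⊥
  · refine absurd ?_ hN
    rw [eq_bot_iff, ← hc K hK hK', ← Subgroup.commutator_eq_bot_iff_le_centralizer, eq_bot_iff]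
    exact (Subgroup.commutator_le_inf N K).trans h.le
  · exact (hmin ⟨inferInstance, h⟩ inf_le_left).trans inf_le_right

/-- Let H be a finite group with no nontrivial normal p-subgroup and no nontrivial normal subgroup of order prime to p, whose Sylow p-subgroup P is nontrivial and a trivial-intersection set (P meets its conjugates by elements outside N_H(P) trivially). Then H has a unique minimal normal subgroup N; N is non-abelian simple with trivial centralizer in H (so H embeds in Aut(N)), and a Sylow p-subgroup of N is again a nontrivial trivial-intersection set in N. -/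
theorem result {H : Type*} [Group H] [Finite H] (p : ℕ) [Fact p.Prime] (hOp : Cfsg.pCore p H = ⊥) (hOp' : Cfsg.pPrimeCore p H = ⊥) (P : Sylow p H) (hP1 : (P : Subgroup H) ≠ ⊥)
    (hTI : ∀ g : H, g ∉ Subgroup.normalizer ((P : Subgroup H) : Set H) → (P : Subgroup H) ⊓ (MulAut.conj g • (P : Subgroup H)) = ⊥) :
    ∃ N : Subgroup H, N.Normal ∧ N ≠ ⊥ ∧ (∀ K : Subgroup H, K.Normal → K ≠ ⊥ → N ≤ K) ∧
      IsSimpleGroup N ∧ ¬ IsMulCommutative N ∧ Subgroup.centralizer (N : Set H) = ⊥ ∧
      ∀ Q : Sylow p N, (Q : Subgroup N) ≠ ⊥ ∧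
        ∀ n : N, n ∉ Subgroup.normalizer ((Q : Subgroup N) : Set N) → (Q : Subgroup N) ⊓ (MulAut.conj n • (Q : Subgroup N)) = ⊥ := by
  classical
  have hTI' : SylowTI p H := by
    intro S T x hx hS hT
    obtain ⟨c, rfl⟩ := MulAction.exists_smul_eq H P S
    obtain ⟨d, rfl⟩ := MulAction.exists_smul_eq H P T
    obtain ⟨y, hy, rfl⟩ := (Subgroup.mem_smul_pointwise_iff_exists _ _ _).1 hS
    obtain ⟨z, hz, hz'⟩ := (Subgroup.mem_smul_pointwise_iff_exists _ _ _).1 hT
    have h : c⁻¹ * d ∈ Subgroup.normalizer ((P : Subgroup H) : Set H) := by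
      by_contra hn
      refine hx ?_
      have : y ∈ (P : Subgroup H) ⊓ (MulAut.conj (c⁻¹ * d) • (P : Subgroup H)) := by
        refine ⟨hy, (Subgroup.mem_smul_pointwise_iff_exists _ _ _).2 ⟨z, hz, ?_⟩⟩
        rw [map_mul, mul_smul, hz', map_inv, inv_smul_smul]
      rw [hTI _ hn, Subgroup.mem_bot] at this
      rw [this, smul_one]
    replace h : (c⁻¹ * d) • P = P := Sylow.smul_eq_iff_mem_normalizer.2 h
    rw [← eq_inv_smul_iff, ← mul_smul, h]
  have : Nontrivial H := by
    obtain ⟨⟨x, _⟩, hx⟩ := (P : Subgroup H).ne_bot_iff_exists_ne_one.1 hP1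
    exact ⟨x, 1, fun h => hx (Subtype.ext h)⟩
  have hc : ∀ A : Subgroup H, A.Normal → A ≠ ⊥ → Subgroup.centralizer (A : Set H) = ⊥ :=
    fun A _ hA => centralizer_eq_bot hOp hOp' hTI' hA
  obtain ⟨N, hNn, hN, hmin⟩ := exists_smallest hc
  have hNc : Subgroup.centralizer (N : Set H) = ⊥ := hc N hNn hN
  have hNnt : Nontrivial N := (Subgroup.nontrivial_iff_ne_bot N).2 hN
  -- the hypotheses descend
  have hOpN : Cfsg.pCore p N = ⊥ := (Subgroup.map_eq_bot_iff_of_injective _ N.subtype_injective).1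
    (eq_bot_iff.2 ((map_subtype_pCore_le N).trans_eq hOp))
  have hOpN' : Cfsg.pPrimeCore p N = ⊥ :=
    (Subgroup.map_eq_bot_iff_of_injective _ N.subtype_injective).1
      (eq_bot_iff.2 ((map_subtype_pPrimeCore_le N).trans_eq hOp'))
  have hTIN : SylowTI p N := by
    intro S T x hx hS hT
    obtain ⟨S', hS'⟩ := (S.2.map N.subtype).exists_le_sylow
    obtain ⟨T', hT'⟩ := (T.2.map N.subtype).exists_le_sylow
    have he : S' = T' :=
      hTI' S' T' x (fun h => hx (Subtype.ext h)) (hS' ⟨x, hS, rfl⟩) (hT' ⟨x, hT, rfl⟩)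
    subst he
    have h1 : (S' : Subgroup H).subgroupOf N = S :=
      S.3 S'.2.comap_subtype fun y hy => hS' ⟨y, hy, rfl⟩
    have h2 : (S' : Subgroup H).subgroupOf N = T :=
      T.3 S'.2.comap_subtype fun y hy => hT' ⟨y, hy, rfl⟩
    exact Sylow.ext (h1.symm.trans h2)
  have hcN : ∀ A : Subgroup N, A.Normal → A ≠ ⊥ → Subgroup.centralizer (A : Set N) = ⊥ :=
    fun A _ hA => centralizer_eq_bot hOpN hOpN' hTIN hA
  obtain ⟨S, hSn, hS, hSmin⟩ := exists_smallest hcN
  have hSc : S.Characteristic := by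
    refine Subgroup.characteristic_iff_map_le.2 fun φ => ?_
    have hφn : (S.map φ.toMonoidHom).Normal := hSn.map _ φ.surjective
    have hφ : S.map φ.toMonoidHom ≠ ⊥ :=
      fun h => hS ((Subgroup.map_eq_bot_iff_of_injective _ φ.injective).1 h)
    exact (Subgroup.eq_of_le_of_card_ge (hSmin _ hφn hφ)
      (le_of_eq (Nat.card_congr (S.equivMapOfInjective _ φ.injective).toEquiv).symm)).ge
  have hStop : S = ⊤ := by
    have h1 := hmin (S.map N.subtype) inferInstance
      fun h => hS ((Subgroup.map_eq_bot_iff_of_injective _ N.subtype_injective).1 h)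
    refine eq_top_iff.2 fun x _ => ?_
    obtain ⟨y, hy, hyx⟩ := h1 x.2
    rwa [← Subtype.ext hyx]
  have hsimple : IsSimpleGroup N := ⟨fun A hA => or_iff_not_imp_left.2 fun h =>
    eq_top_iff.2 (hStop ▸ hSmin A hA h)⟩
  refine ⟨N, hNn, hN, hmin, hsimple, fun h => ?_, hNc, fun Q => ⟨fun hQ => ?_, fun n hn => ?_⟩⟩
  · refine hN (eq_bot_iff.2 (le_of_le_of_eq (fun x hx => ?_) hNc))
    exact Subgroup.mem_centralizer_iff.2 fun y hy =>
      congrArg Subtype.val (h.is_comm.comm (⟨y, hy⟩ : N) ⟨x, hx⟩)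
  · have hd : ¬ p ∣ Nat.card N := fun hd => by
      have := Q.dvd_card_of_dvd_card hd
      rw [hQ, Subgroup.card_bot] at this
      exact (Fact.out : p.Prime).one_lt.ne' (Nat.eq_one_of_dvd_one this)
    exact hN (eq_bot_iff.2 ((le_pPrimeCore
      ((Nat.Prime.coprime_iff_not_dvd Fact.out).2 hd).symm).trans_eq hOp'))
  · refine eq_bot_iff.2 fun x hx => ?_
    by_contra hx1
    refine hn ?_
    refine Sylow.smul_eq_iff_mem_normalizer.1 (?_ : n • Q = Q)
    exact hTIN _ _ x (fun h => hx1 h) hx.2 hx.1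

end Cfsg.Agent.S4620
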