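import Cfsg.Statements.S4621
import Cfsg.Agent.Lib.RegOrbit.MainTwo

set_option autoImplicit false
open Cfsg

namespace Cfsg.Agent.S4621

/-- Let F be a finite field of odd characteristic, V a finite-dimensional vector space over F, and G a finite solvable group acting faithfully and linearly on V with the order of G coprime to the number of vectors of V. Then there are two vectors x, y ∈ V such that the only element of G fixing both x and y is the identity. -/
theorem result {F : Type*} [Field F] [Fintype F] (hF : ringChar F ≠ 2) {V : Type*} [AddCommGroup V] [Module F V] [FiniteDimensional F V] [Finite V]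
    {G : Type*} [Group G] [Finite G] [Group.IsSolvable G] (ρ : Representation F G V) (hfaith : Function.Injective ρ) (hcop : (Nat.card G).Coprime (Nat.card V)) :
    ∃ x y : V, ∀ g : G, ρ g x = x → ρ g y = y → g = 1 := by
  classical
  obtain ⟨p, hp⟩ : ∃ p : ℕ, p = ringChar F := ⟨_, rfl⟩
  haveI : CharP F p := hp ▸ ringChar.charP F
  have hpp : p.Prime := CharP.char_is_prime F p
  haveI := Fact.mk hpp
  by_cases hV : Subsingleton V
  · exact ⟨0, 0, fun g _ _ => hfaith (LinearMap.ext fun v => Subsingleton.elim _ _)⟩
  · haveI := not_subsingleton_iff_nontrivial.1 hV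
    letI : DistribMulAction G V := DistribMulAction.compHom V ρ
    have hexp : ∀ v : V, p • v = 0 := fun v => by
      rw [← Nat.cast_smul_eq_nsmul F, CharP.cast_eq_zero, zero_smul]
    have hdvd : p ∣ Nat.card V := by
      obtain ⟨v, hv⟩ := exists_ne (0 : V)
      rw [← addOrderOf_eq_prime (hexp v) hv]
      exact addOrderOf_dvd_natCard v
    obtain ⟨x, y, h⟩ := CfsgLib.RegOrbit.exists_pair hpp V G hexp (hcop.coprime_dvd_right hdvd)
    exact ⟨x, y, fun g hx hy => hfaith (LinearMap.ext fun v => (h g hx hy v).trans (by simp))⟩

end Cfsg.Agent.S4621
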