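import Cfsg.Statements.S4625
import Cfsg.Agent.Lib.Classical.SylowCharTwo.Classical
import Cfsg.Agent.Lib.Classical.SylowCharTwo.Exceptional
import Cfsg.Agent.Lib.Classical.SylowAb.Basic

set_option autoImplicit false
open Cfsg
open CfsgLib.Classical.SylowAb CfsgLib.Classical.SylowCharTwo
open CfsgLib.Lie.Chev

namespace Cfsg.Agent.S4625

/-- Let G be a finite simple group of Lie type in characteristic 2, not counting the Tits group ²F₄(2)′. Then a Sylow 2-subgroup P of G has P/P' elementary abelian: the square of every element of P lies in the derived subgroup of P. -/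
theorem result {G : Type*} [Group G] [Finite G] [IsSimpleGroup G] (hG : Cfsg.IsLieTypeChar 2 G) (P : Sylow 2 G) :
    ∀ x : (P : Subgroup G), x ^ 2 ∈ commutator (P : Subgroup G) := by
  refine fun x => SqComm.mem_commutator ?_ x
  rcases hG with ⟨F, _, _, _, n, hn, -, ⟨e⟩⟩ | ⟨F, _, _, _, m, hm, -, ⟨e⟩⟩ |
      ⟨F, _, _, _, n, q, hq, hn, -, ⟨e⟩⟩ | ⟨F, _, _, _, m, -, hodd, -⟩ | ⟨F, _, _, _, m, hm, ⟨e⟩⟩ |
      ⟨F, _, _, _, m, a, b, hm, hab, ⟨e⟩⟩ | ⟨F, _, _, _, h⟩ |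
      ⟨K, _, _, _, q, hq, ⟨hK, ⟨e⟩⟩ | ⟨hK, ⟨e⟩⟩⟩ |
      ⟨-, F, _, _, m, hm, hF, ⟨e⟩⟩ | ⟨-, K, _, _, m, hm, hK, ⟨e⟩⟩ | ⟨h, -⟩
  · haveI := Finite.of_equiv G e.toEquiv
    exact sqComm_sylow_congr e.symm (sqComm_sylow_PSL (by omega)) P
  · haveI := Finite.of_equiv G e.toEquiv
    exact sqComm_sylow_congr e.symm (sqComm_sylow_PSp (by omega)) P
  · haveI := Finite.of_equiv G e.toEquiv
    exact sqComm_sylow_congr e.symm (sqComm_sylow_PSU hq hn) P
  · exfalso
    obtain ⟨k, -, hk⟩ := FiniteField.card F 2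
    rw [Nat.odd_iff, hk, Nat.pow_mod] at hodd
    simp [k.ne_zero] at hodd
  · haveI := Finite.of_equiv G e.toEquiv
    exact sqComm_sylow_congr e.symm
      (sqComm_sylow_POmega' _ (CfsgLib.Classical.Quad.coe_qPlus m F) (CfsgLib.Classical.Quad.qPlus_nondeg m) (by simp; omega)) P
  · haveI := Finite.of_equiv G e.toEquiv
    exact sqComm_sylow_congr e.symm
      (sqComm_sylow_POmega' _ (CfsgLib.Classical.Quad.coe_qMinus (m - 1) F a b) (CfsgLib.Classical.Quad.qMinus_nondeg hab (m - 1)) (by simp; omega)) P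
  · rcases h with ⟨-, ⟨e⟩⟩ | ⟨⟨e⟩⟩ | ⟨⟨e⟩⟩ | ⟨⟨e⟩⟩ | ⟨⟨e⟩⟩
    all_goals haveI := Finite.of_equiv G e.toEquiv
    · exact sqComm_sylow_congr e.symm (sqComm_sylow_chev certG2) P
    · exact sqComm_sylow_congr e.symm (sqComm_sylow_chev certF4) P
    · exact sqComm_sylow_congr e.symm (sqComm_sylow_chev certE6) P
    · exact sqComm_sylow_congr e.symm (sqComm_sylow_chev certE7) P
    · exact sqComm_sylow_congr e.symm (sqComm_sylow_chev certE8) P
  · haveI := Finite.of_equiv G e.toEquiv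
    exact sqComm_sylow_congr e.symm (sqComm_sylow_E6 hq hK) P
  · haveI := Finite.of_equiv G e.toEquiv
    exact sqComm_sylow_congr e.symm (sqComm_sylow_D4 hq hK) P
  · haveI : CharP F 2 := CfsgLib.Lie.Suzuki.charTwo_of_card hF
    haveI := Finite.of_equiv G ((CfsgLib.Lie.Suzuki.equivLie hm hF).trans e.symm).symm.toEquiv
    exact sqComm_sylow_congr ((CfsgLib.Lie.Suzuki.equivLie hm hF).trans e.symm) (sqComm_sylow_Sz hm hF) P
  · haveI := Finite.of_equiv G e.toEquiv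
    exact sqComm_sylow_congr e.symm (sqComm_sylow_F4 hm hK) P
  · omega

end Cfsg.Agent.S4625
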