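import Cfsg.Statements.S4626
import Cfsg.Agent.Lib.Blocks.Kernel
import Cfsg.Agent.Lib.Blocks.DefectNumber
import Cfsg.Agent.Lib.Fusion.SylowIn
import Cfsg.Agent.Lib.CharDegree.Basic
-- import your own Cfsg.Agent.* helpers here

set_option autoImplicit false
open Cfsg

namespace Cfsg.Agent.S4626

/-- Let G be a finite group, p a prime, M a maximal ideal of the algebraic integers containing p, P a Sylow p-subgroup of G and N a normal subgroup of index prime to p containing the centralizer C_G(P). Then every irreducible character of G whose kernel contains N lies in the principal p-block of G. -/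
theorem result {G : Type*} [Group G] [Finite G] (p : ℕ) [Fact p.Prime] (M : Ideal Cfsg.AlgInt) (hM : Cfsg.IsPModular p M) (P : Sylow p G) (N : Subgroup G) [N.Normal] (hidx : ¬ p ∣ N.index)
    (hC : Subgroup.centralizer ((P : Subgroup G) : Set G) ≤ N) (χ : Cfsg.IrrCharacter G) (hker : ∀ n ∈ N, (χ : G → ℂ) n = (χ : G → ℂ) 1) :
    χ ∈ Cfsg.principalBlock M G := by
  classical
  have : Fintype G := Fintype.ofFinite G
  have := hM.2.1.isPrime
  rw [CfsgLib.Blocks.principalBlock_eq, CfsgLib.Blocks.mem_blockOf, CfsgLib.Blocks.sameBlock_iff]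
  intro g
  by_cases hg : p ∣ (Subgroup.centralizer ({g} : Set G)).index
  · have hdeg : ∀ θ : Cfsg.IrrCharacter G, ¬ p ∣ Cfsg.charDegree (θ : G → ℂ) →
        CfsgLib.Blocks.centralCharBar M θ g = 0 := fun θ hθ =>
      CfsgLib.Blocks.centralCharBar_eq_zero_of_lt hM θ (by
        rw [Nat.factorization_eq_zero_of_not_dvd hθ]
        exact (Fact.out : p.Prime).factorization_pos_of_dvd Subgroup.index_ne_zero_of_finite hg)
    have hχd : ¬ p ∣ Cfsg.charDegree (χ : G → ℂ) := fun hd => hidx (hd.trans
      ((CfsgLib.CharDegree.charDegree_dvd_index χ).trans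
      (Subgroup.index_dvd_of_le fun n hn => CfsgLib.CharDegree.mem_kerSubgroup.mpr (hker n hn))))
    rw [hdeg χ hχd, hdeg _ (by
      rw [CfsgLib.Blocks.charDegree_eq (n := 1) (by rw [CfsgLib.Char.trivChar_apply, Nat.cast_one])]
      exact (Fact.out : p.Prime).not_dvd_one)]
  · obtain ⟨S, hS⟩ : ∃ S : Sylow p G, (S : Subgroup G) ≤ Subgroup.centralizer ({g} : Set G) := by
      obtain ⟨T, -, hT, hTp, hTs⟩ := CfsgLib.Fusion.exists_isSylowIn_ge (p := p)
        (bot_le : (⊥ : Subgroup G) ≤ Subgroup.centralizer ({g} : Set G)) IsPGroup.of_bot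
      have hcard : Nat.card T = p ^ (Nat.card G).factorization p := by
        rw [(CfsgLib.Fusion.isSylowIn_iff_card hT).1 hTs,
          CfsgLib.Blocks.factorization_card_eq_index_add hM (Subgroup.centralizer ({g} : Set G)),
          Nat.factorization_eq_zero_of_not_dvd hg, zero_add]
      exact ⟨Sylow.ofCard T hcard, by rw [Sylow.coe_ofCard]; exact hT⟩
    obtain ⟨x, hx⟩ := MulAction.exists_smul_eq G P S
    have hgN : g ∈ N := by
      have h1 : x⁻¹ * g * x ∈ Subgroup.centralizer ((P : Subgroup G) : Set G) := by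
        refine Subgroup.mem_centralizer_iff.2 fun u hu => ?_
        have h2 : x * u * x⁻¹ ∈ (S : Subgroup G) := by
          rw [← hx]
          exact ⟨u, hu, rfl⟩
        have h3 := CfsgLib.Blocks.mem_centralizer_singleton.1 (hS h2)
        calc u * (x⁻¹ * g * x) = x⁻¹ * ((x * u * x⁻¹) * g) * x := by group
          _ = x⁻¹ * (g * (x * u * x⁻¹)) * x := by rw [h3]
          _ = x⁻¹ * g * x * u := by group
      have h4 := (inferInstance : N.Normal).conj_mem _ (hC h1) x
      rwa [show x * (x⁻¹ * g * x) * x⁻¹ = g by group] at h4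
    rw [CfsgLib.Blocks.centralCharBar_eq_iff, Cfsg.centralChar, Cfsg.centralChar, hker g hgN,
      mul_div_assoc, mul_div_assoc, div_self (CfsgLib.Char.IsIrr.apply_one_ne_zero χ.2),
      CfsgLib.Char.trivChar_apply, CfsgLib.Char.trivChar_apply, div_one, sub_self]
    exact CfsgLib.Blocks.memLocalIdeal_iff_not_isUnit
      (z := (0 : CfsgLib.Blocks.localRing M)) |>.2 not_isUnit_zero

end Cfsg.Agent.S4626
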