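import Cfsg.Statements.S4634
import Cfsg.Agent.Lib.Blocks.Cyclic.Isometry
import Cfsg.Agent.Lib.Blocks.SingleBlock
import Cfsg.Agent.Lib.Blocks.Kernel
import Cfsg.Agent.Lib.Blocks.FongInvariant
import Cfsg.Agent.Lib.CharDegree.Basic
import Cfsg.Agent.Lib.Char.CliffordCorr
-- import your own Cfsg.Agent.* helpers here

set_option autoImplicit false
open Cfsg

namespace Cfsg.Agent.S4634

open CfsgLib CfsgLib.Blocks CfsgLib.Pairs CfsgLib.Blocks.Cyclic

/-- A group with a self-centralizing normal `p`-subgroup has one `p`-block. -/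
theorem sameBlock_of_self_centralizing {p : ℕ} [Fact p.Prime] {M : Ideal AlgInt} [M.IsPrime]
    (hM : IsPModular p M) {K : Type*} [Group K] [Finite K] (R : Subgroup K) [R.Normal]
    (hR : IsPGroup p R) (hC : Subgroup.centralizer (R : Set K) ≤ R) (χ ψ : IrrCharacter K) :
    SameBlock M (χ : K → ℂ) (ψ : K → ℂ) := by
  have hRle : R ≤ pCore p K := Core.le_pCore hR
  have hconstr : Subgroup.centralizer (pCore p K : Set K) ≤ pCore p K :=
    ((Subgroup.centralizer_le (SetLike.coe_subset_coe.mpr hRle)).trans hC).trans hRle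
  have hdis : Disjoint R (pPrimeCore p K) := by
    rw [disjoint_iff, eq_bot_iff]
    exact (inf_le_inf_right _ hRle).trans
      (le_of_eq (Core.pCore_inf_pPrimeCore (Fact.out (p := p.Prime))))
  have hcore : pPrimeCore p K = ⊥ := by
    have : (pPrimeCore p K).Normal := inferInstance
    have hle : pPrimeCore p K ≤ Subgroup.centralizer (R : Set K) := fun x hx =>
      Subgroup.mem_centralizer_iff.2 fun r hr =>
        (Subgroup.commute_of_normal_of_disjoint _ _ inferInstance this hdis r x hr hx).eq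
    rw [eq_bot_iff]
    exact (le_inf (hle.trans hC) le_rfl).trans hdis.le_bot
  exact Cfsg.Agent.S4487.result p M hM hcore hconstr χ ψ

/-- A block of a group with a single block contains everything. -/
theorem eq_univ {M : Ideal AlgInt} {K : Type*} [Group K] {b : Set (IrrCharacter K)}
    (hb : IsPBlock M b)
    (h : ∀ χ ψ : IrrCharacter K, SameBlock M (χ : K → ℂ) (ψ : K → ℂ)) : b = Set.univ := by
  obtain ⟨χ, rfl⟩ := hb
  exact Set.eq_univ_of_forall fun ψ => h χ ψ

/-- If the characters of an abelian normal subgroup other than the trivial one all occur with the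
same multiplicity in a character that is non-trivial on it, the degree is at least `#N - 1`. -/
theorem card_le_charDegree {F : Type*} [Group F] [Fintype F] (N : Subgroup F) [N.Normal]
    [Fintype N] (hab : ∀ a b : N, a * b = b * a) (η : IrrCharacter F)
    (hη : ∃ x ∈ N, (η : F → ℂ) x ≠ (η : F → ℂ) 1) (D : ℤ)
    (hD : ∀ μ : IrrCharacter N, μ ≠ Char.trivChar N →
      classInner ((μ : N → ℂ) - (Char.trivChar N : N → ℂ)) (fun k : N => (η : F → ℂ) k) = (D : ℂ)) :
    Nat.card N - 1 ≤ charDegree (η : F → ℂ) := by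
  classical
  have := Fintype.ofFinite (IrrCharacter N)
  have hsum : ∑ n : N, (η : F → ℂ) n = 0 := by
    by_contra h0
    obtain ⟨x, hx, hx1⟩ := hη
    refine hx1 ((omega_avgElt_eq_one_iff N η).1 ((omega_avgElt_eq_or N η).resolve_left fun h => h0 ?_) x hx)
    rw [omega_avgElt, div_eq_zero_iff, mul_eq_zero, inv_eq_zero] at h
    rcases h with (h | h) | h
    · exact absurd h (Nat.cast_ne_zero.2 Nat.card_pos.ne')
    · exact h
    · exact absurd h (Char.IsIrr.apply_one_ne_zero η.2)
  set θ : N → ℂ := fun k => (η : F → ℂ) k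
  have hθ : IsClassFunction N θ := fun g x => Char.IsIrr.isClassFunction η.2 (g : F) (x : F)
  have h1 : ∀ μ : IrrCharacter N, (μ : N → ℂ) 1 = 1 := fun μ =>
    (CharDegree.charDegree_eq_one_iff μ).1 (CharDegree.charDegree_of_comm hab μ)
  have ht : classInner θ (Char.trivChar N : N → ℂ) = 0 := by
    simp [classInner, θ, hsum]
  have hμ : ∀ μ : IrrCharacter N, classInner θ (μ : N → ℂ) =
      if μ = Char.trivChar N then 0 else (D : ℂ) := fun μ => by
    split_ifs with h
    · rw [h, ht]
    · have := congrArg (starRingEnd ℂ) (hD μ h)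
      rwa [Char.classInner_conj_symm, Char.classInner_sub_right, ht, sub_zero, map_intCast] at this
  have hdeg := Char.classFunction_apply_eq_sum hθ (1 : N)
  simp only [h1, mul_one, hμ] at hdeg
  rw [Finset.sum_ite, Finset.sum_const_zero, zero_add, Finset.sum_const, nsmul_eq_mul] at hdeg
  rw [Finset.filter_ne', Finset.card_erase_of_mem (Finset.mem_univ _), Finset.card_univ,
    ← Nat.card_eq_fintype_card] at hdeg
  have hcard : Nat.card (IrrCharacter N) = Nat.card N := by
    have h2 := Char.sum_sq_degree (G := N)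
    simp only [h1, one_pow, Finset.sum_const, Finset.card_univ, nsmul_eq_mul, mul_one] at h2
    rw [Nat.card_eq_fintype_card]
    exact_mod_cast h2
  rw [hcard] at hdeg
  have h3 : ((charDegree (η : F → ℂ) : ℤ) : ℂ) = (((Nat.card N - 1 : ℕ) : ℤ) * D : ℤ) := by
    push_cast
    rw [← apply_one_eq_charDegree, ← hdeg]
    rfl
  have h4 := Int.cast_inj.1 h3
  have h5 : (0 : ℤ) < charDegree (η : F → ℂ) := by
    have := Char.IsIrr.apply_one_ne_zero η.2
    rw [apply_one_eq_charDegree, Nat.cast_ne_zero] at this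
    omega
  rw [h4] at h5
  have h6 : (1 : ℤ) ≤ D := by
    by_contra hc
    nlinarith [Int.natCast_nonneg (Nat.card N - 1)]
  have : ((Nat.card N - 1 : ℕ) : ℤ) ≤ (charDegree (η : F → ℂ) : ℤ) := by
    rw [h4]; nlinarith [Int.natCast_nonneg (Nat.card N - 1)]
  exact_mod_cast this

set_option maxHeartbeats 1000000 in
/-- Let B be a block of the finite group G relative to a maximal ideal M of the algebraic integers containing the prime p, with a nontrivial cyclic defect group P, let c be a block of C_G(P) inducing B, T the stabilizer of c in N_G(P) and e the index of C_G(P) in T. Let F be any finite group of order #P · e having a cyclic subgroup Q of order #P that is its own centralizer (F is then the semidirect product of Q by a cyclic group of order e acting faithfully). Then there is a perfect isometry from the set of all irreducible characters of F onto B whose signs agree on all the characters of F that do not contain Q in their kernel. -/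
theorem result {G : Type*} [Group G] [Finite G] (p : ℕ) [Fact p.Prime] (M : Ideal Cfsg.AlgInt) (hM : Cfsg.IsPModular p M) (B : Set (Cfsg.IrrCharacter G)) (hB : Cfsg.IsPBlock M B) (P : Subgroup G) (hPD : Cfsg.IsDefectGroup p M B P) (hP1 : P ≠ ⊥) (hcyc : IsCyclic P) (c : Set (Cfsg.IrrCharacter (Subgroup.centralizer (P : Set G)))) (hc : Cfsg.IsInducedBlock M (Subgroup.centralizer (P : Set G)) c B) (T : Subgroup G) (hT : ∀ g : G, g ∈ T ↔ (g ∈ Subgroup.normalizer (P : Set G) ∧ Cfsg.StabilizesBlock (Subgroup.centralizer (P : Set G)) c g)) (e : ℕ) (he : (Subgroup.centralizer (P : Set G)).relIndex T = e) (F : Type*) [Group F] [Finite F] (hF : Nat.card F = Nat.card P * e) (Q : Subgroup F) (hQ : IsCyclic Q) (hQcard : Nat.card Q = Nat.card P) (hQC : Subgroup.centralizer (Q : Set F) = Q) : ∃ (I : Cfsg.IrrCharacter F → Cfsg.IrrCharacter G) (ε : Cfsg.IrrCharacter F → ℤ), Cfsg.IsPerfectIsometry p M (Set.univ : Set (Cfsg.IrrCharacter F)) B I ε ∧ ∀ η η' : Cfsg.IrrCharacter F, (∃ x ∈ Q, (η : F → ℂ) x ≠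 (η : F → ℂ) 1) → (∃ x ∈ Q, (η' : F → ℂ) x ≠ (η' : F → ℂ) 1) → ε η = ε η' := by
  classical
  have := hM.2.1.isPrime
  have := Fintype.ofFinite G
  have := Fintype.ofFinite F
  have := Fintype.ofFinite (IrrCharacter G)
  have := Fintype.ofFinite (IrrCharacter F)
  have hp := (Fact.out : p.Prime)
  obtain ⟨a, ha⟩ := IsPGroup.iff_card.1 (IsDefectGroup.isPGroup hPD)
  have S : Setup p M B P c := ⟨hM, hB, hPD, hP1, hcyc, hc⟩
  obtain ⟨Z, f, L⟩ := S.exists_local
  have hTeq : T = pairStab P c := Subgroup.ext hT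
  rw [hTeq] at he
  have hed : e ∣ p - 1 := he ▸ S.free.1
  have hp2 := hp.two_le
  have he0 : 0 < e := Nat.pos_of_ne_zero fun h => by rw [h, zero_dvd_iff] at hed; omega
  have helt : e < p := by have := Nat.le_of_dvd (by omega) hed; omega
  have hea : ¬ p ∣ e := fun h => absurd (Nat.le_of_dvd he0 h) (by omega)
  rw [ha] at hF hQcard
  have hQp : IsPGroup p Q := IsPGroup.of_card hQcard
  have hfac : (Nat.card F).factorization p = a := by
    rw [hF, Nat.factorization_mul (pow_ne_zero _ hp.ne_zero) (by omega), Finsupp.add_apply,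
      Nat.factorization_eq_zero_of_not_dvd hea, hp.factorization_pow, Finsupp.single_eq_same, add_zero]
  set Sy : Sylow p F := Sylow.ofCard Q (by rw [hQcard, hfac]) with hSy
  have hSyQ : (Sy : Subgroup F) = Q := rfl
  have hQi : Q.index = e := by
    have h := Subgroup.card_mul_index Q
    rw [hQcard, hF] at h
    exact Nat.eq_of_mul_eq_mul_left (pow_pos hp.pos a) h
  have hQn : Q.Normal := by
    have h1 := card_sylow_modEq_one p F
    have h2 : Nat.card (Sylow p F) ∣ e := hQi ▸ hSyQ ▸ Sy.card_dvd_index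
    have h3 : Nat.card (Sylow p F) < p := lt_of_le_of_lt (Nat.le_of_dvd he0 h2) helt
    rw [Nat.ModEq, Nat.mod_eq_of_lt h3, Nat.mod_eq_of_lt hp.one_lt, Sy.card_eq_index_normalizer,
      Subgroup.index_eq_one] at h1
    change Subgroup.normalizer ((Sy : Subgroup F) : Set F) = ⊤ at h1
    rw [hSyQ] at h1
    exact Subgroup.normalizer_eq_top_iff.1 h1
  have hall := sameBlock_of_self_centralizing hM Q hQp hQC.le
  have hb : IsPBlock M (Set.univ : Set (IrrCharacter F)) :=
    ⟨Char.trivChar F, (Set.eq_univ_of_forall fun ψ => hall _ ψ).symm⟩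
  have hdef : IsDefectGroup p M (Set.univ : Set (IrrCharacter F)) Q :=
    hSyQ ▸ (FongInvariant.isDefectGroup_sylow hM hb (Set.mem_univ (Char.trivChar F))
      (by
        rw [show charDegree (Char.trivChar F : F → ℂ) = 1 from CharDegree.charDegree_one]
        exact hp.not_dvd_one)).1 Sy
  have hQ1 : Q ≠ ⊥ := by
    rw [← Subgroup.one_lt_card_iff_ne_bot, hQcard, ← ha, Subgroup.one_lt_card_iff_ne_bot]
    exact hP1
  obtain ⟨c', hc'⟩ := exists_pairOf_of_isDefectGroup hM hb hdef
  have hQC' : Q ≤ Subgroup.centralizer (Q : Set F) := hQC.ge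
  have S' : Setup p M (Set.univ : Set (IrrCharacter F)) Q c' := ⟨hM, hb, hdef, hQ1, hQ,
    (inducedFromCent_iff hM (IsDefectGroup.isPGroup hdef) hQC' hc'.1.2 _).2 hc'⟩
  have hcomm := S'.comm
  have hCall : ∀ χ ψ : IrrCharacter (Subgroup.centralizer (Q : Set F)),
      SameBlock M (χ : Subgroup.centralizer (Q : Set F) → ℂ) (ψ : Subgroup.centralizer (Q : Set F) → ℂ) :=
    sameBlock_of_self_centralizing hM ⊤
      ((hQC.symm ▸ hQp : IsPGroup p (Subgroup.centralizer (Q : Set F))).to_subgroup ⊤) le_top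
  have hst : pairStab Q c' = ⊤ := eq_top_iff.2 fun g _ => by
    obtain ⟨χ, hχ⟩ := IsPBlock.nonempty hc'.1.2
    exact LocalData.mem_pairStab_of_mapIrr_mem hc'.1.2
      (by rw [Subgroup.normalizer_eq_top_iff.2 hQn]; trivial) hχ
      (eq_univ hc'.1.2 hCall ▸ Set.mem_univ _)
  have he' : (Subgroup.centralizer (Q : Set F)).relIndex (pairStab Q c') = e := by
    rw [hst, Subgroup.relIndex_top_right, hQC, hQi]
  obtain ⟨Z', f', L'⟩ := S'.exists_local
  have hCZ : Subgroup.centralizer (Z' : Set F) = Q := by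
    refine le_antisymm (fun g hg => ?_) L'.le_centralizer
    obtain ⟨z, hz, hz1⟩ := Z'.bot_or_exists_ne_one.resolve_left L'.ne_bot
    rw [← hQC]
    refine S'.free.2 g (hst ▸ Subgroup.mem_top g) z (L'.Z_le hz) hz1 ?_
    rw [← Subgroup.mem_centralizer_iff.1 hg z hz, mul_inv_cancel_right]
  have : (Subgroup.centralizer (Z' : Set F)).Normal := hCZ.symm ▸ hQn
  have hab : ∀ u v : Subgroup.centralizer (Z' : Set F), u * v = v * u := fun u v =>
    Subtype.ext (hcomm _ (hCZ ▸ u.2) _ (hCZ ▸ v.2))
  have hfall : ∀ χ : IrrCharacter (Subgroup.centralizer (Z' : Set F)), χ ∈ f' := fun χ => by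
    rw [eq_univ L'.block (sameBlock_of_self_centralizing hM ⊤
      ((hCZ.symm ▸ hQp : IsPGroup p (Subgroup.centralizer (Z' : Set F))).to_subgroup ⊤) le_top)]
    trivial
  set t₀ := Char.trivChar (Subgroup.centralizer (Z' : Set F)) with ht₀
  have hfix : ∀ t : pairStab Z' f', mapIrr (conjC _ (LocalData.stabNorm t)) t₀ = t₀ := fun t =>
    Subtype.ext (funext fun k => rfl)
  have hfree : ∀ χ ∈ f', χ ≠ t₀ → ∀ t : pairStab Z' f',
      mapIrr (conjC _ (LocalData.stabNorm t)) χ = χ → (t : F) ∈ Subgroup.centralizer (Z' : Set F) := by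
    intro χ hχ hne t ht
    obtain ⟨χ₀, hχ₀, -, hfree₀⟩ := L'.exists_fixed'
    by_cases h0 : χ = χ₀
    · exact hfree₀ t₀ (hfall _) (fun h => hne (h0.trans h.symm)) t (hfix t)
    · exact hfree₀ χ hχ h0 t ht
  obtain ⟨I, ε, hI, -, -, n, d, ρ, hn, hρ, hsum, hd, hext⟩ :=
    exists_perfectIsometry L L' ha hQcard (he.trans he'.symm) (hfall t₀) hfix hfree
  rw [he'] at hn hsum
  refine ⟨I, ε, hI, fun η η' hη hη' => ?_⟩
  have hn0 : 0 < n := Nat.pos_of_ne_zero fun h => by
    rw [h, mul_zero, zero_add, ← hQcard] at hn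
    exact hQ1 (Subgroup.card_eq_one.1 hn.symm)
  have key : ∀ ξ : IrrCharacter F, (∃ x ∈ Q, (ξ : F → ℂ) x ≠ (ξ : F → ℂ) 1) →
      (∀ i j, d i ξ = d j ξ) → e * n ≤ charDegree (ξ : F → ℂ) := by
    intro ξ hξ hc
    set D := d ⟨0, hn0⟩ ξ with hD
    set b := fun μ : IrrCharacter (Subgroup.centralizer (Z' : Set F)) =>
      classInner (dif μ t₀) (fun k : Subgroup.centralizer (Z' : Set F) => (ξ : F → ℂ) k) with hb'
    have hbinv : ∀ (x : pairStab Z' f') (μ : IrrCharacter _),
        b (mapIrr (conjC _ (LocalData.stabNorm x)) μ) = b μ := by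
      intro x μ
      show classInner _ _ = classInner _ _
      rw [← Clifford.classInner_comp_equiv (conjC _ (LocalData.stabNorm x))
        (dif μ t₀) (fun k : Subgroup.centralizer (Z' : Set F) => (ξ : F → ℂ) k)]
      congr 1
      funext k
      show (ξ : F → ℂ) k = (ξ : F → ℂ) _
      rw [coe_conjC, Char.IsIrr.isClassFunction ξ.2 _ _]
    have hs := hsum (fun μ => if μ = t₀ then 0 else (Complex.normSq (b μ - D) : ℂ)) (if_pos rfl)
      fun x μ _ => by
        by_cases hμ : μ = t₀
        · rw [hμ, hfix]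
        · rw [if_neg hμ, if_neg fun h => hμ ?_, hbinv]
          exact (mapIrr_injective _) (h.trans (hfix x).symm)
    rw [Finset.sum_eq_zero (s := Finset.univ (α := Fin n)) fun j _ => by
      rw [if_neg (hρ j).2, show b (ρ j) = (D : ℂ) by rw [hb', hD, hc _ j]; exact hd j ξ]
      simp, mul_zero] at hs
    have hz : ∀ μ, μ ≠ t₀ → b μ = (D : ℂ) := by
      intro μ hμ
      have hs' := congrArg Complex.re hs
      rw [Complex.re_sum, Complex.zero_re] at hs'
      have h := (Finset.sum_eq_zero_iff_of_nonneg fun ν _ => by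
        split_ifs
        · simp
        · simpa using Complex.normSq_nonneg _).1 hs' μ ((Set.Finite.mem_toFinset _).2 (hfall μ))
      rw [if_neg hμ, Complex.ofReal_re, Complex.normSq_eq_zero, sub_eq_zero] at h
      exact h
    have hN : Nat.card (Subgroup.centralizer (Z' : Set F)) = p ^ a := by rw [hCZ, hQcard]
    have h := card_le_charDegree (Subgroup.centralizer (Z' : Set F)) hab ξ
      (by rw [hCZ]; exact hξ) D hz
    omega
  have hsq : ∑ χ : IrrCharacter F, charDegree (χ : F → ℂ) ^ 2 = p ^ a * e := by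
    have h := Char.sum_sq_degree (G := F)
    simp only [apply_one_eq_charDegree, ← Nat.cast_pow, ← Nat.cast_sum, hF, Nat.cast_inj] at h
    exact h
  have hne : ∀ ξ : IrrCharacter F, (∃ x ∈ Q, (ξ : F → ℂ) x ≠ (ξ : F → ℂ) 1) → Char.trivChar F ≠ ξ := by
    rintro ξ ⟨x, -, hx⟩ rfl
    exact hx rfl
  have htriv : charDegree (Char.trivChar F : F → ℂ) = 1 := CharDegree.charDegree_one
  by_cases hηη : η = η'
  · rw [hηη]
  have hone : ∀ ξ : IrrCharacter F, (∃ x ∈ Q, (ξ : F → ℂ) x ≠ (ξ : F → ℂ) 1) →
      (∀ i j, d i ξ = d j ξ) → n = 1 := by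
    intro ξ hξ hc
    have h1 := key ξ hξ hc
    have h2 := Finset.sum_le_sum_of_subset (f := fun χ : IrrCharacter F => charDegree (χ : F → ℂ) ^ 2)
      (Finset.subset_univ {Char.trivChar F, ξ})
    rw [Finset.sum_pair (hne ξ hξ), htriv, hsq, ← hn] at h2
    have h3 : (e * n) ^ 2 ≤ charDegree (ξ : F → ℂ) ^ 2 := Nat.pow_le_pow_left h1 2
    by_contra hn1
    have h4 : 2 ≤ n := by omega
    nlinarith [Nat.mul_le_mul (Nat.mul_le_mul he0 h4) (Nat.le_refl (e * n))]
  have hcontra : n = 1 → False := by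
    intro hn1
    have hsub : ∀ ξ, ∀ i j, d i ξ = d j ξ := fun ξ i j => by
      rw [show i = j from Fin.ext (by omega)]
    have h1 := key η hη (hsub η)
    have h1' := key η' hη' (hsub η')
    have h2 := Finset.sum_le_sum_of_subset (f := fun χ : IrrCharacter F => charDegree (χ : F → ℂ) ^ 2)
      (Finset.subset_univ {Char.trivChar F, η, η'})
    rw [Finset.sum_insert (by simp [hne η hη, hne η' hη']), Finset.sum_pair hηη, htriv, hsq, ← hn] at h2
    have h3 : (e * n) ^ 2 ≤ charDegree (η : F → ℂ) ^ 2 := Nat.pow_le_pow_left h1 2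
    have h3' : (e * n) ^ 2 ≤ charDegree (η' : F → ℂ) ^ 2 := Nat.pow_le_pow_left h1' 2
    subst hn1
    nlinarith
  by_cases h : ∀ i j, d i η = d j η
  · exact (hcontra (hone η hη h)).elim
  by_cases h' : ∀ i j, d i η' = d j η'
  · exact (hcontra (hone η' hη' h')).elim
  push Not at h h'
  exact hext η (Set.mem_univ _) η' (Set.mem_univ _) h h'

end Cfsg.Agent.S4634
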