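import Cfsg.Statements.S4635
import Cfsg.Agent.Lib.Blocks.Cyclic.Isometry
import Cfsg.Agent.Lib.Blocks.Cyclic.Descent
-- import your own Cfsg.Agent.* helpers here

set_option autoImplicit false
open Cfsg

namespace Cfsg.Agent.S4635

/-- Let B be a block of the finite group G relative to a maximal ideal M of the algebraic integers containing the prime p, with a nontrivial cyclic defect group P; let Z be the subgroup of order p of P and H = N_G(Z), which contains N_G(P). Let c be the block of H with defect group P that induces B. Then B and c contain the same number of irreducible characters, have the same p-regular rank, and there is a perfect isometry from c onto B. -/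
theorem result {G : Type*} [Group G] [Finite G] (p : ℕ) [Fact p.Prime] (M : Ideal Cfsg.AlgInt) (hM : Cfsg.IsPModular p M) (B : Set (Cfsg.IrrCharacter G)) (hB : Cfsg.IsPBlock M B) (P : Subgroup G) (hPD : Cfsg.IsDefectGroup p M B P) (hP1 : P ≠ ⊥) (hcyc : IsCyclic P) (Z : Subgroup G) (hZ : Z ≤ P) (hZcard : Nat.card Z = p) (H : Subgroup G) (hH : H = Subgroup.normalizer (Z : Set G)) (c : Set (Cfsg.IrrCharacter H)) (hcD : Cfsg.IsDefectGroup p M c (P.subgroupOf H)) (hc : Cfsg.IsInducedBlock M H c B) : Nat.card c = Nat.card B ∧ Cfsg.blockRank p c = Cfsg.blockRank p B ∧ ∃ (I : Cfsg.IrrCharacter H → Cfsg.IrrCharacter G) (ε : Cfsg.IrrCharacter H → ℤ), Cfsg.IsPerfectIsometry p M c B I ε := by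
  classical
  have := hM.2.1.isPrime
  have := Fintype.ofFinite G
  have := Fintype.ofFinite H
  have := Fintype.ofFinite (IrrCharacter G)
  have := Fintype.ofFinite (IrrCharacter H)
  have hNH : Subgroup.normalizer (P : Set G) ≤ H := by
    obtain ⟨e, he⟩ := CfsgLib.Pairs.exists_pairOf_of_isDefectGroup hM hB hPD
    have hab : ∀ x ∈ P, ∀ y ∈ P, x * y = y * x := fun x hx y hy => by
      let := IsCyclic.commGroup (α := P)
      exact congrArg Subtype.val (mul_comm (⟨x, hx⟩ : P) ⟨y, hy⟩)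
    have hPC : P ≤ Subgroup.centralizer (P : Set G) := fun x hx =>
      Subgroup.mem_centralizer_iff.2 fun y hy => hab y hy x hx
    have S : CfsgLib.Blocks.Cyclic.Setup p M B P e := ⟨hM, hB, hPD, hP1, hcyc,
      (CfsgLib.Pairs.inducedFromCent_iff hM (CfsgLib.Blocks.IsDefectGroup.isPGroup hPD) hPC he.1.2 B).2 he⟩
    rw [hH]
    exact S.normalizer_le hZ
  have hPH : P ≤ H := Subgroup.le_normalizer.trans hNH
  have hCH : Subgroup.centralizer (P : Set G) ≤ H :=
    (CfsgLib.Blocks.centralizer_le_normalizer' P).trans hNH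
  have hcyc' : IsCyclic (P.subgroupOf H) :=
    isCyclic_of_surjective _ (Subgroup.subgroupOfEquivOfLe hPH).symm.surjective
  have hcard : Nat.card (P.subgroupOf H) = Nat.card P :=
    Nat.card_congr (Subgroup.subgroupOfEquivOfLe hPH).toEquiv
  have hP1' : P.subgroupOf H ≠ ⊥ := by
    rwa [← Subgroup.one_lt_card_iff_ne_bot, hcard, Subgroup.one_lt_card_iff_ne_bot]
  obtain ⟨e₀, he₀⟩ := CfsgLib.Pairs.exists_pairOf_of_isDefectGroup hM hc.1 hcD
  have hPC' : P.subgroupOf H ≤ Subgroup.centralizer ((P.subgroupOf H : Subgroup H) : Set H) :=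
    fun x hx => Subgroup.mem_centralizer_iff.2 fun y hy => by
      let := IsCyclic.commGroup (α := P.subgroupOf H)
      exact congrArg Subtype.val (mul_comm (⟨y, hy⟩ : P.subgroupOf H) ⟨x, hx⟩)
  have S' : CfsgLib.Blocks.Cyclic.Setup p M c (P.subgroupOf H) e₀ := ⟨hM, hc.1, hcD, hP1', hcyc',
    (CfsgLib.Pairs.inducedFromCent_iff hM (CfsgLib.Blocks.IsDefectGroup.isPGroup hcD) hPC' he₀.1.2 c).2 he₀⟩
  obtain ⟨e, S, hidx⟩ := S'.exists_up hPH hCH hNH hc hPD hP1
  obtain ⟨a, ha⟩ := IsPGroup.iff_card.1 (CfsgLib.Blocks.IsDefectGroup.isPGroup hPD)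
  obtain ⟨Z₁, f, L⟩ := S.exists_local
  obtain ⟨Z₂, f', L'⟩ := S'.exists_local
  obtain ⟨χ₀, hχ₀, hfix, hfree⟩ := L'.exists_fixed'
  obtain ⟨I, ε, hI, hk, hl, -⟩ := CfsgLib.Blocks.Cyclic.exists_perfectIsometry L L' ha
    (hcard.trans ha) hidx hχ₀ hfix hfree
  exact ⟨hk, hl, I, ε, hI⟩

end Cfsg.Agent.S4635
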