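import Cfsg.Statements.S4636
-- import your own Cfsg.Agent.* helpers here

set_option autoImplicit false
open scoped Pointwise
open Cfsg

namespace Cfsg.Agent.S4636

/-- Let P be a nontrivial cyclic p-subgroup of the finite group G and Z its subgroup of order p. For every x outside N_G(Z), P meets its conjugate xPx⁻¹ trivially; consequently N_G(Q) ≤ N_G(Z) for every nontrivial subgroup Q of P. -/
theorem result {G : Type*} [Group G] [Finite G] (p : ℕ) [Fact p.Prime] (P : Subgroup G) (hP : IsPGroup p P) (hP1 : P ≠ ⊥) (hcyc : IsCyclic P) (Z : Subgroup G) (hZ : Z ≤ P) (hZcard : Nat.card Z = p) : (∀ x : G, x ∉ Subgroup.normalizer (Z : Set G) → P ⊓ MulAut.conj x • P = ⊥) ∧ ∀ Q : Subgroup G, Q ≤ P → Q ≠ ⊥ → Subgroup.normalizer (Q : Set G) ≤ Subgroup.normalizer (Z : Set G) := by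
  have uniq : ∀ A B C : Subgroup G, IsCyclic C → A ≤ C → B ≤ C → Nat.card A = p →
      Nat.card B = p → A = B := by
    intro A B C hC hA hB cA cB
    classical
    haveI : Fintype C := Fintype.ofFinite C
    have eqs : ∀ D : Subgroup G, D ≤ C → Nat.card D = p →
        (D.subgroupOf C : Set C) = ↑({x : C | x ^ p = 1} : Finset C) := by
      intro D hD cD
      refine Set.eq_of_subset_of_ncard_le ?_ ?_ (Finset.finite_toSet _)
      · intro x hx
        simp only [Finset.coe_filter, Finset.mem_univ, true_and, Set.mem_setOf_eq]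
        have h := pow_card_eq_one' (x := (⟨(x : G), Subgroup.mem_subgroupOf.mp hx⟩ : D))
        rw [cD] at h
        exact Subtype.ext (by simpa using congrArg Subtype.val h)
      · rw [Set.ncard_coe_finset]
        calc _ ≤ p := IsCyclic.card_pow_eq_one_le (Fact.out : p.Prime).pos
          _ = _ := by
            rw [← Nat.card_coe_set_eq, ← cD]
            exact (Nat.card_congr (Subgroup.subgroupOfEquivOfLe hD).toEquiv).symm
    have h : A.subgroupOf C = B.subgroupOf C :=
      SetLike.coe_injective ((eqs A hA cA).trans (eqs B hB cB).symm)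
    simpa [hA, hB] using h
  have part1 : ∀ x : G, x ∉ Subgroup.normalizer (Z : Set G) → P ⊓ MulAut.conj x • P = ⊥ := by
    intro x hx
    by_contra hne
    set D := P ⊓ MulAut.conj x • P with hD
    have hDp : IsPGroup p D := hP.to_le inf_le_left
    haveI : Nontrivial D := (Subgroup.nontrivial_iff_ne_bot D).mpr hne
    obtain ⟨n, hn, hcard⟩ := (IsPGroup.nontrivial_iff_card hDp).mp inferInstance
    obtain ⟨y, hy⟩ := exists_prime_orderOf_dvd_card' (G := D) p (hcard ▸ dvd_pow_self p (by omega))
    set Y := Subgroup.zpowers ((y : G)) with hYdef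
    have hYcard : Nat.card Y = p := by rw [hYdef, Nat.card_zpowers, Subgroup.orderOf_coe, hy]
    have hYle : Y ≤ D := by rw [hYdef, Subgroup.zpowers_le]; exact y.2
    have e1 : Z = Y := uniq Z Y P hcyc hZ (hYle.trans inf_le_left) hZcard hYcard
    have hcyc' : IsCyclic (MulAut.conj x • P : Subgroup G) :=
      (Subgroup.equivSMul (MulAut.conj x) P).isCyclic.mp hcyc
    have e2 : MulAut.conj x • Z = Y := by
      refine uniq _ Y _ hcyc' (Subgroup.pointwise_smul_le_pointwise_smul_iff.mpr hZ) (hYle.trans inf_le_right) ?_ hYcard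
      rw [← hZcard]; exact (Nat.card_congr (Subgroup.equivSMul (MulAut.conj x) Z).toEquiv).symm
    have e3 : MulAut.conj x • Z = Z := e2.trans e1.symm
    apply hx
    rw [Subgroup.mem_normalizer_iff]
    intro q
    constructor
    · intro hq
      have h' : MulAut.conj x • q ∈ MulAut.conj x • Z := Subgroup.smul_mem_pointwise_smul _ _ _ hq
      rw [e3] at h'; exact h'
    · intro hq
      have h' : MulAut.conj x • q ∈ MulAut.conj x • Z := by rw [e3]; exact hq
      exact Subgroup.smul_mem_pointwise_smul_iff.mp h'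
  refine ⟨part1, fun Q hQ hQ1 x hx => ?_⟩
  by_contra hxn
  apply hQ1
  rw [eq_bot_iff]
  intro q hq
  have h2 : q ∈ P ⊓ MulAut.conj x • P := by
    refine Subgroup.mem_inf.mpr ⟨hQ hq, ?_⟩
    rw [Subgroup.mem_pointwise_smul_iff_inv_smul_mem]
    apply hQ
    have := (Subgroup.mem_normalizer_iff.mp ((Subgroup.normalizer (Q : Set G)).inv_mem hx) q).mp hq
    simpa [MulAut.smul_def] using this
  rwa [part1 x hxn] at h2

end Cfsg.Agent.S4636
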