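import Cfsg.Statements.S4638
import Cfsg.Agent.Lib.Blocks.KleinIsometry.Isometry
import Cfsg.Agent.Lib.Blocks.KleinIsometry.Correspondent
-- import your own Cfsg.Agent.* helpers here

set_option autoImplicit false
open Cfsg

namespace Cfsg.Agent.S4638

/-- Let B be a block of the finite group G relative to a maximal ideal M of the algebraic integers containing 2, with a Klein four defect group P, and let c be its Brauer correspondent: the block of N_G(P) with defect group P that induces B. Then there is a perfect isometry from c onto B. -/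
theorem result {G : Type*} [Group G] [Finite G] (M : Ideal Cfsg.AlgInt) (hM : Cfsg.IsPModular 2 M) (B : Set (Cfsg.IrrCharacter G)) (hB : Cfsg.IsPBlock M B) (P : Subgroup G) (hPD : Cfsg.IsDefectGroup 2 M B P) (hV : IsKleinFour P) (c : Set (Cfsg.IrrCharacter (Subgroup.normalizer (P : Set G)))) (hcD : Cfsg.IsDefectGroup 2 M c (P.subgroupOf (Subgroup.normalizer (P : Set G)))) (hc : Cfsg.IsInducedBlock M (Subgroup.normalizer (P : Set G)) c B) : ∃ (I : Cfsg.IrrCharacter (Subgroup.normalizer (P : Set G)) → Cfsg.IrrCharacter G) (ε : Cfsg.IrrCharacter (Subgroup.normalizer (P : Set G)) → ℤ), Cfsg.IsPerfectIsometry 2 M c B I ε := by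
  classical
  have := Fintype.ofFinite G
  have := hM.2.1.isPrime
  have : Fact (Nat.Prime 2) := ⟨Nat.prime_two⟩
  have := Fintype.ofFinite (Subgroup.normalizer (P : Set G))
  have hPN : P ≤ Subgroup.normalizer (P : Set G) := Subgroup.le_normalizer
  have hV' : IsKleinFour (P.subgroupOf (Subgroup.normalizer (P : Set G))) :=
    { card_four := by rw [Nat.card_congr (Subgroup.subgroupOfEquivOfLe hPN).toEquiv, hV.card_four]
      exponent_two := by
        rw [Monoid.exponent_eq_of_mulEquiv (Subgroup.subgroupOfEquivOfLe hPN), hV.exponent_two] }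
  obtain ⟨e₀, he₀⟩ := CfsgLib.Pairs.exists_pairOf_of_isDefectGroup hM hc.1 hcD
  have hmax₀ := CfsgLib.Pairs.isMaximal_of_isDefectGroup hM he₀ hcD
  obtain ⟨e, he, hidx⟩ := CfsgLib.KleinIso.exists_pair_up hM
    (CfsgLib.Blocks.IsDefectGroup.isPGroup hPD)
    (fun a ha b hb => CfsgLib.Blocks.commute_mem hV ha hb) hc he₀
  have hmax := CfsgLib.Pairs.isMaximal_of_isDefectGroup hM he hPD
  have hrank : Cfsg.blockRank 2 B = Cfsg.blockRank 2 c := by
    rw [CfsgLib.Blocks.blockRank_eq_relIndex hM hV hmax,
      CfsgLib.Blocks.blockRank_eq_relIndex hM hV' hmax₀, hidx]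
  exact CfsgLib.KleinIso.exists_perfectIsometry hM hB hc.1 hV hPD hV' hcD hrank

end Cfsg.Agent.S4638
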