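import Cfsg.Statements.S4641
import Cfsg.Agent.Lib.Blocks.Brauer.Degrees
-- import your own Cfsg.Agent.* helpers here

set_option autoImplicit false
open Cfsg

namespace Cfsg.Agent.S4641

/-- Let B be a block of the finite group G relative to a maximal ideal M of the algebraic integers containing the prime p, let p^a be the p-part of the order of G and p^d the order of a defect group D of B, and let g be the greatest common divisor of the degrees of the members of B. Then the p-part of g is exactly p^(a−d), and writing g = p^(a−d)·u there is a positive integer v, prime to p and at least the p-regular rank of B (its number of irreducible Brauer characters), with Σ_{χ ∈ B} χ(1)² = p^(2a−d)·u²·v. -/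
theorem result {G : Type*} [Group G] [Finite G] (p : ℕ) [Fact p.Prime] (M : Ideal Cfsg.AlgInt) (hM : Cfsg.IsPModular p M) (B : Set (Cfsg.IrrCharacter G)) (hB : Cfsg.IsPBlock M B) (D : Subgroup G) (hD : Cfsg.IsDefectGroup p M B D) (a d : ℕ) (ha : (Nat.card G).factorization p = a) (hd : Nat.card D = p ^ d) (g : ℕ) (hg1 : ∀ χ ∈ B, g ∣ Cfsg.charDegree (χ : G → ℂ)) (hg2 : ∀ g' : ℕ, (∀ χ ∈ B, g' ∣ Cfsg.charDegree (χ : G → ℂ)) → g' ∣ g) : g.factorization p = a - d ∧ ∃ v : ℕ, 0 < v ∧ ¬ p ∣ v ∧ Cfsg.blockRank p B ≤ v ∧ ∑ᶠ χ ∈ B, Cfsg.charDegree (χ : G → ℂ) ^ 2 = p ^ (2 * a - d) * (g / p ^ (a - d)) ^ 2 * v := by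
  classical
  have := hM.2.1.isPrime
  have := Fintype.ofFinite G
  have := Fintype.ofFinite (Cfsg.IrrCharacter G)
  obtain ⟨Dt⟩ := CfsgLib.IBr.nonempty_data (G := G) (M := M)
  obtain ⟨ξ, hξ, hξ0⟩ := CfsgLib.Blocks.exists_height_zero (p := p) (CfsgLib.Blocks.IsPBlock.nonempty hB)
  rw [CfsgLib.Blocks.blockHeight_eq_zero_iff_minExp hξ] at hξ0
  set e := CfsgLib.Blocks.minExp p B with he
  have hp := (Fact.out : p.Prime)
  have hgξ := hg1 ξ hξ
  have hg0 : g ≠ 0 := ne_zero_of_dvd_ne_zero (CfsgLib.Blocks.charDegree_pos ξ).ne' hgξ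
  have hge : g.factorization p = e := by
    refine le_antisymm ?_ ?_
    · rw [← hξ0]
      exact (Nat.factorization_le_iff_dvd hg0 (CfsgLib.Blocks.charDegree_pos ξ).ne').2 hgξ p
    · refine (hp.pow_dvd_iff_le_factorization hg0).1 (hg2 _ fun χ hχ => ?_)
      exact (pow_dvd_pow p (CfsgLib.Blocks.minExp_le hχ)).trans (Nat.ordProj_dvd _ _)
  have hea : e ≤ a := ha ▸ CfsgLib.IBr.minExp_le_card hB
  have hde : d = a - e := by
    have h := CfsgLib.Blocks.IsDefectGroup.card_eq hM hB hD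
    rw [hd] at h
    rw [Nat.pow_right_injective hp.two_le h, ← ha]
    rfl
  have hade : a - d = e := by omega
  have h2ad : 2 * a - d = a + e := by omega
  refine ⟨by rw [hge, hade], ?_⟩
  obtain ⟨u, hu⟩ : p ^ e ∣ g := hge ▸ Nat.ordProj_dvd g p
  have hup : ¬ p ∣ u := by
    have h := Nat.not_dvd_ordCompl hp hg0
    rwa [hge, Nat.div_eq_of_eq_mul_right (pow_pos hp.pos _) hu] at h
  have hu0 : u ≠ 0 := by rintro rfl; simp at hu; exact hg0 hu
  rw [hade, h2ad, Nat.div_eq_of_eq_mul_right (pow_pos hp.pos _) hu]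
  set T := Finset.univ.filter (fun δ => Dt.block hM δ = B) with hT
  have hterm : ∀ δ ∈ T, p ^ (a + e) * u ^ 2 ∣
      Dt.d δ * ∑ χ, Dt.dec χ δ * Cfsg.charDegree (χ : G → ℂ) := by
    intro δ hδ
    have hδB : Dt.block hM δ = B := (Finset.mem_filter.1 hδ).2
    have h1 : g ∣ Dt.d δ := CfsgLib.IBr.dvd_degree_of_forall hM Dt hδB hg1
    have h2 : p ^ a ∣ ∑ χ, Dt.dec χ δ * Cfsg.charDegree (χ : G → ℂ) := ha ▸ Dt.pow_dvd_sum_dec hM δ
    have h3 : u ∣ ∑ χ, Dt.dec χ δ * Cfsg.charDegree (χ : G → ℂ) := by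
      refine Finset.dvd_sum fun χ _ => ?_
      by_cases h : Dt.dec χ δ = 0
      · simp [h]
      · exact Dvd.dvd.mul_left ((hu ▸ Dvd.intro_left _ rfl : u ∣ g).trans
          (hg1 χ (hδB ▸ Dt.mem_block_of_dec hM h))) _
    have h4 : p ^ a * u ∣ ∑ χ, Dt.dec χ δ * Cfsg.charDegree (χ : G → ℂ) :=
      Nat.Coprime.mul_dvd_of_dvd_of_dvd (Nat.Coprime.pow_left a ((Nat.Prime.coprime_iff_not_dvd hp).2 hup))
        h2 h3
    calc p ^ (a + e) * u ^ 2 = g * (p ^ a * u) := by rw [hu]; ring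
      _ ∣ _ := mul_dvd_mul h1 h4
  have hterm' : ∀ δ, ∃ q : ℕ, δ ∈ T → Dt.d δ * ∑ χ, Dt.dec χ δ * Cfsg.charDegree (χ : G → ℂ) =
      p ^ (a + e) * u ^ 2 * q := fun δ => by
    by_cases h : δ ∈ T
    · exact (hterm δ h).imp fun q hq _ => hq
    · exact ⟨0, fun h' => absurd h' h⟩
  choose q hq using hterm'
  have hsum : ∑ χ ∈ Finset.univ.filter (· ∈ B), Cfsg.charDegree (χ : G → ℂ) ^ 2 =
      p ^ (a + e) * u ^ 2 * ∑ δ ∈ T, q δ := by
    rw [CfsgLib.IBr.sum_sq_eq_sum_phi hM hB Dt, Finset.mul_sum]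
    exact Finset.sum_congr rfl hq
  obtain ⟨w, hw, hsumw⟩ := CfsgLib.IBr.exists_sum_sq_eq hM hB
  rw [ha, hsum, mul_assoc] at hsumw
  have hwv := Nat.eq_of_mul_eq_mul_left (pow_pos hp.pos _) hsumw
  have hqpos : ∀ δ ∈ T, 1 ≤ q δ := by
    intro δ hδ
    rw [Nat.one_le_iff_ne_zero]
    intro h0
    have h := hq δ hδ
    rw [h0, mul_zero, mul_eq_zero] at h
    rcases h with h | h
    · exact NeZero.ne (Dt.d δ) h
    · obtain ⟨χ, hχ⟩ := Dt.exists_dec_ne_zero hM δ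
      exact mul_ne_zero hχ (CfsgLib.Blocks.charDegree_pos χ).ne'
        (Finset.sum_eq_zero_iff.1 h χ (Finset.mem_univ _))
  refine ⟨∑ δ ∈ T, q δ, ?_, fun h => hw (hwv ▸ Dvd.dvd.mul_left h _), ?_, ?_⟩
  · rcases Nat.eq_zero_or_pos (∑ δ ∈ T, q δ) with h | h
    · exact absurd (dvd_zero p) (by rwa [← hwv, h, mul_zero] at hw)
    · exact h
  · rw [← Dt.card_block_eq hM hB, Nat.card_eq_fintype_card, Fintype.card_subtype,
      Finset.card_eq_sum_ones]
    exact Finset.sum_le_sum hqpos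
  · rw [← hsum, finsum_mem_eq_sum_of_inter_support_eq]
    ext χ
    simp

end Cfsg.Agent.S4641
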