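import Cfsg.Statements.S4642
import Cfsg.Agent.Lib.Blocks.PrincipalType

set_option autoImplicit false
open Cfsg

namespace Cfsg.Agent.S4642

/-- Let G be a finite group, p a prime, M a maximal ideal of the algebraic integers containing p, K the largest normal subgroup of G of order prime to p, and L the preimage in G of the largest normal p-subgroup of G/K. Let Q be a Sylow p-subgroup of L and suppose C_G(Q) ≤ L. Let θ be an irreducible character of K invariant under conjugation by every element of G, and let B be the set of irreducible characters of G whose restriction to K contains θ. Then B is a block of G, every Sylow p-subgroup of G is a defect group of B, and B is of principal type: for every p-subgroup R of G exactly one block of C_G(R) induces B. -/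
theorem result {G : Type*} [Group G] [Fintype G] (p : ℕ) [Fact p.Prime] (M : Ideal Cfsg.AlgInt) (hM : Cfsg.IsPModular p M) (K : Subgroup G) (hK : K = Cfsg.pPrimeCore p G) [Fintype K] (L : Subgroup G) (hL : L = Cfsg.pPrimePCore p G) (Q : Subgroup G) (hQL : Q ≤ L) (hQp : IsPGroup p Q) (hQS : ¬ p ∣ Q.relIndex L) (hCQ : Subgroup.centralizer (Q : Set G) ≤ L) (θ : Cfsg.IrrCharacter K) (hθ : ∀ g : G, Cfsg.IsConjCharOf K g (θ : K → ℂ) (θ : K → ℂ)) (B : Set (Cfsg.IrrCharacter G)) (hBdef : ∀ χ : Cfsg.IrrCharacter G, χ ∈ B ↔ Cfsg.classInner (fun k : K => (χ : G → ℂ) k) (θ : K → ℂ) ≠ 0) : Cfsg.IsPBlock M B ∧ (∀ S : Sylow p G, Cfsg.IsDefectGroup p M B S) ∧ ∀ R : Subgroup G, IsPGroup p R → ∃! f : Set (Cfsg.IrrCharacter (Subgroup.centralizer (R : Set G))), Cfsg.IsInducedBlock M (Subgroup.centralizer (R : Set G)) f B := by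
  classical
  have : M.IsPrime := hM.2.1.isPrime
  have : Fact p.Prime := ⟨hM.1⟩
  have := Fintype.ofFinite G
  have hKn : K.Normal := hK ▸ inferInstance
  have hinv : ∀ g : G, CfsgLib.Blocks.conjIrr K g θ = θ := fun g => Subtype.ext (funext fun n => by
    rw [CfsgLib.Blocks.conjIrr_apply]
    exact hθ g n ⟨g * n * g⁻¹, hKn.conj_mem n n.2 g⟩ rfl)
  have hcon : Cfsg.IsPConstrained p G := by
    intro T x hx
    subst hL
    obtain ⟨T₀, hT₀⟩ : ∃ T₀ : Sylow p ↥(Cfsg.pPrimePCore p G),
        (T₀ : Subgroup ↥(Cfsg.pPrimePCore p G)) = Q.subgroupOf (Cfsg.pPrimePCore p G) := by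
      refine ⟨(hQp.comap_of_injective _ (Subgroup.subtype_injective _)).toSylow ?_, rfl⟩
      exact hQS
    obtain ⟨l, hl⟩ := MulAction.exists_smul_eq ↥(Cfsg.pPrimePCore p G) T₀ T
    have hx' : (l : G)⁻¹ * x * l ∈ Subgroup.centralizer (Q : Set G) := by
      refine Subgroup.mem_centralizer_iff.2 fun q hq => ?_
      have hqT : (l : G) * q * (l : G)⁻¹ ∈
          ((T : Subgroup ↥(Cfsg.pPrimePCore p G)).map (Cfsg.pPrimePCore p G).subtype : Set G) := by
        refine ⟨l * ⟨q, hQL hq⟩ * l⁻¹, ?_, rfl⟩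
        rw [← hl]
        exact ⟨⟨q, hQL hq⟩, hT₀ ▸ Subgroup.mem_subgroupOf.2 hq, rfl⟩
      have h := Subgroup.mem_centralizer_iff.1 hx _ hqT
      calc q * ((l : G)⁻¹ * x * l) = (l : G)⁻¹ * ((l : G) * q * (l : G)⁻¹ * x) * l := by group
        _ = (l : G)⁻¹ * (x * ((l : G) * q * (l : G)⁻¹)) * l := by rw [h]
        _ = (l : G)⁻¹ * x * l * q := by group
    have h := hCQ hx'
    rw [show x = (l : G) * ((l : G)⁻¹ * x * l) * (l : G)⁻¹ by group]
    exact mul_mem (mul_mem l.2 h) (inv_mem l.2)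
  obtain ⟨B', hB', hiff, χ, hχ, hd⟩ :=
    CfsgLib.FongInvariant.exists_block_of_constrained hM hcon hK θ hinv
  obtain rfl : B = B' := Set.ext fun ψ => (hBdef ψ).trans (hiff ψ).symm
  obtain ⟨h1, -⟩ := CfsgLib.FongInvariant.isDefectGroup_sylow hM hB' hχ hd
  exact ⟨hB', h1, fun R hR =>
    CfsgLib.Blocks.existsUnique_inducing hM hcon K hK hinv hB' hiff h1 hR⟩

end Cfsg.Agent.S4642
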