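import Cfsg.Statements.S4644
import Cfsg.Agent.Lib.Blocks.Watanabe.Main
-- import your own Cfsg.Agent.* helpers here

set_option autoImplicit false
open Cfsg

open CfsgLib.Blocks CfsgLib.Pairs CfsgLib.Watanabe

namespace Cfsg.Agent.S4644

/-- Let B be a block of the finite group G relative to a maximal ideal M of the algebraic integers containing the prime p, with a commutative defect group P; let c be a block of C_G(P) inducing B and T the stabilizer of c in N_G(P). Let u be an element of P fixed under conjugation by every element of T, H = C_G(u) (so C_G(P) ≤ H), and f the block of H induced by c inside H. Then B and f have the same p-regular rank and the same number of irreducible characters. -/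
theorem result {G : Type*} [Group G] [Finite G] (p : ℕ) [Fact p.Prime] (M : Ideal Cfsg.AlgInt) (hM : Cfsg.IsPModular p M) (B : Set (Cfsg.IrrCharacter G)) (hB : Cfsg.IsPBlock M B) (P : Subgroup G) (hPD : Cfsg.IsDefectGroup p M B P) (hPab : ∀ x ∈ P, ∀ y ∈ P, x * y = y * x) (c : Set (Cfsg.IrrCharacter (Subgroup.centralizer (P : Set G)))) (hc : Cfsg.IsInducedBlock M (Subgroup.centralizer (P : Set G)) c B) (T : Subgroup G) (hT : ∀ g : G, g ∈ T ↔ (g ∈ Subgroup.normalizer (P : Set G) ∧ Cfsg.StabilizesBlock (Subgroup.centralizer (P : Set G)) c g)) (u : G) (hu : u ∈ P) (huT : ∀ g ∈ T, g * u * g⁻¹ = u) (H : Subgroup G) (hH : H = Subgroup.centralizer ({u} : Set G)) (f : Set (Cfsg.IrrCharacter H)) (hf : Cfsg.IsInducedBlockIn M H (Subgroup.centralizer (P : Set G)) c f) : Cfsg.blockRank p B = Cfsg.blockRank p f ∧ Nat.card B = Nat.card f := by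
  classical
  have := hM.2.1.isPrime
  have := Fintype.ofFinite G
  have hPp := CfsgLib.Blocks.IsDefectGroup.isPGroup hPD
  have hPC : P ≤ Subgroup.centralizer (P : Set G) := fun x hx =>
    Subgroup.mem_centralizer_iff.2 fun y hy => hPab y hy x hx
  have hpair := (inducedFromCent_iff hM hPp hPC (isInducedBlock_iff.1 hc).1 B).1 hc
  have hmax := isMaximal_of_isDefectGroup hM hpair hPD
  have huT' : ∀ t ∈ pairStab P c, t * u * t⁻¹ = u := fun t ht => huT t ((hT t).2 ht)
  obtain rfl : H = Subgroup.centralizer ((Subgroup.zpowers u : Subgroup G) : Set G) := by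
    rw [hH, Subgroup.zpowers_eq_closure, Subgroup.centralizer_closure]
  have huP : Subgroup.zpowers u ≤ P := Subgroup.zpowers_le.2 hu
  have hPK : P ≤ Subgroup.centralizer ((Subgroup.zpowers u : Subgroup G) : Set G) :=
    le_centralizer_of_abelian hmax hPab huP
  have hTK : pairStab P c ≤ Subgroup.centralizer ((Subgroup.zpowers u : Subgroup G) : Set G) :=
      fun t ht => by
    rw [Subgroup.zpowers_eq_closure, Subgroup.centralizer_closure,
      Subgroup.mem_centralizer_singleton_iff]
    exact mul_inv_eq_iff_eq_mul.1 (huT' t ht)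
  obtain ⟨fK, a, -, haP, hamax, hstab, huniq, hR⟩ := local_setting hM hmax hPab huP
  obtain rfl := huniq f hf
  have haab : ∀ x ∈ a.1, ∀ y ∈ a.1, x * y = y * x := by
    rw [haP]
    exact fun x hx y hy => Subtype.ext (hPab _ hx _ hy)
  have hsup := fun v (hv : v ∈ P) => localRank_sup_fixed hM hmax hPab hu huT' hv
  refine ⟨?_, ?_⟩
  · rw [← localRank_bot hM hmax, ← localRank_bot hM hamax, ← Subgroup.bot_subgroupOf,
      hR _ bot_le, ← Subgroup.zpowers_one_eq_bot]
    exact hsup 1 (one_mem _)
  · have := Fintype.ofFinite P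
    have := Fintype.ofFinite a.1
    let e : a.1 ≃* P := (MulEquiv.subgroupCongr haP).trans (Subgroup.subgroupOfEquivOfLe hPK)
    have hk : (Nat.card B : ℂ) = (Nat.card f : ℂ) := by
      rw [card_eq_sum hM hmax hPab, card_eq_sum hM hamax haab]
      symm
      refine Fintype.sum_equiv e.toEquiv _ _ fun z => ?_
      have horb : orbitSize a.1 a.2 (z : Subgroup.centralizer
          ((Subgroup.zpowers u : Subgroup G) : Set G)) = orbitSize P c ((e z : P) : G) := by
        refine Nat.card_congr (Equiv.subtypeEquiv e.toEquiv fun w => ⟨?_, ?_⟩)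
        · rintro ⟨t, ht, htw⟩
          exact ⟨t, (hstab t).1 ht, congrArg Subtype.val htw⟩
        · rintro ⟨t, ht, htw⟩
          exact ⟨⟨t, hTK ht⟩, (hstab _).2 ht, Subtype.ext htw⟩
      rw [horb, ← zpowers_subgroupOf, hR _ (Subgroup.zpowers_le.2
        (show ((z : Subgroup.centralizer ((Subgroup.zpowers u : Subgroup G) : Set G)) : G) ∈ P from
          (e z).2)), ← hsup ((z : Subgroup.centralizer
            ((Subgroup.zpowers u : Subgroup G) : Set G)) : G) (e z).2]
      rfl
    exact_mod_cast hk

end Cfsg.Agent.S4644
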