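import Cfsg.Statements.S4649
import Cfsg.Agent.Lib.Blocks.RankOneAbelian
import Cfsg.Agent.Lib.Blocks.Brauer.DefectBound
import Cfsg.Agent.S4633

set_option autoImplicit false
open Cfsg

namespace Cfsg.Agent.S4649

/-- A block with cyclic defect group, of a finite group relative to a maximal ideal M of the algebraic integers containing the prime p, is nilpotent if and only if its p-regular rank is 1 (it has a unique irreducible Brauer character). -/
theorem result {G : Type*} [Group G] [Finite G] (p : ℕ) [Fact p.Prime] (M : Ideal Cfsg.AlgInt) (hM : Cfsg.IsPModular p M) (B : Set (Cfsg.IrrCharacter G)) (hB : Cfsg.IsPBlock M B) (P : Subgroup G) (hPD : Cfsg.IsDefectGroup p M B P) (hcyc : IsCyclic P) : Cfsg.IsNilpotentBlock p M B ↔ Cfsg.blockRank p B = 1 := by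
  classical
  have := Fintype.ofFinite G
  have := hM.2.1.isPrime
  refine ⟨fun h => (Cfsg.Agent.S4689.result p M hM B h).1, fun hl => ?_⟩
  have hk := CfsgLib.IBr.card_defect_eq_card hM hB hPD hl (Or.inr hcyc)
  obtain ⟨g, hg⟩ := IsCyclic.exists_generator (α := P)
  have hab : ∀ x ∈ P, ∀ y ∈ P, x * y = y * x := by
    intro x hx y hy
    obtain ⟨i, hi⟩ := Subgroup.mem_zpowers_iff.1 (hg ⟨x, hx⟩)
    obtain ⟨j, hj⟩ := Subgroup.mem_zpowers_iff.1 (hg ⟨y, hy⟩)
    exact congrArg Subtype.val (show (⟨x, hx⟩ : P) * ⟨y, hy⟩ = ⟨y, hy⟩ * ⟨x, hx⟩ by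
      rw [← hi, ← hj, ← zpow_add, ← zpow_add, add_comm])
  obtain ⟨c, hc⟩ := CfsgLib.Pairs.exists_pairOf_of_isDefectGroup hM hB hPD
  have hmax := CfsgLib.Pairs.isMaximal_of_isDefectGroup hM hc hPD
  refine CfsgLib.Blocks.isNilpotentBlock_of_rank_one_of_card_eq hM hmax hab ?_ hl hk.symm
  intro t ht x hx hx1 htx
  have hP1 : P ≠ ⊥ := fun e => hx1 (by rw [e, Subgroup.mem_bot] at hx; exact hx)
  have hPC : P ≤ Subgroup.centralizer (P : Set G) := fun x hx =>
    Subgroup.mem_centralizer_iff.2 fun y hy => hab y hy x hx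
  have hn : ((Subgroup.centralizer (P : Set G)).subgroupOf (CfsgLib.Pairs.pairStab P c)).Normal := by
    refine ⟨fun x hx g => ?_⟩
    rw [Subgroup.mem_subgroupOf, Subgroup.mem_centralizer_iff] at hx ⊢
    intro v hv
    have hg := (CfsgLib.Pairs.pairStab_le_normalizer P c) g.2
    have hv' : (g : G)⁻¹ * v * g ∈ P := by
      simpa using (Subgroup.mem_normalizer_iff.1 (inv_mem hg) v).1 hv
    have h := hx _ hv'
    show v * ((g : G) * x * (g : G)⁻¹) = (g : G) * x * (g : G)⁻¹ * v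
    calc v * ((g : G) * x * (g : G)⁻¹) = g * ((g : G)⁻¹ * v * g * x) * (g : G)⁻¹ := by group
      _ = g * ((x : G) * ((g : G)⁻¹ * v * g)) * (g : G)⁻¹ := by rw [h]
      _ = _ := by group
  exact (Cfsg.Agent.S4633.result p M hM B hB P hPD hP1 hcyc c
    ((CfsgLib.Pairs.inducedFromCent_iff hM hc.1.1 hPC hc.1.2 B).2 hc)
    (CfsgLib.Pairs.pairStab P c) (fun g => Iff.rfl) (hn := hn)).2.2 t ht x hx hx1 htx

end Cfsg.Agent.S4649
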