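import Cfsg.Statements.S4651
import Cfsg.Agent.Lib.Blocks.ChainSum.SectionKernel
import Cfsg.Agent.Lib.Blocks.ChainSum.Chains
-- import your own Cfsg.Agent.* helpers here

set_option autoImplicit false
open Cfsg

namespace Cfsg.Agent.S4651

open CfsgLib.Blocks CfsgLib.Blocks.ChainSum
open scoped Classical

variable {G : Type*} [Group G] [Fintype G] {p : ℕ} [Fact p.Prime] {M : Ideal AlgInt} [M.IsPrime]

/-- The blocks of a chain stabilizer inducing `b`, and their section sum. -/
theorem card_stab_mul (hM : IsPModular p M) {b : Set (IrrCharacter G)} (hb : IsPBlock M b)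
    {s : Finset (Subgroup G)} (hs : IsNormalChain p s) :
    (Nat.card (chainStab s) : ℂ) *
      ((Nat.card {ψ : IrrCharacter (chainStab s) | ∃ β : Set (IrrCharacter (chainStab s)),
          ψ ∈ β ∧ IsInducedBlock M (chainStab s) β b} : ℂ) -
        (blockRank p {ψ : IrrCharacter (chainStab s) | ∃ β : Set (IrrCharacter (chainStab s)),
          ψ ∈ β ∧ IsInducedBlock M (chainStab s) β b} : ℂ)) =
      ∑ x : G, if ((∃ k : ℕ, orderOf x = p ^ k) ∧ x ≠ 1) ∧ x ∈ chainStab s then
        regNorm p (resElt (chainStab s ⊓ Subgroup.centralizer ({x} : Set G)) (blockIdemBar M b))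
      else 0 := by
  set H := chainStab s with hH
  have he := isCentralElt_blockIdemBar hb
  obtain ⟨hTs, hTn⟩ := hs.sup_mem
  have hTH : s.sup id ≤ H := fun g hg => mem_chainStab.2 fun Q hQ => hTn Q hQ hg
  have hCH : Subgroup.centralizer ((s.sup id : Subgroup G) : Set G) ≤ H := fun g hg =>
    mem_chainStab.2 fun Q hQ => centralizer_le_normalizer' Q
      (Subgroup.centralizer_le (SetLike.coe_subset_coe.2 (Finset.le_sup (f := id) hQ)) hg)
  have hset : {ψ : IrrCharacter H | ∃ β : Set (IrrCharacter H), ψ ∈ β ∧ IsInducedBlock M H β b} =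
      {ψ : IrrCharacter H | omegaBar ψ (resElt H (blockIdemBar M b)) = 1} := by
    ext ψ
    constructor
    · rintro ⟨β, hψ, hβ⟩
      obtain ⟨-, -, hall⟩ := isInducedBlock_iff.1 hβ
      obtain ⟨χ, hχ⟩ := IsPBlock.nonempty hb
      rw [Set.mem_ofPred_eq, hall ψ hψ χ hχ _ he, omegaBar_blockIdemBar hb, if_pos hχ]
    · intro hψ
      obtain ⟨B', hB'⟩ := exists_isInducedBlock hM (hs.2.2.1 _ hTs).2 hTH hCH (chainStab_le hTs)
        (isPBlock_blockOf ψ)
      obtain ⟨-, hB'', hall⟩ := isInducedBlock_iff.1 hB'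
      obtain ⟨χ, hχ⟩ := IsPBlock.nonempty hB''
      rw [Set.mem_ofPred_eq, hall ψ (mem_blockOf_self ψ) χ hχ _ he, omegaBar_blockIdemBar hb] at hψ
      by_cases hχb : χ ∈ b
      · exact ⟨_, mem_blockOf_self ψ, IsPBlock.eq_of_mem hB'' hb hχ hχb ▸ hB'⟩
      · rw [if_neg hχb] at hψ
        exact absurd hψ zero_ne_one
  rw [hset, card_mul_card_sub_rank hM (isCentralElt_resElt H he)]
  refine Eq.trans ?_ (Finset.sum_subset (Finset.subset_univ (Finset.univ.filter (· ∈ H)))
    fun x _ hx => if_neg fun h => hx (Finset.mem_filter.2 ⟨Finset.mem_univ _, h.2⟩))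
  rw [Finset.sum_subtype (p := (· ∈ H)) _ (by simp)]
  refine Finset.sum_congr rfl fun x _ => ?_
  by_cases hx : (∃ k : ℕ, orderOf (x : G) = p ^ k) ∧ (x : G) ≠ 1
  swap
  · rw [if_neg, if_neg fun h => hx h.1]
    rw [Subgroup.orderOf_coe] at hx
    exact fun h => hx ⟨h.1, fun e => h.2 (Subtype.ext e)⟩
  · rw [if_pos ⟨by simpa [Subgroup.orderOf_coe] using hx.1,
      fun e => hx.2 (congrArg Subtype.val e)⟩, if_pos ⟨hx, x.2⟩]
    let φ : Subgroup.centralizer ({x} : Set H) ≃*
        (H ⊓ Subgroup.centralizer ({(x : G)} : Set G) : Subgroup G) :=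
      { toFun := fun w => ⟨((w : H) : G), (w : H).2, Subgroup.mem_centralizer_singleton_iff.2
          (congrArg Subtype.val (Subgroup.mem_centralizer_singleton_iff.1 w.2))⟩
        invFun := fun w => ⟨⟨(w : G), w.2.1⟩, Subgroup.mem_centralizer_singleton_iff.2
          (Subtype.ext (Subgroup.mem_centralizer_singleton_iff.1 w.2.2))⟩
        left_inv := fun w => rfl
        right_inv := fun w => rfl
        map_mul' := fun v w => rfl }
    exact regNorm_congr φ (isCentralElt_resElt _ (isCentralElt_resElt H he)) fun k => rfl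

/-- An alternating-sum identity over chains of p-subgroups (the character-count form behind the chain reformulation of Alperin's weight conjecture, which holds unconditionally for the difference k − l). Let b be a block of the finite group G relative to a maximal ideal M of the algebraic integers containing the prime p. Consider the nonempty chains s = {Q_0 < Q_1 < ⋯ < Q_m} of nontrivial p-subgroups of G in which every member is normal in the largest member; let N_G(s) be the intersection of the normalizers of the members (the stabilizer of the chain), and let b_s be the set of irreducible characters of N_G(s) lying in blocks of N_G(s) that induce b. Then #G · (k(b) − l(b)) equals the sum over all such chains s of (−1)^m · #N_G(s) · (k(b_s) − l(b_s)), where k counts irreducible characters and l is the p-regular rank; equivalently, k(b) − l(b) is the alternating sum of k(b_s) − l(b_s) over representatives of the conjugacy classes of such chains. -/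
theorem result {G : Type*} [Group G] [Finite G] (p : ℕ) [Fact p.Prime] (M : Ideal Cfsg.AlgInt) (hM : Cfsg.IsPModular p M) (b : Set (Cfsg.IrrCharacter G)) (hb : Cfsg.IsPBlock M b) : (Nat.card G : ℤ) * ((Nat.card b : ℤ) - (Cfsg.blockRank p b : ℤ)) = ∑ᶠ s ∈ {s : Finset (Subgroup G) | s.Nonempty ∧ (∀ Q ∈ s, ∀ R ∈ s, Q ≤ R ∨ R ≤ Q) ∧ (∀ Q ∈ s, Q ≠ ⊥ ∧ IsPGroup p Q) ∧ ∃ T ∈ s, ∀ Q ∈ s, Q ≤ T ∧ T ≤ Subgroup.normalizer ((Q : Subgroup G) : Set G)}, (-1 : ℤ) ^ (s.card - 1) * (Nat.card (((⨅ Q ∈ s, Subgroup.normalizer ((Q : Subgroup G) : Set G) : Subgroup G))) : ℤ) * ((Nat.card {ψ : Cfsg.IrrCharacter (((⨅ Q ∈ s, Subgroup.normalizer ((Q : Subgroup G) : Set G) : Subgroup G))) | ∃ β : Set (Cfsg.IrrCharacter (((⨅ Q ∈ s, Subgroup.normalizer ((Q : Subgroup G) : Set G) : Subgroup G)))), ψ ∈ β ∧ Cfsg.IsInducedBlock M (((⨅ Q ∈ s, Subgroup.normalizer ((Q : Subgroup G) : Set G) : Subgroup G))) β b} : ℤ) - (Cfsg.blockRank p {ψ : Cfsg.IrrCharacter (((⨅ Q ∈ s, Subgroup.normalizer ((Q : Subgroup G) : Set G) : Subgroup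 G))) | ∃ β : Set (Cfsg.IrrCharacter (((⨅ Q ∈ s, Subgroup.normalizer ((Q : Subgroup G) : Set G) : Subgroup G)))), ψ ∈ β ∧ Cfsg.IsInducedBlock M (((⨅ Q ∈ s, Subgroup.normalizer ((Q : Subgroup G) : Set G) : Subgroup G))) β b} : ℤ)) := by
  classical
  have := hM.2.1.isPrime
  have := Fintype.ofFinite G
  have := Fintype.ofFinite (Finset (Subgroup G))
  have he := isCentralElt_blockIdemBar hb
  have hbset : {χ : IrrCharacter G | omegaBar χ (blockIdemBar M b) = 1} = b := by
    ext χ
    rw [Set.mem_ofPred_eq, omegaBar_blockIdemBar hb]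
    split_ifs with h <;> simp [h]
  have hL := card_mul_card_sub_rank hM he
  rw [hbset] at hL
  refine Int.cast_injective (α := ℂ) ?_
  rw [finsum_mem_eq_finite_toFinset_sum _ (Set.toFinite _)]
  push_cast
  rw [hL]
  refine Eq.trans ?_ (Finset.sum_congr (s₁ := Finset.univ.filter fun s => IsNormalChain p s)
    (g := fun s : Finset (Subgroup G) => (-1 : ℂ) ^ (s.card - 1) *
      (Nat.card (chainStab s) : ℂ) *
      ((Nat.card {ψ : IrrCharacter (chainStab s) | ∃ β : Set (IrrCharacter (chainStab s)),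
          ψ ∈ β ∧ IsInducedBlock M (chainStab s) β b} : ℂ) -
        (blockRank p {ψ : IrrCharacter (chainStab s) | ∃ β : Set (IrrCharacter (chainStab s)),
          ψ ∈ β ∧ IsInducedBlock M (chainStab s) β b} : ℂ)))
    (by
      ext s
      rw [Finset.mem_filter, Set.Finite.mem_toFinset]
      exact ⟨fun h => h.2, fun h => ⟨Finset.mem_univ _, h⟩⟩) fun s _ => rfl)
  refine Eq.trans ?_ (Finset.sum_congr rfl (g := fun s => ∑ x : G, (-1 : ℂ) ^ (s.card - 1) *
    if ((∃ k : ℕ, orderOf x = p ^ k) ∧ x ≠ 1) ∧ x ∈ chainStab s then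
      regNorm p (resElt (chainStab s ⊓ Subgroup.centralizer ({x} : Set G)) (blockIdemBar M b))
    else 0) fun s hs => ?_).symm
  swap
  · exact (mul_assoc _ _ _).trans ((congrArg _ (card_stab_mul hM hb (Finset.mem_filter.1 hs).2)).trans
      (Finset.mul_sum _ _ _))
  rw [Finset.sum_comm]
  refine Finset.sum_congr rfl fun x _ => ?_
  simp only [mul_ite, mul_zero]
  split_ifs with hx
  · simp only [eq_true hx, true_and]
    rw [← Finset.sum_filter, Finset.filter_filter]
    exact ((sum_chains hx.1 hx.2 fun D : Subgroup G =>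
      (regNorm p (resElt D (blockIdemBar M b)) : ℂ))).symm
  · exact (Finset.sum_eq_zero fun s _ => if_neg fun h => hx h.1).symm

end Cfsg.Agent.S4651
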