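import Cfsg.Statements.S4654
import Cfsg.Agent.Lib.Pairs.Support
-- import your own Cfsg.Agent.* helpers here

set_option autoImplicit false
open Cfsg

namespace Cfsg.Agent.S4654

/-- Fix a prime p and a maximal ideal M of the algebraic integers containing p. Let P be a normal p-subgroup of the finite group G, B a p-block of G and e a p-block of C_G(P) such that (P, e) is a Brauer pair of B (as P is normal, this says that e occurs in the idempotent of B, which is supported on C_G(P)). Let T be the stabilizer of e in G under conjugation. Then the idempotent of e is a block idempotent of T: some block E of T has, at every element of T, the same idempotent coefficient as e (zero off C_G(P)); and the idempotent of B is the sum of the distinct G-conjugates of the idempotent of e: its coefficient at g is the sum over all x in G of the coefficient of e at x⁻¹ g x, divided by the order of T. -/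
theorem result {G : Type*} [Group G] [Fintype G] (p : ℕ) [Fact p.Prime] (M : Ideal Cfsg.AlgInt) (hM : Cfsg.IsPModular p M) (P : Subgroup G) [P.Normal] (hP : IsPGroup p P) (B : Set (Cfsg.IrrCharacter G)) (e : Set (Cfsg.IrrCharacter (Subgroup.centralizer (P : Set G)))) (hBe : Cfsg.IsBrauerPairOf p M B P e) (T : Subgroup G) (hT : ∀ x : G, x ∈ T ↔ Cfsg.StabilizesBlock (Subgroup.centralizer (P : Set G)) e x) : (∃ E : Set (Cfsg.IrrCharacter T), Cfsg.IsPBlock M E ∧ ∀ t : T, Cfsg.blockCoeff E t = Cfsg.subgroupBlockCoeff (Subgroup.centralizer (P : Set G)) e (t : G)) ∧ ∀ g : G, Cfsg.blockCoeff B g = (Nat.card T : ℂ)⁻¹ * ∑ x : G, Cfsg.subgroupBlockCoeff (Subgroup.centralizer (P : Set G)) e (x⁻¹ * g * x) := by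
  classical
  have := hM.2.1.isPrime
  have hN : ∀ y : G, y ∈ Subgroup.normalizer (P : Set G) := fun y => by
    rw [Subgroup.normalizer_eq_top]; exact Subgroup.mem_top y
  have hNC : ∀ y : G, y ∈ Subgroup.normalizer (Subgroup.centralizer (P : Set G) : Set G) :=
    fun y => CfsgLib.Pairs.normalizer_le_normalizer_centralizer P (hN y)
  have he := hBe.1.2
  have hCT : Subgroup.centralizer (P : Set G) ≤ T := fun x hx =>
    (hT x).2 (CfsgLib.Pairs.stabilizesBlock_of_mem hx)
  have hPT : P ≤ T := by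
    intro u hu
    refine (hT u).2 (CfsgLib.Pairs.stabilizesBlock_iff.2 ⟨hNC u, ?_⟩)
    refine (Set.image_congr fun χ _ => ?_).trans (Set.image_id e)
    refine CfsgLib.Char.irr_ext fun k => ?_
    rw [CfsgLib.Pairs.mapIrr_apply]
    refine congrArg _ (Subtype.ext ?_)
    rw [CfsgLib.Pairs.conjEquiv_symm_apply, mul_assoc, ← Subgroup.mem_centralizer_iff.1 k.2 u hu,
      inv_mul_cancel_left]
  refine ⟨CfsgLib.Pairs.exists_block_over hM hP hPT hCT (fun x _ => hN x) he
    (fun x hx => (hT x).1 hx), fun g => ?_⟩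
  let σ : G → Set (Cfsg.IrrCharacter (Subgroup.centralizer (P : Set G))) :=
    fun x => CfsgLib.Pairs.conjSelf (hNC x) e
  have hσ : ∀ x : G, Cfsg.subgroupBlockCoeff (Subgroup.centralizer (P : Set G)) e (x⁻¹ * g * x) =
      Cfsg.subgroupBlockCoeff (Subgroup.centralizer (P : Set G)) (σ x) g := fun x => by
    rw [← CfsgLib.Pairs.subgroupBlockCoeff_conjSelf (hNC x) e (x⁻¹ * g * x)]
    congr 1
    group
  rw [Finset.sum_congr rfl fun x _ => hσ x]
  have himg : (Finset.univ : Finset G).image σ = CfsgLib.Pairs.orbit P e := by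
    ext h
    rw [Finset.mem_image, CfsgLib.Pairs.mem_orbit]
    exact ⟨fun ⟨x, _, hx⟩ => ⟨⟨x, hN x⟩, hx⟩, fun ⟨n, hn⟩ => ⟨(n : G), Finset.mem_univ _, hn⟩⟩
  have hfib : ∀ x₀ : G, ((Finset.univ : Finset G).filter fun x => σ x = σ x₀).card = Nat.card T := by
    intro x₀
    rw [Nat.card_eq_fintype_card, ← Finset.card_univ]
    have hmem : ∀ x : G, σ x = σ x₀ → x₀⁻¹ * x ∈ T := fun x hx => by
      refine (hT _).2 (CfsgLib.Pairs.stabilizesBlock_iff.2 ⟨hNC _, ?_⟩)
      rw [CfsgLib.Pairs.conjSelf_mul (hNC x₀⁻¹) (hNC x), show CfsgLib.Pairs.conjSelf (hNC x) e =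
        σ x from rfl, hx, ← CfsgLib.Pairs.conjSelf_mul (hNC x₀⁻¹) (hNC x₀),
        CfsgLib.Pairs.conjSelf_eq (inv_mul_cancel x₀) _ (one_mem _), CfsgLib.Pairs.conjSelf_one]
    refine Finset.card_bij (fun x hx => (⟨x₀⁻¹ * x, hmem x (Finset.mem_filter.1 hx).2⟩ : T))
      (fun _ _ => Finset.mem_univ _) (fun a _ b _ h => mul_left_cancel (congrArg Subtype.val h)) ?_
    intro t _
    refine ⟨x₀ * t, Finset.mem_filter.2 ⟨Finset.mem_univ _, ?_⟩, Subtype.ext (inv_mul_cancel_left x₀ t)⟩
    obtain ⟨ht, ht'⟩ := CfsgLib.Pairs.stabilizesBlock_iff.1 ((hT t).1 t.2)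
    show CfsgLib.Pairs.conjSelf _ e = CfsgLib.Pairs.conjSelf _ e
    rw [CfsgLib.Pairs.conjSelf_mul (hNC x₀) ht, ht']
  have hsum : ∑ x : G, Cfsg.subgroupBlockCoeff (Subgroup.centralizer (P : Set G)) (σ x) g =
      (Nat.card T : ℂ) * ∑ f ∈ CfsgLib.Pairs.orbit P e,
        Cfsg.subgroupBlockCoeff (Subgroup.centralizer (P : Set G)) f g := by
    rw [← himg, Finset.mul_sum]
    refine (Finset.sum_image' (f := fun h => (Nat.card T : ℂ) *
      Cfsg.subgroupBlockCoeff (Subgroup.centralizer (P : Set G)) h g) _ fun x₀ _ => ?_).symm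
    rw [Finset.sum_congr rfl fun x hx => by rw [(Finset.mem_filter.1 hx).2], Finset.sum_const,
      hfib x₀, nsmul_eq_mul]
  rw [hsum, inv_mul_cancel_left₀ (Nat.cast_ne_zero.2 Nat.card_pos.ne')]
  exact CfsgLib.Pairs.blockCoeff_eq_orbit_sum hM hP hBe g

end Cfsg.Agent.S4654
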