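import Cfsg.Statements.S4661
import Cfsg.Agent.Lib.Pairs.BlockFusion
-- import your own Cfsg.Agent.* helpers here

set_option autoImplicit false
open Cfsg

namespace Cfsg.Agent.S4661

/-- Fix a prime p and a maximal ideal M of the algebraic integers containing p. Let (P, e) be a maximal Brauer pair of the p-block B of the finite group G, Q ≤ P, and f the p-block of C_G(Q) with (Q, f) ≤ (P, e). Then C_P(Q) is contained in a defect group of f (as a block of the group C_G(Q)); and for some x in G the conjugate pair (x Q x⁻¹, conjugate of f) again lies below (P, e) and C_P(x Q x⁻¹) is a defect group of the conjugate of f in C_G(x Q x⁻¹). -/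
theorem result {G : Type*} [Group G] [Fintype G] (p : ℕ) [Fact p.Prime] (M : Ideal Cfsg.AlgInt) (hM : Cfsg.IsPModular p M) (B : Set (Cfsg.IrrCharacter G)) (P Q : Subgroup G) (e : Set (Cfsg.IrrCharacter (Subgroup.centralizer (P : Set G)))) (f : Set (Cfsg.IrrCharacter (Subgroup.centralizer (Q : Set G)))) (hmax : Cfsg.IsMaximalBrauerPair p M B P e) (hQP : Q ≤ P) (hf : Cfsg.IsPBlock M f) (hle : Cfsg.SubpairLE p M Q f P e) : (∃ D : Subgroup (Subgroup.centralizer (Q : Set G)), Cfsg.IsDefectGroup p M f D ∧ (P ⊓ Subgroup.centralizer (Q : Set G)).subgroupOf (Subgroup.centralizer (Q : Set G)) ≤ D) ∧ ∃ x : G, Cfsg.SubpairLE p M (Q.map (MulAut.conj x).toMonoidHom) (Cfsg.conjBlock Q x f) P e ∧ Cfsg.IsDefectGroup p M (Cfsg.conjBlock Q x f) ((P ⊓ Subgroup.centralizer ((Q.map (MulAut.conj x).toMonoidHom) : Set G)).subgroupOf (Subgroup.centralizer ((Q.map (MulAut.conj x).toMonoidHom) : Set G))) := by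
  have := hM.2.1.isPrime
  have hPe := hmax.1.1
  have hQf : Cfsg.IsBrauerPairOf p M B Q f :=
    (CfsgLib.Pairs.subpairLE_pairOf_iff hM (a := ⟨Q, f⟩) (b := ⟨P, e⟩) hle B).1 hmax.1
  have hco : ∀ (R : Subgroup G) (h : Set (Cfsg.IrrCharacter (Subgroup.centralizer (R : Set G))))
      (k : Subgroup.centralizer (R : Set G)), Cfsg.blockCoeff h k =
      Cfsg.subgroupBlockCoeff (Subgroup.centralizer (R : Set G)) h (k : G) := fun R h k => by
    unfold Cfsg.subgroupBlockCoeff
    rw [dif_pos k.2]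
  refine ⟨CfsgLib.Pairs.exists_defectGroup_ge hM hf le_rfl hf (hco Q f) inf_le_right
    (hPe.1.to_le inf_le_left) (CfsgLib.Pairs.brv_centralizerIn hM hPe hle), ?_⟩
  obtain ⟨x, hx, hm⟩ := CfsgLib.Pairs.exists_centralizer_max hM hmax hQf
  have hfx := CfsgLib.Pairs.isBrauerPair_of_subpairLE hx hPe
  refine ⟨x, hx, (CfsgLib.Pairs.isDefectGroup_iff_brv hM hfx.2 le_rfl hfx.2 (hco _ _) inf_le_right
    (hPe.1.to_le inf_le_left)).2 ⟨CfsgLib.Pairs.brv_centralizerIn hM hPe hx, fun Y hY hYp hYb => ?_⟩⟩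
  rw [← CfsgLib.Blocks.card_map_conj x⁻¹ Y]
  exact hm _ (CfsgLib.Pairs.map_inv_le_centralizer x hY) (hYp.map _)
    (CfsgLib.Pairs.brv_conj_back hf x hYb)

end Cfsg.Agent.S4661
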