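import Cfsg.Statements.S4664
import Cfsg.Agent.Lib.Blocks.Orthogonality
import Cfsg.Agent.Lib.Blocks.Union
import Cfsg.Agent.Lib.Char.GaloisSum
import Cfsg.Agent.Lib.Blocks.QuotientBlocks
import Cfsg.Agent.Lib.Char.GaloisSum
-- import your own Cfsg.Agent.* helpers here

set_option autoImplicit false
open Cfsg

namespace Cfsg.Agent.S4664

/-- Fix a prime p and a maximal ideal M of the algebraic integers containing p, and let B be a p-block of the finite group G. Let m be the p'-part of the order of G and η = exp(2πi/m). Then every coefficient of the idempotent of B lies in the cyclotomic field ℚ(η). -/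
theorem result {G : Type*} [Group G] [Fintype G] (p : ℕ) [Fact p.Prime] (M : Ideal Cfsg.AlgInt) (hM : Cfsg.IsPModular p M) (B : Set (Cfsg.IrrCharacter G)) (hB : Cfsg.IsPBlock M B) (g : G) : Cfsg.blockCoeff B g ∈ IntermediateField.adjoin ℚ ({Complex.exp (2 * Real.pi * Complex.I / ((Nat.card G / p ^ (Nat.card G).factorization p : ℕ) : ℂ))} : Set ℂ) := by
  classical
  have := hM.2.1.isPrime
  have hp : p.Prime := Fact.out
  set m := Nat.card G / p ^ (Nat.card G).factorization p with hm
  have hm0 : m ≠ 0 := (Nat.ordCompl_pos p Nat.card_pos.ne').ne'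
  rw [Cfsg.blockCoeff]
  by_cases hg : p ∣ orderOf g
  · have h0 := CfsgLib.Blocks.sum_block_regular_singular hM hB (x := 1) (by simp [hp.ne_one])
      (y := g⁻¹) (by rwa [orderOf_inv])
    rw [finsum_mem_congr rfl (g := fun χ : Cfsg.IrrCharacter G => (χ : G → ℂ) 1 * (χ : G → ℂ) g⁻¹)
      fun χ _ => by rw [CfsgLib.Char.IsIrr.map_inv χ.2], h0, mul_zero]
    exact zero_mem _
  · refine mul_mem (inv_mem (natCast_mem _ _)) ?_
    rw [finsum_mem_eq_finite_toFinset_sum _ (Set.toFinite B)]
    refine sum_mem fun χ _ => mul_mem ?_ ?_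
    · rw [CfsgLib.Blocks.apply_one_eq_charDegree χ]
      exact natCast_mem _ _
    · rw [← CfsgLib.Char.IsIrr.map_inv χ.2]
      refine CfsgLib.Char.apply_mem_adjoin (CfsgLib.Char.IsIrr.isCharacter χ.2) hm0
        (Complex.isPrimitiveRoot_exp m hm0) ?_
      rw [orderOf_inv]
      exact ((Nat.Prime.coprime_iff_not_dvd hp).2 hg).symm.pow_right _ |>.dvd_of_dvd_mul_left
        (by rw [hm, Nat.ordProj_mul_ordCompl_eq_self]; exact orderOf_dvd_natCard g)

end Cfsg.Agent.S4664
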