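import Cfsg.Statements.S4665
import Cfsg.Agent.Lib.CharAction.PGroup
import Cfsg.Agent.Lib.Char.Virtual

set_option autoImplicit false
open Cfsg

namespace Cfsg.Agent.S4665

/-- Fix a prime p, a maximal ideal M of the algebraic integers containing p, and a p-block B of the finite group G, and let p^a be the p-part of the order of G. Let χ be an integer combination of the irreducible characters in B. If the function that agrees with χ on p-regular elements and vanishes on p-singular elements is again an integer combination of the irreducible characters in B, then p^a divides χ(1). -/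
theorem result {G : Type*} [Group G] [Fintype G] (p : ℕ) [Fact p.Prime] (M : Ideal Cfsg.AlgInt) (hM : Cfsg.IsPModular p M) (B : Set (Cfsg.IrrCharacter G)) (hB : Cfsg.IsPBlock M B) (χ : G → ℂ) (hχ : (∃ n : Cfsg.IrrCharacter G → ℤ, ∀ g : G, χ g = ∑ᶠ ψ ∈ B, (n ψ : ℂ) * (ψ : G → ℂ) g)) (h0 : (∃ n : Cfsg.IrrCharacter G → ℤ, ∀ g : G, Cfsg.pRegularPart p χ g = ∑ᶠ ψ ∈ B, (n ψ : ℂ) * (ψ : G → ℂ) g)) : ∃ k : ℤ, χ 1 = (p ^ (Nat.card G).factorization p : ℂ) * k := by
  classical
  obtain ⟨n, hn⟩ := h0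
  obtain ⟨P⟩ := (inferInstance : Nonempty (Sylow p G))
  haveI := Fintype.ofFinite ↥(P : Subgroup G)
  have hint : ∀ ψ : Cfsg.IrrCharacter G, ∃ k : ℕ,
      ∑ u : (P : Subgroup G), (ψ : G → ℂ) u = (Nat.card (P : Subgroup G) : ℂ) * k := fun ψ => by
    obtain ⟨k, hk⟩ := CfsgLib.Char.IsChar.classInner_eq_natCast
      (CfsgLib.Char.IsChar.restrict (P : Subgroup G) (CfsgLib.Char.IsIrr.isCharacter ψ.2))
      CfsgLib.Char.isCharacter_one
    refine ⟨k, ?_⟩
    rw [← hk, Cfsg.classInner, mul_inv_cancel_left₀ (Nat.cast_ne_zero.mpr Nat.card_pos.ne')]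
    simp
  choose k hk using hint
  refine ⟨∑ᶠ ψ ∈ B, n ψ * (k ψ : ℤ), ?_⟩
  have hval : ∀ u : (P : Subgroup G), Cfsg.pRegularPart p χ u = if u = 1 then χ 1 else 0 := by
    intro u
    by_cases hu : u = 1
    · subst hu
      simp [Cfsg.pRegularPart, Cfsg.IsPRegular, (Fact.out : p.Prime).ne_one]
    · obtain ⟨j, hj⟩ := IsPGroup.iff_orderOf.mp P.isPGroup' u
      rw [if_neg hu, Cfsg.pRegularPart]
      simp only [Cfsg.IsPRegular, Subgroup.orderOf_coe, hj]
      rw [if_neg]
      push Not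
      refine dvd_pow_self p fun h => hu ?_
      subst h
      simpa using orderOf_eq_one_iff.mp hj
  have hsum : ∑ u : (P : Subgroup G), Cfsg.pRegularPart p χ u = χ 1 := by
    simp [hval]
  rw [← hsum]
  haveI : Fintype ↥B := Fintype.ofFinite _
  simp only [hn, finsum_mem_eq_toFinset_sum, Int.cast_sum, Int.cast_mul, Int.cast_natCast]
  rw [Finset.sum_comm, Finset.mul_sum]
  refine Finset.sum_congr rfl fun ψ _ => ?_
  rw [← Finset.mul_sum, hk ψ, P.card_eq_multiplicity]
  push_cast
  ring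

end Cfsg.Agent.S4665
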