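import Cfsg.Statements.S4666
import Cfsg.Agent.Lib.CharAction.RegBlock

set_option autoImplicit false
open Cfsg CfsgLib.CharAction CfsgLib.Char CfsgLib.Blocks

namespace Cfsg.Agent.S4666

/-- Fix a prime p and a maximal ideal M of the algebraic integers containing p, and a p-block B of the finite group G of defect d. For every integer combination χ of the irreducible characters in B, p^d times the function that agrees with χ on p-regular elements and vanishes elsewhere is again an integer combination of the irreducible characters in B. -/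
theorem result {G : Type*} [Group G] [Fintype G] (p : ℕ) [Fact p.Prime] (M : Ideal Cfsg.AlgInt) (hM : Cfsg.IsPModular p M) (B : Set (Cfsg.IrrCharacter G)) (hB : Cfsg.IsPBlock M B) (χ : G → ℂ) (hχ : (∃ n : Cfsg.IrrCharacter G → ℤ, ∀ g : G, χ g = ∑ᶠ ψ ∈ B, (n ψ : ℂ) * (ψ : G → ℂ) g)) : (∃ n : Cfsg.IrrCharacter G → ℤ, ∀ g : G, (p ^ Cfsg.blockDefect p B : ℂ) * Cfsg.pRegularPart p χ g = ∑ᶠ ψ ∈ B, (n ψ : ℂ) * (ψ : G → ℂ) g) := by
  classical
  have := Fintype.ofFinite (Cfsg.IrrCharacter G)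
  have : M.IsPrime := hM.2.1.isPrime
  obtain ⟨n, hn⟩ := hχ
  have hk : ∀ ψ ξ : Cfsg.IrrCharacter G, ∃ k : ℤ, ψ ∈ B →
      ((p ^ Cfsg.blockDefect p B : ℕ) : ℂ) * Cfsg.classInner (regCut p (ψ : G → ℂ)) (ξ : G → ℂ) = k ∧
        (ξ ∉ B → k = 0) := by
    intro ψ ξ
    by_cases hψ : ψ ∈ B
    · obtain ⟨k, hk⟩ := exists_int_pow_mul_inner (p := p) ψ ξ (c := Cfsg.blockDefect p B)
        (by rw [blockDefect_eq_sub]; have := minDeg_le (p := p) hψ; omega)
      refine ⟨k, fun _ => ⟨hk, fun hξ => ?_⟩⟩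
      have h0 := regNum_eq (p := p) ψ ξ
      rw [regNum_eq_zero_of_notMem hM hB hψ hξ, Int.cast_zero, mul_eq_zero] at h0
      rw [h0.resolve_left (Nat.cast_ne_zero.2 (pow_ne_zero _ (Fact.out : p.Prime).ne_zero)),
        mul_zero] at hk
      exact_mod_cast hk.symm
    · exact ⟨0, fun h => absurd h hψ⟩
  choose k hk using hk
  refine ⟨fun ξ => ∑ ψ ∈ Finset.univ.filter (· ∈ B), n ψ * k ψ ξ, fun g => ?_⟩
  have hfin : (Set.toFinite B).toFinset = Finset.univ.filter (· ∈ B) := by ext; simp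
  rw [finsum_mem_eq_finite_toFinset_sum _ (Set.toFinite B), hfin, pRegularPart_eq_regCut]
  have hexp : regCut p χ g =
      ∑ ψ ∈ Finset.univ.filter (· ∈ B), (n ψ : ℂ) * regCut p (ψ : G → ℂ) g := by
    simp only [regCut]
    split
    · simp
    · rw [hn, finsum_mem_eq_finite_toFinset_sum _ (Set.toFinite B), hfin]
  rw [hexp, Finset.mul_sum]
  simp only [Int.cast_sum, Int.cast_mul, Finset.sum_mul]
  rw [Finset.sum_comm]
  refine Finset.sum_congr rfl fun ψ hψ => ?_
  have hψ' : ψ ∈ B := (Finset.mem_filter.1 hψ).2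
  rw [classFunction_apply_eq_sum (regCut_conj p (IsIrr.isClassFunction ψ.2)) g, Finset.mul_sum,
    Finset.mul_sum, Finset.sum_filter]
  refine Finset.sum_congr rfl fun ξ _ => ?_
  split
  next => rw [← (hk ψ ξ hψ').1]; push_cast; ring
  next h =>
    have h2 := (hk ψ ξ hψ').1
    rw [(hk ψ ξ hψ').2 h, Int.cast_zero] at h2
    push_cast at h2
    linear_combination ((n ψ : ℂ) * (ξ : G → ℂ) g) * h2

end Cfsg.Agent.S4666
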