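import Cfsg.Statements.S4668
import Cfsg.Agent.Lib.Pairs.Support
-- import your own Cfsg.Agent.* helpers here

set_option autoImplicit false
open Cfsg

namespace Cfsg.Agent.S4668

/-- Fix a prime p and a maximal ideal M of the algebraic integers containing p. Let Q₀ < Q₁ < ⋯ < Q_m be a strictly increasing chain of p-subgroups of the finite group G and N the intersection of their normalizers. Then every block idempotent of N is supported on C_G(Q_m): for every p-block E of N, the idempotent coefficient of E vanishes at every element of N outside C_G(Q_m). -/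
theorem result {G : Type*} [Group G] [Fintype G] (p : ℕ) [Fact p.Prime] (M : Ideal Cfsg.AlgInt) (hM : Cfsg.IsPModular p M) (m : ℕ) (Q : Fin (m + 1) → Subgroup G) (hQ : StrictMono Q) (hQp : ∀ i, IsPGroup p (Q i)) (N : Subgroup G) (hN : ∀ g : G, g ∈ N ↔ ∀ i, g ∈ Subgroup.normalizer (Q i : Set G)) (E : Set (Cfsg.IrrCharacter N)) (hE : Cfsg.IsPBlock M E) (n : N) (hn : (n : G) ∉ Subgroup.centralizer (Q (Fin.last m) : Set G)) : Cfsg.blockCoeff E n = 0 := by
  classical
  have := hM.2.1.isPrime
  have : Fintype N := Fintype.ofFinite N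
  by_contra hne
  have hnN : ∀ i, (n : G) ∈ Subgroup.normalizer (Q i : Set G) := (hN n).1 n.2
  have hreg : ¬ p ∣ orderOf (n : G) := fun hd => hne
    (CfsgLib.CharAction.blockCoeff_eq_zero_of_singular hM hE (by rwa [← Subgroup.orderOf_coe n]))
  have hcent : ∀ i, ∀ u ∈ Q i, u ∈ N → Commute (n : G) u := by
    intro i u hu huN
    have hn' : ((Q i).subgroupOf N).Normal := ⟨fun a ha k => by
      have h1 := (Subgroup.mem_normalizer_iff.1 ((hN k).1 k.2 i) (a : G)).1 ha
      exact h1⟩
    have hmem : n ∈ Subgroup.centralizer (((Q i).subgroupOf N : Subgroup N) : Set N) := by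
      by_contra hc
      exact hne (@CfsgLib.Pairs.blockCoeff_eq_zero_of_notMem _ _ _ M _ p _ hM ((Q i).subgroupOf N) hn'
        ((hQp i).comap_of_injective _ N.subtype_injective) _ hE n hc)
    exact (congrArg Subtype.val (Subgroup.mem_centralizer_iff.1 hmem ⟨u, huN⟩ hu)).symm
  have key : ∀ i : Fin (m + 1), ∀ u ∈ Q i, Commute (n : G) u := by
    intro i
    induction i using Fin.induction with
    | zero =>
      intro u hu
      exact hcent 0 u hu ((hN u).2 fun j => Subgroup.le_normalizer (hQ.monotone (Fin.zero_le j) hu))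
    | succ i ih =>
      have hle : Q i.castSucc ≤ Q i.succ := hQ.monotone (le_of_lt Fin.castSucc_lt_succ)
      refine CfsgLib.Pairs.commute_of_centralizes (hQp i.succ) hreg (hnN i.succ) hle ih
        fun c hc hcy => hcent i.succ c hc ((hN c).2 fun j => ?_)
      rcases le_or_gt i.succ j with hj | hj
      · exact Subgroup.le_normalizer (hQ.monotone hj hc)
      · have hjle : j ≤ i.castSucc := Fin.le_castSucc_iff.2 hj
        refine Subgroup.centralizer_le_normalizer _ (Subgroup.mem_centralizer_iff.2 fun y hy => ?_)
        exact ((hcy y (hQ.monotone hjle hy)).eq).symm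
  exact hn (Subgroup.mem_centralizer_iff.2 fun u hu => ((key _ u hu).eq).symm)

end Cfsg.Agent.S4668
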