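import Cfsg.Statements.S4673
import Cfsg.Agent.Lib.Blocks.CoveringDefect
import Cfsg.Agent.Lib.Blocks.DefectNumber
import Cfsg.Agent.Lib.Char.CliffordCorr

set_option autoImplicit false
open Cfsg

namespace Cfsg.Agent.S4673

/-- Fix a prime p and a maximal ideal M of the algebraic integers containing p. Let N ≤ L be normal subgroups of the finite group G with L/N a p-group, let B be a p-block of G covering the p-block c of N (some member of B has a constituent in c on restriction to N), and suppose that N contains a defect group of B. Then the stabilizer T of c in G satisfies T ∩ L = N. -/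
theorem result {G : Type*} [Group G] [Fintype G] (p : ℕ) [Fact p.Prime] (M : Ideal Cfsg.AlgInt) (hM : Cfsg.IsPModular p M) (N L : Subgroup G) [N.Normal] [L.Normal] [Fintype N] (hNL : N ≤ L) (hLN : ∃ k : ℕ, (N.subgroupOf L).index = p ^ k) (B : Set (Cfsg.IrrCharacter G)) (hB : Cfsg.IsPBlock M B) (c : Set (Cfsg.IrrCharacter N)) (hc : Cfsg.IsPBlock M c) (hcov : (∃ χ ∈ B, ∃ θ ∈ c, Cfsg.classInner (fun n : N => (χ : G → ℂ) n) (θ : N → ℂ) ≠ 0)) (hD : ∃ D : Subgroup G, Cfsg.IsDefectGroup p M B D ∧ D ≤ N) (T : Subgroup G) (hT : ∀ x : G, x ∈ T ↔ Cfsg.StabilizesBlock N c x) : T ⊓ L = N := by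
  classical
  have : M.IsPrime := hM.2.1.isPrime
  refine le_antisymm (fun x hx => ?_) (le_inf (fun x hx => (hT x).2
    (CfsgLib.Blocks.stabilizes_of_mem_blockStab N hc (CfsgLib.Blocks.le_blockStab N hc hx))) hNL)
  obtain ⟨hxT, hxL⟩ := hx
  have := Fintype.ofFinite L
  have := Fintype.ofFinite (IrrCharacter L)
  obtain ⟨χ, hχ, θ, hθ, hne⟩ := hcov
  rw [CfsgLib.Clifford.classInner_resTo_restrict hNL
    (CfsgLib.Char.IsIrr.isCharacter χ.2)] at hne
  obtain ⟨φ, -, hφ⟩ := Finset.exists_ne_zero_of_sum_ne_zero hne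
  have hcovL : CfsgLib.Blocks.Covers L B (blockOf M (φ : L → ℂ)) :=
    ⟨χ, hχ, φ, CfsgLib.Blocks.mem_blockOf_self φ, left_ne_zero_of_mul hφ⟩
  have he := CfsgLib.Blocks.isPBlock_blockOf (M := M) φ
  obtain ⟨D, hD', hDN⟩ := hD
  obtain ⟨De, hDe⟩ := CfsgLib.Blocks.exists_isDefectGroup (p := p) he
  obtain ⟨a, ha⟩ := CfsgLib.Blocks.subConj_of_covers L hM hB he hcovL hD' hDe
  have hDeN : De ≤ N.subgroupOf L := fun d hd => Subgroup.mem_subgroupOf.2 <| by
    have h := (inferInstance : N.Normal).conj_mem _ (hDN (ha _ ⟨d, hd, rfl⟩)) a⁻¹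
    simpa [mul_assoc] using h
  let e := Subgroup.subgroupOfEquivOfLe hNL
  have := Fintype.ofFinite (N.subgroupOf L)
  set c' : Set (IrrCharacter (N.subgroupOf L)) := CfsgLib.Blocks.pullEquiv e '' c
  have hc' : IsPBlock M c' := by
    obtain ⟨η, rfl⟩ := hc
    exact ⟨_, CfsgLib.Blocks.image_pullEquiv_blockOf M e η⟩
  have hcov' : CfsgLib.Blocks.Covers (N.subgroupOf L) (blockOf M (φ : L → ℂ)) c' := by
    refine ⟨φ, CfsgLib.Blocks.mem_blockOf_self φ, _, ⟨θ, hθ, rfl⟩, fun h0 => right_ne_zero_of_mul hφ ?_⟩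
    rw [← CfsgLib.Clifford.classInner_comp_equiv e]
    exact h0
  obtain ⟨k, hk⟩ := hLN
  have hst : (⟨x, hxL⟩ : L) ∈ CfsgLib.Blocks.blockStab (N.subgroupOf L) M hc' := by
    rw [CfsgLib.Blocks.mem_blockStab]
    have hxs : CfsgLib.Blocks.conjIrr N x '' c = c := (CfsgLib.Blocks.mem_blockStab N).1
      (CfsgLib.Blocks.mem_blockStab_of_stabilizes N hc ((hT x).1 hxT))
    conv_rhs => rw [show c' = CfsgLib.Blocks.pullEquiv e '' c from rfl, ← hxs, Set.image_image]
    rw [show c' = CfsgLib.Blocks.pullEquiv e '' c from rfl, Set.image_image]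
    refine Set.image_congr fun η _ => Subtype.ext (funext fun n => ?_)
    rw [CfsgLib.Blocks.conjIrr_apply, CfsgLib.Blocks.pullEquiv_apply, CfsgLib.Blocks.pullEquiv_apply,
      CfsgLib.Blocks.conjIrr_apply]
    rfl
  exact Subgroup.mem_subgroupOf.1
    (CfsgLib.Blocks.mem_of_mem_blockStab (N.subgroupOf L) hM he hc' hcov' hk hDe hDeN hst)

end Cfsg.Agent.S4673
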