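import Cfsg.Statements.S4674
import Cfsg.Agent.Lib.Blocks.HarrisKnorr

set_option autoImplicit false
open Cfsg CfsgLib.Blocks

namespace Cfsg.Agent.S4674

/-- Fix a prime p and a maximal ideal M of the algebraic integers containing p. Let N be a normal subgroup of the finite group G, Q a p-subgroup of N, H = N_G(Q) and L = H ∩ N = N_N(Q). Let d be a p-block of N with defect group Q and e the p-block of L with defect group Q that induces d inside N (its Brauer correspondent). Then block induction from H to G is a bijection from the p-blocks of H covering e onto the p-blocks of G covering d: every block of H covering e induces exactly one block of G, and that block covers d; and every block of G covering d is induced by exactly one block of H covering e. -/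
theorem result {G : Type*} [Group G] [Fintype G] (p : ℕ) [Fact p.Prime] (M : Ideal Cfsg.AlgInt) (hM : Cfsg.IsPModular p M) (N : Subgroup G) [N.Normal] [Fintype N] (Q : Subgroup G) (hQ : IsPGroup p Q) (hQN : Q ≤ N) [Fintype ↥(Subgroup.normalizer (Q : Set G) ⊓ N)] (d : Set (Cfsg.IrrCharacter N)) (hd : Cfsg.IsPBlock M d) (hdQ : Cfsg.IsDefectGroup p M d (Q.subgroupOf N)) (e : Set (Cfsg.IrrCharacter ↥(Subgroup.normalizer (Q : Set G) ⊓ N))) (he : Cfsg.IsPBlock M e) (heQ : Cfsg.IsDefectGroup p M e (Q.subgroupOf (Subgroup.normalizer (Q : Set G) ⊓ N))) (hed : Cfsg.IsInducedBlockIn M N (Subgroup.normalizer (Q : Set G) ⊓ N) e d) : (∀ c : Set (Cfsg.IrrCharacter ↥(Subgroup.normalizer (Q : Set G))), Cfsg.IsPBlock M c → (∃ ψ ∈ c, ∃ ξ ∈ e, Cfsg.classInner (fun l : ↥(Subgroup.normalizer (Q : Set G) ⊓ N) => (ψ : ↥(Subgroup.normalizer (Q : Set G)) → ℂ) (Subgroup.inclusion inf_le_left l)) (ξ : ↥(Subgroup.normalizer (Q : Set G) ⊓ N) → ℂ) ≠ 0) → ∃! B : Set (Cfsg.IrrCharacter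 G), Cfsg.IsInducedBlock M (Subgroup.normalizer (Q : Set G)) c B ∧ (∃ χ ∈ B, ∃ θ ∈ d, Cfsg.classInner (fun n : N => (χ : G → ℂ) n) (θ : N → ℂ) ≠ 0)) ∧ (∀ B : Set (Cfsg.IrrCharacter G), Cfsg.IsPBlock M B → (∃ χ ∈ B, ∃ θ ∈ d, Cfsg.classInner (fun n : N => (χ : G → ℂ) n) (θ : N → ℂ) ≠ 0) → ∃! c : Set (Cfsg.IrrCharacter ↥(Subgroup.normalizer (Q : Set G))), (Cfsg.IsPBlock M c ∧ ∃ ψ ∈ c, ∃ ξ ∈ e, Cfsg.classInner (fun l : ↥(Subgroup.normalizer (Q : Set G) ⊓ N) => (ψ : ↥(Subgroup.normalizer (Q : Set G)) → ℂ) (Subgroup.inclusion inf_le_left l)) (ξ : ↥(Subgroup.normalizer (Q : Set G) ⊓ N) → ℂ) ≠ 0) ∧ Cfsg.IsInducedBlock M (Subgroup.normalizer (Q : Set G)) c B) := by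
  classical
  have : M.IsPrime := hM.2.1.isPrime
  set W := Subgroup.normalizer ((Q.subgroupOf N : Subgroup N) : Set N) with hW
  have := Fintype.ofFinite (Subgroup.normalizer (Q : Set G))
  have := Fintype.ofFinite W
  have := Fintype.ofFinite (N.subgroupOf (Subgroup.normalizer (Q : Set G)))
  have hmem : ∀ n : N, n ∈ W ↔ (n : G) ∈ (Subgroup.normalizer (Q : Set G)) := fun n => by
    rw [hW, Subgroup.mem_normalizer_iff, Subgroup.mem_normalizer_iff]
    constructor
    · intro h z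
      by_cases hz : z ∈ N
      · exact (h ⟨z, hz⟩ :)
      · refine iff_of_false (fun h' => hz (hQN h')) fun h' => hz ?_
        have h1 := (inferInstance : N.Normal).conj_mem _ (hQN h') ((n : G)⁻¹)
        simpa [mul_assoc] using h1
    · exact fun h u => h u
  let φ : W ≃* ↥((Subgroup.normalizer (Q : Set G)) ⊓ N) :=
    { toFun := fun w => ⟨((w : N) : G), (hmem _).1 w.2, (w : N).2⟩
      invFun := fun l => ⟨⟨(l : G), l.2.2⟩, (hmem _).2 l.2.1⟩
      left_inv := fun _ => rfl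
      right_inv := fun _ => rfl
      map_mul' := fun _ _ => rfl }
  let ε : N.subgroupOf (Subgroup.normalizer (Q : Set G)) ≃* W :=
    { toFun := fun k => ⟨⟨((k : (Subgroup.normalizer (Q : Set G))) : G), k.2⟩, (hmem _).2 (k : (Subgroup.normalizer (Q : Set G))).2⟩
      invFun := fun w => ⟨⟨((w : N) : G), (hmem _).1 w.2⟩, (w : N).2⟩
      left_inv := fun _ => rfl
      right_inv := fun _ => rfl
      map_mul' := fun _ _ => rfl }
  have hεG : ∀ k, ((ε k : N) : G) = ((k : (Subgroup.normalizer (Q : Set G))) : G) := fun _ => rfl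
  have hed' : IsInducedBlock M W (pullEquiv φ '' e) d :=
    isInducedBlock_of_in φ (fun _ => rfl) hed
  have hcovers : ∀ c : Set (IrrCharacter (Subgroup.normalizer (Q : Set G))),
      (∃ ψ ∈ c, ∃ ξ ∈ e, classInner (fun l : ↥((Subgroup.normalizer (Q : Set G)) ⊓ N) => (ψ : (Subgroup.normalizer (Q : Set G)) → ℂ)
        (Subgroup.inclusion inf_le_left l)) (ξ : ↥((Subgroup.normalizer (Q : Set G)) ⊓ N) → ℂ) ≠ 0) ↔
      Covers (N.subgroupOf (Subgroup.normalizer (Q : Set G))) c (pullEquiv ε '' (pullEquiv φ '' e)) := by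
    intro c
    have key : ∀ (ψ : IrrCharacter (Subgroup.normalizer (Q : Set G))) (ξ : IrrCharacter ↥((Subgroup.normalizer (Q : Set G)) ⊓ N)),
        classInner (fun k : N.subgroupOf (Subgroup.normalizer (Q : Set G)) => (ψ : (Subgroup.normalizer (Q : Set G)) → ℂ) k)
          (pullEquiv ε (pullEquiv φ ξ) : N.subgroupOf (Subgroup.normalizer (Q : Set G)) → ℂ) =
        classInner (fun l : ↥((Subgroup.normalizer (Q : Set G)) ⊓ N) => (ψ : (Subgroup.normalizer (Q : Set G)) → ℂ) (Subgroup.inclusion inf_le_left l))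
          (ξ : ↥((Subgroup.normalizer (Q : Set G)) ⊓ N) → ℂ) := fun ψ ξ =>
      CfsgLib.Clifford.classInner_comp_equiv (ε.trans φ)
        (fun l : ↥((Subgroup.normalizer (Q : Set G)) ⊓ N) => (ψ : (Subgroup.normalizer (Q : Set G)) → ℂ) (Subgroup.inclusion inf_le_left l)) (ξ : ↥((Subgroup.normalizer (Q : Set G)) ⊓ N) → ℂ)
    constructor
    · rintro ⟨ψ, hψ, ξ, hξ, h⟩
      exact ⟨ψ, hψ, _, ⟨_, ⟨ξ, hξ, rfl⟩, rfl⟩, by rwa [key]⟩
    · rintro ⟨ψ, hψ, _, ⟨_, ⟨ξ, hξ, rfl⟩, rfl⟩, h⟩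
      exact ⟨ψ, hψ, ξ, hξ, by rwa [key] at h⟩
  refine ⟨fun c hc hcov => ?_, fun B hB hcov => ?_⟩
  · obtain ⟨B, hind⟩ := exists_isInducedBlock hM hQ Subgroup.le_normalizer
      (centralizer_le_normalizer' Q) le_rfl hc
    exact ⟨B, ⟨hind, covers_of_induced N ε hεG ((hcovers c).1 hcov) hind hed'⟩,
      fun B' h => IsInducedBlock.eq h.1 hind⟩
  · obtain ⟨P, hP, hPN⟩ := exists_defectGroup_inf_eq N hM hB hd hcov hQN hdQ
    obtain ⟨c, hind⟩ := (exists_inducing_iff_subConj hM hQ Subgroup.le_normalizer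
      (centralizer_le_normalizer' Q) le_rfl hB hP).2 (SubConj.of_le (hPN.ge.trans inf_le_left))
    have hcc : Covers (N.subgroupOf (Subgroup.normalizer (Q : Set G))) c (pullEquiv ε '' (pullEquiv φ '' e)) :=
      covers_of_induced_covers N hM hQ hQN ε hεG hdQ hed' hcov hind
    exact ⟨c, ⟨⟨hind.1, (hcovers c).2 hcc⟩, hind⟩, fun c' h =>
      eq_of_induced_covers N hM hQ hQN hdQ hd hcov h.2 hind⟩

end Cfsg.Agent.S4674
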