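import Cfsg.Statements.S4683
import Cfsg.Agent.Lib.Blocks.SubsectionNorms
import Cfsg.Agent.Lib.Pairs.Chain

set_option autoImplicit false
open Cfsg CfsgLib.Blocks
open scoped ComplexConjugate Classical

namespace Cfsg.Agent.S4683

/-- Parts at inverse elements are complex conjugate. -/
theorem blockPart_inv {G : Type*} [Group G] [Fintype G] {u : G} {H : Subgroup G} [Fintype H]
    (hH : H = Subgroup.centralizer ({u} : Set G)) (e : Set (IrrCharacter H)) (χ : IrrCharacter G)
    (s : H) :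
    blockPart e (fun c : H => (χ : G → ℂ) (u⁻¹ * c)) s⁻¹ =
      conj (blockPart e (fun c : H => (χ : G → ℂ) (u * c)) s) := by
  rw [blockPart_apply, blockPart_apply, map_mul, map_inv₀, map_natCast, map_sum]
  congr 1
  refine Fintype.sum_equiv (Equiv.inv H) _ _ fun w => ?_
  have hc : Commute (w : G) u := mem_centralizer_singleton.1 (hH.le w.2)
  rw [finsum_mem_eq_finite_toFinset_sum _ (Set.toFinite e),
    finsum_mem_eq_finite_toFinset_sum _ (Set.toFinite e), map_mul, map_sum]
  congr 1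
  · show (χ : G → ℂ) (u⁻¹ * (w : G)) = conj ((χ : G → ℂ) (u * ((w⁻¹ : H) : G)))
    rw [← CfsgLib.Char.IsIrr.map_inv χ.2, Subgroup.coe_inv, mul_inv_rev, inv_inv,
      (hc.inv_right).eq]
  · refine Finset.sum_congr rfl fun ψ _ => ?_
    show (ψ : H → ℂ) s⁻¹ * (ψ : H → ℂ) w⁻¹ = conj ((ψ : H → ℂ) s * (ψ : H → ℂ) (w⁻¹)⁻¹)
    rw [map_mul, CfsgLib.Char.IsIrr.map_inv ψ.2, CfsgLib.Char.IsIrr.map_inv ψ.2, inv_inv]

theorem norm_sum {G : Type*} [Group G] [Fintype G] {p : ℕ} [Fact p.Prime] {M : Ideal AlgInt}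
    [M.IsPrime] (hM : IsPModular p M) {u : G} (hu : ∃ k : ℕ, orderOf u = p ^ k) {H : Subgroup G}
    [Fintype H] (hH : H = Subgroup.centralizer ({u} : Set G)) {B : Set (IrrCharacter G)}
    {e : Set (IrrCharacter H)} (hind : IsInducedBlock M H e B) :
    ∑ᶠ χ ∈ B, ∑ᶠ s : H, pRegularPart p (blockPart e (fun c : H => (χ : G → ℂ) (u * c))) s *
      conj (blockPart e (fun c : H => (χ : G → ℂ) (u * c)) s) =
      (Nat.card H : ℂ) * (blockRank p e : ℂ) := by
  subst hH
  convert sum_block_blockPart_norm hM hu hind using 4 with χ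
  rw [finsum_eq_sum_of_fintype, Finset.sum_filter]
  refine Finset.sum_congr (by ext; simp) fun s _ => ?_
  by_cases hs : p ∣ orderOf s <;>
    simp [CfsgLib.CharAction.pRegularPart_eq_regCut, CfsgLib.Char.regCut, hs]

/-- Fix a prime p and a maximal ideal M of the algebraic integers containing p, a p-block B of the finite group G, a p-element u and a p-block e of C = C_G(u) such that (⟨u⟩, e) is a Brauer pair of B (a Brauer element of B). For χ ∈ B let χ_u be the e-part of the class function c ↦ χ(u c) on C and χ_u' the e-part of c ↦ χ(u⁻¹ c). Then the sum over χ ∈ B and over the p-regular elements s of C of χ_u(s)·χ_u'(s⁻¹) equals the order of C times the p-regular rank of e (the number of irreducible Brauer characters of e). -/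
theorem result {G : Type*} [Group G] [Fintype G] (p : ℕ) [Fact p.Prime] (M : Ideal Cfsg.AlgInt) (hM : Cfsg.IsPModular p M) (B : Set (Cfsg.IrrCharacter G)) (u : G) (hu : ∃ k : ℕ, orderOf u = p ^ k) (e : Set (Cfsg.IrrCharacter (Subgroup.centralizer (Subgroup.zpowers u : Set G)))) (hBe : Cfsg.IsBrauerPairOf p M B (Subgroup.zpowers u) e) : ∑ᶠ χ ∈ B, ∑ᶠ s : Subgroup.centralizer (Subgroup.zpowers u : Set G), Cfsg.pRegularPart p (Cfsg.blockPart e (fun c : Subgroup.centralizer (Subgroup.zpowers u : Set G) => (χ : G → ℂ) (u * c))) s * Cfsg.blockPart e (fun c : Subgroup.centralizer (Subgroup.zpowers u : Set G) => (χ : G → ℂ) (u⁻¹ * c)) s⁻¹ = (Nat.card (Subgroup.centralizer (Subgroup.zpowers u : Set G)) : ℂ) * (Cfsg.blockRank p e : ℂ) := by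
  haveI : M.IsPrime := hM.2.1.isPrime
  have hH : Subgroup.centralizer (Subgroup.zpowers u : Set G) = Subgroup.centralizer ({u} : Set G) := by
    rw [Subgroup.zpowers_eq_closure, Subgroup.centralizer_closure]
  obtain ⟨⟨hP, he⟩, hB, hval⟩ := CfsgLib.Pairs.isBrauerPairOf_iff.1 hBe
  have hle : Subgroup.zpowers u ≤ Subgroup.centralizer (Subgroup.zpowers u : Set G) := by
    rw [hH, Subgroup.zpowers_le, mem_centralizer_singleton]
  obtain ⟨B₂, hind⟩ := exists_isInducedBlock hM hP hle le_rfl (centralizer_le_normalizer' _) he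
  obtain ⟨ξ, hξ⟩ := IsPBlock.nonempty he
  obtain ⟨-, hB₂, hall⟩ := isInducedBlock_iff.1 hind
  obtain ⟨χ₂, hχ₂⟩ := IsPBlock.nonempty hB₂
  have h1 := hall ξ hξ χ₂ hχ₂ _ (isCentralElt_blockIdemBar hB)
  have h2 := hval ξ hξ
  unfold CfsgLib.Pairs.pairVal CfsgLib.Pairs.resC at h2
  have h3 : omegaBar ξ (resElt (Subgroup.centralizer (Subgroup.zpowers u : Set G)) (blockIdemBar M B)) = 1 := by
    convert h2
  rw [omegaBar_blockIdemBar hB] at h1
  replace h1 := h3.symm.trans (by convert h1)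
  have hBB : B₂ = B := IsPBlock.eq_of_mem hB₂ hB hχ₂ (by
    by_contra hn
    rw [if_neg hn] at h1
    exact one_ne_zero h1)
  subst hBB
  rw [← norm_sum hM hu hH hind]
  refine finsum_mem_congr rfl fun χ _ => finsum_congr fun s => ?_
  rw [blockPart_inv hH]

end Cfsg.Agent.S4683
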