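import Cfsg.Statements.S4690
import Cfsg.Agent.Lib.Blocks.Star.Nilpotent

set_option autoImplicit false
open Cfsg CfsgLib.Blocks

namespace Cfsg.Agent.S4690

/-- Fix a prime p and a maximal ideal M of the algebraic integers containing p, and a nilpotent p-block B of the finite group G with defect group P. Then there is a bijection from B onto the irreducible characters of P carrying the height of each χ ∈ B to the exponent of p in the degree of its image. -/
theorem result {G : Type*} [Group G] [Fintype G] (p : ℕ) [Fact p.Prime] (M : Ideal Cfsg.AlgInt) (hM : Cfsg.IsPModular p M) (B : Set (Cfsg.IrrCharacter G)) (hnil : Cfsg.IsNilpotentBlock p M B) (P : Subgroup G) (hP : Cfsg.IsDefectGroup p M B P) : ∃ Φ : B ≃ Cfsg.IrrCharacter P, ∀ χ : B, Cfsg.blockHeight p B ((χ : Cfsg.IrrCharacter G) : G → ℂ) = (Cfsg.charDegree ((Φ χ : Cfsg.IrrCharacter P) : P → ℂ)).factorization p := by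
  have := hM.2.1.isPrime
  have := Fintype.ofFinite P
  obtain ⟨χ, hχ, Φ, hχ0, hΦ⟩ := CfsgLib.Star.exists_param_of_nilpotent hM hnil hP
  refine ⟨Φ.symm, fun ψ => ?_⟩
  obtain ⟨η, rfl⟩ := Φ.surjective ψ
  rw [Equiv.symm_apply_apply]
  have hdeg : charDegree (((Φ η : B) : IrrCharacter G) : G → ℂ) =
      charDegree (η : P → ℂ) * charDegree (χ : G → ℂ) := by
    have h := hΦ η 1 (by simpa using hM.1.ne_one)
    rw [apply_one_eq_charDegree, apply_one_eq_charDegree, apply_one_eq_charDegree] at h
    exact_mod_cast h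
  rw [blockHeight, hdeg, Nat.factorization_mul (charDegree_pos η).ne' (charDegree_pos χ).ne',
    Finsupp.add_apply, (blockHeight_eq_zero_iff_minExp hχ).1 hχ0]
  exact Nat.add_sub_cancel ..

end Cfsg.Agent.S4690
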