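import Cfsg.Statements.S4694
import Cfsg.Agent.Lib.Pairs.Weight
-- import your own Cfsg.Agent.* helpers here

set_option autoImplicit false
open Cfsg

namespace Cfsg.Agent.S4694

/-- Fix a prime p and a maximal ideal M of the algebraic integers containing p, a p-block B of the finite group G and a Brauer pair (Q, e) of B. Let T be the stabilizer of e in N_G(Q) and suppose that (Q, e) carries a weight: the block of T whose idempotent is that of e contains an irreducible character χ that is constant on the cosets of Q and whose degree has p-part equal to the p-part of the index of Q in T. Then Z(Q) is a defect group of e as a block of C_G(Q), and Q is the largest normal p-subgroup of T: every p-subgroup of T normalized by T lies in Q. -/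
theorem result {G : Type*} [Group G] [Fintype G] (p : ℕ) [Fact p.Prime] (M : Ideal Cfsg.AlgInt) (hM : Cfsg.IsPModular p M) (B : Set (Cfsg.IrrCharacter G)) (Q : Subgroup G) (e : Set (Cfsg.IrrCharacter (Subgroup.centralizer (Q : Set G)))) (hQe : Cfsg.IsBrauerPairOf p M B Q e) (T : Subgroup G) (hT : ∀ y : G, y ∈ T ↔ y ∈ Subgroup.normalizer (Q : Set G) ∧ Cfsg.StabilizesBlock (Subgroup.centralizer (Q : Set G)) e y) (F' : Set (Cfsg.IrrCharacter T)) (hF' : Cfsg.IsPBlock M F') (hF'e : ∀ t : T, Cfsg.blockCoeff F' t = Cfsg.subgroupBlockCoeff (Subgroup.centralizer (Q : Set G)) e (t : G)) (χ : Cfsg.IrrCharacter T) (hχ : χ ∈ F') (hχQ : ∀ q : G, q ∈ Q → ∀ t : T, ∀ t' : T, (t' : G) = q * (t : G) → (χ : T → ℂ) t' = (χ : T → ℂ) t) (hdeg : (Cfsg.charDegree (χ : T → ℂ)).factorization p + (Nat.card Q).factorization p = (Nat.card T).factorization p) : Cfsg.IsDefectGroup p M e ((Q ⊓ Subgroup.centralizer (Q : Set G)).subgroupOf (Subgroup.centralizer (Q : Set G))) ∧ ∀ R : Subgroup G, R ≤ T → IsPGroup p R → (∀ t ∈ T, t ∈ Subgroup.normalizer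 (R : Set G)) → R ≤ Q := by
  have := hM.2.1.isPrime
  classical
  have hp : p.Prime := Fact.out
  have hCT : Subgroup.centralizer (Q : Set G) ≤ T := fun c hc => (hT c).2
    ⟨Subgroup.centralizer_le_normalizer _ hc, CfsgLib.Pairs.stabilizesBlock_of_mem hc⟩
  have hQT : Q ≤ T := fun q hq => by
    refine (hT q).2 ⟨Subgroup.le_normalizer hq,
      CfsgLib.Pairs.normalizer_le_normalizer_centralizer Q (Subgroup.le_normalizer hq),
      fun ξ hξ => ⟨ξ, hξ, fun k k' h => ?_⟩⟩
    rw [show k' = k from Subtype.ext (by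
      rw [h, Subgroup.mem_centralizer_iff.1 k.2 q hq, mul_inv_cancel_right])]
  have hTN : T ≤ Subgroup.normalizer (Q : Set G) := fun t ht => ((hT t).1 ht).1
  have hTC : T ≤ Subgroup.normalizer ((Subgroup.centralizer (Q : Set G) : Subgroup G) : Set G) :=
    hTN.trans (CfsgLib.Pairs.normalizer_le_normalizer_centralizer Q)
  have hQn : (Q.subgroupOf T).Normal :=
    (Subgroup.normal_subgroupOf_iff_le_normalizer hQT).2 hTN
  have hCn : ((Subgroup.centralizer (Q : Set G)).subgroupOf T).Normal :=
    (Subgroup.normal_subgroupOf_iff_le_normalizer hCT).2 hTC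
  have hker : ∀ q : T, q ∈ Q.subgroupOf T → (χ : T → ℂ) q = (χ : T → ℂ) 1 := fun q hq =>
    hχQ q hq 1 q (by simp)
  have hcQ : Nat.card (Q.subgroupOf T) = Nat.card Q :=
    Nat.card_congr (Subgroup.subgroupOfEquivOfLe hQT).toEquiv
  refine ⟨?_, fun R hRT hR hRn x hx => CfsgLib.Pairs.le_of_weight hM (Q := Q.subgroupOf T) hker
    (by rw [hcQ]; exact hdeg) ((Subgroup.normal_subgroupOf_iff_le_normalizer hRT).2 hRn)
    (hR.comap_subtype) (x := ⟨x, hRT hx⟩) hx⟩
  have hcomm : ∀ (c : Subgroup.centralizer (Q : Set G)) (q : Q),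
      Commute (Subgroup.inclusion hCT c) (Subgroup.inclusion hQT q) := fun c q =>
    Subtype.ext (Subgroup.mem_centralizer_iff.1 c.2 q q.2).symm
  let φ : Subgroup.centralizer (Q : Set G) × Q →* T :=
    MonoidHom.noncommCoprod (Subgroup.inclusion hCT) (Subgroup.inclusion hQT) hcomm
  have hφ : ∀ c q, ((φ (c, q) : T) : G) = (c : G) * (q : G) := fun _ _ => rfl
  have hrange : φ.range = (Subgroup.centralizer (Q : Set G)).subgroupOf T ⊔ Q.subgroupOf T := by
    simp only [φ]
    rw [MonoidHom.noncommCoprod_range, Subgroup.inclusion_range, Subgroup.inclusion_range]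
  have : φ.range.Normal := hrange ▸ Subgroup.sup_normal _ _
  have : Fintype Q := Fintype.ofFinite Q
  have : Fintype (Subgroup.centralizer (Q : Set G)) := Fintype.ofFinite _
  obtain ⟨ψ, hψc, hψZ, hψd⟩ := CfsgLib.Pairs.exists_constituent_of_weight φ (χ := χ) fun a => by
    refine hker _ ?_
    simp [Subgroup.mem_subgroupOf, hφ]
  have hQp : IsPGroup p Q := hQe.1.1
  have he : IsPBlock M e := hQe.1.2
  -- `ψ` lies in `e`
  have hψe : ψ ∈ e := by
    have := Fintype.ofFinite (IrrCharacter (Subgroup.centralizer (Q : Set G)))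
    have hω : ∑ c : Subgroup.centralizer (Q : Set G),
        blockCoeff e c * (χ : T → ℂ) (φ (c, 1)) = (χ : T → ℂ) 1 := by
      have h := CfsgLib.Blocks.omega_blockIdem F' χ
      rw [if_pos hχ, CfsgLib.Blocks.omega_apply,
        div_eq_one_iff_eq (CfsgLib.Char.IsIrr.apply_one_ne_zero χ.2)] at h
      rw [← h]
      refine Fintype.sum_of_injective (Subgroup.inclusion hCT) (Subgroup.inclusion_injective hCT)
        _ _ (fun t ht => ?_) fun c => ?_
      · rw [CfsgLib.Blocks.coeff_blockIdem, hF'e, subgroupBlockCoeff,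
          dif_neg fun hc => ht ⟨⟨t, hc⟩, rfl⟩, zero_mul]
      · rw [CfsgLib.Blocks.coeff_blockIdem, hF'e, subgroupBlockCoeff,
          dif_pos (show ((Subgroup.inclusion hCT c : T) : G) ∈ _ from c.2),
          show φ (c, 1) = Subgroup.inclusion hCT c from Subtype.ext (by simp [hφ])]
        rfl
    have hch : IsCharacter (Subgroup.centralizer (Q : Set G))
        (fun c => (χ : T → ℂ) (φ (c, 1))) :=
      CfsgLib.Char.IsChar.comp (φ.comp (MonoidHom.inl _ _)) (CfsgLib.Char.IsIrr.isCharacter χ.2)
    obtain ⟨m, hm⟩ := CfsgLib.Char.IsChar.exists_sum hch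
    rw [hm, CfsgLib.Char.classInner_sum_irr] at hψc
    have hm1 := congrFun hm 1
    simp only [show ((1, 1) : Subgroup.centralizer (Q : Set G) × Q) = 1 from rfl, map_one,
      Finset.sum_apply, Pi.smul_apply, smul_eq_mul] at hm1
    have hev : ∀ η : IrrCharacter (Subgroup.centralizer (Q : Set G)),
        ∑ c, blockCoeff e c * η.1 c = if η ∈ e then η.1 1 else 0 := fun η => by
      have h := CfsgLib.Blocks.omega_blockIdem e η
      rw [CfsgLib.Blocks.omega_apply,
        div_eq_iff (CfsgLib.Char.IsIrr.apply_one_ne_zero η.2)] at h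
      simp only [CfsgLib.Blocks.coeff_blockIdem] at h
      rw [h]; simp
    simp only [congrFun hm, Finset.sum_apply, Pi.smul_apply, smul_eq_mul, Finset.mul_sum] at hω
    rw [Finset.sum_comm, hm1] at hω
    simp only [mul_left_comm (blockCoeff e _), ← Finset.mul_sum, hev,
      CfsgLib.Blocks.apply_one_eq_charDegree, mul_ite, mul_zero] at hω
    by_contra hne
    have h2 : ∑ η, (if η ∈ e then m η * charDegree η.1 else 0) =
        ∑ η, m η * charDegree η.1 := by exact_mod_cast hω
    refine (Finset.sum_lt_sum (fun η _ => by split_ifs <;> simp) ⟨ψ, Finset.mem_univ _, ?_⟩).ne h2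
    rw [if_neg hne]
    exact Nat.mul_pos (Nat.pos_of_ne_zero (Nat.cast_ne_zero.1 hψc))
      (CfsgLib.Blocks.charDegree_pos ψ)
  rw [CfsgLib.Blocks.IsPBlock.eq_blockOf he hψe]
  have hZ : (Q ⊓ Subgroup.centralizer (Q : Set G)).subgroupOf
      (Subgroup.centralizer (Q : Set G)) ≤ Subgroup.center (Subgroup.centralizer (Q : Set G)) := by
    intro z hz
    refine Subgroup.mem_center_iff.2 fun g => Subtype.ext ?_
    exact (Subgroup.mem_centralizer_iff.1 g.2 z hz.1).symm
  refine CfsgLib.Blocks.isDefectGroup_of_central_defect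
    ((hQp.to_le inf_le_left).comap_subtype) hZ ?_ hM
  -- cardinalities
  set Z := (Q ⊓ Subgroup.centralizer (Q : Set G)).subgroupOf (Subgroup.centralizer (Q : Set G))
  have : Z.Normal := ⟨fun n hn g => by
    rw [Subgroup.mem_center_iff.1 (hZ hn) g, mul_inv_cancel_right]; exact hn⟩
  have hupper : charDegree ψ.1 ∣ Z.index := by
    have := Fintype.ofFinite (Subgroup.centralizer (Q : Set G) ⧸ Z)
    obtain ⟨η, hη⟩ := CfsgLib.Blocks.exists_inflate_eq Z ψ fun z hz => hψZ z
      ⟨⟨(z : G), hz.1⟩, Subtype.ext (by rw [hφ, hφ]; simp)⟩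
    rw [← hη, Subgroup.index_eq_card, show charDegree _ = charDegree η.1 by
      rw [charDegree, charDegree, CfsgLib.Blocks.inflate_apply, QuotientGroup.mk_one]]
    exact CfsgLib.Blocks.charDegree_dvd_card η
  have hkerφ : Nat.card φ.ker = Nat.card Z := by
    refine Nat.card_congr
      { toFun := fun x => ⟨x.1.1, ?_⟩
        invFun := fun z => ⟨(z.1, (⟨(z.1 : G), z.2.1⟩ : Q)⁻¹), ?_⟩
        left_inv := ?_
        right_inv := fun z => rfl }
    · have h : (x.1.1 : G) * (x.1.2 : G) = 1 := congrArg Subtype.val (MonoidHom.mem_ker.1 x.2)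
      refine Subgroup.mem_subgroupOf.2 ⟨?_, x.1.1.2⟩
      rw [eq_inv_of_mul_eq_one_left h]
      exact Q.inv_mem x.1.2.2
    · exact MonoidHom.mem_ker.2 (Subtype.ext (by rw [hφ]; simp))
    · intro x
      have h : (x.1.1 : G) * (x.1.2 : G) = 1 := congrArg Subtype.val (MonoidHom.mem_ker.1 x.2)
      refine Subtype.ext (Prod.ext rfl (Subtype.ext ?_))
      simp [eq_inv_of_mul_eq_one_left h]
  have hmul : ∀ a b : ℕ, a ≠ 0 → b ≠ 0 →
      (a * b).factorization p = a.factorization p + b.factorization p := fun a b ha hb => by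
    rw [Nat.factorization_mul ha hb, Finsupp.add_apply]
  have e1 : φ.range.index.factorization p + (Nat.card φ.range).factorization p =
      (Nat.card T).factorization p := by
    rw [← hmul _ _ Subgroup.index_ne_zero_of_finite Nat.card_pos.ne', Subgroup.index_mul_card]
  have e2 : (Nat.card φ.range).factorization p + (Nat.card Z).factorization p =
      (Nat.card (Subgroup.centralizer (Q : Set G))).factorization p +
        (Nat.card Q).factorization p := by
    rw [← hkerφ, ← Subgroup.index_ker,
      ← hmul _ _ Subgroup.index_ne_zero_of_finite Nat.card_pos.ne', Subgroup.index_mul_card,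
      Nat.card_prod, hmul _ _ Nat.card_pos.ne' Nat.card_pos.ne']
  have e3 : Z.index.factorization p + (Nat.card Z).factorization p =
      (Nat.card (Subgroup.centralizer (Q : Set G))).factorization p := by
    rw [← hmul _ _ Subgroup.index_ne_zero_of_finite Nat.card_pos.ne', Subgroup.index_mul_card]
  have hle := (Nat.factorization_le_iff_dvd (CfsgLib.Blocks.charDegree_pos χ).ne'
    (Nat.mul_ne_zero (CfsgLib.Blocks.charDegree_pos ψ).ne'
      Subgroup.index_ne_zero_of_finite)).2 hψd p
  rw [Nat.factorization_mul (CfsgLib.Blocks.charDegree_pos ψ).ne'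
    Subgroup.index_ne_zero_of_finite, Finsupp.add_apply] at hle
  have hup := (Nat.factorization_le_iff_dvd (CfsgLib.Blocks.charDegree_pos ψ).ne'
    Subgroup.index_ne_zero_of_finite).2 hupper p
  show (charDegree ψ.1).factorization p = Z.index.factorization p
  omega

end Cfsg.Agent.S4694
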