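import Cfsg.Statements.S4695
import Cfsg.Agent.Lib.Blocks.CyclicRank.Setting
-- import your own Cfsg.Agent.* helpers here

set_option autoImplicit false
open Cfsg

namespace Cfsg.Agent.S4695

/-- Let p be a prime, M a maximal ideal of the algebraic integers containing p, and B a p-block of the finite group G whose defect group D is cyclic of order p^a with a ≥ 1. Let C = C_G(D), let b be a block of C inducing B, let T be the stabilizer of b in N_G(D) (the elements g of N_G(D) such that the g-conjugate of every member of b is again in b), and let e be the index of C in T (the inertial index of B). Then the p-regular rank of B (the dimension of the span of the restrictions of its members to the p-regular elements, classically the number l(B) of irreducible Brauer characters in B) equals e. -/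
theorem result {G : Type*} [Group G] [Finite G] (p : ℕ) [Fact p.Prime] (M : Ideal Cfsg.AlgInt) (hM : Cfsg.IsPModular p M) (D : Subgroup G) (hD : IsCyclic D) (a : ℕ) (ha : 1 ≤ a) (hDa : Nat.card D = p ^ a) (B : Set (Cfsg.IrrCharacter G)) (hB : Cfsg.IsPBlock M B) (hBD : Cfsg.IsDefectGroup p M B D) (b : Set (Cfsg.IrrCharacter (Subgroup.centralizer (D : Set G)))) (hind : Cfsg.IsInducedBlock M (Subgroup.centralizer (D : Set G)) b B) (T : Subgroup G) (hT : ∀ g : G, g ∈ T ↔ (g ∈ Subgroup.normalizer (D : Set G) ∧ ∀ θ ∈ b, ∀ θ' : Cfsg.IrrCharacter (Subgroup.centralizer (D : Set G)), (∀ h h' : Subgroup.centralizer (D : Set G), (h' : G) = g * h * g⁻¹ → (θ' : Subgroup.centralizer (D : Set G) → ℂ) h' = (θ : Subgroup.centralizer (D : Set G) → ℂ) h) → θ' ∈ b)) (e : ℕ) (he : (Subgroup.centralizer (D : Set G)).relIndex T = e) : Cfsg.blockRank p B = e := by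
  classical
  have := Fintype.ofFinite G
  have := hM.2.1.isPrime
  have hDp := CfsgLib.Blocks.IsDefectGroup.isPGroup hBD
  have hab : ∀ x ∈ D, ∀ y ∈ D, x * y = y * x := by
    intro x hx y hy
    let := IsCyclic.commGroup (α := D)
    exact congrArg Subtype.val (mul_comm (⟨x, hx⟩ : D) ⟨y, hy⟩)
  have hPC : D ≤ Subgroup.centralizer (D : Set G) := fun x hx =>
    Subgroup.mem_centralizer_iff.2 fun y hy => hab y hy x hx
  have hD0 : D ≠ ⊥ := fun h => by
    rw [h, Subgroup.card_bot] at hDa
    exact absurd hDa.symm (Nat.one_lt_pow (by omega) (Fact.out : p.Prime).one_lt).ne'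
  have hb := (CfsgLib.Pairs.inducedFromCent_iff hM hDp hPC
    (CfsgLib.Blocks.isInducedBlock_iff.1 hind).1 B).1 hind
  have hTeq : T = CfsgLib.Pairs.pairStab D b := by
    ext g
    rw [hT g]
    constructor
    · rintro ⟨hgN, hgb⟩
      have hgC := CfsgLib.Pairs.normalizer_le_normalizer_centralizer D hgN
      exact ⟨hgN, hgC, fun θ hθ => ⟨CfsgLib.Pairs.mapIrr _ θ,
        hgb θ hθ _ ((CfsgLib.Pairs.isConjCharOf_iff hgC).2 rfl),
        (CfsgLib.Pairs.isConjCharOf_iff hgC).2 rfl⟩⟩
    · rintro ⟨hgN, hgC, hgb⟩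
      refine ⟨hgN, fun θ hθ θ' hθ' => ?_⟩
      obtain ⟨θ'', hθ'', hc⟩ := hgb θ hθ
      have h1 := (CfsgLib.Pairs.isConjCharOf_iff hgC).1 hc
      have h2 := (CfsgLib.Pairs.isConjCharOf_iff hgC).1
        (show Cfsg.IsConjCharOf _ g _ _ from hθ')
      rwa [h2, ← h1]
  rw [CfsgLib.CyclicRank.blockRank_eq_relIndex hM hB hBD hD hD0 hb, ← he, hTeq]

end Cfsg.Agent.S4695
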