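import Cfsg.Statements.S4697
import Cfsg.Agent.Lib.Blocks.DefectBound.AbelianBound
-- import your own Cfsg.Agent.* helpers here

set_option autoImplicit false
open Cfsg

namespace Cfsg.Agent.S4697

/-- An abelian group generated by three elements has order at most the product of their orders. -/
theorem card_le_mul {A : Type*} [CommGroup A] [Finite A] {x y z : A}
    (h : Subgroup.closure ({x, y, z} : Set A) = ⊤) :
    Nat.card A ≤ orderOf x * orderOf y * orderOf z := by
  let φ := ((Subgroup.zpowers x).subtype.coprod (Subgroup.zpowers y).subtype).coprod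
    (Subgroup.zpowers z).subtype
  have hx : x ∈ φ.range := ⟨((⟨x, Subgroup.mem_zpowers x⟩, 1), 1), by simp [φ]⟩
  have hy : y ∈ φ.range := ⟨((1, ⟨y, Subgroup.mem_zpowers y⟩), 1), by simp [φ]⟩
  have hz : z ∈ φ.range := ⟨((1, 1), ⟨z, Subgroup.mem_zpowers z⟩), by simp [φ]⟩
  have hsurj : Function.Surjective φ := MonoidHom.range_eq_top.1 <| top_le_iff.1 <| h ▸
    (Subgroup.closure_le _).2 (by
      rintro w (rfl | rfl | rfl) <;> assumption)
  have := Nat.card_le_card_of_surjective φ hsurj
  rwa [Nat.card_prod, Nat.card_prod, Nat.card_zpowers, Nat.card_zpowers, Nat.card_zpowers] at this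

/-- Let p be a prime, M a maximal ideal of the algebraic integers containing p, and B a p-block of the finite group G with an abelian defect group D of order p^d. If D has rank 2 (its least number of generators is 2) then B contains at most p^d irreducible characters; if D has rank 3 then the number k of irreducible characters in B satisfies k^3 ≤ p^(5d). -/
theorem result {G : Type*} [Group G] [Finite G] (p : ℕ) [Fact p.Prime] (M : Ideal Cfsg.AlgInt) (hM : Cfsg.IsPModular p M) (B : Set (Cfsg.IrrCharacter G)) (hB : Cfsg.IsPBlock M B) (D : Subgroup G) (hBD : Cfsg.IsDefectGroup p M B D) (hab : IsMulCommutative D) (d : ℕ) (hDd : Nat.card D = p ^ d) : (Group.rank D = 2 → Nat.card B ≤ p ^ d) ∧ (Group.rank D = 3 → Nat.card B ^ 3 ≤ p ^ (5 * d)) := by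
  classical
  have := hM.2.1.isPrime
  have := Fintype.ofFinite G
  have hd : Cfsg.blockDefect p B = d := by
    have h := CfsgLib.Blocks.IsDefectGroup.card_eq hM hB hBD
    rw [hDd] at h
    exact (Nat.pow_right_injective (Fact.out : p.Prime).two_le h).symm
  have hab' : ∀ s ∈ D, ∀ t ∈ D, s * t = t * s := fun s hs t ht =>
    congrArg Subtype.val (hab.is_comm.comm (⟨s, hs⟩ : D) ⟨t, ht⟩)
  obtain ⟨S, hS, hgen⟩ := Group.rank_spec D
  refine ⟨fun h2 => ?_, fun h3 => ?_⟩
  · rw [h2, Finset.card_eq_two] at hS
    obtain ⟨r, s, -, rfl⟩ := hS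
    rw [Finset.coe_pair] at hgen
    exact hd ▸ CfsgLib.Blocks.AbelianBound.card_le_of_two hM hB hBD hab' hgen
  · rw [h3, Finset.card_eq_three] at hS
    obtain ⟨x, y, z, -, -, -, rfl⟩ := hS
    rw [Finset.coe_insert, Finset.coe_pair] at hgen
    let _ : CommGroup D := { (inferInstance : Group D) with mul_comm := hab.is_comm.comm }
    have hcard := card_le_mul hgen
    obtain ⟨w, r, s, hw, hmax⟩ : ∃ w r s : D, Subgroup.closure ({w, r, s} : Set D) = ⊤ ∧
        Nat.card D ≤ orderOf w ^ 3 := by
      rcases le_total (orderOf y) (orderOf x) with hxy | hxy <;>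
        rcases le_total (orderOf z) (orderOf x) with hxz | hxz <;>
        rcases le_total (orderOf z) (orderOf y) with hyz | hyz
      all_goals first
        | exact ⟨x, y, z, hgen, hcard.trans (by
            rw [pow_three, ← mul_assoc]
            exact Nat.mul_le_mul (Nat.mul_le_mul le_rfl (by omega)) (by omega))⟩
        | exact ⟨y, x, z, (by rw [← hgen]; congr 1; ext w; simp only [Set.mem_insert_iff, Set.mem_singleton_iff]; tauto), hcard.trans (by
            rw [pow_three, ← mul_assoc]
            exact Nat.mul_le_mul (Nat.mul_le_mul (by omega) le_rfl) (by omega))⟩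
        | exact ⟨z, x, y, (by rw [← hgen]; congr 1; ext w; simp only [Set.mem_insert_iff, Set.mem_singleton_iff]; tauto), hcard.trans (by
            rw [pow_three, ← mul_assoc]
            exact Nat.mul_le_mul (Nat.mul_le_mul (by omega) (by omega)) le_rfl)⟩
    have hk := CfsgLib.Blocks.AbelianBound.card_mul_le_of_three hM hB hBD hab' hw
    rw [hd] at hk
    rw [hDd] at hmax
    have h6 : (Nat.card B * orderOf w) ^ 3 ≤ p ^ (5 * d) * p ^ d :=
      (Nat.pow_le_pow_left hk 3).trans (le_of_eq (by rw [← pow_mul, ← pow_add]; congr 1; omega))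
    rw [mul_pow] at h6
    exact Nat.le_of_mul_le_mul_right ((Nat.mul_le_mul_left _ hmax).trans h6)
      (pow_pos (Fact.out : p.Prime).pos d)

end Cfsg.Agent.S4697
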