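import Cfsg.Statements.S4699
import Mathlib
-- import your own Cfsg.Agent.* helpers here

set_option autoImplicit false
open Cfsg

namespace Cfsg.Agent.S4699

open Polynomial

/-- In characteristic `p`, `(T-1)^(q-1) = 1 + T + ... + T^(q-1)` for a `p`-power `q`. -/
lemma sub_one_pow_pred_eq_geom {F : Type*} [Field F] {p : ℕ} [Fact p.Prime] [CharP F p] (k : ℕ)
    {A : Type*} [Ring A] [Algebra F A] (a : A) :
    (a - 1) ^ (p ^ k - 1) = ∑ i ∈ Finset.range (p ^ k), a ^ i := by
  have hX : (X : F[X]) - 1 ≠ 0 := by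
    simpa using X_sub_C_ne_zero (1 : F)
  have h : ((X : F[X]) - 1) ^ (p ^ k - 1) = ∑ i ∈ Finset.range (p ^ k), X ^ i := by
    apply mul_left_cancel₀ hX
    rw [mul_geom_sum, ← pow_succ', Nat.sub_add_cancel (Nat.one_le_pow _ _ (Fact.out : p.Prime).pos),
      sub_pow_char_pow, one_pow]
  simpa using congrArg (aeval a) h

/-- The trace over a cyclic `p`-group `⟨U⟩` of any endomorphism is left divisible by
`(U-1)^(q-m)` as soon as `(U-1)^m = 0`. -/
lemma dvd_trace {F : Type*} [Field F] {p : ℕ} [Fact p.Prime] [CharP F p] (k : ℕ)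
    {A : Type*} [Ring A] [Algebra F A] (U U' w : A) (hU : U * U' = 1) (hU' : U' * U = 1)
    (m : ℕ) (hm : (U - 1) ^ m = 0) :
    (U - 1) ^ (p ^ k - m) ∣ ∑ i ∈ Finset.range (p ^ k), U ^ i * w * U' ^ i := by
  set L : Module.End F A := LinearMap.mulLeft F (U - 1) with hL
  set R : Module.End F A := LinearMap.mulRight F (U - 1) with hR
  set V : Module.End F A := LinearMap.mulRight F U' with hV
  set Θ : Module.End F A := LinearMap.mulLeft F U * LinearMap.mulRight F U' with hΘ
  have hΘ1 : Θ - 1 = V * (L - R) := by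
    refine LinearMap.ext fun x => ?_
    simp only [hΘ, hV, hL, hR, LinearMap.sub_apply, Module.End.mul_apply,
      LinearMap.mulLeft_apply, LinearMap.mulRight_apply, Module.End.one_apply,
      sub_mul, mul_sub, mul_assoc, one_mul, mul_one, hU]
    abel
  have hUX : Commute U' (U - 1) := by
    refine Commute.sub_right ?_ (Commute.one_right _)
    exact hU'.trans hU.symm
  have hVL : Commute V L := (LinearMap.commute_mulLeft_right (R := F) (U - 1) U').symm
  have hVR : Commute V R := by
    refine LinearMap.ext fun x => ?_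
    simp only [hV, hR, Module.End.mul_apply, LinearMap.mulRight_apply, mul_assoc, hUX.eq]
  have hLR : Commute L (-R) := (LinearMap.commute_mulLeft_right (R := F) (U - 1) (U - 1)).neg_right
  have hsum : ∑ i ∈ Finset.range (p ^ k), U ^ i * w * U' ^ i =
      ((L - R) ^ (p ^ k - 1)) w * U' ^ (p ^ k - 1) := by
    have h := congrArg (fun T : Module.End F A => T w)
      (sub_one_pow_pred_eq_geom (F := F) (p := p) k Θ)
    rw [hΘ1, (hVL.sub_right hVR).mul_pow] at h
    simp only [Module.End.mul_apply, LinearMap.sum_apply] at h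
    rw [hV, LinearMap.pow_mulRight] at h
    simp only [LinearMap.mulRight_apply] at h
    rw [h]
    refine Finset.sum_congr rfl fun i _ => ?_
    rw [hΘ, (LinearMap.commute_mulLeft_right (R := F) U U').mul_pow, Module.End.mul_apply,
      LinearMap.pow_mulLeft, LinearMap.pow_mulRight]
    simp [mul_assoc]
  rw [hsum, sub_eq_add_neg L R, hLR.add_pow, LinearMap.sum_apply]
  refine dvd_mul_of_dvd_left (Finset.dvd_sum fun a ha => ?_) _
  rw [Finset.mem_range] at ha
  rw [← nsmul_eq_mul', LinearMap.smul_apply, neg_pow R, Module.End.mul_apply,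
    Module.End.mul_apply, hL, hR, LinearMap.pow_mulLeft, LinearMap.pow_mulRight]
  by_cases hb : m ≤ p ^ k - 1 - a
  · rw [LinearMap.mulRight_apply, pow_eq_zero_of_le hb hm, mul_zero, map_zero, map_zero, smul_zero]
    exact dvd_zero _
  · rw [LinearMap.mulLeft_apply, nsmul_eq_mul, (Nat.cast_commute _ _).eq, mul_assoc]
    exact dvd_mul_of_dvd_left (pow_dvd_pow _ (by omega)) _

/-- Schur: an endomorphism commuting with an irreducible representation is `0` or invertible. -/
lemma eq_zero_or_isUnit {F G V : Type*} [Field F] [Monoid G] [AddCommGroup V] [Module F V]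
    [FiniteDimensional F V] {ρ : Representation F G V} (hirr : ρ.IsIrreducible)
    (S : Module.End F V) (hS : ∀ g, ρ g * S = S * ρ g) : S = 0 ∨ IsUnit S := by
  let K : Subrepresentation ρ :=
    { toSubmodule := LinearMap.ker S
      apply_mem_toSubmodule := fun g v hv => by
        rw [LinearMap.mem_ker] at hv ⊢
        have h := LinearMap.congr_fun (hS g) v
        simp only [Module.End.mul_apply] at h
        rw [← h, hv, map_zero] }
  have := hirr
  rcases IsSimpleOrder.eq_bot_or_eq_top K with h | h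
  · refine Or.inr ((LinearMap.isUnit_iff_ker_eq_bot _).2 ?_)
    exact congrArg Subrepresentation.toSubmodule h
  · refine Or.inl (LinearMap.ker_eq_top.1 ?_)
    exact congrArg Subrepresentation.toSubmodule h

/-- The main computation. -/
lemma bound {F G V : Type*} [Field F] [Group G] [Finite G] [AddCommGroup V] [Module F V]
    [FiniteDimensional F V] [Nontrivial V] {p : ℕ} [Fact p.Prime] [CharP F p] (k : ℕ) (u : G)
    (hu : orderOf u = p ^ k) (N : Subgroup G)
    (hfree : ∀ (g : G) (i : ℕ), i < p ^ k → 0 < i → g⁻¹ * u ^ i * g ∈ N → g ∈ N)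
    (huN : u ∈ N) (χ : ↥N →* (ZMod (p ^ k))ˣ)
    (hχ : ∀ g : ↥N, (g : G) * u * (g : G)⁻¹ = u ^ ((χ g : (ZMod (p ^ k))ˣ) : ZMod (p ^ k)).val)
    (ρ : Representation F G V) (hirr : ρ.IsIrreducible) (hk : 0 < k)
    (he : (ρ u - 1) ^ Nat.card χ.range ≠ 0) :
    p ^ k - Nat.card χ.range ≤ Module.finrank F V := by
  classical
  haveI : NeZero (p ^ k) := ⟨pow_ne_zero _ (Fact.out : p.Prime).ne_zero⟩
  haveI : CharP (Module.End F V) p := charP_of_injective_algebraMap (algebraMap F _).injective p
  set e := Nat.card χ.range with hedef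
  set U : Module.End F V := ρ u with hUdef
  set U' : Module.End F V := ρ u⁻¹ with hU'def
  have hUU' : U * U' = 1 := by rw [hUdef, hU'def, ← map_mul, mul_inv_cancel, map_one]
  have hU'U : U' * U = 1 := by rw [hUdef, hU'def, ← map_mul, inv_mul_cancel, map_one]
  have hUq : U ^ p ^ k = 1 := by rw [hUdef, ← map_pow, ← hu, pow_orderOf_eq_one, map_one]
  have hnil : IsNilpotent (U - 1) := ⟨p ^ k, by
    rw [sub_pow_char_pow_of_commute (p := p) k (Commute.one_right U), hUq, one_pow, sub_self]⟩
  set d := Module.finrank F V with hd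
  have hXd : (U - 1) ^ d = 0 := by
    have h := LinearMap.aeval_self_charpoly (U - 1)
    rwa [IsNilpotent.charpoly_eq_X_pow_finrank hnil, map_pow, aeval_X] at h
  have hepos : 0 < e := Nat.card_pos
  -- the invariant element
  let A : Finset (ZMod (p ^ k))ˣ := Finset.univ.filter (· ∈ χ.range)
  have hAcard : A.card = e := by
    rw [hedef, Nat.card_eq_fintype_card]
    exact (Fintype.card_subtype _).symm
  let Φ : F[X] := ∏ a ∈ A, (X ^ (a : ZMod (p ^ k)).val - 1)
  let T : Module.End F V := aeval U Φ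
  let C : Subalgebra F (Module.End F V) := Algebra.adjoin F {U}
  letI : CommRing C := Algebra.adjoinCommRingOfComm F (fun a ha b hb => by
    rw [Set.mem_singleton_iff] at ha hb
    rw [ha, hb])
  let Uc : C := ⟨U, Algebra.subset_adjoin rfl⟩
  have hUcq : Uc ^ p ^ k = 1 := by
    refine Subtype.ext ?_
    simpa [Uc] using hUq
  have hT : ∀ g : ↥N, ρ (g : G) * T * ρ (g : G)⁻¹ = T := by
    intro g
    set b := χ g with hb
    let c : Module.End F V ≃ₐ[F] Module.End F V :=
      { toFun := fun x => ρ (g : G) * x * ρ (g : G)⁻¹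
        invFun := fun x => ρ (g : G)⁻¹ * x * ρ (g : G)
        left_inv := fun x => by
          simp only [← mul_assoc]
          rw [← map_mul, inv_mul_cancel, map_one, one_mul, mul_assoc, ← map_mul, inv_mul_cancel,
            map_one, mul_one]
        right_inv := fun x => by
          simp only [← mul_assoc]
          rw [← map_mul, mul_inv_cancel, map_one, one_mul, mul_assoc, ← map_mul, mul_inv_cancel,
            map_one, mul_one]
        map_mul' := fun x y => by
          simp only [mul_assoc]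
          rw [← mul_assoc (ρ (g : G)⁻¹) (ρ (g : G)), ← map_mul, inv_mul_cancel, map_one, one_mul]
        map_add' := fun x y => by simp only [mul_add, add_mul]
        commutes' := fun r => by
          rw [← Algebra.commutes, mul_assoc, ← map_mul, mul_inv_cancel, map_one, mul_one] }
    have hcU : c U = U ^ (b : ZMod (p ^ k)).val := by
      change ρ (g : G) * ρ u * ρ (g : G)⁻¹ = _
      rw [← map_mul, ← map_mul, hχ g, map_pow]
    have hcomp : aeval Uc Φ = aeval (Uc ^ (b : ZMod (p ^ k)).val) Φ := by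
      simp only [Φ, map_prod, map_sub, map_pow, aeval_X, map_one]
      symm
      refine Finset.prod_nbij' (fun a => b * a) (fun a => b⁻¹ * a) ?_ ?_ ?_ ?_ ?_
      · intro a ha
        simp only [A, Finset.mem_filter, Finset.mem_univ, true_and] at ha ⊢
        exact mul_mem ⟨g, rfl⟩ ha
      · intro a ha
        simp only [A, Finset.mem_filter, Finset.mem_univ, true_and] at ha ⊢
        exact mul_mem (inv_mem ⟨g, rfl⟩) ha
      · intro a _; simp
      · intro a _; simp
      · intro a _
        rw [← pow_mul, Units.val_mul, ZMod.val_mul]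
        rw [← pow_eq_pow_mod _ hUcq]
    have h1 : c T = aeval (U ^ (b : ZMod (p ^ k)).val) Φ := by
      rw [← hcU]
      exact (aeval_algHom_apply c.toAlgHom U Φ).symm
    have h2 := congrArg (Subalgebra.val C) hcomp
    rw [← aeval_algHom_apply, ← aeval_algHom_apply, map_pow] at h2
    exact h1.trans h2.symm
  obtain ⟨R, hR, hTR⟩ : ∃ R : Module.End F V, IsUnit R ∧ T = (U - 1) ^ e * R := by
    refine ⟨aeval U (∏ a ∈ A, ∑ i ∈ Finset.range (a : ZMod (p ^ k)).val, (X : F[X]) ^ i), ?_, ?_⟩
    · set Q : F[X] := ∏ a ∈ A, ∑ i ∈ Finset.range (a : ZMod (p ^ k)).val, (X : F[X]) ^ i with hQ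
      have h1 : Q.eval 1 ≠ 0 := by
        rw [hQ, eval_prod, Finset.prod_ne_zero_iff]
        intro a _
        rw [eval_finsetSum]
        simp only [eval_pow, eval_X, one_pow, Finset.sum_const, Finset.card_range, nsmul_eq_mul,
          mul_one]
        intro h
        have hdvd := (CharP.cast_eq_zero_iff F p _).1 h
        have hcop := ZMod.val_coe_unit_coprime a
        rw [Nat.coprime_pow_right_iff hk] at hcop
        exact ((Fact.out : p.Prime).coprime_iff_not_dvd.1 hcop.symm) hdvd
      obtain ⟨Q', hQ'⟩ := X_sub_C_dvd_sub_C_eval (a := (1 : F)) (p := Q)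
      have h2 : aeval U Q = algebraMap F _ (Q.eval 1) + (U - 1) * aeval U Q' := by
        have := congrArg (aeval U) hQ'
        simp only [map_sub, aeval_C, map_mul, aeval_X, map_one] at this
        rw [← this]; abel
      rw [h2]
      refine IsNilpotent.isUnit_add_left_of_commute ?_ ((isUnit_iff_ne_zero.2 h1).map _) ?_
      · refine Commute.isNilpotent_mul_right ?_ hnil
        have hc := (Commute.all (X - Polynomial.C (1 : F)) Q').map (aeval U)
        simpa using hc
      · exact Algebra.commute_algebraMap_right _ _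
    · have hfac : Φ = (X - 1) ^ e * ∏ a ∈ A, ∑ i ∈ Finset.range (a : ZMod (p ^ k)).val, X ^ i := by
        rw [← hAcard, ← Finset.prod_const, ← Finset.prod_mul_distrib]
        exact Finset.prod_congr rfl fun a _ => (mul_geom_sum X _).symm
      change aeval U Φ = _
      rw [hfac, map_mul, map_pow, map_sub, aeval_X, map_one]
  -- the trace from N to G
  let f : G ⧸ N → Module.End F V := fun x => Quotient.liftOn' x (fun g => ρ g * T * ρ g⁻¹) (by
    intro a b hab
    rw [QuotientGroup.leftRel_apply] at hab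
    change ρ a * T * ρ a⁻¹ = ρ b * T * ρ b⁻¹
    have h := hT ⟨a⁻¹ * b, hab⟩
    conv_lhs => rw [← h]
    simp only [map_mul, mul_inv_rev, inv_inv, mul_assoc]
    rw [← mul_assoc (ρ a) (ρ a⁻¹), ← map_mul, mul_inv_cancel, map_one, one_mul,
      mul_one])
  have hf : ∀ (h : G) (x : G ⧸ N), f (h • x) = ρ h * f x * ρ h⁻¹ := by
    intro h x
    induction x using QuotientGroup.induction_on with
    | H g =>
      change ρ (h * g) * T * ρ (h * g)⁻¹ = ρ h * (ρ g * T * ρ g⁻¹) * ρ h⁻¹
      simp only [map_mul, mul_inv_rev, mul_assoc]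
  letI : Fintype (G ⧸ N) := Fintype.ofFinite _
  let S : Module.End F V := ∑ x, f x
  have hS : ∀ g, ρ g * S = S * ρ g := by
    intro g
    have : ρ g * S * ρ g⁻¹ = S := by
      simp only [S, Finset.mul_sum, Finset.sum_mul, ← hf]
      exact Equiv.sum_comp (MulAction.toPerm g) f
    calc ρ g * S = ρ g * S * (ρ g⁻¹ * ρ g) := by rw [← map_mul, inv_mul_cancel, map_one, mul_one]
      _ = S * ρ g := by rw [← mul_assoc, this]
  -- decomposition of the trace
  let x₀ : G ⧸ N := ((1 : G) : G ⧸ N)
  have hfix : ∀ h : ↥(Subgroup.zpowers u), h • x₀ = x₀ := by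
    intro h
    change (((h : G) * 1 : G) : G ⧸ N) = ((1 : G) : G ⧸ N)
    rw [QuotientGroup.eq]
    simpa using inv_mem ((Subgroup.zpowers_le.2 huN) h.2)
  have hfree' : ∀ (x : G ⧸ N) (i : ℕ), i < p ^ k → 0 < i → u ^ i • x = x → x = x₀ := by
    intro x i hi hi0
    induction x using QuotientGroup.induction_on with
    | H g =>
      intro hx
      change ((u ^ i * g : G) : G ⧸ N) = _ at hx
      rw [QuotientGroup.eq] at hx
      have hg : g⁻¹ * u ^ i * g ∈ N := by
        have := inv_mem hx
        simpa [mul_assoc] using this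
      change ((g : G) : G ⧸ N) = ((1 : G) : G ⧸ N)
      rw [QuotientGroup.eq]
      simpa using inv_mem (hfree g i hi hi0 hg)
  let Rs : Finset (G ⧸ N) := Finset.univ.filter fun x => x ≠ x₀ ∧
    (Quotient.mk (MulAction.orbitRel ↥(Subgroup.zpowers u) (G ⧸ N)) x).out = x
  have hout : ∀ x : G ⧸ N, ∃ h : ↥(Subgroup.zpowers u),
      h • x = (Quotient.mk (MulAction.orbitRel ↥(Subgroup.zpowers u) (G ⧸ N)) x).out := by
    intro x
    have h := Quotient.exact (Quotient.out_eq
      (Quotient.mk (MulAction.orbitRel ↥(Subgroup.zpowers u) (G ⧸ N)) x))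
    change _ ∈ MulAction.orbit _ x at h
    exact h
  have hdec : ∑ x ∈ Finset.univ.erase x₀, f x =
      ∑ i ∈ Finset.range (p ^ k), U ^ i * (∑ r ∈ Rs, f r) * U' ^ i := by
    have : ∀ i, U ^ i * (∑ r ∈ Rs, f r) * U' ^ i = ∑ r ∈ Rs, f (u ^ i • r) := by
      intro i
      rw [Finset.mul_sum, Finset.sum_mul]
      refine Finset.sum_congr rfl fun r _ => ?_
      rw [hf, hUdef, hU'def, map_pow, ← inv_pow, map_pow]
    simp only [this]
    rw [← Finset.sum_product']
    symm
    refine Finset.sum_bij (fun z _ => u ^ z.1 • z.2) ?_ ?_ ?_ (fun _ _ => rfl)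
    · rintro ⟨i, r⟩ hz
      simp only [Finset.mem_product, Rs, Finset.mem_filter] at hz
      refine Finset.mem_erase.2 ⟨fun h => hz.2.2.1 ?_, Finset.mem_univ _⟩
      have h' := hfix ⟨u ^ i, pow_mem (Subgroup.mem_zpowers u) i⟩
      change u ^ i • x₀ = x₀ at h'
      exact MulAction.injective (u ^ i) (h.trans h'.symm)
    · rintro ⟨i, r⟩ hz ⟨j, s⟩ hz' h
      simp only [Finset.mem_product, Rs, Finset.mem_filter, Finset.mem_range] at hz hz' h
      have hrs : r = s := by
        rw [← hz.2.2.2, ← hz'.2.2.2]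
        refine congrArg Quotient.out (Quotient.sound ?_)
        change r ∈ MulAction.orbit ↥(Subgroup.zpowers u) s
        refine ⟨⟨(u ^ i)⁻¹ * u ^ j, mul_mem (inv_mem (pow_mem (Subgroup.mem_zpowers u) i))
          (pow_mem (Subgroup.mem_zpowers u) j)⟩, ?_⟩
        change ((u ^ i)⁻¹ * u ^ j) • s = r
        rw [mul_smul, ← h, inv_smul_smul]
      subst hrs
      have hij : i = j := by
        by_contra hne
        rcases Nat.lt_or_gt_of_ne hne with hlt | hlt
        · refine hz.2.2.1 (hfree' r (j - i) (by omega) (by omega) ?_)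
          apply MulAction.injective (u ^ i)
          change u ^ i • u ^ (j - i) • r = u ^ i • r
          rw [← mul_smul, ← pow_add, Nat.add_sub_cancel' hlt.le, h]
        · refine hz.2.2.1 (hfree' r (i - j) (by omega) (by omega) ?_)
          apply MulAction.injective (u ^ j)
          change u ^ j • u ^ (i - j) • r = u ^ j • r
          rw [← mul_smul, ← pow_add, Nat.add_sub_cancel' hlt.le, h]
      rw [hij]
    · intro x hx
      obtain ⟨h, hh⟩ := hout x
      set r := (Quotient.mk (MulAction.orbitRel ↥(Subgroup.zpowers u) (G ⧸ N)) x).out with hr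
      have hxr : h⁻¹ • r = x := by rw [← hh, inv_smul_smul]
      have hrne : r ≠ x₀ := by
        intro hrx
        rw [hrx, hfix] at hxr
        exact (Finset.mem_erase.1 hx).1 hxr.symm
      obtain ⟨i, hi, hi'⟩ : ∃ i < p ^ k, u ^ i = ((h⁻¹ : ↥(Subgroup.zpowers u)) : G) := by
        have hm := (h⁻¹).2
        rw [mem_zpowers_iff_mem_range_orderOf, Finset.mem_image] at hm
        obtain ⟨i, hi, hi'⟩ := hm
        exact ⟨i, hu ▸ Finset.mem_range.1 hi, hi'⟩
      refine ⟨(i, r), ?_, ?_⟩
      · simp only [Finset.mem_product, Finset.mem_range, Rs, Finset.mem_filter]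
        refine ⟨hi, Finset.mem_univ _, hrne, ?_⟩
        rw [hr, Quotient.out_eq]
      · change u ^ i • r = x
        rw [hi']
        exact hxr
  have hS' : S = T + ∑ x ∈ Finset.univ.erase x₀, f x := by
    have hfx : f x₀ = T := by
      change ρ 1 * T * ρ 1⁻¹ = T
      simp
    rw [← hfx]
    exact (Finset.add_sum_erase _ _ (Finset.mem_univ x₀)).symm
  obtain ⟨W, hW⟩ := dvd_trace (F := F) (p := p) k U U' (∑ r ∈ Rs, f r) hUU' hU'U d hXd
  rw [← hdec] at hW
  -- conclusion
  by_contra hlt
  rw [not_le] at hlt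
  have hsplit : p ^ k - d = e + (p ^ k - d - e) := by omega
  rw [hsplit, pow_add, mul_assoc] at hW
  have hSX : S = (U - 1) ^ e * (R + (U - 1) ^ (p ^ k - d - e) * W) := by
    rw [hS', hTR, hW, mul_add]
  rcases eq_zero_or_isUnit hirr S hS with h0 | hu'
  · rw [hSX, mul_add, ← mul_assoc, ← pow_add] at h0
    obtain ⟨R', rfl⟩ := hR
    set m := p ^ k - d - e with hm
    have hstep : ∃ Z, (U - 1) ^ e = (U - 1) ^ (e + 1) * Z := by
      refine ⟨-((U - 1) ^ (m - 1) * W * (↑R'⁻¹ : Module.End F V)), ?_⟩
      have h1 : (U - 1) ^ e * (R' : Module.End F V) = -((U - 1) ^ (e + m) * W) :=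
        eq_neg_of_add_eq_zero_left h0
      calc (U - 1) ^ e = (U - 1) ^ e * (R' : Module.End F V) * (↑R'⁻¹ : Module.End F V) := by
            rw [Units.mul_inv_cancel_right]
        _ = _ := by
            rw [h1, neg_mul, mul_neg, ← mul_assoc, ← mul_assoc, ← pow_add,
              show e + 1 + (m - 1) = e + m by omega]
    obtain ⟨Z, hZ⟩ := hstep
    have hall : ∀ j, (U - 1) ^ e = (U - 1) ^ (e + j) * Z ^ j := by
      intro j
      induction j with
      | zero => simp
      | succ j ih =>
        conv_lhs => rw [hZ, pow_succ' _ e, mul_assoc, ih]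
        rw [← mul_assoc, ← mul_assoc, ← pow_succ', mul_assoc, ← pow_succ, ← add_assoc]
    apply he
    rw [hall d, pow_eq_zero_of_le (Nat.le_add_left d e) hXd, zero_mul]
  · rw [hSX, LinearMap.isUnit_iff_range_eq_top, Module.End.mul_eq_comp] at hu'
    have hsurj : IsUnit ((U - 1) ^ e) := by
      rw [LinearMap.isUnit_iff_range_eq_top, eq_top_iff, ← hu']
      exact LinearMap.range_comp_le_range _ _
    exact (hnil.pow_of_pos hepos.ne').not_isUnit hsurj

/-- Let p be a prime and G a finite group whose Sylow p-subgroup P is cyclic of order p^n with n ≥ 2 and meets every other Sylow p-subgroup trivially. Then every faithful irreducible representation of G on a finite-dimensional space over a finite field of characteristic p has dimension at least p^n − (p − 1). -/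
theorem result {G : Type*} [Group G] [Finite G] (p : ℕ) [Fact p.Prime] (P : Sylow p G) (hcyc : IsCyclic P) (n : ℕ) (hn : 2 ≤ n) (hPn : Nat.card P = p ^ n) (hTI : ∀ Q : Sylow p G, Q ≠ P → (P : Subgroup G) ⊓ (Q : Subgroup G) = ⊥) (F : Type*) [Field F] [Finite F] [CharP F p] (V : Type*) [AddCommGroup V] [Module F V] [FiniteDimensional F V] (ρ : Representation F G V) (hfaith : Function.Injective ρ) (hirr : ρ.IsIrreducible) : p ^ n - (p - 1) ≤ Module.finrank F V := by
  classical
  have hp : p.Prime := Fact.out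
  set N : Subgroup G := Subgroup.normalizer ((P : Subgroup G) : Set G) with hN
  obtain ⟨u, hu⟩ := (Subgroup.isCyclic_iff_exists_zpowers_eq_top (P : Subgroup G)).1 hcyc
  have hord : orderOf u = p ^ n := by rw [← Nat.card_zpowers, hu, hPn]
  haveI : NeZero (p ^ n) := ⟨pow_ne_zero _ hp.ne_zero⟩
  have huP : u ∈ (P : Subgroup G) := hu ▸ Subgroup.mem_zpowers u
  have huN : u ∈ N := Subgroup.le_normalizer huP
  have hexp : ∀ g : ↥N, ∃ a : ℕ, (g : G) * u * (g : G)⁻¹ = u ^ a := by
    intro g
    have h : (g : G) * u * (g : G)⁻¹ ∈ Subgroup.zpowers u := by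
      rw [hu]
      exact (Subgroup.mem_normalizer_iff.1 g.2 u).1 huP
    rw [mem_zpowers_iff_mem_range_orderOf, Finset.mem_image] at h
    obtain ⟨a, _, ha⟩ := h
    exact ⟨a, ha.symm⟩
  choose a ha using hexp
  have hcast : ∀ i j : ℕ, ((i : ZMod (p ^ n)) = (j : ZMod (p ^ n))) ↔ u ^ i = u ^ j := by
    intro i j
    rw [ZMod.natCast_eq_natCast_iff, pow_eq_pow_iff_modEq, hord]
  let χ₀ : ↥N →* ZMod (p ^ n) :=
    { toFun := fun g => (a g : ZMod (p ^ n))
      map_one' := by
        rw [← Nat.cast_one, hcast, ← ha, pow_one]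
        simp
      map_mul' := fun g h => by
        rw [← Nat.cast_mul, hcast, ← ha, pow_mul, ← ha g]
        rw [show ((g * h : ↥N) : G) * u * ((g * h : ↥N) : G)⁻¹
            = (g : G) * ((h : G) * u * (h : G)⁻¹) * (g : G)⁻¹ by
          simp [mul_assoc], ha h, conj_pow] }
  let χ : ↥N →* (ZMod (p ^ n))ˣ := χ₀.toHomUnits
  have hχ : ∀ g : ↥N,
      (g : G) * u * (g : G)⁻¹ = u ^ ((χ g : (ZMod (p ^ n))ˣ) : ZMod (p ^ n)).val := by
    intro g
    rw [ha g, ← hcast, ZMod.natCast_zmod_val]
    exact (MonoidHom.coe_toHomUnits χ₀ g).symm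
  have hker : (P : Subgroup G).subgroupOf N ≤ χ.ker := by
    intro g hg
    rw [Subgroup.mem_subgroupOf, ← hu] at hg
    obtain ⟨i, hi⟩ := hg
    rw [MonoidHom.mem_ker, Units.ext_iff]
    change χ₀ g = 1
    change (a g : ZMod (p ^ n)) = 1
    rw [← Nat.cast_one, hcast, ← ha, pow_one, ← hi]
    exact mul_inv_eq_iff_eq_mul.2 ((Commute.refl u).zpow_left i).eq
  have he : Nat.card χ.range ≤ p - 1 := by
    have h1 : Nat.card χ.range ∣ (P : Subgroup G).relIndex N := by
      rw [Subgroup.relIndex, ← Subgroup.index_ker]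
      exact Subgroup.index_dvd_of_le hker
    have h2 : ¬ p ∣ (P : Subgroup G).relIndex N := fun hdvd =>
      P.not_dvd_index (dvd_trans hdvd (Subgroup.relIndex_dvd_index_of_le Subgroup.le_normalizer))
    have h3 : Nat.card χ.range ∣ p ^ (n - 1) * (p - 1) := by
      have := Subgroup.card_subgroup_dvd_card χ.range
      rwa [Nat.card_eq_fintype_card (α := (ZMod (p ^ n))ˣ), ZMod.card_units_eq_totient,
        Nat.totient_prime_pow hp (by omega)] at this
    have hcop : Nat.Coprime (Nat.card χ.range) (p ^ (n - 1)) :=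
      ((hp.coprime_iff_not_dvd.2 fun h => h2 (dvd_trans h h1)).symm).pow_right _
    exact Nat.le_of_dvd (by have := hp.two_le; omega) (hcop.dvd_of_dvd_mul_left h3)
  haveI : Nontrivial V := by
    by_contra h
    rw [not_nontrivial_iff_subsingleton] at h
    have h1 : u = 1 := hfaith (Subsingleton.elim _ _)
    rw [h1, orderOf_one] at hord
    have := Nat.one_lt_pow (show n ≠ 0 by omega) hp.one_lt
    omega
  haveI : CharP (Module.End F V) p := charP_of_injective_algebraMap (algebraMap F _).injective p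
  have hne : (ρ u - 1) ^ Nat.card χ.range ≠ 0 := by
    intro h0
    have h1 : (ρ u - 1) ^ p ^ 1 = 0 :=
      pow_eq_zero_of_le (he.trans (by rw [pow_one]; omega)) h0
    rw [sub_pow_char_pow_of_commute (p := p) 1 (Commute.one_right _), one_pow, sub_eq_zero, pow_one,
      ← map_pow] at h1
    have h2 : u ^ p = 1 := hfaith (h1.trans (map_one ρ).symm)
    have h3 := orderOf_le_of_pow_eq_one hp.pos h2
    rw [hord] at h3
    have h4 : p ^ 2 ≤ p ^ n := Nat.pow_le_pow_right hp.pos hn
    have := hp.two_le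
    nlinarith
  have hfree : ∀ (g : G) (i : ℕ), i < p ^ n → 0 < i → g⁻¹ * u ^ i * g ∈ N → g ∈ N := by
    intro g i hi hi0 hg
    have hmem : g⁻¹ * u ^ i * g ∈ (P : Subgroup G) := by
      have hle : Subgroup.zpowers (g⁻¹ * u ^ i * g) ≤ N := Subgroup.zpowers_le.2 hg
      have hp' : IsPGroup p ↥(Subgroup.zpowers (g⁻¹ * u ^ i * g)) := by
        refine IsPGroup.of_card_dvd_pow (n := n) ?_
        rw [Nat.card_zpowers, orderOf_dvd_iff_pow_eq_one, show g⁻¹ * u ^ i * g
          = g⁻¹ * u ^ i * g⁻¹⁻¹ by rw [inv_inv], conj_pow, ← pow_mul, mul_comm i, pow_mul,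
          ← hord, pow_orderOf_eq_one]
        simp [one_pow]
      have h := hp'.inf_normalizer_sylow P
      exact ((h.le) ⟨Subgroup.mem_zpowers _, hle (Subgroup.mem_zpowers _)⟩).2
    have hmem' : u ^ i ∈ ((g • P : Sylow p G) : Subgroup G) := by
      rw [Sylow.coe_subgroup_smul, Subgroup.mem_pointwise_smul_iff_inv_smul_mem]
      have : (MulAut.conj g)⁻¹ • (u ^ i) = g⁻¹ * u ^ i * g := by
        rw [← map_inv, MulAut.smul_def, MulAut.conj_apply, inv_inv]
      rw [this]
      exact hmem
    by_contra hgN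
    have hQ : g • P ≠ P := fun h => hgN (Sylow.smul_eq_iff_mem_normalizer.1 h)
    have h1 : u ^ i ∈ (P : Subgroup G) ⊓ ((g • P : Sylow p G) : Subgroup G) :=
      ⟨pow_mem huP i, hmem'⟩
    rw [hTI _ hQ, Subgroup.mem_bot] at h1
    exact pow_ne_one_of_lt_orderOf (by omega) (by omega) h1
  have := bound (F := F) n u hord N hfree huN χ hχ ρ hirr (by omega) hne
  omega

end Cfsg.Agent.S4699
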