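import Cfsg.Statements.S4700
import Cfsg.Agent.Lib.Perm.FewSylowSmall
import Cfsg.Agent.Lib.Core.Cores
import Cfsg.Agent.Lib.Recog.PrimeGraph

set_option autoImplicit false
open Cfsg

namespace Cfsg.Agent.S4700

/-- Let G be a finite perfect group and p a prime such that a Sylow p-subgroup of G has order p, and write the number of Sylow p-subgroups as 1 + np. Let H = O_p'(G). Then either p > 3 and G/H is isomorphic to PSL(2, p); or p = 2^m + 1 > 3 and G/H is isomorphic to SL(2, 2^m); or n = (hup + u^2 + u + h)/(u + 1) for some positive integers h and u. -/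
theorem result {G : Type*} [Group G] [Finite G] (hperf : commutator G = ⊤) (p : ℕ) [Fact p.Prime] (P : Sylow p G) (hP : Nat.card P = p) (n : ℕ) (hn : Nat.card (Sylow p G) = 1 + n * p) : (∃ (F : Type) (_ : Field F) (_ : Fintype F), Fintype.card F = p ∧ 3 < p ∧ Nonempty (G ⧸ Cfsg.pPrimeCore p G ≃* Matrix.ProjectiveSpecialLinearGroup (Fin 2) F)) ∨ (∃ (m : ℕ) (F : Type) (_ : Field F) (_ : Fintype F), Fintype.card F = 2 ^ m ∧ p = 2 ^ m + 1 ∧ 3 < p ∧ Nonempty (G ⧸ Cfsg.pPrimeCore p G ≃* Matrix.SpecialLinearGroup (Fin 2) F)) ∨ (∃ h u : ℕ, 0 < h ∧ 0 < u ∧ n * (u + 1) = h * u * p + u ^ 2 + u + h) := by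
  have hp : p.Prime := Fact.out
  by_cases hg : CfsgLib.Perm.FewSylow.Good p n
  · have hHp : ¬ p ∣ Nat.card (Cfsg.pPrimeCore p G) :=
      hp.coprime_iff_not_dvd.1 (CfsgLib.Core.coprime_card_pPrimeCore p G).symm
    have hmax : ∀ K : Subgroup G, K.Normal → ¬ p ∣ Nat.card K → K ≤ Cfsg.pPrimeCore p G :=
      fun K hK hKp => by haveI := hK; exact CfsgLib.Core.le_pPrimeCore (hp.coprime_iff_not_dvd.2 hKp).symm
    rcases CfsgLib.Perm.FewSylow.brauer_quotient hperf P hP (Cfsg.pPrimeCore p G) hHp hmax hn hg with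
      ⟨F, _, _, hF, h3, hf⟩ | ⟨m, F, _, _, hF, hm, h3, ⟨f⟩⟩
    · exact Or.inl ⟨F, inferInstance, inferInstance, hF, h3, hf⟩
    · haveI : Fact (Nat.Prime 2) := ⟨Nat.prime_two⟩
      haveI : CharP F 2 := charP_of_card_eq_prime_pow (f := m) hF
      obtain ⟨g⟩ := CfsgLib.Recog.AffineTwo.psl_equiv_sl F
      exact Or.inr (Or.inl ⟨m, F, inferInstance, inferInstance, hF, hm, h3, ⟨f.trans g⟩⟩)
  · simp only [CfsgLib.Perm.FewSylow.Good, ne_eq, not_forall, not_not] at hg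
    obtain ⟨h, u, hh, hu, heq⟩ := hg
    exact Or.inr (Or.inr ⟨h, u, hh, hu, heq⟩)

end Cfsg.Agent.S4700
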