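import Cfsg.Statements.S4701
import Cfsg.Agent.Lib.Perm.FewSylowSmall
import Cfsg.Agent.Lib.Classical.Dickson.MaxExist
import Cfsg.Agent.Lib.Recog.PrimeGraph

set_option autoImplicit false
open Cfsg

namespace Cfsg.Agent.S4701

/-- Let G be a finite perfect group and p a prime dividing the order of G with p^3 larger than the order of G. Suppose a Sylow p-subgroup of G is not normal and G has no normal subgroup of order 2. Then p > 3 and G is isomorphic to PSL(2, p), or to SL(2, 2^m) with p = 2^m + 1. -/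
theorem result {G : Type*} [Group G] [Finite G] (hperf : commutator G = ⊤) (p : ℕ) [Fact p.Prime] (hdvd : p ∣ Nat.card G) (hbig : Nat.card G < p ^ 3) (P : Sylow p G) (hP : ¬ (P : Subgroup G).Normal) (h2 : ∀ N : Subgroup G, N.Normal → Nat.card N ≠ 2) : (∃ (F : Type) (_ : Field F) (_ : Fintype F), Fintype.card F = p ∧ 3 < p ∧ Nonempty (G ≃* Matrix.ProjectiveSpecialLinearGroup (Fin 2) F)) ∨ (∃ (m : ℕ) (F : Type) (_ : Field F) (_ : Fintype F), Fintype.card F = 2 ^ m ∧ p = 2 ^ m + 1 ∧ 3 < p ∧ Nonempty (G ≃* Matrix.SpecialLinearGroup (Fin 2) F)) := by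
  have hp : p.Prime := Fact.out
  obtain ⟨H, hHn, -, hmax, hiso⟩ := CfsgLib.Perm.FewSylow.exists_quotient hdvd hbig hperf P hP
  haveI := hHn
  have hcard := Subgroup.card_eq_card_quotient_mul_card_subgroup H
  have hbot : Nat.card H ≤ 2 → H = ⊥ := fun h => by
    have h0 : 0 < Nat.card H := Nat.card_pos
    have h1 := h2 H hHn
    exact Subgroup.eq_bot_of_card_le H (by omega)
  rcases hiso with ⟨F, _, _, hF, h3, ⟨f⟩⟩ | ⟨m, F, _, _, hF, hm, h3, ⟨f⟩⟩
  · have hc := CfsgLib.Classical.Dickson.card_psl_mul_two (F := F) hF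
    rw [Nat.card_congr f.toEquiv] at hcard
    have hH : H = ⊥ := hbot <| by
      by_contra hlt
      have h4 : p * (p ^ 2 - 1) * 3 ≤ 2 * Nat.card G := by
        rw [hcard, ← mul_assoc]
        exact Nat.mul_le_mul hc (by omega)
      have h5' : 5 ≤ p := by
        rcases eq_or_ne p 4 with rfl | h
        · exact absurd hp (by decide)
        · omega
      have h5 : 25 ≤ p ^ 2 := by nlinarith
      obtain ⟨s, hs⟩ : ∃ s, p ^ 2 = s + 1 := ⟨p ^ 2 - 1, by omega⟩
      rw [hs, Nat.add_sub_cancel] at h4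
      have h6 : p ^ 3 = p * (s + 1) := by rw [← hs]; ring
      nlinarith
    subst hH
    exact Or.inl ⟨F, inferInstance, inferInstance, hF, h3, ⟨QuotientGroup.quotientBot.symm.trans f⟩⟩
  · have hc := CfsgLib.Classical.Dickson.gcd_mul_card_psl (F := F) hF
    rw [Nat.card_congr f.toEquiv] at hcard
    have hm0 : m ≠ 0 := by rintro rfl; simp at hm; omega
    have hg : Nat.gcd 2 (2 ^ m - 1) = 1 := by
      refine (Nat.Prime.coprime_iff_not_dvd Nat.prime_two).2 fun h => ?_
      have h1 : 2 ∣ 2 ^ m := dvd_pow_self 2 hm0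
      have h2 : 0 < 2 ^ m := Nat.two_pow_pos m
      omega
    rw [hg, one_mul] at hc
    have hH : H = ⊥ := hbot <| by
      by_contra hlt
      have h4 : 2 ^ m * ((2 ^ m) ^ 2 - 1) * 3 ≤ Nat.card G := by
        rw [hcard]
        exact Nat.mul_le_mul hc.ge (by omega)
      generalize hq : 2 ^ m = q at *
      subst hm
      have hq3 : 3 ≤ q := by omega
      obtain ⟨s, rfl⟩ : ∃ s, q = s + 1 := ⟨q - 1, by omega⟩
      rw [show (s + 1) ^ 2 - 1 = s * (s + 2) by
        rw [show (s + 1) ^ 2 = s * (s + 2) + 1 by ring]; omega] at h4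
      nlinarith
    subst hH
    haveI : Fact (Nat.Prime 2) := ⟨Nat.prime_two⟩
    haveI : CharP F 2 := charP_of_card_eq_prime_pow (f := m) hF
    obtain ⟨g⟩ := CfsgLib.Recog.AffineTwo.psl_equiv_sl F
    exact Or.inr ⟨m, F, inferInstance, inferInstance, hF, hm, h3,
      ⟨(QuotientGroup.quotientBot.symm.trans f).trans g⟩⟩

end Cfsg.Agent.S4701
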