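import Cfsg.Statements.S4704
import Cfsg.Agent.Lib.Char.FeitSmall.Main

set_option autoImplicit false
open Cfsg

namespace Cfsg.Agent.S4704

/-- Let G be a finite group with centre Z, p > 7 a prime, and suppose a Sylow p-subgroup of G has order p and is not normal. Let ζ be a faithful irreducible character of G and t the number of conjugacy classes of G consisting of elements of order p. Then one of the following holds: G/Z is isomorphic to PSL(2, p), ζ has degree (p + 1)/2 or (p − 1)/2 and t = 2; or ζ has degree at least p − 1; or ζ has degree at least p + 3/2 − √(p + 5/4) and p ≤ t^2 − 3t + 1. -/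
theorem result {G : Type*} [Group G] [Finite G] (p : ℕ) [Fact p.Prime] (hp : 7 < p) (P : Sylow p G) (hP : Nat.card P = p) (hnn : ¬ (P : Subgroup G).Normal) (ζ : G → ℂ) (hζ : Cfsg.IsIrrCharacter G ζ) (hfaith : ∀ g : G, ζ g = ζ 1 → g = 1) (t : ℕ) (ht : Nat.card {c : ConjClasses G // ∃ g : G, ConjClasses.mk g = c ∧ orderOf g = p} = t) : ((∃ (F : Type) (_ : Field F) (_ : Fintype F), Fintype.card F = p ∧ Nonempty (G ⧸ Subgroup.center G ≃* Matrix.ProjectiveSpecialLinearGroup (Fin 2) F)) ∧ (2 * Cfsg.charDegree ζ = p + 1 ∨ 2 * Cfsg.charDegree ζ = p - 1) ∧ t = 2) ∨ p - 1 ≤ Cfsg.charDegree ζ ∨ ((p : ℝ) + 3 / 2 - Real.sqrt ((p : ℝ) + 5 / 4) ≤ (Cfsg.charDegree ζ : ℝ) ∧ (p : ℤ) ≤ (t : ℤ) ^ 2 - 3 * t + 1) := by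
  classical
  haveI := Fintype.ofFinite G
  have hpp : p.Prime := Fact.out
  rcases Nat.lt_or_ge (Cfsg.charDegree ζ + 1) p with hd | hd
  swap
  · exact Or.inr (Or.inl (by omega))
  rcases CfsgLib.Char.FeitSmall.degree_cases (P : Subgroup G) hP P.not_dvd_index hp hnn ⟨ζ, hζ⟩ hfaith hd with
    ⟨hiso, hdeg, hcl⟩ | ⟨e, s, het, -, hde, hes, hcl, -⟩
  · refine Or.inl ⟨⟨ZMod p, inferInstance, inferInstance, ZMod.card p, hiso⟩, ?_, ht.symm.trans hcl⟩
    rcases hdeg with h | h
    · exact Or.inr (by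
        have h' : 2 * Cfsg.charDegree ζ + 1 = p := h
        omega)
    · exact Or.inl h
  · obtain rfl : t = s := ht.symm.trans hcl
    have hde' : Cfsg.charDegree ζ + e = p := hde
    have hp' : p = e * t + 1 := by have := hpp.one_le; omega
    have hd' : ((Cfsg.charDegree ζ : ℕ) : ℝ) = (p : ℝ) - e := by
      rw [eq_sub_iff_add_eq]
      exact_mod_cast hde'
    have hpR : (p : ℝ) = e * t + 1 := by exact_mod_cast hp'
    have hesR : (e : ℝ) + 3 ≤ t := by exact_mod_cast hes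
    have hsq : ((e : ℝ) + 3 / 2) ≤ Real.sqrt ((p : ℝ) + 5 / 4) := by
      refine Real.le_sqrt_of_sq_le ?_
      nlinarith [mul_le_mul_of_nonneg_left hesR (Nat.cast_nonneg e)]
    refine Or.inr (Or.inr ⟨by linarith, ?_⟩)
    have hpZ : (p : ℤ) = e * t + 1 := by exact_mod_cast hp'
    have hesZ : (e : ℤ) + 3 ≤ t := by exact_mod_cast hes
    nlinarith [mul_le_mul_of_nonneg_right hesZ (Int.natCast_nonneg t)]

end Cfsg.Agent.S4704
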