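import Cfsg.Statements.S4708
import Cfsg.Agent.Lib.Blocks.Covering
import Cfsg.Agent.Lib.Blocks.Kernel
import Cfsg.Agent.Lib.Blocks.Principal
import Cfsg.Agent.Lib.CharAction.RegBlock
import Cfsg.Agent.Lib.Char.Induced
-- import your own Cfsg.Agent.* helpers here

set_option autoImplicit false
open Cfsg CfsgLib.Blocks
open scoped ComplexConjugate

namespace Cfsg.Agent.S4708

/-- Let p be a prime, M a maximal ideal of the algebraic integers containing p, G a finite group and H a normal subgroup. Write λ(X) for the sum of the squares of the degrees of the irreducible characters in the principal p-block of a group X. Then λ(H) ≤ λ(G) ≤ [G : H]·λ(H). -/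
theorem result {G : Type*} [Group G] [Finite G] (p : ℕ) [Fact p.Prime] (M : Ideal Cfsg.AlgInt) (hM : Cfsg.IsPModular p M) (H : Subgroup G) [H.Normal] : (∑ᶠ θ ∈ Cfsg.principalBlock M H, Cfsg.charDegree (θ : H → ℂ) ^ 2) ≤ (∑ᶠ χ ∈ Cfsg.principalBlock M G, Cfsg.charDegree (χ : G → ℂ) ^ 2) ∧ (∑ᶠ χ ∈ Cfsg.principalBlock M G, Cfsg.charDegree (χ : G → ℂ) ^ 2) ≤ H.index * ∑ᶠ θ ∈ Cfsg.principalBlock M H, Cfsg.charDegree (θ : H → ℂ) ^ 2 := by
  classical
  have := hM.2.1.isPrime
  have := Fintype.ofFinite G
  have := Fintype.ofFinite H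
  have := Fintype.ofFinite (IrrCharacter G)
  have := Fintype.ofFinite (IrrCharacter H)
  have hp : p.Prime := Fact.out
  have hH0 := isPBlock_principalBlock (G := H) (M := M)
  have hG0 := isPBlock_principalBlock (G := G) (M := M)
  have hm : ∀ (χ : IrrCharacter G) (θ : IrrCharacter H), ∃ m : ℕ,
      classInner (fun h : H => (χ : G → ℂ) h) (θ : H → ℂ) = (m : ℂ) := fun χ θ =>
    CfsgLib.Char.IsChar.classInner_eq_natCast
      (CfsgLib.Char.IsChar.restrict H (CfsgLib.Char.IsIrr.isCharacter χ.2))
      (CfsgLib.Char.IsIrr.isCharacter θ.2)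
  choose m hm using hm
  have hIm : ∀ (χ : IrrCharacter G) (θ : IrrCharacter H),
      classInner (indFun H (θ : H → ℂ)) (χ : G → ℂ) = (m χ θ : ℂ) := fun χ θ => by
    rw [CfsgLib.Char.frobenius_reciprocity H _ (CfsgLib.Char.IsIrr.isClassFunction χ.2),
      ← CfsgLib.Char.classInner_conj_symm, hm, Complex.conj_natCast]
  have htG : CfsgLib.Char.trivChar G ∈ principalBlock M G := trivChar_mem_principalBlock
  have htH : CfsgLib.Char.trivChar H ∈ principalBlock M H := trivChar_mem_principalBlock
  -- constituents of the principal block lie in the principal block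
  have hF1 : ∀ χ ∈ principalBlock M G, ∀ θ : IrrCharacter H, m χ θ ≠ 0 →
      θ ∈ principalBlock M H := by
    intro χ hχ θ hne
    obtain ⟨g, hg⟩ := exists_conj_of_sameBlock (M := M) H (χ := CfsgLib.Char.trivChar G) (χ' := χ)
      (θ := CfsgLib.Char.trivChar H) (θ' := θ) (IsPBlock.sameBlock hG0 htG hχ)
      (by
        show classInner ((CfsgLib.Char.trivChar H : IrrCharacter H) : H → ℂ) _ ≠ 0
        rw [CfsgLib.Char.classInner_irr_self]; exact one_ne_zero)
      (by rw [hm]; exact Nat.cast_ne_zero.2 hne)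
    have he : conjIrr H g (CfsgLib.Char.trivChar H) = CfsgLib.Char.trivChar H :=
      Subtype.ext (funext fun n => by rw [conjIrr_apply]; rfl)
    rwa [he] at hg
  -- every character of the principal block of `H` is covered
  have hF2 : ∀ θ ∈ principalBlock M H, ∃ χ ∈ principalBlock M G, m χ θ ≠ 0 := by
    intro θ hθ
    by_contra hcon
    push Not at hcon
    let R : G → ℂ := CfsgLib.Char.regCut p ((CfsgLib.Char.trivChar G : IrrCharacter G) : G → ℂ)
    have hR : IsClassFunction G R :=
      CfsgLib.CharAction.regCut_conj p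
        (CfsgLib.Char.IsIrr.isClassFunction (CfsgLib.Char.trivChar G).2)
    have h1 := CfsgLib.Char.frobenius_reciprocity H (θ : H → ℂ) hR
    have hRH : (fun h : H => R h) =
        CfsgLib.Char.regCut p ((CfsgLib.Char.trivChar H : IrrCharacter H) : H → ℂ) := by
      funext h
      simp [R, CfsgLib.Char.regCut, Subgroup.orderOf_coe, CfsgLib.Char.trivChar_apply]
    have h2 : classInner (indFun H (θ : H → ℂ)) R = 0 := by
      rw [CfsgLib.Char.classFunction_eq_sum (CfsgLib.Char.isClassFunction_indFun H (θ : H → ℂ)),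
        CfsgLib.Char.classInner_sum_left]
      refine Finset.sum_eq_zero fun η _ => ?_
      rw [CfsgLib.Char.classInner_smul_left, hIm]
      by_cases hη : η ∈ principalBlock M G
      · rw [hcon η hη, Nat.cast_zero, zero_mul]
      · have h := CfsgLib.CharAction.regNum_eq (p := p) (CfsgLib.Char.trivChar G) η
        rw [CfsgLib.CharAction.regNum_eq_zero_of_notMem hM hG0 htG hη, Int.cast_zero, mul_eq_zero]
          at h
        rw [← CfsgLib.Char.classInner_conj_symm,
          h.resolve_left (Nat.cast_ne_zero.2 (pow_ne_zero _ hp.ne_zero)), map_zero, mul_zero]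
    rw [h2, hRH] at h1
    refine (CfsgLib.CharAction.not_pow_succ_dvd_regNum_iff hM hH0 htH hθ).2
      (blockHeight_trivChar _) ?_
    have h := CfsgLib.CharAction.regNum_eq (p := p) (CfsgLib.Char.trivChar H) θ
    rw [← CfsgLib.Char.classInner_conj_symm, ← h1, map_zero, mul_zero] at h
    have h0 : CfsgLib.CharAction.regNum p ((CfsgLib.Char.trivChar H : IrrCharacter H) : H → ℂ)
        (θ : H → ℂ) = 0 := by exact_mod_cast h.symm
    rw [h0]
    exact dvd_zero _
  simp only [finsum_mem_eq_finite_toFinset_sum _ (Set.toFinite (principalBlock M G)),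
    finsum_mem_eq_finite_toFinset_sum _ (Set.toFinite (principalBlock M H))]
  set A := (Set.toFinite (principalBlock M G)).toFinset
  set C := (Set.toFinite (principalBlock M H)).toFinset
  have hdeg : ∀ χ ∈ A, charDegree (χ : G → ℂ) = ∑ θ ∈ C, m χ θ * charDegree (θ : H → ℂ) := by
    intro χ hχ
    have hcl : IsClassFunction H (fun h : H => (χ : G → ℂ) h) := fun g x => by
      exact CfsgLib.Char.IsIrr.isClassFunction χ.2 (g : G) (x : G)
    have h := CfsgLib.Char.classFunction_apply_eq_sum hcl (1 : H)
    simp only [hm, OneMemClass.coe_one, apply_one_eq_charDegree, ← Nat.cast_mul, ← Nat.cast_sum,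
      Nat.cast_inj] at h
    rw [h, Finset.sum_subset (Finset.subset_univ C) fun θ _ hθ => ?_]
    rw [mul_eq_zero]
    refine .inl (by_contra fun hne => hθ ?_)
    exact (Set.Finite.mem_toFinset _).2 (hF1 χ ((Set.Finite.mem_toFinset _).1 hχ) θ hne)
  have hind : ∀ θ : IrrCharacter H,
      ∑ χ : IrrCharacter G, m χ θ * charDegree (χ : G → ℂ) = H.index * charDegree (θ : H → ℂ) := by
    intro θ
    have h := CfsgLib.Char.classFunction_apply_eq_sum
      (CfsgLib.Char.isClassFunction_indFun H (θ : H → ℂ)) (1 : G)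
    simp only [hIm, CfsgLib.Char.indFun_apply_one, apply_one_eq_charDegree, ← Nat.cast_mul,
      ← Nat.cast_sum, Nat.cast_inj] at h
    exact h.symm
  constructor
  · calc ∑ θ ∈ C, charDegree (θ : H → ℂ) ^ 2
        ≤ ∑ θ ∈ C, ∑ χ ∈ A, if m χ θ = 0 then 0 else charDegree (θ : H → ℂ) ^ 2 := by
          refine Finset.sum_le_sum fun θ hθ => ?_
          obtain ⟨χ, hχ, hne⟩ := hF2 θ ((Set.Finite.mem_toFinset _).1 hθ)
          refine le_trans ?_ (Finset.single_le_sum (fun _ _ => Nat.zero_le _)
            ((Set.Finite.mem_toFinset _).2 hχ))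
          rw [if_neg hne]
      _ = ∑ χ ∈ A, ∑ θ ∈ C, if m χ θ = 0 then 0 else charDegree (θ : H → ℂ) ^ 2 := Finset.sum_comm
      _ ≤ ∑ χ ∈ A, charDegree (χ : G → ℂ) ^ 2 := by
          refine Finset.sum_le_sum fun χ hχ => ?_
          rw [sq (charDegree (χ : G → ℂ))]
          conv_rhs => arg 1; rw [hdeg χ hχ]
          rw [Finset.sum_mul]
          refine Finset.sum_le_sum fun θ hθ => ?_
          split_ifs with h0
          · exact Nat.zero_le _
          · rw [sq]
            have hle : charDegree (θ : H → ℂ) ≤ charDegree (χ : G → ℂ) := by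
              rw [hdeg χ hχ]
              exact (Nat.le_mul_of_pos_left _ (Nat.pos_of_ne_zero h0)).trans
                (Finset.single_le_sum (f := fun θ => m χ θ * charDegree (θ : H → ℂ))
                  (fun _ _ => Nat.zero_le _) hθ)
            exact Nat.mul_le_mul (Nat.le_mul_of_pos_left _ (Nat.pos_of_ne_zero h0)) hle
  · calc ∑ χ ∈ A, charDegree (χ : G → ℂ) ^ 2
        = ∑ θ ∈ C, charDegree (θ : H → ℂ) * ∑ χ ∈ A, m χ θ * charDegree (χ : G → ℂ) := by
          simp only [Finset.mul_sum]
          rw [Finset.sum_comm]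
          refine Finset.sum_congr rfl fun χ hχ => ?_
          rw [sq]
          conv_lhs => arg 2; rw [hdeg χ hχ]
          rw [Finset.mul_sum]
          exact Finset.sum_congr rfl fun θ _ => by ring
      _ ≤ ∑ θ ∈ C, charDegree (θ : H → ℂ) * (H.index * charDegree (θ : H → ℂ)) := by
          refine Finset.sum_le_sum fun θ _ => Nat.mul_le_mul_left _ ?_
          rw [← hind θ]
          exact Finset.sum_le_sum_of_subset (Finset.subset_univ A)
      _ = H.index * ∑ θ ∈ C, charDegree (θ : H → ℂ) ^ 2 := by
          rw [Finset.mul_sum]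
          exact Finset.sum_congr rfl fun θ _ => by ring

end Cfsg.Agent.S4708
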