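import Cfsg.Statements.S4709
import Cfsg.Agent.Lib.Blocks.FrobeniusAutomizerChars

set_option autoImplicit false
open Cfsg

namespace Cfsg.Agent.S4709

/-- Let p be a prime, M a maximal ideal of the algebraic integers containing p, and G a finite group with a nontrivial abelian Sylow p-subgroup P; put N = N_G(P), C = C_G(P). Suppose N/C is cyclic of order m with 1 < m < #P − 1 (C has index m in N and N is generated by C and one element), and C_G(y) ∩ N = C for every non-identity y ∈ P. Put r = (#P − 1)/m. Then there is s ≤ m such that the principal p-block is the disjoint union of a set X of s characters containing the principal character and a set Y of r characters, with integers a_χ ≠ 0 (χ ∈ X), d and a sign δ = ±1, such that: every χ ∈ X takes the value a_χ at every element whose p-part is a non-identity element of P; there is a map ζ from the non-principal linear characters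 ψ of P onto Y, constant on N-conjugacy classes, with ζ_ψ(z) = d + δ·Σ ψ'(y) for every z whose p-part y is a non-identity element of P, the sum running over the N-conjugates ψ' of ψ; (d − δ)^2 + (r − 1) d^2 + Σ_{χ ∈ X} a_χ^2 = m + 1; all members of Y agree on p-regular elements; and (r d − δ) η(g) + Σ_{χ ∈ X} a_χ χ(g) = 0 for every η ∈ Y and every p-regular g. -/
theorem result {G : Type*} [Group G] [Finite G] (p : ℕ) [Fact p.Prime] (M : Ideal Cfsg.AlgInt) (hM : Cfsg.IsPModular p M) (P : Sylow p G) (hab : IsMulCommutative P) (hP1 : Nat.card P ≠ 1) (m : ℕ) (hm1 : 1 < m) (hm2 : m + 1 < Nat.card P) (hCN : (Subgroup.centralizer ((P : Subgroup G) : Set G)).relIndex (Subgroup.normalizer ((P : Subgroup G) : Set G)) = m) (hcyc : ∃ g : G, g ∈ Subgroup.normalizer ((P : Subgroup G) : Set G) ∧ Subgroup.centralizer ((P : Subgroup G) : Set G) ⊔ Subgroup.zpowers g = Subgroup.normalizer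 ((P : Subgroup G) : Set G)) (hfrob : ∀ y : G, y ∈ (P : Subgroup G) → y ≠ 1 → Subgroup.centralizer ({y} : Set G) ⊓ Subgroup.normalizer ((P : Subgroup G) : Set G) = Subgroup.centralizer ((P : Subgroup G) : Set G)) : ∃ (s : ℕ) (X Y : Set (Cfsg.IrrCharacter G)), s ≤ m ∧ Cfsg.principalBlock M G = X ∪ Y ∧ Disjoint X Y ∧ Nat.card X = s ∧ Nat.card Y = (Nat.card P - 1) / m ∧ (∃ χ₁ ∈ X, (χ₁ : G → ℂ) = fun _ => 1) ∧ ∃ (a : Cfsg.IrrCharacter G → ℤ) (d δ : ℤ) (ζ : (↥(P : Subgroup G) →* ℂˣ) → Cfsg.IrrCharacter G), (δ = 1 ∨ δ = -1) ∧ (∀ χ ∈ X, a χ ≠ 0 ∧ ∀ z y : G, Cfsg.IsPPart p z y → y ∈ (P : Subgroup G) → y ≠ 1 → (χ : G → ℂ) z = (a χ : ℂ)) ∧ (∀ ψ : ↥(P : Subgroup G) →* ℂˣ, ψ ≠ 1 → ζ ψ ∈ Y) ∧ (∀ η ∈ Y, ∃ ψ : ↥(P : Subgroup G) →* ℂˣ, ψ ≠ 1 ∧ ζ ψ = η) ∧ (∀ ψ ψ' : ↥(P : Subgroup G) →* ℂˣ, ψ ≠ 1 → (∃ n : G, n ∈ Subgroup.normalizer ((P : Subgroup G) : Set G) ∧ ∀ w w' : ↥(P : Subgroup G),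 (w' : G) = n * w * n⁻¹ → ψ' w' = ψ w) → ζ ψ' = ζ ψ) ∧ (∀ ψ : ↥(P : Subgroup G) →* ℂˣ, ψ ≠ 1 → ∀ (z : G) (y : ↥(P : Subgroup G)), Cfsg.IsPPart p z (y : G) → (y : G) ≠ 1 → (ζ ψ : G → ℂ) z = (d : ℂ) + (δ : ℂ) * ∑ᶠ ψ' ∈ {ψ' : ↥(P : Subgroup G) →* ℂˣ | ∃ n : G, n ∈ Subgroup.normalizer ((P : Subgroup G) : Set G) ∧ ∀ w w' : ↥(P : Subgroup G), (w' : G) = n * w * n⁻¹ → ψ' w' = ψ w}, ((ψ' y : ℂˣ) : ℂ)) ∧ ((d - δ) ^ 2 + ((Nat.card P - 1) / m - 1 : ℤ) * d ^ 2 + ∑ᶠ χ ∈ X, a χ ^ 2 = (m : ℤ) + 1) ∧ (∀ η ∈ Y, ∀ η' ∈ Y, ∀ g : G, ¬ p ∣ orderOf g → (η : G → ℂ) g = (η' : G → ℂ) g) ∧ (∀ η ∈ Y, ∀ g : G, ¬ p ∣ orderOf g → ((((Nat.card P - 1) / m : ℕ) : ℂ) * d - δ) * (η : G → ℂ) g + ∑ᶠ χ ∈ X, (a χ : ℂ) * (χ : G → ℂ) g = 0) := by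
  classical
  have := Fintype.ofFinite G
  have := hM.2.1.isPrime
  have S : CfsgLib.Automizer.Setting p P m :=
    ⟨fun x hx y hy => congrArg Subtype.val (hab.is_comm.comm ⟨x, hx⟩ ⟨y, hy⟩), hCN, hfrob⟩
  have := Fintype.ofFinite (P : Subgroup G)
  obtain ⟨s, X, Y, hs, hB, hdis, hX, hY, h1, a, d, δ, ζ, hδ, ha, hζY, hYζ, hinv, hval, hnorm, hsame, hrel⟩ :=
    CfsgLib.Automizer.exists_config S hM hm2
  have horb : ∀ ψ : ↥(P : Subgroup G) →* ℂˣ,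
      {ψ' : ↥(P : Subgroup G) →* ℂˣ | ∃ n : G, n ∈ Subgroup.normalizer ((P : Subgroup G) : Set G) ∧
        ∀ w w' : ↥(P : Subgroup G), (w' : G) = n * w * n⁻¹ → ψ' w' = ψ w} =
      Set.range (fun b => CfsgLib.Automizer.twist S b ψ) := by
    intro ψ
    ext ψ'
    constructor
    · rintro ⟨n, hn, h⟩
      obtain ⟨b, hb⟩ := CfsgLib.Automizer.exists_aut hn
      refine ⟨b⁻¹, MonoidHom.ext fun w => ?_⟩
      rw [CfsgLib.Automizer.twist_apply]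
      have h2 := h (((b⁻¹ : CfsgLib.Automizer.aut P) : MulAut (P : Subgroup G)) w) w (by
        rw [hb, Subgroup.coe_inv, MulAut.apply_inv_self])
      exact h2.symm
    · rintro ⟨b, rfl⟩
      obtain ⟨n, hn, hb⟩ := CfsgLib.Automizer.exists_rep (P := P) b⁻¹
      refine ⟨n, hn, fun w w' hw => ?_⟩
      rw [CfsgLib.Automizer.twist_apply]
      refine congrArg ψ ?_
      have h2 : w' = ((b⁻¹ : CfsgLib.Automizer.aut P) : MulAut (P : Subgroup G)) w :=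
        Subtype.ext (by rw [hw, hb])
      rw [h2, Subgroup.coe_inv, MulAut.apply_inv_self]
  refine ⟨s, X, Y, hs, hB, hdis, hX, hY, ⟨_, h1, rfl⟩, a, d, δ, ζ, hδ, ?_, hζY, hYζ, ?_, ?_, hnorm, hsame, hrel⟩
  · intro χ hχ
    refine ⟨(ha χ hχ).1, fun z y hz hy hy1 => ?_⟩
    rw [CfsgLib.Automizer.apply_eq_pPart S hM (hB ▸ Or.inl hχ) hz hy hy1]
    exact (ha χ hχ).2 ⟨y, hy⟩ fun e => hy1 (congrArg Subtype.val e)
  · intro ψ ψ' hψ h
    obtain ⟨b, rfl⟩ : ψ' ∈ Set.range (fun b => CfsgLib.Automizer.twist S b ψ) := horb ψ ▸ h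
    exact hinv ψ hψ b
  · intro ψ hψ z y hz hy1
    rw [CfsgLib.Automizer.apply_eq_pPart S hM (hB ▸ Or.inr (hζY ψ hψ)) hz y.2 hy1,
      hval ψ hψ y fun e => hy1 (congrArg Subtype.val e), horb]

end Cfsg.Agent.S4709
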