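import Cfsg.Statements.S4712
import Cfsg.Agent.Lib.Blocks.Brauer.SectionTrace
import Cfsg.Agent.Lib.Blocks.Star.Irr
import Cfsg.Agent.Lib.CharAction.Rank
import Cfsg.Agent.Lib.Char.PowerTwist
import Mathlib.RingTheory.ZMod.UnitsCyclic
-- import your own Cfsg.Agent.* helpers here

set_option autoImplicit false
open Cfsg
open scoped CfsgLib.Pairs

namespace Cfsg.Agent.S4712

/-- Let p be an odd prime, M a maximal ideal of the algebraic integers containing p, G a finite group of order n with p-part p^a, and B a p-block of G. Call an irreducible character χ p-rational when χ(g^k) = χ(g) for every g and every k coprime to n with k ≡ 1 modulo n/p^a (χ is fixed by the Galois automorphisms fixing the roots of unity of order prime to p). Then the number of p-rational irreducible characters in B is at least the p-regular rank of B (the number of irreducible Brauer characters in B). -/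
theorem result {G : Type*} [Group G] [Finite G] (p : ℕ) [Fact p.Prime] (hodd : p ≠ 2) (M : Ideal Cfsg.AlgInt) (hM : Cfsg.IsPModular p M) (B : Set (Cfsg.IrrCharacter G)) (hB : Cfsg.IsPBlock M B) : Cfsg.blockRank p B ≤ Nat.card {χ : Cfsg.IrrCharacter G // χ ∈ B ∧ ∀ k : ℕ, Nat.Coprime k (Nat.card G) → k ≡ 1 [MOD Nat.card G / p ^ (Nat.card G).factorization p] → ∀ g : G, (χ : G → ℂ) (g ^ k) = (χ : G → ℂ) g} := by
  classical
  have := hM.2.1.isPrime
  have := Fintype.ofFinite G
  have := Fintype.ofFinite (Cfsg.IrrCharacter G)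
  have hp := (Fact.out : p.Prime)
  set n := Nat.card G with hn
  set a := n.factorization p with ha
  obtain ⟨r, hr⟩ := Nat.ordProj_dvd n p
  have hn0 : n ≠ 0 := Nat.card_pos.ne'
  have hrp : ¬ p ∣ r := by
    have h := Nat.not_dvd_ordCompl hp hn0
    rwa [Nat.div_eq_of_eq_mul_right (pow_pos hp.pos _) hr] at h
  rw [Nat.div_eq_of_eq_mul_right (pow_pos hp.pos _) hr]
  have hco : Nat.Coprime (p ^ a) r := Nat.Coprime.pow_left a ((Nat.Prime.coprime_iff_not_dvd hp).2 hrp)
  have : NeZero (p ^ a) := ⟨pow_ne_zero _ hp.ne_zero⟩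
  have : IsCyclic (ZMod (p ^ a))ˣ := ZMod.isCyclic_units_of_prime_pow p hp hodd a
  obtain ⟨w, hw⟩ := IsCyclic.exists_generator (α := (ZMod (p ^ a))ˣ)
  obtain ⟨k0, hk0a, hk0r⟩ := Nat.chineseRemainder hco (w : ZMod (p ^ a)).val 1
  have hk0n : Nat.Coprime k0 n := by
    rw [hr]
    refine Nat.Coprime.mul_right ?_ ?_
    · rw [Nat.Coprime, Nat.ModEq.gcd_eq hk0a]
      exact ZMod.val_coe_unit_coprime w
    · rw [Nat.Coprime, Nat.ModEq.gcd_eq hk0r, Nat.gcd_one_left]
  have hgen : ∀ k : ℕ, Nat.Coprime k n → k ≡ 1 [MOD r] → ∃ i : ℕ, k ≡ k0 ^ i [MOD n] := by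
    intro k hk hkr
    have hka : Nat.Coprime k (p ^ a) := hk.coprime_dvd_right (Dvd.intro _ hr.symm)
    obtain ⟨i, hi⟩ := (mem_powers_iff_mem_zpowers (x := w) (y := ZMod.unitOfCoprime k hka)).2 (hw _)
    refine ⟨i, ?_⟩
    rw [hr]
    refine (Nat.modEq_and_modEq_iff_modEq_mul hco).1 ⟨?_, hkr.trans ?_⟩
    · refine Nat.ModEq.trans ?_ ((hk0a.pow i).symm)
      rw [← ZMod.natCast_eq_natCast_iff, Nat.cast_pow, ZMod.natCast_zmod_val]
      exact (congrArg Units.val hi).symm.trans (Units.val_pow_eq_pow_val w i) |> fun h => by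
        simpa using h
    · simpa using (hk0r.pow i).symm
  -- members fixed by `k0`
  set F := (Set.toFinite B).toFinset.filter
    fun χ : Cfsg.IrrCharacter G => ∀ g : G, (χ : G → ℂ) (g ^ k0) = (χ : G → ℂ) g with hF
  have hFcard : F.card ≤ Nat.card {χ : Cfsg.IrrCharacter G // χ ∈ B ∧ ∀ k : ℕ, Nat.Coprime k n →
      k ≡ 1 [MOD r] → ∀ g : G, (χ : G → ℂ) (g ^ k) = (χ : G → ℂ) g} := by
    rw [← Nat.card_eq_finsetCard]
    refine Nat.card_le_card_of_injective (fun χ => ⟨χ.1, (Set.Finite.mem_toFinset _).1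
      (Finset.mem_filter.1 χ.2).1, fun k hk hkr g => ?_⟩)
      (fun χ χ' h => Subtype.ext (by simpa using h))
    obtain ⟨i, hi⟩ := hgen k hk hkr
    rw [show g ^ k = g ^ (k0 ^ i) from pow_eq_pow_iff_modEq.2 (hi.of_dvd (orderOf_dvd_natCard g))]
    have hfix := (Finset.mem_filter.1 χ.2).2
    clear hi
    induction i with
    | zero => simp
    | succ i ih => rw [pow_succ, pow_mul, hfix, ih]
  refine le_trans ?_ hFcard
  -- the trace of the twist
  let f : G → ℂ := fun g => ∑ χ ∈ (Set.toFinite B).toFinset,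
    (χ : G → ℂ) (g ^ k0) * (starRingEnd ℂ) ((χ : G → ℂ) g)
  have htot : ∑ g, f g = (n : ℂ) * (F.card : ℂ) := by
    simp only [f]
    rw [Finset.sum_comm, Finset.card_filter, Nat.cast_sum, Finset.mul_sum]
    refine Finset.sum_congr rfl fun χ _ => ?_
    let χ' : Cfsg.IrrCharacter G := ⟨_, CfsgLib.Char.isIrrCharacter_pow χ.2 hk0n⟩
    have hn0' : (n : ℂ) ≠ 0 := Nat.cast_ne_zero.2 hn0
    by_cases h : χ' = χ
    · have h' : ∀ g : G, (χ : G → ℂ) (g ^ k0) = (χ : G → ℂ) g :=
        fun g => congrFun (congrArg Subtype.val h) g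
      rw [if_pos h', Nat.cast_one, mul_one, Finset.sum_congr rfl fun g _ => by rw [h' g]]
      have h1 := CfsgLib.Char.classInner_irr_self χ
      rw [Cfsg.classInner, inv_mul_eq_one₀ hn0'] at h1
      exact h1.symm
    · rw [if_neg fun h' => h (Subtype.ext (funext h')), Nat.cast_zero, mul_zero]
      have h1 := CfsgLib.Char.classInner_irr_of_ne h
      rw [Cfsg.classInner, mul_eq_zero] at h1
      exact h1.resolve_left (inv_ne_zero hn0')
  let S : G → ℂ := fun u => ∑ s ∈ Finset.univ.filter (fun s : G => ¬ p ∣ orderOf s ∧ Commute u s),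
    f (u * s)
  have hsplit : ∑ g, f g = ∑ u ∈ Finset.univ.filter (fun u : G => ∃ k : ℕ, orderOf u = p ^ k), S u := by
    rw [CfsgLib.Star.sum_eq_sum_decomp (p := p) f]
    refine Finset.sum_congr rfl fun u _ => ?_
    refine Finset.sum_bij (fun s _ => (s : G)) (fun s hs => ?_) (fun s _ t _ h => Subtype.ext h)
      (fun s hs => ?_) fun _ _ => rfl
    · rw [Finset.mem_filter] at hs ⊢
      exact ⟨Finset.mem_univ _, by rw [Subgroup.orderOf_coe]; exact hs.2,
        Subgroup.mem_centralizer_iff.1 s.2 u (Subgroup.mem_zpowers u)⟩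
    · rw [Finset.mem_filter] at hs
      refine ⟨⟨s, Subgroup.mem_centralizer_iff.2 fun z hz => ?_⟩, Finset.mem_filter.2
        ⟨Finset.mem_univ _, by rw [Subgroup.orderOf_mk]; exact hs.2.1⟩, rfl⟩
      obtain ⟨j, rfl⟩ := Subgroup.mem_zpowers_iff.1 hz
      exact (hs.2.2.zpow_left j).eq
  have hreg : ∀ s : G, ¬ p ∣ orderOf s → s ^ k0 = s := fun s hs => by
    have h : orderOf s ∣ r := by
      refine Nat.Coprime.dvd_of_dvd_mul_left
        (Nat.Coprime.pow_right a (Nat.Coprime.symm ((Nat.Prime.coprime_iff_not_dvd hp).2 hs))) ?_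
      rw [← hr]
      exact orderOf_dvd_natCard s
    conv_rhs => rw [← pow_one s]
    exact pow_eq_pow_iff_modEq.2 (hk0r.of_dvd h)
  have hS : ∀ u : G, (∃ k : ℕ, orderOf u = p ^ k) → ∃ m : ℕ, S u = (m : ℂ) := by
    intro u hu
    by_cases hcj : IsConj u (u ^ k0)
    · obtain ⟨y, hy⟩ := isConj_iff.1 hcj
      obtain ⟨m, hm⟩ := CfsgLib.IBr.exists_section_trace hM hu hy hB
      refine ⟨m * Nat.card (Subgroup.centralizer ({u} : Set G)), ?_⟩
      rw [Nat.cast_mul, ← hm]
      symm
      refine Finset.sum_bij (fun s _ => (s : G)) (fun s hs => ?_) (fun s _ t _ h => Subtype.ext h)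
        (fun s hs => ?_) fun s hs => ?_
      · rw [Finset.mem_filter] at hs ⊢
        exact ⟨Finset.mem_univ _, by rw [Subgroup.orderOf_coe]; exact hs.2,
          (Subgroup.mem_centralizer_singleton_iff.1 s.2).symm⟩
      · rw [Finset.mem_filter] at hs
        exact ⟨⟨s, Subgroup.mem_centralizer_singleton_iff.2 hs.2.2.eq.symm⟩, Finset.mem_filter.2
          ⟨Finset.mem_univ _, by rw [Subgroup.orderOf_mk]; exact hs.2.1⟩, rfl⟩
      · simp only [f]
        rw [(show Commute u (s : G) from (Subgroup.mem_centralizer_singleton_iff.1 s.2).symm).mul_pow,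
          hreg (s : G) (by rw [Subgroup.orderOf_coe]; exact (Finset.mem_filter.1 hs).2)]
    · refine ⟨0, ?_⟩
      rw [Nat.cast_zero]
      refine Finset.sum_eq_zero fun s hs => ?_
      rw [Finset.mem_filter] at hs
      simp only [f]
      rw [hs.2.2.mul_pow, hreg s hs.2.1]
      obtain ⟨j, hj⟩ := hu
      have hu' : ∃ k : ℕ, orderOf (u ^ k0) = p ^ k := by
        refine ⟨j, ?_⟩
        rw [← hj]
        exact Nat.Coprime.orderOf_pow ((hk0n.coprime_dvd_right (orderOf_dvd_natCard u)).symm)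
      have h := CfsgLib.Blocks.sum_block_apply_mul_eq_zero hM hB (g := u ^ k0 * s) (h := u * s)
        (u := u ^ k0) (v := u) ⟨s, rfl, hs.2.2.pow_left k0, hu', hs.2.1⟩
        ⟨s, rfl, hs.2.2, ⟨j, hj⟩, hs.2.1⟩ (fun h => hcj h.symm)
      rw [finsum_mem_eq_finite_toFinset_sum _ (Set.toFinite B)] at h
      refine Eq.trans (Finset.sum_congr rfl fun χ _ => ?_) h
      rw [CfsgLib.Char.IsIrr.map_inv χ.2]
  have hS1 : S 1 = (n : ℂ) * (Cfsg.blockRank p B : ℂ) := by
    rw [hn, CfsgLib.CharAction.card_mul_blockRank hM hB]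
    simp only [S, Commute.one_left, and_true, one_mul, Finset.sum_filter]
    refine Finset.sum_congr rfl fun g _ => ?_
    rw [finsum_mem_eq_finite_toFinset_sum _ (Set.toFinite B)]
    by_cases hg : p ∣ orderOf g
    · simp [hg, Cfsg.pRegularPart, Cfsg.IsPRegular]
    · rw [if_pos hg]
      refine Finset.sum_congr rfl fun χ _ => ?_
      rw [hreg g hg, CfsgLib.Char.IsIrr.map_inv χ.2]
      simp [hg, Cfsg.pRegularPart, Cfsg.IsPRegular]
  have hS' : ∀ u : G, ∃ m : ℕ, (∃ k : ℕ, orderOf u = p ^ k) → S u = (m : ℂ) := fun u => by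
    by_cases h : ∃ k : ℕ, orderOf u = p ^ k
    · exact (hS u h).imp fun m hm _ => hm
    · exact ⟨0, fun h' => absurd h' h⟩
  choose m hm using hS'
  have hmem1 : (1 : G) ∈ Finset.univ.filter (fun u : G => ∃ k : ℕ, orderOf u = p ^ k) :=
    Finset.mem_filter.2 ⟨Finset.mem_univ _, 0, by simp⟩
  have hle : n * Cfsg.blockRank p B ≤ n * F.card := by
    have h1 : m 1 = n * Cfsg.blockRank p B := by
      have h := hm 1 ⟨0, by simp⟩
      rw [hS1] at h
      exact_mod_cast h.symm
    have h2 : n * F.card = ∑ u ∈ Finset.univ.filter (fun u : G => ∃ k : ℕ, orderOf u = p ^ k), m u := by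
      have h := htot.symm.trans hsplit
      rw [Finset.sum_congr rfl fun u hu => hm u (Finset.mem_filter.1 hu).2] at h
      exact_mod_cast h
    rw [h2, ← h1]
    exact Finset.single_le_sum (fun u _ => Nat.zero_le (m u)) hmem1
  exact Nat.le_of_mul_le_mul_left hle (Nat.pos_of_ne_zero hn0)

end Cfsg.Agent.S4712
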