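import Cfsg.Statements.S4714
import Cfsg.Agent.Lib.Blocks.CentralizerProduct
import Cfsg.Agent.Lib.Blocks.Covering
import Cfsg.Agent.Lib.Char.CliffordRestrict
import Mathlib.Tactic.LinearCombination
-- import your own Cfsg.Agent.* helpers here

set_option autoImplicit false
open Cfsg CfsgLib.Blocks
open scoped ComplexConjugate

namespace Cfsg.Agent.S4714

/-- Let p be a prime, M a maximal ideal of the algebraic integers containing p, D a p-subgroup of the finite group G with G = D·C_G(D), and B a p-block with defect group D. Let χ be a member of B having D in its kernel (there is exactly one, the canonical character of B). Then the irreducible characters in B are exactly the functions θ on G for which there is an irreducible character ζ of D such that θ(yx) = ζ(y)χ(x) whenever y ∈ D, x has order prime to p and x commutes with y, and θ(z) = 0 whenever the p-part of z does not lie in D. -/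
theorem result {G : Type*} [Group G] [Finite G] (p : ℕ) [Fact p.Prime] (M : Ideal Cfsg.AlgInt) (hM : Cfsg.IsPModular p M) (D : Subgroup G) (hD : IsPGroup p D) (hG : D ⊔ Subgroup.centralizer (D : Set G) = ⊤) (B : Set (Cfsg.IrrCharacter G)) (hB : Cfsg.IsPBlock M B) (hBD : Cfsg.IsDefectGroup p M B D) (χ : Cfsg.IrrCharacter G) (hχ : χ ∈ B) (hχD : ∀ y ∈ D, (χ : G → ℂ) y = (χ : G → ℂ) 1) : (∀ θ : Cfsg.IrrCharacter G, θ ∈ B ↔ ∃ ζ : Cfsg.IrrCharacter D, (∀ (y : D) (x : G), ¬ p ∣ orderOf x → Commute (y : G) x → (θ : G → ℂ) ((y : G) * x) = (ζ : D → ℂ) y * (χ : G → ℂ) x) ∧ (∀ z : G, (∀ y : G, Cfsg.IsPPart p z y → y ∉ D) → (θ : G → ℂ) z = 0)) ∧ ∀ ζ : Cfsg.IrrCharacter D, ∃ θ ∈ B, (∀ (y : D) (x : G), ¬ p ∣ orderOf x → Commute (y : G) x → (θ : G → ℂ) ((y : G) * x) = (ζ : D → ℂ) y * (χ : G → ℂ) x) ∧ (∀ z : G, (∀ y : G, Cfsg.IsPPart p z y → y ∉ D) → (θ : G → ℂ) z = 0) := by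
  classical
  have := hM.2.1.isPrime
  have := Fintype.ofFinite G
  have := Fintype.ofFinite D
  have hp : p.Prime := Fact.out
  have hDn := normal_of_sup_centralizer hG
  obtain ⟨k, hk⟩ := exists_index_centralizer hG hD
  have hχ1 := CfsgLib.Char.IsIrr.apply_one_ne_zero χ.2
  have hord1 : ¬ p ∣ orderOf (1 : G) := by simp [hp.ne_one]
  have hmul : ∀ θ ∈ B, ∀ (u y : G), u ∈ D → ¬ p ∣ orderOf y →
      (θ : G → ℂ) (u * y) * (χ : G → ℂ) 1 = (θ : G → ℂ) u * (χ : G → ℂ) y :=
    fun θ hθ u y hu hy => apply_mul_of_mem hG hD hM hB hBD hχ hχD hθ hu hy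
  have hvan : ∀ θ ∈ B, ∀ z u : G, IsPPart p z u → u ∉ D → (θ : G → ℂ) z = 0 :=
    fun θ hθ z u hu hn => apply_eq_zero_of_pPart_notMem hM hB hθ hu
      fun D' hD' => (eq_of_isDefectGroup hG hM hB hBD hD').symm ▸ hn
  -- the decomposition `z = u y`
  let f : D × {y : G // ¬ p ∣ orderOf y} → G := fun z => (z.1 : G) * (z.2 : G)
  have hpart : ∀ z, IsPPart p (f z) (z.1 : G) := fun z =>
    ⟨z.2, rfl, Subgroup.mem_centralizer_iff.1 (mem_centralizer_of_regular D hD hk z.2.2) z.1 z.1.2,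
      by
        obtain ⟨j, hj⟩ := IsPGroup.iff_orderOf.1 hD z.1
        exact ⟨j, by rw [Subgroup.orderOf_coe, hj]⟩, z.2.2⟩
  have huniq : ∀ g u v : G, IsPPart p g u → IsPPart p g v → u = v := fun g u v h h' => by
    have := conj_pPart_eq hp h h' (x := 1) (j := 1) (by simpa using hp.ne_one) (by simp)
    simpa using this
  have hinj : Function.Injective f := fun a b h => by
    have h1 : (a.1 : G) = b.1 := huniq (f b) _ _ (h ▸ hpart a) (hpart b)
    exact Prod.ext (Subtype.ext h1) (Subtype.ext (mul_left_cancel (a := (a.1 : G))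
      (h.trans (show _ = _ by rw [h1]))))
  set S : ℂ := ∑ y : {y : G // ¬ p ∣ orderOf y}, (χ : G → ℂ) y * conj ((χ : G → ℂ) y) with hS
  have hG0 : (Nat.card G : ℂ) ≠ 0 := Nat.cast_ne_zero.2 Nat.card_pos.ne'
  have hD0 : (Nat.card D : ℂ) ≠ 0 := Nat.cast_ne_zero.2 Nat.card_pos.ne'
  have hnorm : ∀ θ ∈ B, (∑ u : D, (θ : G → ℂ) u * conj ((θ : G → ℂ) u)) * S =
      (χ : G → ℂ) 1 * conj ((χ : G → ℂ) 1) * Nat.card G := by
    intro θ hθ
    have hall : (∑ g : G, (θ : G → ℂ) g * conj ((θ : G → ℂ) g)) = Nat.card G := by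
      have h := CfsgLib.Char.classInner_irr_self θ
      rwa [classInner, inv_mul_eq_iff_eq_mul₀ hG0, mul_one] at h
    rw [← hall, ← Finset.sum_subset (Finset.subset_univ (Finset.univ.image f)) fun g _ hg => ?_,
      Finset.sum_image hinj.injOn, Fintype.sum_prod_type, Finset.sum_mul, Finset.mul_sum]
    · refine Finset.sum_congr rfl fun u _ => ?_
      rw [hS, Finset.mul_sum, Finset.mul_sum]
      refine Finset.sum_congr rfl fun y _ => ?_
      have h := hmul θ hθ u y u.2 y.2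
      have h' := congrArg conj h
      rw [map_mul, map_mul] at h'
      calc (θ : G → ℂ) u * conj ((θ : G → ℂ) u) * ((χ : G → ℂ) y * conj ((χ : G → ℂ) y))
          = ((θ : G → ℂ) u * (χ : G → ℂ) y) *
              (conj ((θ : G → ℂ) u) * conj ((χ : G → ℂ) y)) := by ring
        _ = _ := by rw [← h, ← h']; ring
    · obtain ⟨u, hu⟩ := exists_pPart hp g
      rw [hvan θ hθ g u hu fun hm => hg ?_, zero_mul]
      obtain ⟨y, hy1, -, -, hy2⟩ := hu
      exact Finset.mem_image.2 ⟨(⟨u, hm⟩, ⟨y, hy2⟩), Finset.mem_univ _, hy1⟩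
  have hSD : (Nat.card D : ℂ) * S = Nat.card G := by
    have h := hnorm χ hχ
    rw [Finset.sum_congr rfl fun u _ => by rw [hχD u u.2], Finset.sum_const, Finset.card_univ,
      nsmul_eq_mul, ← Nat.card_eq_fintype_card] at h
    refine mul_left_cancel₀ (mul_ne_zero hχ1 ((map_ne_zero (starRingEnd ℂ)).2 hχ1)) ?_
    linear_combination h
  have hS0 : S ≠ 0 := fun h => hG0 (by rw [← hSD, h, mul_zero])
  -- the character of `D` attached to a member of the block
  have hζ : ∀ θ ∈ B, ∃ ζ : IrrCharacter D, ∀ u : D,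
      (θ : G → ℂ) u = (χ : G → ℂ) 1 * (ζ : D → ℂ) u := by
    intro θ hθ
    obtain ⟨ζ, hc⟩ := exists_constituent D θ
    refine ⟨ζ, ?_⟩
    have hfix : ∀ g : G, CfsgLib.Clifford.conjFn hDn (ζ : D → ℂ) g = (ζ : D → ℂ) := by
      intro g
      funext n
      rw [CfsgLib.Clifford.conjFn_apply]
      exact CfsgLib.Char.isClassFunction_iff_isConj.1 (CfsgLib.Char.IsIrr.isClassFunction ζ.2) _ _
        (isConj_subtype_iff hG hD (isConj_iff.2 ⟨g⁻¹, by group⟩))
    have h := CfsgLib.Clifford.restrict_eq_smul_orbit_sum hDn θ.2 ζ.2 hc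
    rw [show Finset.univ.image (CfsgLib.Clifford.conjFn hDn (ζ : D → ℂ)) = {(ζ : D → ℂ)} from
      Finset.eq_singleton_iff_unique_mem.2 ⟨Finset.mem_image.2 ⟨1, Finset.mem_univ _, hfix 1⟩,
        fun f hf => by
          obtain ⟨g, -, rfl⟩ := Finset.mem_image.1 hf
          exact hfix g⟩, Finset.sum_singleton] at h
    obtain ⟨e, he⟩ := CfsgLib.Char.IsChar.classInner_eq_natCast
      (CfsgLib.Char.IsChar.restrict D (CfsgLib.Char.IsIrr.isCharacter θ.2))
      (CfsgLib.Char.IsIrr.isCharacter ζ.2)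
    rw [he] at h
    obtain ⟨t, -, ht⟩ := CfsgLib.Char.IsIrr.exists_degree χ.2
    have hval : ∀ u : D, (θ : G → ℂ) u = (e : ℂ) * (ζ : D → ℂ) u := fun u => congrFun h u
    have hn := hnorm θ hθ
    rw [Finset.sum_congr rfl (g := fun u : D => (e : ℂ) * e * ((ζ : D → ℂ) u * conj ((ζ : D → ℂ) u)))
      fun u _ => by rw [hval u, map_mul, Complex.conj_natCast]; ring,
      ← Finset.mul_sum, ← hSD, ht, Complex.conj_natCast] at hn
    have h2 := CfsgLib.Char.classInner_irr_self ζ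
    rw [classInner, inv_mul_eq_iff_eq_mul₀ hD0, mul_one] at h2
    rw [h2] at hn
    have h3 : ((e * e : ℕ) : ℂ) = ((t * t : ℕ) : ℂ) := by
      refine mul_right_cancel₀ (mul_ne_zero hD0 hS0) ?_
      push_cast
      linear_combination hn
    have het : e = t := Nat.mul_self_inj.1 (by exact_mod_cast h3)
    intro u
    rw [hval u, het, ht]
  have : Nonempty (IrrCharacter D) := ⟨CfsgLib.Char.trivChar D⟩
  choose! z hz using hζ
  have hform : ∀ θ ∈ B, (∀ (y : D) (x : G), ¬ p ∣ orderOf x → Commute (y : G) x →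
      (θ : G → ℂ) ((y : G) * x) = (z θ : D → ℂ) y * (χ : G → ℂ) x) ∧
      (∀ w : G, (∀ y : G, IsPPart p w y → y ∉ D) → (θ : G → ℂ) w = 0) := by
    intro θ hθ
    refine ⟨fun y x hx _ => mul_right_cancel₀ hχ1 ?_, fun w hw => ?_⟩
    · rw [hmul θ hθ y x y.2 hx, hz θ hθ y]
      ring
    · obtain ⟨u, hu⟩ := exists_pPart hp w
      exact hvan θ hθ w u hu (hw u hu)
  refine ⟨fun θ => ⟨fun hθ => ⟨z θ, hform θ hθ⟩, ?_⟩, fun ζ => ?_⟩
  · rintro ⟨ζ, h1, -⟩
    by_contra hθ
    have hreg : ∀ x : G, ¬ p ∣ orderOf x →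
        (θ : G → ℂ) x = (ζ : D → ℂ) 1 * (χ : G → ℂ) x := fun x hx => by
      have h := h1 1 x hx (Commute.one_left x)
      rwa [OneMemClass.coe_one, one_mul] at h
    have h0 := sum_regular_eq_zero hM (χ := χ) (ψ := θ)
      fun hs => hθ (by rw [IsPBlock.eq_blockOf hB hχ]; exact hs)
    rw [Finset.sum_subtype _ (p := fun y : G => ¬ p ∣ orderOf y) (by simp),
      Finset.sum_congr rfl (g := fun x : {y : G // ¬ p ∣ orderOf y} =>
        conj ((ζ : D → ℂ) 1) * ((χ : G → ℂ) x * conj ((χ : G → ℂ) x))) fun x _ => by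
        rw [CfsgLib.Char.IsIrr.map_inv θ.2, hreg x x.2, map_mul]; ring,
      ← Finset.mul_sum] at h0
    exact mul_ne_zero ((map_ne_zero (starRingEnd ℂ)).2 (CfsgLib.Char.IsIrr.apply_one_ne_zero ζ.2)) hS0 h0
  · have hbij : Function.Bijective fun θ : B => z θ.1 := by
      have := Fintype.ofFinite B
      have := Fintype.ofFinite (IrrCharacter D)
      refine (Fintype.bijective_iff_injective_and_card _).2 ⟨fun a b hab => Subtype.ext (Subtype.ext
        (funext fun g => ?_)), ?_⟩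
      · obtain ⟨u, hu⟩ := exists_pPart hp g
        by_cases hm : u ∈ D
        · obtain ⟨y, rfl, hc, -, hy⟩ := hu
          rw [(hform a.1 a.2).1 ⟨u, hm⟩ y hy hc, (hform b.1 b.2).1 ⟨u, hm⟩ y hy hc]
          simp only [] at hab
          rw [hab]
        · rw [hvan a.1 a.2 g u hu hm, hvan b.1 b.2 g u hu hm]
      · rw [← Nat.card_eq_fintype_card, ← Nat.card_eq_fintype_card,
          card_eq_card_conjClasses hG hD hM hB hBD hχ hχD, CfsgLib.Char.card_irrCharacter]
    obtain ⟨θ, hθ⟩ := hbij.2 ζ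
    exact ⟨θ.1, θ.2, by rw [← hθ]; exact hform θ.1 θ.2⟩

end Cfsg.Agent.S4714
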