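import Cfsg.Statements.S4717
import Cfsg.Agent.Lib.Blocks.Principal
import Cfsg.Agent.Lib.Blocks.DefectNumber
import Mathlib.GroupTheory.PGroup

set_option autoImplicit false
open Cfsg CfsgLib.Blocks

namespace Cfsg.Agent.S4717

/-- Let p be a prime, M a maximal ideal of the algebraic integers containing p, and r a natural number; say that a finite group X has deficiency class r when X has no non-principal p-block of defect ≥ r. If G has deficiency class r then so does the centralizer of every p-element of G; conversely, if r > 0 and the centralizer of every element of order p has deficiency class r, then G has deficiency class r. -/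
theorem result {G : Type*} [Group G] [Finite G] (p : ℕ) [Fact p.Prime] (M : Ideal Cfsg.AlgInt) (hM : Cfsg.IsPModular p M) (r : ℕ) : ((∀ B' : Set (Cfsg.IrrCharacter G), Cfsg.IsPBlock M B' → B' ≠ Cfsg.principalBlock M G → Cfsg.blockDefect p B' < r) → ∀ y : G, (∃ k : ℕ, orderOf y = p ^ k) → (∀ B' : Set (Cfsg.IrrCharacter ↥(Subgroup.centralizer ({y} : Set G))), Cfsg.IsPBlock M B' → B' ≠ Cfsg.principalBlock M ↥(Subgroup.centralizer ({y} : Set G)) → Cfsg.blockDefect p B' < r)) ∧ (0 < r → (∀ y : G, orderOf y = p → (∀ B' : Set (Cfsg.IrrCharacter ↥(Subgroup.centralizer ({y} : Set G))), Cfsg.IsPBlock M B' → B' ≠ Cfsg.principalBlock M ↥(Subgroup.centralizer ({y} : Set G)) → Cfsg.blockDefect p B' < r)) → (∀ B' : Set (Cfsg.IrrCharacter G), Cfsg.IsPBlock M B' → B' ≠ Cfsg.principalBlock M G → Cfsg.blockDefect p B' < r)) := by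
  classical
  have := Fintype.ofFinite G
  have : M.IsPrime := hM.2.1.isPrime
  have : Fact p.Prime := ⟨hM.1⟩
  have := charP_residueField hM
  constructor
  · intro hG y hy b hb hne
    have := Fintype.ofFinite (Subgroup.centralizer ({y} : Set G))
    obtain ⟨B, hB⟩ := inducedBlockDefined_centralizer hM hy hb
    have hBne : B ≠ principalBlock M G := fun h =>
      hne ((isInducedBlock_principal_iff hM hy hb).1 (h ▸ hB))
    obtain ⟨D, hD⟩ := exists_isDefectGroup (p := p) hb
    obtain ⟨E, hE, hle⟩ := IsInducedBlock.defectGroup_le hM hB hD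
    have h1 := Subgroup.card_dvd_of_le hle
    rw [Subgroup.card_map_of_injective (Subgroup.subtype_injective _),
      IsDefectGroup.card_eq hM hb hD, IsDefectGroup.card_eq hM hB.2.1 hE,
      Nat.pow_dvd_pow_iff_le_right hM.1.one_lt] at h1
    exact lt_of_le_of_lt h1 (hG B hB.2.1 hBne)
  · intro hr hC B hB hne
    by_contra hlt
    obtain ⟨D, hD⟩ := exists_isDefectGroup (p := p) hB
    have hDp := IsDefectGroup.isPGroup hD
    have hDcard := IsDefectGroup.card_eq hM hB hD
    have hnt : Nontrivial D := by
      rw [← Finite.one_lt_card_iff_nontrivial, hDcard]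
      exact Nat.one_lt_pow (by omega) hM.1.one_lt
    have hZ := hDp.center_nontrivial
    obtain ⟨k, hk, hZc⟩ := ((hDp.to_subgroup (Subgroup.center D)).nontrivial_iff_card).1 hZ
    obtain ⟨z, hz⟩ := exists_prime_orderOf_dvd_card' (G := Subgroup.center D) p
      (hZc ▸ dvd_pow_self p hk.ne')
    set y : G := ((z : D) : G) with hy
    have hyo : orderOf y = p := by rw [hy, Subgroup.orderOf_coe, Subgroup.orderOf_coe, hz]
    have := Fintype.ofFinite (Subgroup.centralizer ({y} : Set G))
    set H := Subgroup.centralizer ({y} : Set G) with hH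
    have hcomm : ∀ x ∈ D, Commute x y := fun x hx =>
      congrArg Subtype.val (Subgroup.mem_center_iff.1 z.2 ⟨x, hx⟩)
    have hDH : D ≤ H := fun x hx => mem_centralizer_singleton.2 (hcomm x hx)
    set P := Subgroup.zpowers y
    have hP : IsPGroup p P := IsPGroup.of_card (n := 1) (by rw [Nat.card_zpowers, hyo, pow_one])
    have hPH : P ≤ H := Subgroup.zpowers_le.2 (mem_centralizer_singleton.2 (Commute.refl y))
    have hCH : Subgroup.centralizer (P : Set G) ≤ H := fun c hc => mem_centralizer_singleton.2
      (Subgroup.mem_centralizer_iff.1 hc y (Subgroup.mem_zpowers y)).symm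
    have hHN : H ≤ Subgroup.normalizer (P : Set G) :=
      le_trans (fun c hc => mem_centralizer_iff_le.2 (by
        rw [Subgroup.zpowers_le, mem_centralizer_singleton]
        exact (mem_centralizer_singleton.1 hc).symm)) (centralizer_le_normalizer' _)
    obtain ⟨g, hg, hgle, -⟩ := isDefectGroup_iff.1 hD
    have hgD : g ∈ Subgroup.centralizer (D : Set G) := mem_centralizer_iff_le.2 hgle
    have hgP : g ∈ Subgroup.centralizer (P : Set G) := mem_centralizer_iff_le.2
      (Subgroup.zpowers_le.2 (hgle (z : D).2))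
    have hf := isCentralElt_blockIdemBar hB
    set a := brauerMap P H (blockIdemBar M B) with ha
    have hac := isCentralElt_brauerMap (P := P) hHN hf
    have hne0 : a.coeff ⟨g, hCH hgP⟩ ≠ 0 := by
      rw [ha, coeff_brauerMap, if_pos hgP]
      exact IsDefectClass.coeff_ne_zero hB hg
    have : Fintype {b : Set (IrrCharacter H) // IsPBlock M b} := Fintype.ofFinite _
    rw [← one_mul a, ← sum_blockIdemBar, Finset.sum_mul, MonoidAlgebra.coeff_sum,
      Finsupp.finsetSum_apply] at hne0
    obtain ⟨⟨b, hb⟩, -, hbne⟩ := Finset.exists_ne_zero_of_sum_ne_zero hne0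
    have hb' := isCentralElt_blockIdemBar hb
    -- the block induces `B`
    obtain ⟨ξ, hξ⟩ : ∃ ξ ∈ b, omegaBar ξ a ≠ 0 := by
      by_contra hcon
      push Not at hcon
      obtain ⟨n, hn⟩ := isNilpotent_of_omegaBar_eq_zero (hb'.mul hac) fun η => by
        rw [omegaBar_mul η hb' hac, omegaBar_blockIdemBar hb]
        split_ifs with hη
        · rw [hcon η hη, mul_zero]
        · rw [zero_mul]
      have hid : IsIdempotentElem (blockIdemBar M b * a) := by
        show blockIdemBar M b * a * (blockIdemBar M b * a) = blockIdemBar M b * a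
        rw [mul_assoc, ← mul_assoc a, (hac.commute _).eq, mul_assoc _ a a,
          ha, ← brauerMap_mul hP hCH hf hf, blockIdemBar_mul_self hB, ← mul_assoc,
          blockIdemBar_mul_self hb]
      refine hbne ?_
      show (blockIdemBar M b * a).coeff _ = 0
      rw [hid.eq_zero_of_isNilpotent ⟨n, hn⟩]
      rfl
    obtain ⟨B', hB'⟩ := exists_isInducedBlock hM hP hPH hCH hHN hb
    obtain ⟨-, hB'b, hind⟩ := isInducedBlock_iff.1 hB'
    obtain ⟨χ', hχ'⟩ := IsPBlock.nonempty hB'b
    have h1 := hind ξ hξ.1 χ' hχ' _ hf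
    rw [omegaBar_resElt_eq_brauerMap hM hP hPH hHN ξ hf, omegaBar_blockIdemBar hB] at h1
    have hmem : χ' ∈ B := by
      by_contra hn
      rw [if_neg hn] at h1
      exact hξ.2 h1
    rw [← IsPBlock.eq_of_mem hB hB'b hmem hχ'] at hB'
    have hbne' : b ≠ principalBlock M H := fun h =>
      hne (IsInducedBlock.eq hB'
        ((isInducedBlock_principal_iff hM ⟨1, by rw [hyo, pow_one]⟩ hb).2 h))
    -- a defect group of the block is as large as `D`
    have hDH' : IsPGroup p (D.subgroupOf H) := hDp.comap_of_injective _ H.subtype_injective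
    have hgC : (⟨g, hCH hgP⟩ : H) ∈ Subgroup.centralizer ((D.subgroupOf H : Subgroup H) : Set H) :=
      Subgroup.mem_centralizer_iff.2 fun d hd => Subtype.ext
        (Subgroup.mem_centralizer_iff.1 hgD _ hd)
    change (blockIdemBar M b * a).coeff _ ≠ 0 at hbne
    rw [coeff_mul_eq_sum_centralizer hDH' (fun u _ x => hb' x u) (fun u _ x => hac x u) hgC] at hbne
    obtain ⟨x, hx, hxne⟩ := Finset.exists_ne_zero_of_sum_ne_zero hbne
    obtain ⟨Db, hDb⟩ := exists_isDefectGroup (p := p) hb
    have hsub := (IsDefectGroup.defLE_of_coeff_ne_zero hM hb hDb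
      (left_ne_zero_of_mul hxne)).subConj hDH' (Finset.mem_filter.1 hx).2
    have h2 := SubConj.card_dvd hsub
    rw [Nat.card_congr (Subgroup.subgroupOfEquivOfLe hDH).toEquiv, hDcard,
      IsDefectGroup.card_eq hM hb hDb, Nat.pow_dvd_pow_iff_le_right hM.1.one_lt] at h2
    have h3 := hC y hyo b hb hbne'
    omega

end Cfsg.Agent.S4717
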