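import Cfsg.Statements.S4718
import Cfsg.Agent.Lib.CharAction.Landau
import Cfsg.Agent.Lib.CharAction.BrauerFeit

set_option autoImplicit false
universe u
open Cfsg CfsgLib.CharAction CfsgLib.Char CfsgLib.Blocks

namespace Cfsg.Agent.S4718

/-- Let p be a prime and a a natural number. There is a bound N such that every finite group whose Sylow p-subgroups have order p^a and whose only p-block (relative to a maximal ideal of the algebraic integers containing p) is the principal block has order at most N. -/
theorem result (p : ℕ) [Fact p.Prime] (a : ℕ) : ∃ N : ℕ, ∀ (G : Type u) [Group G] [Finite G] (M : Ideal Cfsg.AlgInt), Cfsg.IsPModular p M → (Nat.card G).factorization p = a → (∀ B : Set (Cfsg.IrrCharacter G), Cfsg.IsPBlock M B → B = Cfsg.principalBlock M G) → Nat.card G ≤ N := by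
  obtain ⟨N, hN⟩ := exists_order_bound_of_card_classes.{u} (p ^ (2 * a) + 4)
  refine ⟨N, fun G _ _ M hM ha hall => hN G ?_⟩
  classical
  have := Fintype.ofFinite G
  have : M.IsPrime := hM.2.1.isPrime
  rw [← card_irrCharacter]
  set B := Cfsg.blockOf M ((trivChar G : Cfsg.IrrCharacter G) : G → ℂ)
  have hB : Cfsg.IsPBlock M B := ⟨trivChar G, rfl⟩
  have hmem : ∀ χ : Cfsg.IrrCharacter G, χ ∈ B := fun χ => by
    have h := mem_blockOf_self (M := M) χ
    rw [hall _ (isPBlock_blockOf χ), ← hall B hB] at h
    exact h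
  rw [← Nat.card_congr (Equiv.subtypeUnivEquiv hmem)]
  have h := four_mul_card_le hM hB (p := p)
  have hd : Cfsg.blockDefect p B ≤ a := by
    rw [blockDefect_eq_sub, ha]
    omega
  have h2 : p ^ (2 * Cfsg.blockDefect p B) ≤ p ^ (2 * a) :=
    Nat.pow_le_pow_right (Fact.out : p.Prime).pos (by omega)
  replace h : 4 * Nat.card (Subtype (Membership.mem B)) ≤ p ^ (2 * Cfsg.blockDefect p B) + 4 := h
  omega

end Cfsg.Agent.S4718
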