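import Cfsg.Statements.S4719
import Cfsg.Agent.Lib.Blocks.InvolutionBound
import Cfsg.Agent.Lib.Blocks.Principal
import Cfsg.Agent.Lib.Blocks.DefectNumber
import Cfsg.Agent.Lib.CharAction.Landau
import Cfsg.Agent.Lib.Components.Subnormal
import Cfsg.Agent.Lib.CharAction.BrauerFeit

set_option autoImplicit false
universe u
open Cfsg

namespace Cfsg.Agent.S4719

open CfsgLib.Blocks in
/-- A centralizer of a large abelian `2`-subgroup has a single block, so is bounded. -/
theorem card_centralizer_le {G : Type u} [Group G] [Finite G] {M : Ideal Cfsg.AlgInt}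
    (hM : Cfsg.IsPModular 2 M) {r a N : ℕ}
    (hN : ∀ (K : Type u) [Group K] [Finite K], Nat.card (ConjClasses K) ≤ 2 ^ (2 * a) + 4 → Nat.card K ≤ N)
    (ha : (Nat.card G).factorization 2 ≤ a)
    (hB : ∀ B : Set (Cfsg.IrrCharacter G), Cfsg.IsPBlock M B → B ≠ Cfsg.principalBlock M G → Cfsg.blockDefect 2 B < r)
    (F : Subgroup G) (hF : IsPGroup 2 F) (hFc : ∀ v ∈ F, ∀ w ∈ F, v * w = w * v)
    (hcard : 2 ^ r ≤ Nat.card F) : Nat.card (Subgroup.centralizer (F : Set G)) ≤ N := by
  classical
  have : Fintype G := Fintype.ofFinite G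
  have : M.IsPrime := hM.2.1.isPrime
  have : Fact (Nat.Prime 2) := ⟨Nat.prime_two⟩
  set H := Subgroup.centralizer (F : Set G)
  have hFH : F ≤ H := fun w hw => Subgroup.mem_centralizer_iff.2 fun v hv => hFc v hv w hw
  have hFn : (F.subgroupOf H).Normal :=
    Subgroup.normal_subgroupOf_of_le_normalizer (centralizer_le_normalizer' F)
  have hsingle : ∀ b : Set (Cfsg.IrrCharacter H), Cfsg.IsPBlock M b → b = Cfsg.principalBlock M H := by
    intro b hb
    obtain ⟨B, hind⟩ := exists_isInducedBlock hM hF hFH le_rfl (centralizer_le_normalizer' F) hb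
    obtain ⟨D, hD⟩ := exists_isDefectGroup (p := 2) hb
    obtain ⟨E, hE, hDE⟩ := IsInducedBlock.defectGroup_le hM hind hD
    have h1 : Nat.card F ≤ Nat.card E := by
      refine le_trans ?_ (Subgroup.card_le_of_le hDE)
      rw [Subgroup.card_map_of_injective H.subtype_injective,
        ← Nat.card_congr (Subgroup.subgroupOfEquivOfLe hFH).toEquiv]
      exact Subgroup.card_le_of_le (IsDefectGroup.normal_le hM hb hD
        (hF.comap_of_injective _ H.subtype_injective))
    have hBp : B = Cfsg.principalBlock M G := by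
      by_contra hne
      have h2 := hB B hind.2.1 hne
      rw [IsDefectGroup.card_eq hM hind.2.1 hE] at h1
      have := Nat.pow_lt_pow_right (show 1 < 2 by norm_num) h2
      omega
    exact (isInducedBlock_iff_of_height_zero hM (χ := CfsgLib.Char.trivChar G)
      CfsgLib.Char.isIrrCharacter_one (blockHeight_trivChar _)
      (blockHeight_trivChar (K := H) _) ⟨B, hind⟩).1 (by subst hBp; exact hind)
  refine hN H ?_
  rw [← CfsgLib.Char.card_irrCharacter]
  set B := Cfsg.blockOf M ((CfsgLib.Char.trivChar H : Cfsg.IrrCharacter H) : H → ℂ)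
  have hBb : Cfsg.IsPBlock M B := ⟨CfsgLib.Char.trivChar H, rfl⟩
  have hmem : ∀ χ : Cfsg.IrrCharacter H, χ ∈ B := fun χ => by
    have h := mem_blockOf_self (M := M) χ
    rw [hsingle _ (isPBlock_blockOf χ), ← hsingle B hBb] at h
    exact h
  rw [← Nat.card_congr (Equiv.subtypeUnivEquiv hmem)]
  have h := CfsgLib.CharAction.four_mul_card_le hM hBb (p := 2)
  have hd : Cfsg.blockDefect 2 B ≤ a := by
    have := (Nat.factorization_le_iff_dvd Nat.card_pos.ne' Nat.card_pos.ne').2
      (Subgroup.card_subgroup_dvd_card H) 2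
    unfold Cfsg.blockDefect
    omega
  have h2 : 2 ^ (2 * Cfsg.blockDefect 2 B) ≤ 2 ^ (2 * a) := Nat.pow_le_pow_right two_pos (by omega)
  replace h : 4 * Nat.card (Subtype (Membership.mem B)) ≤ 2 ^ (2 * Cfsg.blockDefect 2 B) + 4 := h
  omega

/-- For every natural number a there is a bound N with the following property. Let G be a finite group with Sylow 2-subgroups of order 2^a and r ≥ 0 such that G has no non-principal 2-block (relative to a maximal ideal of the algebraic integers containing 2) of defect ≥ r, and suppose a Sylow 2-subgroup of G contains an elementary abelian subgroup of order 2^(r+1). Then the order of G is at most N. -/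
theorem result (a : ℕ) : ∃ N : ℕ, ∀ (G : Type u) [Group G] [Finite G] (M : Ideal Cfsg.AlgInt) (r : ℕ) (P : Sylow 2 G), Cfsg.IsPModular 2 M → Nat.card P = 2 ^ a → (∀ B : Set (Cfsg.IrrCharacter G), Cfsg.IsPBlock M B → B ≠ Cfsg.principalBlock M G → Cfsg.blockDefect 2 B < r) → (∃ E : Subgroup G, E ≤ (P : Subgroup G) ∧ IsMulCommutative E ∧ (∀ x ∈ E, x * x = 1) ∧ Nat.card E = 2 ^ (r + 1)) → Nat.card G ≤ N := by
  obtain ⟨N₀, hN₀⟩ := CfsgLib.CharAction.exists_order_bound_of_card_classes.{u} (2 ^ (2 * a) + 4)
  choose f hf using CfsgLib.Blocks.InvolutionBound.exists_bound.{u} a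
  let n : ℕ → ℕ := fun i => Nat.rec N₀ (fun _ m => max m (f m)) i
  refine ⟨n a, fun G _ _ M r P hM hP hB hE => ?_⟩
  classical
  have : Fintype G := Fintype.ofFinite G
  have : Fact (Nat.Prime 2) := ⟨Nat.prime_two⟩
  obtain ⟨E, hEP, hEc, hE2, hEcard⟩ := hE
  have ha : (Nat.card G).factorization 2 ≤ a := by
    rw [P.card_eq_multiplicity] at hP
    exact (Nat.pow_right_injective le_rfl hP).le
  have hEp : IsPGroup 2 E := P.2.to_le hEP
  have hcomm : ∀ v ∈ E, ∀ w ∈ E, v * w = w * v := fun v hv w hw =>
    congrArg Subtype.val (hEc.is_comm.comm (⟨v, hv⟩ : E) ⟨w, hw⟩)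
  have key : ∀ i, ∀ F ≤ E, 2 ^ r ≤ Nat.card F * 2 ^ i →
      Nat.card (Subgroup.centralizer (F : Set G)) ≤ n i := by
    intro i
    induction i with
    | zero =>
      intro F hFE hF
      exact card_centralizer_le hM hN₀ ha hB F (hEp.to_le hFE)
        (fun v hv w hw => hcomm v (hFE hv) w (hFE hw)) (by simpa using hF)
    | succ i ih =>
      intro F hFE hF
      by_cases hbig : 2 ^ r ≤ Nat.card F * 2 ^ i
      · exact (ih F hFE hbig).trans (le_max_left _ _)
      refine le_trans ?_ (le_max_right _ _)
      push Not at hbig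
      have hFr : Nat.card F * 1 < 2 ^ r :=
        lt_of_le_of_lt (Nat.mul_le_mul le_rfl Nat.one_le_two_pow) hbig
      -- adjoining an element doubles
      have hdouble : ∀ F₁ : Subgroup G, ∀ v : G, v ∉ F₁ →
          Nat.card F₁ * 2 ≤ Nat.card ↥(F₁ ⊔ Subgroup.zpowers v) := by
        intro F₁ v hv
        have hle : F₁ ≤ F₁ ⊔ Subgroup.zpowers v := le_sup_left
        obtain ⟨k, hk⟩ := Subgroup.card_dvd_of_le hle
        rw [hk]
        refine Nat.mul_le_mul le_rfl ?_
        by_contra hk2
        have hk1 : k = 1 ∨ k = 0 := by omega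
        rcases hk1 with rfl | rfl
        · rw [mul_one] at hk
          refine hv ?_
          rw [Subgroup.eq_of_le_of_card_ge hle hk.le]
          exact le_sup_right (a := F₁) (Subgroup.mem_zpowers v)
        · simp at hk
      have hlt : ∀ F₁ ≤ E, Nat.card F₁ < 2 ^ (r + 1) → ∃ v ∈ E, v ∉ F₁ := by
        intro F₁ hF₁ hc
        by_contra hall
        push Not at hall
        rw [le_antisymm hF₁ hall, hEcard] at hc
        exact lt_irrefl _ hc
      obtain ⟨t, htE, htF⟩ := hlt F hFE (by rw [pow_succ]; omega)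
      have hF₁E : F ⊔ Subgroup.zpowers t ≤ E := sup_le hFE (Subgroup.zpowers_le.2 htE)
      have hF₁card : Nat.card ↥(F ⊔ Subgroup.zpowers t) < 2 ^ (r + 1) := by
        refine lt_of_le_of_lt (?_ : _ ≤ Nat.card F * 2) (by rw [pow_succ]; omega)
        have hnF : Subgroup.zpowers t ≤ Subgroup.normalizer (F : Set G) := by
          refine (Subgroup.zpowers_le.2 ?_).trans (CfsgLib.Blocks.centralizer_le_normalizer' F)
          exact Subgroup.mem_centralizer_iff.2 fun v hv => hcomm v (hFE hv) t htE
        refine (Nat.le_of_dvd (Nat.mul_pos Nat.card_pos Nat.card_pos) (CfsgLib.Components.card_sup_dvd_mul hnF)).trans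
          (Nat.mul_le_mul le_rfl ?_)
        rw [Nat.card_zpowers]
        exact Nat.le_of_dvd two_pos (orderOf_dvd_of_pow_eq_one (by rw [pow_two]; exact hE2 t htE))
      obtain ⟨u, huE, huF⟩ := hlt _ hF₁E hF₁card
      have htuF : t * u ∉ F := fun h => huF (by
        rw [show u = t⁻¹ * (t * u) by group]
        exact mul_mem (inv_mem (le_sup_right (a := F) (Subgroup.mem_zpowers t))) (le_sup_left (b := Subgroup.zpowers t) h))
      have huF0 : u ∉ F := fun h => huF (le_sup_left (b := Subgroup.zpowers t) h)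
      -- the bounds on centralizers inside `C(F)`
      set H := Subgroup.centralizer (F : Set G)
      have hEH : ∀ v ∈ E, v ∈ H := fun v hv =>
        Subgroup.mem_centralizer_iff.2 fun w hw => hcomm w (hFE hw) v hv
      have hc : ∀ v, ∀ hv : v ∈ E, v ∉ F →
          CfsgLib.Blocks.InvolutionBound.cent (⟨v, hEH v hv⟩ : H) ≤ n i := by
        intro v hv hvF
        refine le_trans ?_ (ih (F ⊔ Subgroup.zpowers v) (sup_le hFE (Subgroup.zpowers_le.2 hv)) ?_)
        · refine Nat.card_le_card_of_injective (fun g => ⟨((g : H) : G), ?_⟩) fun g g' h => ?_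
          · have h1 : F ⊔ Subgroup.zpowers v ≤ Subgroup.centralizer ({((g : H) : G)} : Set G) := by
              refine sup_le (fun w hw => Subgroup.mem_centralizer_singleton_iff.2
                (Subgroup.mem_centralizer_iff.1 (g : H).2 w hw)) (Subgroup.zpowers_le.2 ?_)
              exact Subgroup.mem_centralizer_singleton_iff.2
                (congrArg Subtype.val (Subgroup.mem_centralizer_singleton_iff.1 g.2)).symm
            exact Subgroup.mem_centralizer_iff.2 fun w hw =>
              Subgroup.mem_centralizer_singleton_iff.1 (h1 hw)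
          · exact Subtype.ext (Subtype.ext (Subtype.mk.inj h))
        · have := hdouble F v hvF
          calc 2 ^ r ≤ Nat.card F * 2 ^ (i + 1) := hF
            _ = Nat.card F * 2 * 2 ^ i := by rw [pow_succ]; ring
            _ ≤ _ := Nat.mul_le_mul this le_rfl
      have hne : ∀ v, v ∉ F → v ≠ 1 := fun v hv e => hv (e ▸ one_mem F)
      refine hf (n i) H ⟨t, hEH t htE⟩ ⟨u, hEH u huE⟩ ?_ ⟨Subtype.ext (hE2 t htE),
        Subtype.ext (hE2 u huE), Subtype.ext (hcomm t htE u huE), ?_, ?_, ?_, hc t htE htF,
        hc u huE huF0, ?_⟩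
      · exact le_trans ((Nat.factorization_le_iff_dvd Nat.card_pos.ne' Nat.card_pos.ne').2
          (Subgroup.card_subgroup_dvd_card H) 2) ha
      · exact fun e => hne t htF (congrArg Subtype.val e)
      · exact fun e => hne u huF0 (congrArg Subtype.val e)
      · exact fun e => huF (by
          rw [show u = t from (congrArg Subtype.val e).symm]
          exact le_sup_right (a := F) (Subgroup.mem_zpowers t))
      · exact hc (t * u) (mul_mem htE huE) htuF
  have h := key a ⊥ bot_le (by
    rw [Subgroup.card_bot, one_mul]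
    refine Nat.pow_le_pow_right two_pos ?_
    have := Subgroup.card_le_of_le hEP
    rw [hEcard, hP] at this
    have := (Nat.pow_le_pow_iff_right (le_refl 2)).1 this
    omega)
  have htop : Subgroup.centralizer ((⊥ : Subgroup G) : Set G) = ⊤ := eq_top_iff.2 fun g _ =>
    Subgroup.mem_centralizer_iff.2 fun v hv => by
      rw [SetLike.mem_coe, Subgroup.mem_bot] at hv
      simp [hv]
  rwa [htop, Subgroup.card_top] at h

end Cfsg.Agent.S4719
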