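import Cfsg.Statements.S4720
import Cfsg.Agent.Lib.Blocks.Principal
import Cfsg.Agent.Lib.Blocks.Sections

set_option autoImplicit false
open Cfsg

namespace Cfsg.Agent.S4720

/-- Let p be a prime, M a maximal ideal of the algebraic integers containing p, P a p-subgroup of the finite group G, N a subgroup with P ≤ N ≤ N_G(P), and U a nonempty subset of P normalized by N such that an element of U and an element of P that are conjugate in G are already conjugate in N, and such that λ(C_G(y)) = w·#C_N(y) for every y ∈ U with one rational number w, where λ(X) denotes the sum of the squares of the degrees of the irreducible characters in the principal p-block of X. For a complex function θ on P and χ in the principal block of G put a_χ(θ) = #P⁻¹ Σ_{y ∈ P} χ(y) θ(y⁻¹). Then for generalized characters θ, η of P with θ vanishing outside U, Σ_χ a_χ(θ)·conj(a_χ(η)) = (w/#P²)·Σ_{y ∈ P} θ(y)·conj(Σ_{x ∈ N} η(x y x⁻¹)) (η extended by zero off P; the conjugates lie in P),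 the first sum over the principal p-block of G. -/
theorem result {G : Type*} [Group G] [Finite G] (p : ℕ) [Fact p.Prime] (M : Ideal Cfsg.AlgInt) (hM : Cfsg.IsPModular p M) (P : Subgroup G) (hP : IsPGroup p P) (N : Subgroup G) (hPN : P ≤ N) (hNN : N ≤ Subgroup.normalizer (P : Set G)) (U : Set G) (hUne : U.Nonempty) (hUP : U ⊆ (P : Set G)) (hUN : ∀ n ∈ N, ∀ u ∈ U, n * u * n⁻¹ ∈ U) (hfus : ∀ u ∈ U, ∀ g : G, g * u * g⁻¹ ∈ (P : Set G) → ∃ n ∈ N, n * u * n⁻¹ = g * u * g⁻¹) (w : ℚ) (hw : ∀ y ∈ U, ((∑ᶠ ψ ∈ Cfsg.principalBlock M ↥(Subgroup.centralizer ({y} : Set G)), Cfsg.charDegree (ψ : ↥(Subgroup.centralizer ({y} : Set G)) → ℂ) ^ 2) : ℚ) = w * Nat.card ↥(N ⊓ Subgroup.centralizer ({y} : Set G))) (θ η : ↥P → ℂ) (hθ : Cfsg.IsGeneralizedCharacter ↥P θ) (hη : Cfsg.IsGeneralizedCharacter ↥P η) (hθU : ∀ y : ↥P, (y : G) ∉ U → θ y = 0) : ∑ᶠ χ ∈ Cfsg.principalBlock M G, ((Nat.card ↥P : ℂ)⁻¹ * ∑ᶠ y : ↥P, (χ : G → ℂ) (y : G) * θ y⁻¹) * (starRingEnd ℂ) ((Nat.card ↥P : ℂ)⁻¹ * ∑ᶠ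 y : ↥P, (χ : G → ℂ) (y : G) * η y⁻¹) = ((w : ℂ) / ((Nat.card ↥P : ℂ) ^ 2)) * ∑ᶠ y : ↥P, θ y * (starRingEnd ℂ) (∑ᶠ x : ↥N, Cfsg.extendByZero P η ((x : G) * (y : G) * (x : G)⁻¹)) := by
  classical
  have := Fintype.ofFinite G
  have : M.IsPrime := hM.2.1.isPrime
  set B := Cfsg.principalBlock M G with hB
  set T := (Set.toFinite B).toFinset
  simp only [finsum_mem_eq_finite_toFinset_sum _ (Set.toFinite B), finsum_eq_sum_of_fintype]
  -- elements of `P` are `p`-elements
  have hpart : ∀ v : P, Cfsg.IsPPart p (v : G) (v : G) := fun v => by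
    obtain ⟨k, hk⟩ := IsPGroup.iff_orderOf.1 hP v
    exact ⟨1, mul_one _, Commute.one_right _, ⟨k, by rw [← hk]; exact Subgroup.orderOf_coe v⟩,
      by simp [hM.1.ne_one]⟩
  -- the column sums
  have hS : ∀ u v : P, (u : G) ∈ U →
      ∑ χ ∈ T, (χ : G → ℂ) (v : G) * (χ : G → ℂ) (u : G)⁻¹ =
        (w : ℂ) * ((Finset.univ.filter fun n : N => (n : G) * u * (n : G)⁻¹ = v).card : ℂ) := by
    intro u v hu
    by_cases hc : IsConj (u : G) (v : G)
    swap
    · have h0 := CfsgLib.Blocks.sum_block_apply_mul_eq_zero hM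
        (CfsgLib.Blocks.isPBlock_principalBlock (M := M) (G := G)) (hpart v) (hpart u)
        (fun h => hc h.symm)
      rw [finsum_mem_eq_finite_toFinset_sum _ (Set.toFinite _)] at h0
      have he : (Finset.univ.filter fun m : N => (m : G) * u * (m : G)⁻¹ = v) = ∅ :=
        Finset.filter_eq_empty_iff.2 fun {m} _ hm => hc (isConj_iff.2 ⟨(m : G), hm⟩)
      rw [h0, he]
      simp
    obtain ⟨g, hg⟩ := isConj_iff.1 hc
    obtain ⟨n, hnN, hn⟩ := hfus u hu g (by rw [hg]; exact v.2)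
    rw [hg] at hn
    have hcard : (Finset.univ.filter fun m : N => (m : G) * u * (m : G)⁻¹ = v).card =
        Nat.card ↥(N ⊓ Subgroup.centralizer ({(u : G)} : Set G)) := by
      rw [← Fintype.card_subtype, ← Nat.card_eq_fintype_card]
      refine Nat.card_congr
        { toFun := fun m => ⟨n⁻¹ * ((m : N) : G), Subgroup.mem_inf.2
            ⟨N.mul_mem (N.inv_mem hnN) (m : N).2, CfsgLib.Blocks.mem_centralizer_singleton.2 ?_⟩⟩
          invFun := fun c => ⟨⟨n * (c : G), N.mul_mem hnN (Subgroup.mem_inf.1 c.2).1⟩, ?_⟩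
          left_inv := fun m => by ext; simp
          right_inv := fun c => by ext; simp }
      · have h : ((m : N) : G) * u * ((m : N) : G)⁻¹ = n * u * n⁻¹ := m.2.trans hn.symm
        rw [mul_inv_eq_iff_eq_mul] at h
        show n⁻¹ * ((m : N) : G) * (u : G) = (u : G) * (n⁻¹ * ((m : N) : G))
        rw [mul_assoc, h]
        group
      · have h : (c : G) * (u : G) = (u : G) * (c : G) :=
          CfsgLib.Blocks.mem_centralizer_singleton.1 (Subgroup.mem_inf.1 c.2).2
        show n * (c : G) * u * (n * (c : G))⁻¹ = v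
        rw [mul_assoc n, h, ← hn]
        group
    obtain ⟨k, hk⟩ := IsPGroup.iff_orderOf.1 hP u
    have := Fintype.ofFinite (Subgroup.centralizer ({(u : G)} : Set G))
    have hn1 := CfsgLib.Blocks.sum_principalBlock_norm_sq hM (x := (u : G))
      ⟨k, by rw [← hk]; exact Subgroup.orderOf_coe u⟩ (y := 1) (by simp [hM.1.ne_one])
    have hw1 := congrArg (fun r : ℚ => (r : ℂ)) (hw u hu)
    rw [hcard]
    simp only [Rat.cast_mul, Rat.cast_natCast] at hw1
    rw [← hw1]
    simp only [finsum_mem_eq_finite_toFinset_sum _ (Set.toFinite (Cfsg.principalBlock M _)),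
      OneMemClass.coe_one, mul_one] at hn1 ⊢
    rw [Rat.cast_sum]
    have hn2 := congrArg (fun r : ℝ => (r : ℂ)) hn1
    simp only [Complex.ofReal_sum, CfsgLib.Blocks.apply_one_eq_charDegree, Complex.norm_natCast,
      ← hB] at hn2
    refine Eq.trans ?_ (hn2.trans (Finset.sum_congr rfl fun ψ _ => by push_cast; rfl))
    refine Finset.sum_congr rfl fun χ _ => ?_
    rw [CfsgLib.Char.isClassFunction_iff_isConj.1 (CfsgLib.Char.IsIrr.isClassFunction χ.2) _ _
      hc.symm, CfsgLib.Char.IsIrr.map_inv χ.2, Complex.mul_conj']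
    push_cast
    rfl
  set c : ℂ := (Nat.card ↥P : ℂ)⁻¹ with hcdef
  calc ∑ χ ∈ T, c * (∑ y : P, (χ : G → ℂ) (y : G) * θ y⁻¹) *
        (starRingEnd ℂ) (c * ∑ y : P, (χ : G → ℂ) (y : G) * η y⁻¹)
      = c ^ 2 * ∑ u : P, θ u * ∑ v : P, (starRingEnd ℂ) (η v) *
          ∑ χ ∈ T, (χ : G → ℂ) (v : G) * (χ : G → ℂ) (u : G)⁻¹ := by
        have e1 : ∀ χ : Cfsg.IrrCharacter G, ∑ y : P, (χ : G → ℂ) (y : G) * θ y⁻¹ =
            ∑ u : P, (χ : G → ℂ) (u : G)⁻¹ * θ u := fun χ =>
          Fintype.sum_equiv (Equiv.inv P) _ _ fun y => by simp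
        have e2 : ∀ χ : Cfsg.IrrCharacter G,
            (starRingEnd ℂ) (∑ y : P, (χ : G → ℂ) (y : G) * η y⁻¹) =
            ∑ v : P, (χ : G → ℂ) (v : G) * (starRingEnd ℂ) (η v) := fun χ => by
          rw [map_sum]
          refine Fintype.sum_equiv (Equiv.inv P) _ _ fun y => ?_
          rw [map_mul, Equiv.inv_apply, Subgroup.coe_inv, CfsgLib.Char.IsIrr.map_inv χ.2]
        simp only [e1, map_mul, e2]
        simp only [hcdef, map_inv₀, Complex.conj_natCast, Finset.mul_sum, Finset.sum_mul]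
        rw [Finset.sum_comm]
        refine (Finset.sum_congr rfl fun v _ => ?_).trans Finset.sum_comm
        rw [Finset.sum_comm]
        exact Finset.sum_congr rfl fun u _ => Finset.sum_congr rfl fun χ _ => by ring
    _ = (w : ℂ) / (Nat.card ↥P : ℂ) ^ 2 * ∑ u : P, θ u *
          (starRingEnd ℂ) (∑ n : N, Cfsg.extendByZero P η ((n : G) * u * (n : G)⁻¹)) := by
        rw [div_eq_mul_inv, ← inv_pow, ← hcdef, mul_comm (w : ℂ), mul_assoc, Finset.mul_sum (a := (w : ℂ))]
        congr 1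
        refine Finset.sum_congr rfl fun u _ => ?_
        by_cases hu : (u : G) ∈ U
        swap
        · simp [hθU u hu]
        simp only [hS u _ hu]
        rw [← mul_left_comm]
        congr 1
        have hmem : ∀ n : N, (n : G) * u * (n : G)⁻¹ ∈ P := fun n =>
          ((Subgroup.mem_normalizer_iff.1 (hNN n.2)) u).1 u.2
        have hext : ∀ n : N, Cfsg.extendByZero P η ((n : G) * u * (n : G)⁻¹) = η ⟨_, hmem n⟩ :=
          fun n => Subtype.val_injective.extend_apply η 0 ⟨_, hmem n⟩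
        simp only [hext, map_sum]
        rw [← Finset.sum_fiberwise Finset.univ (fun n : N => (⟨_, hmem n⟩ : P)), Finset.mul_sum]
        refine Finset.sum_congr rfl fun v _ => ?_
        rw [Finset.sum_congr rfl (g := fun _ => (starRingEnd ℂ) (η v)) fun n hn => by
          rw [(Finset.mem_filter.1 hn).2], Finset.sum_const, nsmul_eq_mul]
        simp only [Subtype.ext_iff]
        ring

end Cfsg.Agent.S4720
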