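import Cfsg.Statements.S4721
import Cfsg.Agent.Lib.Blocks.AbelianIndexThreeInvolution
-- import your own Cfsg.Agent.* helpers here

set_option autoImplicit false
open Cfsg

namespace Cfsg.Agent.S4721

open CfsgLib CfsgLib.IndexThree CfsgLib.Char CfsgLib.Blocks
open scoped ComplexConjugate

variable {G : Type*} [Group G] [Fintype G] {p : ℕ} [Fact p.Prime] {P : Sylow p G} {g : G}
  (S : Setting p P g)

include S in
theorem normalizer_action {n : G} (hn : n ∈ Subgroup.normalizer ((P : Subgroup G) : Set G))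
    {x₀ : (P : Subgroup G)} (hx₀ : x₀ ≠ 1) :
    (∀ x : (P : Subgroup G), n * x * n⁻¹ = (x : G)) ∨
      (∀ x : (P : Subgroup G), n * x * n⁻¹ = (IndexThree.sigma S x : G)) ∨
        ∀ x : (P : Subgroup G), n * x * n⁻¹ = (IndexThree.sigma S (IndexThree.sigma S x) : G) := by
  have hmain : ∀ m ∈ Subgroup.normalizer ((P : Subgroup G) : Set G),
      m⁻¹ * n * x₀ * (m⁻¹ * n)⁻¹ = (x₀ : G) →
      ∀ x : (P : Subgroup G), n * x * n⁻¹ = m * x * m⁻¹ := fun m hm h x => by
    have h1 : m⁻¹ * n ∈ Subgroup.centralizer ({(x₀ : G)} : Set G) ⊓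
        Subgroup.normalizer ((P : Subgroup G) : Set G) :=
      Subgroup.mem_inf.mpr ⟨Subgroup.mem_centralizer_singleton_iff.mpr (mul_inv_eq_iff_eq_mul.mp h),
        mul_mem (inv_mem hm) hn⟩
    rw [S.fpf x₀ x₀.2 fun e => hx₀ (Subtype.ext e)] at h1
    have h2 := Subgroup.mem_centralizer_iff.mp h1 x x.2
    calc n * x * n⁻¹ = m * ((m⁻¹ * n) * x) * n⁻¹ := by group
      _ = m * (x * (m⁻¹ * n)) * n⁻¹ := by rw [h2]
      _ = _ := by group
  have h0 : n * x₀ * n⁻¹ = ((⟨n * x₀ * n⁻¹, conj_mem S x₀.2 hn⟩ : (P : Subgroup G)) : G) := rfl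
  rcases inOrbit_of_conj S hn h0 with e | e | e
  · have e' : n * x₀ * n⁻¹ = (x₀ : G) := congrArg Subtype.val e
    refine Or.inl fun x => ?_
    have := hmain 1 (one_mem _) (by simpa using e') x
    simpa using this
  · have e' : n * x₀ * n⁻¹ = g * x₀ * g⁻¹ := congrArg Subtype.val e
    refine Or.inr (Or.inl fun x => ?_)
    refine hmain g S.mem ?_ x
    calc g⁻¹ * n * x₀ * (g⁻¹ * n)⁻¹ = g⁻¹ * (n * x₀ * n⁻¹) * g := by group
      _ = _ := by rw [e']; group
  · have e' : n * x₀ * n⁻¹ = g * (g * x₀ * g⁻¹) * g⁻¹ := congrArg Subtype.val e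
    refine Or.inr (Or.inr fun x => ?_)
    refine (hmain (g * g) (mul_mem S.mem S.mem) ?_ x).trans ?_
    · calc (g * g)⁻¹ * n * x₀ * ((g * g)⁻¹ * n)⁻¹ = (g * g)⁻¹ * (n * x₀ * n⁻¹) * (g * g) := by
            simp [mul_assoc]
        _ = _ := by rw [e']; group
    · rw [coe_sigma, coe_sigma]; group

/-- The orbit of a linear character, as in the statement. -/
theorem orbit_iff {x₀ : (P : Subgroup G)} (hx₀ : x₀ ≠ 1) (ψ ψ' : Lin S) :
    (∃ n : G, n ∈ Subgroup.normalizer ((P : Subgroup G) : Set G) ∧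
        ∀ w w' : (P : Subgroup G), (w' : G) = n * w * n⁻¹ → ψ' w' = ψ w) ↔
      ψ' = ψ ∨ ψ' = twist S ψ ∨ ψ' = twist S (twist S ψ) := by
  constructor
  · rintro ⟨n, hn, h⟩
    rcases normalizer_action S hn hx₀ with e | e | e
    · exact Or.inl (MonoidHom.ext fun w => h w w (e w).symm)
    · refine Or.inr (Or.inr (MonoidHom.ext fun w => ?_))
      have h1 := h (IndexThree.sigma S (IndexThree.sigma S w)) w (by rw [e, sigma_three])
      exact h1
    · refine Or.inr (Or.inl (MonoidHom.ext fun w => ?_))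
      have h1 := h (IndexThree.sigma S w) w (by rw [e, sigma_three])
      exact h1
  · rintro (rfl | rfl | rfl)
    · exact ⟨1, one_mem _, fun w w' e => by rw [Subtype.ext (show (w' : G) = w by simpa using e)]⟩
    · refine ⟨g * g, mul_mem S.mem S.mem, fun w w' e => ?_⟩
      have : w' = IndexThree.sigma S (IndexThree.sigma S w) := Subtype.ext (by rw [e, coe_sigma, coe_sigma]; group)
      rw [this]
      exact congrArg ψ (sigma_three S w)
    · refine ⟨g, S.mem, fun w w' e => ?_⟩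
      rw [show w' = IndexThree.sigma S w from Subtype.ext e]
      exact congrArg ψ (sigma_three S w)

theorem twist_ne_one {ψ : Lin S} (hψ : ψ ≠ 1) : twist S ψ ≠ 1 ∧ twist S (twist S ψ) ≠ 1 :=
  ⟨fun e => hψ (by
    have := congrArg (fun z => twist S (twist S z)) e
    simpa only [twist_three, twist_one] using this),
   fun e => hψ (by
    have := congrArg (twist S) e
    rwa [twist_three, twist_one] at this)⟩

variable {M : Ideal Cfsg.AlgInt} [M.IsPrime] (hM : Cfsg.IsPModular p M) (D : Config S M)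

theorem fibre_card [Fintype (Lin S)] [DecidableEq (Cfsg.IrrCharacter G)] [DecidableEq (Lin S)]
    {ψ : Lin S} (hψ : ψ ≠ 1) :
    ((Finset.univ.filter fun φ : Lin S => φ ≠ 1).filter fun φ => D.ζ φ = D.ζ ψ).card = 3 := by
  obtain ⟨t1, t2⟩ := twist_ne_one S hψ
  rw [show ((Finset.univ.filter fun φ : Lin S => φ ≠ 1).filter fun φ => D.ζ φ = D.ζ ψ) =
    {ψ, twist S ψ, twist S (twist S ψ)} from ?_]
  · refine Finset.card_eq_three.mpr ⟨_, _, _, fun e => hψ (twist_fixed S e.symm), fun e => hψ ?_,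
      fun e => t1 (twist_fixed S e.symm), rfl⟩
    refine twist_fixed S ?_
    have := congrArg (twist S) e
    rwa [twist_three] at this
  ext φ
  simp only [Finset.mem_filter, Finset.mem_univ, true_and, Finset.mem_insert, Finset.mem_singleton]
  refine ⟨fun h => (D.ζ_eq φ ψ h.1 hψ).mp h.2, fun h => ?_⟩
  have hne : φ ≠ 1 := by rcases h with rfl | rfl | rfl <;> assumption
  exact ⟨hne, (D.ζ_eq φ ψ hne hψ).mpr h⟩

/-- Splitting a sum over the principal block. -/
theorem sum_split [Fintype (Lin S)] [DecidableEq (Lin S)] (F : Cfsg.IrrCharacter G → ℂ) :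
    ∑ᶠ χ ∈ Cfsg.principalBlock M G, F χ = F (trivChar G) + F D.χa + F D.χb +
      (3 : ℂ)⁻¹ * ∑ φ ∈ Finset.univ.filter (fun φ : Lin S => φ ≠ 1), F (D.ζ φ) := by
  classical
  set L := Finset.univ.filter (fun φ : Lin S => φ ≠ 1) with hL
  have hK : (Set.toFinite (Cfsg.principalBlock M G)).toFinset =
      insert (trivChar G) (insert D.χa (insert D.χb (L.image D.ζ))) := by
    ext χ
    simp only [Set.Finite.mem_toFinset, D.mem_iff, Finset.mem_insert, Finset.mem_image, hL,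
      Finset.mem_filter, Finset.mem_univ, true_and]
  have hnot : ∀ χ, χ = trivChar G ∨ χ = D.χa ∨ χ = D.χb → χ ∉ L.image D.ζ := fun χ hχ h => by
    obtain ⟨φ, hφ, rfl⟩ := Finset.mem_image.mp h
    obtain ⟨h1, h2, h3⟩ := D.ζ_ne φ (Finset.mem_filter.mp hφ).2
    rcases hχ with e | e | e
    exacts [h1 e, h2 e, h3 e]
  rw [finsum_mem_eq_finite_toFinset_sum _ (Set.toFinite _), hK,
    Finset.sum_insert (by simp [Ne.symm D.a_ne, Ne.symm D.b_ne, hnot _ (Or.inl rfl)]),
    Finset.sum_insert (by simp [D.a_ne_b, hnot _ (Or.inr (Or.inl rfl))]),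
    Finset.sum_insert (hnot _ (Or.inr (Or.inr rfl)))]
  have h3 : ∑ φ ∈ L, F (D.ζ φ) = 3 * ∑ χ ∈ L.image D.ζ, F χ := by
    rw [← Finset.sum_fiberwise_of_maps_to (fun φ hφ => Finset.mem_image_of_mem D.ζ hφ),
      Finset.mul_sum]
    refine Finset.sum_congr rfl fun χ hχ => ?_
    obtain ⟨ψ, hψ, rfl⟩ := Finset.mem_image.mp hχ
    rw [Finset.sum_congr rfl (g := fun _ => F (D.ζ ψ)) fun φ hφ => by rw [(Finset.mem_filter.mp hφ).2],
      Finset.sum_const, fibre_card S D (Finset.mem_filter.mp hψ).2, nsmul_eq_mul]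
    norm_num
  rw [h3]
  ring

theorem sum_nontrivial [Fintype (Lin S)] [DecidableEq (Lin S)] {z : (P : Subgroup G)} (hz : z ≠ 1) :
    ∑ φ ∈ Finset.univ.filter (fun φ : Lin S => φ ≠ 1), (φ z : ℂ) = -1 := by
  classical
  have h := sum_apply_lin S z
  rw [if_neg hz, ← Finset.add_sum_erase _ _ (Finset.mem_univ (1 : Lin S)), MonoidHom.one_apply,
    Units.val_one, ← Finset.filter_ne'] at h
  linear_combination h

theorem sum_orbitSum [Fintype (Lin S)] [DecidableEq (Lin S)] {z : (P : Subgroup G)} (hz : z ≠ 1) :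
    ∑ φ ∈ Finset.univ.filter (fun φ : Lin S => φ ≠ 1), orbitSum S φ z = -3 := by
  have h1 : IndexThree.sigma S z ≠ 1 := fun e => hz (by
    have := congrArg (fun w => IndexThree.sigma S (IndexThree.sigma S w)) e
    simpa only [sigma_three, map_one] using this)
  have h2 : IndexThree.sigma S (IndexThree.sigma S z) ≠ 1 := fun e => hz (by
    have := congrArg (IndexThree.sigma S) e
    rwa [sigma_three, map_one] at this)
  simp only [orbitSum, twist, MonoidHom.comp_apply, Finset.sum_add_distrib, sum_nontrivial S hz,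
    sum_nontrivial S h1, sum_nontrivial S h2]
  ring

include hM in
/-- The relation between the values at regular elements. -/
theorem regular_rel {ψ : Lin S} (hψ : ψ ≠ 1) {r : G} (hr : ¬ p ∣ orderOf r) :
    1 + (D.sa : ℂ) * (D.χa : G → ℂ) r + (D.sb : ℂ) * (D.χb : G → ℂ) r -
      (D.δ : ℂ) * (D.ζ ψ : G → ℂ) r = 0 := by
  classical
  have := Fintype.ofFinite (P : Subgroup G)
  have := finite_lin S
  have := Fintype.ofFinite (Lin S)
  have hn0 : (Nat.card (P : Subgroup G) : ℂ) ≠ 0 := Nat.cast_ne_zero.mpr Nat.card_pos.ne'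
  have hconst : ∀ (χ : Cfsg.IrrCharacter G) (k : ℂ),
      (∀ x : (P : Subgroup G), x ≠ 1 → (χ : G → ℂ) x = k) → coef S (χ : G → ℂ) ψ = -k := by
    intro χ k hk
    have h : ∀ x : (P : Subgroup G), (χ : G → ℂ) x * (conj (ψ x : ℂ) - 1) =
        k * (conj (ψ x : ℂ) - 1) := fun x => by
      by_cases hx : x = 1
      · subst hx; simp
      · rw [hk x hx]
    rw [coef, Finset.sum_congr rfl fun x _ => h x, ← Finset.mul_sum, Finset.sum_sub_distrib,
      ← map_sum, sum_apply S, if_neg hψ, map_zero, Finset.sum_const, Finset.card_univ,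
      nsmul_eq_mul, mul_one, ← Nat.card_eq_fintype_card]
    field_simp
    ring
  have hζ : ∀ φ : Lin S, φ ≠ 1 →
      coef S (D.ζ φ : G → ℂ) ψ = if D.ζ φ = D.ζ ψ then (D.δ : ℂ) else 0 := by
    intro φ hφ
    obtain ⟨t1, t2⟩ := twist_ne_one S hφ
    have hp : ∀ η : Lin S, η ≠ 1 → ∑ x : (P : Subgroup G), (η x : ℂ) * (conj (ψ x : ℂ) - 1) =
        if η = ψ then (Nat.card (P : Subgroup G) : ℂ) else 0 := fun η hη => by
      have hmul : ∀ x : (P : Subgroup G), (η x : ℂ) * conj (ψ x : ℂ) = (((η * ψ⁻¹) x : ℂˣ) : ℂ) :=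
        fun x => by
        rw [show conj (ψ x : ℂ) = (ψ x⁻¹ : ℂ) from (IsIrr.map_inv (isIrrCharacter_linear ψ) x).symm,
          MonoidHom.mul_apply, MonoidHom.inv_apply, map_inv, Units.val_mul]
      simp only [mul_sub, mul_one, hmul, Finset.sum_sub_distrib]
      rw [sum_apply S, sum_apply S, if_neg hη, sub_zero]
      by_cases hq : η = ψ
      · rw [if_pos hq, if_pos (MonoidHom.ext fun x => by simp [hq])]
      · rw [if_neg hq, if_neg fun e => hq (MonoidHom.ext fun x => ?_)]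
        have h1 := DFunLike.congr_fun e x
        simp only [MonoidHom.mul_apply, MonoidHom.inv_apply, MonoidHom.one_apply] at h1
        exact mul_inv_eq_one.mp h1
    have h : ∀ x : (P : Subgroup G), (D.ζ φ : G → ℂ) x * (conj (ψ x : ℂ) - 1) =
        (D.δ : ℂ) * ((φ x : ℂ) * (conj (ψ x : ℂ) - 1) + (twist S φ x : ℂ) * (conj (ψ x : ℂ) - 1) +
          (twist S (twist S φ) x : ℂ) * (conj (ψ x : ℂ) - 1)) := fun x => by
      by_cases hx : x = 1
      · subst hx; simp
      · rw [D.val_ζ φ hφ x hx, orbitSum]; ring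
    rw [coef, Finset.sum_congr rfl fun x _ => h x, ← Finset.mul_sum, Finset.sum_add_distrib,
      Finset.sum_add_distrib, hp φ hφ, hp _ t1, hp _ t2]
    have key : D.ζ φ = D.ζ ψ ↔ φ = ψ ∨ twist S φ = ψ ∨ twist S (twist S φ) = ψ := by
      rw [eq_comm, D.ζ_eq ψ φ hψ hφ]
      exact or_congr eq_comm (or_congr eq_comm eq_comm)
    by_cases hq : D.ζ φ = D.ζ ψ
    · rw [if_pos hq]
      have n1 : twist S φ ≠ φ := fun e => hφ (twist_fixed S e)
      have n3 : twist S (twist S φ) ≠ twist S φ := fun e => t1 (twist_fixed S e)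
      have n2 : twist S (twist S φ) ≠ φ := fun e => hφ (twist_fixed S (by
        have := congrArg (twist S) e
        rw [twist_three] at this
        exact this.symm))
      rcases key.mp hq with e | e | e <;> subst e
      · rw [if_pos rfl, if_neg n1, if_neg n2]; field_simp; ring
      · rw [if_neg n1.symm, if_pos rfl, if_neg n3]; field_simp; ring
      · rw [if_neg n2.symm, if_neg n3.symm, if_pos rfl]; field_simp; ring
    · rw [if_neg hq]
      simp only [key, not_or] at hq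
      rw [if_neg hq.1, if_neg hq.2.1, if_neg hq.2.2]
      ring
  have h := coef_regular S hM (ψ := ψ) hr
  rw [sum_split S D, coef_triv S hψ, trivChar_apply, hconst _ _ D.val_a, hconst _ _ D.val_b] at h
  rw [Finset.sum_congr rfl (g := fun φ => if D.ζ φ = D.ζ ψ then (D.δ : ℂ) * (D.ζ ψ : G → ℂ) r else 0)
    fun φ hφ => by
      rw [hζ φ (Finset.mem_filter.mp hφ).2]
      split_ifs with e
      · rw [e, mul_comm]
      · rw [mul_zero], ← Finset.sum_filter, Finset.sum_const, fibre_card S D hψ, nsmul_eq_mul] at h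
  linear_combination -h

theorem sum_orbit_prod [Fintype (Lin S)] [DecidableEq (Lin S)] {t₀ y : (P : Subgroup G)}
    (ht₀ : t₀ * t₀ = 1) (hy : y ≠ 1 ∧ y ≠ t₀ ∧ y ≠ IndexThree.sigma S t₀ ∧ y ≠ IndexThree.sigma S (IndexThree.sigma S t₀)) :
    ∑ φ ∈ Finset.univ.filter (fun φ : Lin S => φ ≠ 1),
      orbitSum S φ t₀ * orbitSum S φ t₀ * orbitSum S φ y = -27 := by
  let O : ↥(P : Subgroup G) → Fin 3 → ↥(P : Subgroup G) := fun x => ![x, IndexThree.sigma S x, IndexThree.sigma S (IndexThree.sigma S x)]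
  have hO : ∀ (φ : Lin S) x, orbitSum S φ x = ∑ i, (φ (O x i) : ℂ) := fun φ x => by
    rw [Fin.sum_univ_three]; rfl
  have hne : ∀ i j k, O t₀ i * O t₀ j * O y k ≠ 1 := by
    have hc : ∀ u w : (P : Subgroup G), u * w = w * u := fun u w => Subtype.ext (S.comm u u.2 w w.2)
    have hsum : t₀ * IndexThree.sigma S t₀ * IndexThree.sigma S (IndexThree.sigma S t₀) = 1 := sigma_fixed S (by
      rw [map_mul, map_mul, sigma_three, hc _ t₀, mul_assoc])
    set a := IndexThree.sigma S t₀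
    set b := IndexThree.sigma S (IndexThree.sigma S t₀)
    have ha : a * a = 1 := by rw [← map_mul, ht₀, map_one]
    have hb : b * b = 1 := by rw [← map_mul, ha, map_one]
    have h01 : t₀ * a = b := by
      rw [eq_inv_of_mul_eq_one_left hsum, inv_eq_of_mul_eq_one_right hb]
    have h12 : a * b = t₀ := by
      rw [← inv_eq_of_mul_eq_one_right ht₀]
      exact eq_inv_of_mul_eq_one_right (by rw [← mul_assoc]; exact hsum)
    have h02 : t₀ * b = a := by
      rw [← h12, mul_assoc, hb, mul_one]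
    have hT : ∀ i j, O t₀ i * O t₀ j = 1 ∨ O t₀ i * O t₀ j = t₀ ∨ O t₀ i * O t₀ j = a ∨
        O t₀ i * O t₀ j = b := by
      intro i j
      fin_cases i <;> fin_cases j
      exacts [Or.inl ht₀, Or.inr (Or.inr (Or.inr h01)), Or.inr (Or.inr (Or.inl h02)),
        Or.inr (Or.inr (Or.inr ((hc _ _).trans h01))), Or.inl ha, Or.inr (Or.inl h12),
        Or.inr (Or.inr (Or.inl ((hc _ _).trans h02))), Or.inr (Or.inl ((hc _ _).trans h12)), Or.inl hb]
    have hinv : ∀ z, (z = 1 ∨ z = t₀ ∨ z = a ∨ z = b) → z * z = 1 := by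
      rintro z (rfl | rfl | rfl | rfl)
      exacts [mul_one 1, ht₀, ha, hb]
    intro i j k he
    have hk : O y k = O t₀ i * O t₀ j := by
      rw [eq_inv_of_mul_eq_one_right he]
      exact inv_eq_of_mul_eq_one_right (hinv _ (hT i j))
    have hyk : O y k = 1 ∨ O y k = t₀ ∨ O y k = a ∨ O y k = b := by rw [hk]; exact hT i j
    have hback : ∀ w : (P : Subgroup G), (w = 1 ∨ w = t₀ ∨ w = a ∨ w = b) →
        (IndexThree.sigma S w = 1 ∨ IndexThree.sigma S w = t₀ ∨ IndexThree.sigma S w = a ∨ IndexThree.sigma S w = b) := by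
      rintro w (rfl | rfl | rfl | rfl)
      exacts [Or.inl (map_one _), Or.inr (Or.inr (Or.inl rfl)), Or.inr (Or.inr (Or.inr rfl)),
        Or.inr (Or.inl (sigma_three S t₀))]
    have : y = 1 ∨ y = t₀ ∨ y = a ∨ y = b := by
      fin_cases k
      · exact hyk
      · have h := hback _ (hback _ hyk)
        simpa [O, sigma_three] using h
      · have h := hback _ hyk
        simpa [O, sigma_three] using h
    rcases this with h | h | h | h
    exacts [hy.1 h, hy.2.1 h, hy.2.2.1 h, hy.2.2.2 h]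
  have hexp : ∀ φ : Lin S, orbitSum S φ t₀ * orbitSum S φ t₀ * orbitSum S φ y =
      ∑ i, ∑ j, ∑ k, (φ (O t₀ i * O t₀ j * O y k) : ℂ) := fun φ => by
    rw [hO, hO, Finset.sum_mul_sum, Finset.sum_mul]
    refine Finset.sum_congr rfl fun i _ => ?_
    rw [Finset.sum_mul]
    refine Finset.sum_congr rfl fun j _ => ?_
    rw [Finset.mul_sum]
    exact Finset.sum_congr rfl fun k _ => by rw [map_mul, map_mul, Units.val_mul, Units.val_mul]
  rw [Finset.sum_congr rfl fun φ _ => hexp φ, Finset.sum_comm,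
    Finset.sum_congr rfl fun i _ => Finset.sum_comm,
    Finset.sum_congr rfl fun i _ => Finset.sum_congr rfl fun j _ => Finset.sum_comm,
    Finset.sum_congr rfl fun i _ => Finset.sum_congr rfl fun j _ => Finset.sum_congr rfl fun k _ =>
      sum_nontrivial S (hne i j k)]
  simp
  norm_num

theorem exists_trivial_at (hP4 : 4 < Nat.card (P : Subgroup G)) {t₀ : (P : Subgroup G)}
    (ht₀ : t₀ * t₀ = 1) :
    ∃ φ : Lin S, φ ≠ 1 ∧ φ t₀ = 1 ∧ φ (IndexThree.sigma S t₀) = 1 := by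
  classical
  have := Fintype.ofFinite (P : Subgroup G)
  have := finite_lin S
  have := Fintype.ofFinite (Lin S)
  by_contra hno
  push Not at hno
  have hsq : ∀ (φ : Lin S) (x : (P : Subgroup G)), x * x = 1 → (φ x : ℂ) = 1 ∨ (φ x : ℂ) = -1 :=
    fun φ x hx => mul_self_eq_one_iff.mp (by rw [← Units.val_mul, ← map_mul, hx, map_one, Units.val_one])
  have hσ : IndexThree.sigma S t₀ * IndexThree.sigma S t₀ = 1 := by rw [← map_mul, ht₀, map_one]
  have hterm : ∀ φ : Lin S, (1 + (φ t₀ : ℂ)) * (1 + (φ (IndexThree.sigma S t₀) : ℂ)) =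
      if φ = 1 then 4 else 0 := fun φ => by
    split_ifs with h
    · subst h; norm_num
    · rcases hsq φ t₀ ht₀ with e | e
      · rcases hsq φ _ hσ with e' | e'
        · exact absurd (Units.ext e') (hno φ h (Units.ext e))
        · rw [e']; ring
      · rw [e]; ring
  have h := Finset.sum_congr rfl fun φ (_ : φ ∈ (Finset.univ : Finset (Lin S))) => hterm φ
  have hexp : ∀ φ : Lin S, (1 + (φ t₀ : ℂ)) * (1 + (φ (IndexThree.sigma S t₀) : ℂ)) =
      ((φ 1 : ℂˣ) : ℂ) + (φ t₀ : ℂ) + (φ (IndexThree.sigma S t₀) : ℂ) + (φ (t₀ * IndexThree.sigma S t₀) : ℂ) := fun φ => by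
    rw [map_one, Units.val_one, map_mul, Units.val_mul]; ring
  simp only [hexp, Finset.sum_add_distrib, sum_apply_lin S, Finset.sum_ite_eq', Finset.mem_univ,
    if_true] at h
  have hcases : ∀ (q : Prop) [Decidable q] (r : Prop) [Decidable r] (u : Prop) [Decidable u],
      (Nat.card (P : Subgroup G) : ℂ) + (if q then (Nat.card (P : Subgroup G) : ℂ) else 0) +
        (if r then (Nat.card (P : Subgroup G) : ℂ) else 0) +
        (if u then (Nat.card (P : Subgroup G) : ℂ) else 0) ≠ 4 := fun q _ r _ u _ he => by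
    split_ifs at he <;> norm_cast at he <;> omega
  exact hcases _ _ _ h

end Cfsg.Agent.S4721

namespace Cfsg.Agent.S4721


/-- Let p be a prime, M a maximal ideal of the algebraic integers containing p, and G a finite group with a nontrivial abelian Sylow p-subgroup P, N = N_G(P), C = C_G(P), such that N/C is cyclic of order 3, #P > 4, and C_G(y) ∩ N = C for every non-identity y ∈ P. Then the principal p-block is the disjoint union of a set X of exactly 3 characters containing the principal character and a set Y of (#P − 1)/3 characters, with signs a_χ = ±1 (χ ∈ X, a = 1 at the principal character) and δ = ±1 such that every χ ∈ X takes the value a_χ at every element whose p-part is a non-identity element of P, and there is a map ζ from the non-principal linear characters of P onto Y, constant on N-conjugacy classes, with ζ_ψ(z) = δ·Σ ψ'(y) over the N-orbit of ψ, for z with p-part y ≠ 1 in P. If moreover G has an involution lying in no proper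 normal subgroup of G, then exactly two of the three numbers −δ and a_χ (χ ∈ X non-principal) equal −1, and the product of the degrees of the two non-principal members of X and of any member of Y is a perfect square. -/
theorem result {G : Type*} [Group G] [Finite G] (p : ℕ) [Fact p.Prime] (M : Ideal Cfsg.AlgInt) (hM : Cfsg.IsPModular p M) (P : Sylow p G) (hab : IsMulCommutative P) (hP1 : Nat.card P ≠ 1) (hCN : (Subgroup.centralizer ((P : Subgroup G) : Set G)).relIndex (Subgroup.normalizer ((P : Subgroup G) : Set G)) = 3) (hcyc : ∃ g : G, g ∈ Subgroup.normalizer ((P : Subgroup G) : Set G) ∧ Subgroup.centralizer ((P : Subgroup G) : Set G) ⊔ Subgroup.zpowers g = Subgroup.normalizer ((P : Subgroup G) : Set G)) (hm2 : 3 + 1 < Nat.card P) (hfrob : ∀ y : G, y ∈ (P : Subgroup G) → y ≠ 1 → Subgroup.centralizer ({y} : Set G) ⊓ Subgroup.normalizer ((P : Subgroup G) : Set G) = Subgroup.centralizer ((P : Subgroup G) : Set G)) : ∃ (X Y : Set (Cfsg.IrrCharacter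 G)), Cfsg.principalBlock M G = X ∪ Y ∧ Disjoint X Y ∧ Nat.card X = 3 ∧ Nat.card Y = (Nat.card P - 1) / 3 ∧ (∃ χ₁ ∈ X, (χ₁ : G → ℂ) = fun _ => 1) ∧ ∃ (a : Cfsg.IrrCharacter G → ℤ) (δ : ℤ) (ζ : (↥(P : Subgroup G) →* ℂˣ) → Cfsg.IrrCharacter G), (δ = 1 ∨ δ = -1) ∧ (∀ χ ∈ X, (a χ = 1 ∨ a χ = -1) ∧ ∀ z y : G, Cfsg.IsPPart p z y → y ∈ (P : Subgroup G) → y ≠ 1 → (χ : G → ℂ) z = (a χ : ℂ)) ∧ (∀ ψ : ↥(P : Subgroup G) →* ℂˣ, ψ ≠ 1 → ζ ψ ∈ Y) ∧ (∀ η ∈ Y, ∃ ψ : ↥(P : Subgroup G) →* ℂˣ, ψ ≠ 1 ∧ ζ ψ = η) ∧ (∀ ψ ψ' : ↥(P : Subgroup G) →* ℂˣ, ψ ≠ 1 → (∃ n : G, n ∈ Subgroup.normalizer ((P : Subgroup G) : Set G) ∧ ∀ w w' : ↥(P : Subgroup G), (w' : G) = n * w * n⁻¹ → ψ' w' = ψ w) → ζ ψ' = ζ ψ) ∧ (∀ ψ : ↥(P : Subgroup G) →* ℂˣ, ψ ≠ 1 → ∀ (z : G) (y : ↥(P : Subgroup G)), Cfsg.IsPPart p z (y : G) → (y : G) ≠ 1 → (ζ ψ : G → ℂ) z = (δ : ℂ) * ∑ᶠ ψ' ∈ {ψ' : ↥(P : Subgroup G) →* ℂˣ | ∃ n : G, n ∈ Subgroup.normalizer ((P : Subgroup G) : Set G) ∧ ∀ w w' : ↥(P : Subgroup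 G), (w' : G) = n * w * n⁻¹ → ψ' w' = ψ w}, ((ψ' y : ℂˣ) : ℂ)) ∧ ((∃ t : G, orderOf t = 2 ∧ ∀ K : Subgroup G, K.Normal → t ∈ K → K = ⊤) → Nat.card {χ : Cfsg.IrrCharacter G // χ ∈ X ∧ (χ : G → ℂ) ≠ (fun _ => 1) ∧ a χ = -1} + (if δ = 1 then 1 else 0) = 2 ∧ ∀ η ∈ Y, IsSquare (Cfsg.charDegree (η : G → ℂ) * ∏ᶠ χ ∈ {χ : Cfsg.IrrCharacter G | χ ∈ X ∧ (χ : G → ℂ) ≠ fun _ => 1}, Cfsg.charDegree (χ : G → ℂ))) := by
  classical
  have hp : p.Prime := Fact.out
  have := Fintype.ofFinite G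
  have := hM.2.1.isPrime
  obtain ⟨g, hg, hgen⟩ := hcyc
  have S : CfsgLib.IndexThree.Setting p P g :=
    ⟨fun x hx y hy => congrArg Subtype.val (hab.is_comm.comm ⟨x, hx⟩ ⟨y, hy⟩), hP1, hCN, hg, hgen, hfrob⟩
  obtain ⟨D⟩ := CfsgLib.IndexThree.exists_config S hM hm2
  have := Fintype.ofFinite (P : Subgroup G)
  have := CfsgLib.IndexThree.finite_lin S
  have := Fintype.ofFinite (CfsgLib.IndexThree.Lin S)
  obtain ⟨x₀, hx₀⟩ : ∃ x : (P : Subgroup G), x ≠ 1 := by
    have : Nontrivial (P : Subgroup G) := Finite.one_lt_card_iff_nontrivial.mp (by omega)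
    exact exists_ne 1
  set T := CfsgLib.Char.trivChar G with hTdef
  set X : Set (Cfsg.IrrCharacter G) := {T, D.χa, D.χb} with hX
  set Y : Set (Cfsg.IrrCharacter G) := D.ζ '' {ψ | ψ ≠ 1} with hY
  set a : Cfsg.IrrCharacter G → ℤ := fun χ => if χ = D.χa then D.sa else if χ = D.χb then D.sb else 1
    with ha
  have haa : a D.χa = D.sa := by simp [ha]
  have hab' : a D.χb = D.sb := by simp [ha, Ne.symm D.a_ne_b]
  have haT : a T = 1 := by simp [ha, hTdef, Ne.symm D.a_ne, Ne.symm D.b_ne]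
  refine ⟨X, Y, ?_, ?_, ?_, ?_, ⟨T, by simp [hX], rfl⟩, a, D.δ, D.ζ, D.hδ, ?_,
    fun ψ hψ => ⟨ψ, hψ, rfl⟩, ?_, ?_, ?_, ?_⟩
  · ext χ
    simp only [D.mem_iff, hX, hY, Set.mem_union, Set.mem_insert_iff, Set.mem_singleton_iff,
      Set.mem_image, Set.mem_setOf_eq, ← hTdef]
    tauto
  · rw [Set.disjoint_right]
    rintro _ ⟨ψ, hψ, rfl⟩ h
    obtain ⟨h1, h2, h3⟩ := D.ζ_ne ψ hψ
    rcases h with h | h | h
    exacts [h1 h, h2 h, h3 h]
  · rw [Nat.card_coe_set_eq, hX]
    exact Set.ncard_eq_three.mpr ⟨_, _, _, Ne.symm D.a_ne, Ne.symm D.b_ne, D.a_ne_b, rfl⟩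
  · set L := Finset.univ.filter (fun φ : CfsgLib.IndexThree.Lin S => φ ≠ 1) with hL
    have hYL : Y = ↑(L.image D.ζ) := by ext χ; simp [hY, hL]
    rw [hYL, Nat.card_coe_set_eq, Set.ncard_coe_finset]
    have h1 : L.card = 3 * (L.image D.ζ).card := by
      rw [Finset.card_eq_sum_card_image D.ζ L, Finset.sum_congr rfl (g := fun _ => 3) fun χ hχ => by
        obtain ⟨ψ, hψ, rfl⟩ := Finset.mem_image.mp hχ
        exact fibre_card S D (Finset.mem_filter.mp hψ).2, Finset.sum_const, smul_eq_mul, mul_comm]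
    have h2 : L.card = Nat.card (P : Subgroup G) - 1 := by
      rw [hL, Finset.filter_ne', Finset.card_erase_of_mem (Finset.mem_univ _), Finset.card_univ]
      have h := CfsgLib.IndexThree.sum_apply_lin S (1 : (P : Subgroup G))
      simp only [map_one, Units.val_one, Finset.sum_const, Finset.card_univ, nsmul_eq_mul, mul_one,
        if_true] at h
      rw [Nat.cast_inj.mp h]
    omega
  · intro χ hχ
    refine ⟨?_, fun z y hz hy hy1 => ?_⟩
    · rcases hχ with rfl | rfl | rfl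
      · exact Or.inl haT
      · rw [haa]; exact D.hsa
      · rw [hab']; exact D.hsb
    · have hmem : χ ∈ Cfsg.principalBlock M G := (D.mem_iff χ).mpr (by
        rcases hχ with h | h | h
        exacts [Or.inl h, Or.inr (Or.inl h), Or.inr (Or.inr (Or.inl h))])
      rw [CfsgLib.IndexThree.apply_eq_pPart S hM hmem hz hy hy1]
      have hyne : (⟨y, hy⟩ : (P : Subgroup G)) ≠ 1 := fun e => hy1 (congrArg Subtype.val e)
      rcases hχ with rfl | rfl | rfl
      · rw [haT]; simp [hTdef, CfsgLib.Char.trivChar_apply]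
      · rw [haa]; exact D.val_a ⟨y, hy⟩ hyne
      · rw [hab']; exact D.val_b ⟨y, hy⟩ hyne
  · rintro η ⟨ψ, hψ, rfl⟩
    exact ⟨ψ, hψ, rfl⟩
  · intro ψ ψ' hψ h
    have h' := (orbit_iff S hx₀ ψ ψ').mp h
    have hne : ψ' ≠ 1 := by
      rcases h' with rfl | rfl | rfl
      exacts [hψ, (twist_ne_one S hψ).1, (twist_ne_one S hψ).2]
    exact (D.ζ_eq ψ' ψ hne hψ).mpr h'
  · intro ψ hψ z y hz hy1
    have hmem : D.ζ ψ ∈ Cfsg.principalBlock M G :=
      (D.mem_iff _).mpr (Or.inr (Or.inr (Or.inr ⟨ψ, hψ, rfl⟩)))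
    rw [CfsgLib.IndexThree.apply_eq_pPart S hM hmem hz y.2 hy1,
      D.val_ζ ψ hψ y fun e => hy1 (congrArg Subtype.val e)]
    congr 1
    obtain ⟨t1, t2⟩ := twist_ne_one S hψ
    rw [finsum_mem_congr (t := (↑({ψ, CfsgLib.IndexThree.twist S ψ,
      CfsgLib.IndexThree.twist S (CfsgLib.IndexThree.twist S ψ)} :
        Finset (CfsgLib.IndexThree.Lin S)) : Set (CfsgLib.IndexThree.Lin S))) ?_ (fun _ _ => rfl),
      finsum_mem_coe_finset, Finset.sum_insert, Finset.sum_pair, CfsgLib.IndexThree.orbitSum, add_assoc]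
    · exact fun e => t1 (CfsgLib.IndexThree.twist_fixed S e.symm)
    · simp only [Finset.mem_insert, Finset.mem_singleton, not_or]
      refine ⟨fun e => hψ (CfsgLib.IndexThree.twist_fixed S e.symm), fun e => hψ ?_⟩
      refine CfsgLib.IndexThree.twist_fixed S ?_
      have := congrArg (CfsgLib.IndexThree.twist S) e
      rwa [CfsgLib.IndexThree.twist_three] at this
    · ext ψ'
      simp only [Finset.coe_insert, Finset.coe_singleton, Set.mem_insert_iff,
        Set.mem_singleton_iff]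
      exact orbit_iff S hx₀ ψ ψ'
  rintro ⟨t, ht, hgent⟩
  have htt : t * t = 1 := by rw [← pow_two, ← ht, pow_orderOf_eq_one]
  obtain ⟨A, hA, -, hAu⟩ := CfsgLib.IndexThree.exists_int_apply D.χa htt
  obtain ⟨B, hB, -, hBu⟩ := CfsgLib.IndexThree.exists_int_apply D.χb htt
  set da : ℤ := (Cfsg.charDegree (D.χa : G → ℂ) : ℤ) with hda
  set db : ℤ := (Cfsg.charDegree (D.χb : G → ℂ) : ℤ) with hdb
  have hda0 : 0 < da := Nat.cast_pos.mpr (CfsgLib.Blocks.charDegree_pos _)
  have hdb0 : 0 < db := Nat.cast_pos.mpr (CfsgLib.Blocks.charDegree_pos _)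
  have hBne : B ≠ db := fun e => CfsgLib.IndexThree.apply_ne_degree hgent D.b_ne (by
    rw [hB, e, hdb, CfsgLib.Blocks.apply_one_eq_charDegree, Int.cast_natCast])
  have h1r : ¬ p ∣ orderOf (1 : G) := by simp [hp.ne_one]
  have hdY : ∀ ψ, ψ ≠ 1 → 1 + D.sa * da + D.sb * db -
      D.δ * (Cfsg.charDegree (D.ζ ψ : G → ℂ) : ℤ) = 0 := fun ψ hψ => by
    have h := regular_rel S hM D hψ h1r
    simp only [CfsgLib.Blocks.apply_one_eq_charDegree] at h
    exact_mod_cast h
  obtain ⟨ψ₀, hψ₀⟩ : ∃ ψ : CfsgLib.IndexThree.Lin S, ψ ≠ 1 := by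
    by_contra hall
    push Not at hall
    have h := CfsgLib.IndexThree.sum_apply_lin S x₀
    rw [if_neg hx₀, Finset.sum_congr rfl (g := fun _ => (1 : ℂ)) (fun ψ _ => by rw [hall ψ]; simp),
      Finset.sum_const, Finset.card_univ, nsmul_eq_mul, mul_one, Nat.cast_eq_zero] at h
    exact Fintype.card_ne_zero h
  set d : ℤ := (Cfsg.charDegree (D.ζ ψ₀ : G → ℂ) : ℤ) with hd
  have hd0 : 0 < d := Nat.cast_pos.mpr (CfsgLib.Blocks.charDegree_pos _)
  have hsame : ∀ ψ, ψ ≠ 1 → (Cfsg.charDegree (D.ζ ψ : G → ℂ) : ℤ) = d := fun ψ hψ => by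
    have h1 := hdY ψ hψ
    have h2 := hdY ψ₀ hψ₀
    rcases D.hδ with e | e <;> rw [e] at h1 h2 <;> omega
  have hdegC : ∀ ψ, ψ ≠ 1 → (D.ζ ψ : G → ℂ) 1 = (d : ℂ) := fun ψ hψ => by
    rw [CfsgLib.Blocks.apply_one_eq_charDegree, ← hsame ψ hψ, Int.cast_natCast]
  have hδ2 : D.δ * D.δ = 1 := by rcases D.hδ with e | e <;> rw [e] <;> norm_num
  have hsa2 : D.sa * D.sa = 1 := by rcases D.hsa with e | e <;> rw [e] <;> norm_num
  have hsb2 : D.sb * D.sb = 1 := by rcases D.hsb with e | e <;> rw [e] <;> norm_num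
  -- the key data
  obtain ⟨w₁, w₂, w₃, hw, hq, hv⟩ : ∃ w₁ w₂ w₃ : ℤ, 1 + w₁ + w₂ + w₃ = 0 ∧
      (D.sa * da) * (D.sb * db) * (-D.δ * d) + w₁ ^ 2 * (D.sb * db) * (-D.δ * d) +
        w₂ ^ 2 * (D.sa * da) * (-D.δ * d) + w₃ ^ 2 * (D.sa * da) * (D.sb * db) = 0 ∧
      D.sb * db - w₂ ≠ 0 := by
    have hvB : D.sb * db - D.sb * B ≠ 0 := by
      rw [← mul_sub]
      exact mul_ne_zero (fun e => by rw [e] at hsb2; exact zero_ne_one ((mul_zero 0).symm.trans hsb2))
        (sub_ne_zero.mpr (Ne.symm hBne))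
    have key : ∀ y : (P : Subgroup G), y ≠ 1 →
        (p = 2 → ∀ t₀ : (P : Subgroup G), IsConj t (t₀ : G) → y ≠ t₀ ∧
          y ≠ CfsgLib.IndexThree.sigma S t₀ ∧
          y ≠ CfsgLib.IndexThree.sigma S (CfsgLib.IndexThree.sigma S t₀)) →
        ∀ Z : ℂ, (∑ φ ∈ Finset.univ.filter (fun φ : CfsgLib.IndexThree.Lin S => φ ≠ 1),
          (D.ζ φ : G → ℂ) t * (D.ζ φ : G → ℂ) t / (d : ℂ) * (D.ζ φ : G → ℂ) (y : G)) = Z →
        1 + (A : ℂ) ^ 2 * D.sa / da + (B : ℂ) ^ 2 * D.sb / db + 3⁻¹ * Z = 0 := by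
      intro y hy hT Z hZ
      have h := CfsgLib.IndexThree.sum_pair_eq_zero S ht hM hy hT
      rw [sum_split S D, Finset.sum_congr rfl (g := fun φ =>
        (D.ζ φ : G → ℂ) t * (D.ζ φ : G → ℂ) t / (d : ℂ) * (D.ζ φ : G → ℂ) (y : G)) (fun φ hφ => by
          rw [hdegC φ (Finset.mem_filter.mp hφ).2]), hZ] at h
      simp only [CfsgLib.Char.trivChar_apply, D.val_a y hy, D.val_b y hy, hA, hB,
        CfsgLib.Blocks.apply_one_eq_charDegree] at h
      rw [← h, hda, hdb]
      push_cast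
      ring
    have hclear : ∀ c₁ c₂ c₃ : ℤ, 1 + (c₁ : ℂ) * D.sa / da + (c₂ : ℂ) * D.sb / db -
        (c₃ : ℂ) * D.δ / d = 0 →
        (D.sa * da) * (D.sb * db) * (-D.δ * d) + c₁ * (D.sb * db) * (-D.δ * d) +
          c₂ * (D.sa * da) * (-D.δ * d) + c₃ * (D.sa * da) * (D.sb * db) = 0 := by
      intro c₁ c₂ c₃ h
      have h' : ((da * db * d + c₁ * D.sa * db * d + c₂ * D.sb * da * d -
          c₃ * D.δ * da * db : ℤ) : ℂ) = 0 := by
        have : (da : ℂ) ≠ 0 := Int.cast_ne_zero.mpr hda0.ne'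
        have : (db : ℂ) ≠ 0 := Int.cast_ne_zero.mpr hdb0.ne'
        have : (d : ℂ) ≠ 0 := Int.cast_ne_zero.mpr hd0.ne'
        field_simp at h
        push_cast
        linear_combination h
      have h'' := Int.cast_eq_zero.mp h'
      rcases D.hsa with e | e <;> rcases D.hsb with e' | e' <;> rcases D.hδ with e'' | e'' <;>
        rw [e, e', e''] at h'' ⊢ <;> first | linear_combination h'' | linear_combination -h''
    by_cases hp2 : p = 2
    · -- `t` is singular
      subst hp2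
      obtain ⟨c, hc⟩ : ∃ c : G, c * t * c⁻¹ ∈ (P : Subgroup G) := by
        obtain ⟨Q, hQ⟩ := (IsPGroup.of_card (p := 2) (n := 1) (G := Subgroup.zpowers t)
          (by rw [Nat.card_zpowers, ht, pow_one])).exists_le_sylow
        obtain ⟨c, hc⟩ := MulAction.exists_smul_eq G Q P
        refine ⟨c, ?_⟩
        rw [← hc]
        exact Subgroup.smul_mem_pointwise_smul t (MulAut.conj c) _ (hQ (Subgroup.mem_zpowers t))
      set t₀ : (P : Subgroup G) := ⟨c * t * c⁻¹, hc⟩ with ht₀def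
      have ht₀c : IsConj t (t₀ : G) := isConj_iff.mpr ⟨c, rfl⟩
      have ht₀1 : t₀ ≠ 1 := fun e => by
        have e' : c * t * c⁻¹ = 1 := congrArg Subtype.val e
        rw [conj_eq_one_iff] at e'
        rw [e', orderOf_one] at ht
        omega
      have ht₀2 : t₀ * t₀ = 1 := Subtype.ext (by
        show c * t * c⁻¹ * (c * t * c⁻¹) = 1
        calc c * t * c⁻¹ * (c * t * c⁻¹) = c * (t * t) * c⁻¹ := by group
          _ = 1 := by rw [htt]; group)
      have hval : ∀ χ : Cfsg.IrrCharacter G, (χ : G → ℂ) t = (χ : G → ℂ) (t₀ : G) := fun χ =>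
        ((CfsgLib.Char.IsIrr.isClassFunction χ.2) t c).symm
      obtain ⟨y, hy⟩ : ∃ y : (P : Subgroup G), y ∉ ({1, t₀, CfsgLib.IndexThree.sigma S t₀,
          CfsgLib.IndexThree.sigma S (CfsgLib.IndexThree.sigma S t₀)} : Finset (P : Subgroup G)) := by
        by_contra hall
        push Not at hall
        have h1 := Finset.card_le_card (fun y (_ : y ∈ Finset.univ) => hall y)
        rw [Finset.card_univ, ← Nat.card_eq_fintype_card] at h1
        have h2 := h1.trans Finset.card_le_four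
        omega
      simp only [Finset.mem_insert, Finset.mem_singleton, not_or] at hy
      have hA' : (A : ℂ) = D.sa := by rw [← hA, hval, D.val_a t₀ ht₀1]
      have hB' : (B : ℂ) = D.sb := by rw [← hB, hval, D.val_b t₀ ht₀1]
      have h := key y hy.1 (fun _ s hs => by
        rcases CfsgLib.IndexThree.inOrbit_of_isConj S (x := t₀) (y := s) (ht₀c.symm.trans hs) with
          rfl | rfl | rfl
        · exact hy.2
        · rw [CfsgLib.IndexThree.sigma_three]; exact ⟨hy.2.2.1, hy.2.2.2, hy.2.1⟩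
        · rw [CfsgLib.IndexThree.sigma_three]; exact ⟨hy.2.2.2, hy.2.1, hy.2.2.1⟩) ((D.δ : ℂ) / d * -27) (by
        rw [← sum_orbit_prod S ht₀2 hy, Finset.mul_sum]
        refine Finset.sum_congr rfl fun φ hφ => ?_
        have hφ1 := (Finset.mem_filter.mp hφ).2
        rw [hval, D.val_ζ φ hφ1 t₀ ht₀1, D.val_ζ φ hφ1 y hy.1]
        have : (D.δ : ℂ) * D.δ = 1 := by exact_mod_cast hδ2
        linear_combination (D.δ : ℂ) * CfsgLib.IndexThree.orbitSum S φ t₀ *
          CfsgLib.IndexThree.orbitSum S φ t₀ * CfsgLib.IndexThree.orbitSum S φ y / (d : ℂ) * this)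
      refine ⟨1, 1, -3, by norm_num, ?_, ?_⟩
      · have h3 := hclear 1 1 9 (by
          have e1 : (D.sa : ℂ) ^ 2 = 1 := by rw [pow_two]; exact_mod_cast hsa2
          have e2 : (D.sb : ℂ) ^ 2 = 1 := by rw [pow_two]; exact_mod_cast hsb2
          rw [hA', hB', e1, e2] at h
          push_cast
          linear_combination h)
        linear_combination h3
      · have hB1 : B = D.sb := by exact_mod_cast hB'
        rw [hB1, hsb2] at hvB
        exact hvB
    · -- `t` is regular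
      have htr : ¬ p ∣ orderOf t := fun h => hp2 ((Nat.prime_dvd_prime_iff_eq hp Nat.prime_two).mp (ht ▸ h))
      obtain ⟨C, hC, -, -⟩ := CfsgLib.IndexThree.exists_int_apply (D.ζ ψ₀) htt
      have hCall : ∀ φ, φ ≠ 1 → (D.ζ φ : G → ℂ) t = C := fun φ hφ => by
        have h1 := regular_rel S hM D hφ htr
        have h2 := regular_rel S hM D hψ₀ htr
        rw [hC] at h2
        have hδ0 : (D.δ : ℂ) ≠ 0 := by rcases D.hδ with e | e <;> rw [e] <;> norm_num
        exact mul_left_cancel₀ hδ0 (by linear_combination h2 - h1)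
      refine ⟨D.sa * A, D.sb * B, -D.δ * C, ?_, ?_, hvB⟩
      · have h := regular_rel S hM D hψ₀ htr
        rw [hA, hB, hC] at h
        exact_mod_cast (show (1 : ℂ) + D.sa * A + D.sb * B + -(D.δ : ℂ) * C = 0 by linear_combination h)
      · have h := key x₀ hx₀ (fun h => absurd h hp2) ((C : ℂ) ^ 2 * D.δ / d * -3) (by
          rw [← sum_orbitSum S hx₀, Finset.mul_sum]
          refine Finset.sum_congr rfl fun φ hφ => ?_
          have hφ1 := (Finset.mem_filter.mp hφ).2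
          rw [hCall φ hφ1, D.val_ζ φ hφ1 x₀ hx₀]
          ring)
        have h3 := hclear (A ^ 2) (B ^ 2) (C ^ 2) (by push_cast; linear_combination h)
        rcases D.hsa with e | e <;> rcases D.hsb with e' | e' <;> rcases D.hδ with e'' | e'' <;>
          rw [e, e', e''] at h3 ⊢ <;> linear_combination h3
  have hne0 : ∀ {s e : ℤ}, (s = 1 ∨ s = -1) → 0 < e → s * e ≠ 0 := fun hs he =>
    mul_ne_zero (by rcases hs with h | h <;> rw [h] <;> norm_num) he.ne'
  have hu := hdY ψ₀ hψ₀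
  obtain ⟨hsq, hcount⟩ := CfsgLib.IndexThree.signs_square (u₁ := D.sa * da) (u₂ := D.sb * db)
    (u₃ := -D.δ * d) (by rw [← hd] at hu; linarith) hw hq (hne0 D.hsa hda0) (hne0 D.hsb hdb0)
    (hne0 (by rcases D.hδ with h | h <;> simp [h]) hd0) hv
  have hlt : ∀ {s e : ℤ}, (s = 1 ∨ s = -1) → 0 < e → (s * e < 0 ↔ s = -1) := fun hs he => by
    rcases hs with h | h <;> subst h <;> constructor <;> intro h' <;> omega
  have hneg : (-D.δ * d < 0) ↔ D.δ = 1 := by
    rcases D.hδ with h | h <;> rw [h] <;> constructor <;> intro h' <;> omega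
  simp only [hlt D.hsa hda0, hlt D.hsb hdb0, hneg] at hcount
  have hfin : {χ : Cfsg.IrrCharacter G | χ ∈ X ∧ (χ : G → ℂ) ≠ fun _ => 1} = {D.χa, D.χb} := by
    ext χ
    constructor
    · rintro ⟨h | h | h, hne⟩
      · exact absurd (congrArg Subtype.val h) hne
      · exact Or.inl h
      · exact Or.inr h
    · rintro (rfl | rfl)
      · exact ⟨Or.inr (Or.inl rfl), fun e => D.a_ne (Subtype.ext e)⟩
      · exact ⟨Or.inr (Or.inr rfl), fun e => D.b_ne (Subtype.ext e)⟩
  refine ⟨?_, ?_⟩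
  · rw [← hcount]
    congr 1
    have hset : {χ : Cfsg.IrrCharacter G | χ ∈ X ∧ (χ : G → ℂ) ≠ (fun _ => 1) ∧ a χ = -1} =
        ↑(({D.χa, D.χb} : Finset (Cfsg.IrrCharacter G)).filter fun χ => a χ = -1) := by
      ext χ
      have h := Set.ext_iff.mp hfin χ
      simp only [Set.mem_setOf_eq, Set.mem_insert_iff, Set.mem_singleton_iff] at h
      simp only [Set.mem_setOf_eq, Finset.coe_filter, Finset.mem_insert, Finset.mem_singleton, ← h,
        and_assoc]
    rw [show Nat.card {χ : Cfsg.IrrCharacter G // χ ∈ X ∧ (χ : G → ℂ) ≠ (fun _ => 1) ∧ a χ = -1} =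
      {χ : Cfsg.IrrCharacter G | χ ∈ X ∧ (χ : G → ℂ) ≠ (fun _ => 1) ∧ a χ = -1}.ncard from
      Nat.card_coe_set_eq _, hset, Set.ncard_coe_finset, Finset.card_filter,
      Finset.sum_pair D.a_ne_b, haa, hab']
  · rintro η ⟨ψ, hψ, rfl⟩
    rw [finprod_mem_congr hfin (fun _ _ => rfl), finprod_mem_pair D.a_ne_b]
    rw [← Int.isSquare_natCast_iff]
    push_cast
    rw [← hda, ← hdb, hsame ψ hψ]
    have hpos : 0 ≤ D.sa * da * (D.sb * db) * (-D.δ * d) := by
      obtain ⟨k, hk⟩ := hsq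
      rw [hk]; exact mul_self_nonneg k
    have hmag : 0 < da * db * d := mul_pos (mul_pos hda0 hdb0) hd0
    rcases D.hsa with e | e <;> rcases D.hsb with e' | e' <;> rcases D.hδ with e'' | e'' <;>
      rw [e, e', e''] at hsq hpos <;>
      first
      | (exfalso; ring_nf at hpos hmag; omega)
      | (convert hsq using 1; ring)

end Cfsg.Agent.S4721
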