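import Cfsg.Statements.S4722
import Cfsg.Agent.Lib.Blocks.Principal
import Cfsg.Agent.Lib.Blocks.Sections
import Cfsg.Agent.Lib.Char.Virtual
import Cfsg.Agent.Lib.Core.Cores

set_option autoImplicit false
open Cfsg

namespace Cfsg.Agent.S4722

/-- With only one positive weight, three moment equations force proportionality. -/
theorem eq_of_card_pos_le_one {ι : Type*} (T : Finset ι) (a d x : ι → ℝ) (hd : ∀ i ∈ T, 0 < d i)
    (hA : ∑ i ∈ T, a i * d i = 0) (hB : ∑ i ∈ T, a i * x i = 0)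
    (hC : ∑ i ∈ T, a i * x i ^ 2 / d i = 0)
    (h1 : ∀ i ∈ T, ∀ j ∈ T, 0 < a i → 0 < a j → i = j) {k : ι} (hk : k ∈ T) (hak : a k ≠ 0)
    (hxk : x k = d k) : ∀ i ∈ T, a i ≠ 0 → x i = d i := by
  obtain ⟨j, hj, hja⟩ : ∃ j ∈ T, 0 < a j := by
    by_contra h
    push Not at h
    have h2 := (Finset.sum_eq_zero_iff_of_nonpos fun i hi =>
      mul_nonpos_of_nonpos_of_nonneg (h i hi) (hd i hi).le).mp hA k hk
    exact hak ((mul_eq_zero.mp h2).resolve_right (hd k hk).ne')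
  set r := x j / d j
  have hQ : ∑ i ∈ T, a i * (x i - r * d i) ^ 2 / d i = 0 := by
    rw [Finset.sum_congr rfl (g := fun i => a i * x i ^ 2 / d i - 2 * r * (a i * x i) +
        r ^ 2 * (a i * d i)) fun i hi => by
      have := (hd i hi).ne'
      field_simp
      ring, Finset.sum_add_distrib, Finset.sum_sub_distrib, ← Finset.mul_sum, ← Finset.mul_sum,
      hA, hB, hC]
    ring
  have hall := (Finset.sum_eq_zero_iff_of_nonpos fun i hi => ?_).mp hQ
  · have heq : ∀ i ∈ T, a i ≠ 0 → x i = r * d i := fun i hi hai => by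
      have := hall i hi
      rw [div_eq_zero_iff, mul_eq_zero, pow_eq_zero_iff two_ne_zero, sub_eq_zero] at this
      exact (this.resolve_right (hd i hi).ne').resolve_left hai
    have hr : r = 1 := by
      have h2 := heq k hk hak
      rw [hxk] at h2
      exact (mul_eq_right₀ (hd k hk).ne').mp h2.symm
    intro i hi hai
    rw [heq i hi hai, hr, one_mul]
  · by_cases hai : 0 < a i
    · rw [h1 i hi j hj hai hja, show x j - r * d j = 0 from by
        rw [div_mul_cancel₀ _ (hd j hj).ne', sub_self]]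
      simp
    · exact div_nonpos_of_nonpos_of_nonneg
        (mul_nonpos_of_nonpos_of_nonneg (not_lt.mp hai) (sq_nonneg _)) (hd i hi).le

/-- Let M be a maximal ideal of the algebraic integers containing 2, P a 2-subgroup of the finite group G, U a subset of P, and t an involution of G such that no element of U is inverted by any conjugate of t. Let θ be a generalized character of P vanishing outside U, and for χ in the principal 2-block B₀ put a_χ = #P⁻¹ Σ_{y ∈ P} χ(y) θ(y⁻¹). Then Σ_{χ ∈ B₀} a_χ χ(t)^2/χ(1) = 0, Σ_{χ ∈ B₀} a_χ χ(1) = 0 and Σ_{χ ∈ B₀} a_χ χ(t) = 0. If moreover #P⁻¹ Σ_{y ∈ P} θ(y) ≠ 0, then either at least two of the a_χ have positive real part and at least two have negative real part, or G has a proper normal subgroup containing O_2'(G) and t. -/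
theorem result {G : Type*} [Group G] [Finite G] (M : Ideal Cfsg.AlgInt) (hM : Cfsg.IsPModular 2 M) (P : Subgroup G) (hP : IsPGroup 2 P) (U : Set G) (hUP : U ⊆ (P : Set G)) (t : G) (ht : orderOf t = 2) (hinv : ∀ u ∈ U, ∀ g : G, (g * t * g⁻¹) * u * (g * t * g⁻¹)⁻¹ ≠ u⁻¹) (θ : ↥P → ℂ) (hθ : Cfsg.IsGeneralizedCharacter ↥P θ) (hθU : ∀ y : ↥P, (y : G) ∉ U → θ y = 0) : (∑ᶠ χ ∈ Cfsg.principalBlock M G, ((Nat.card ↥P : ℂ)⁻¹ * ∑ᶠ y : ↥P, (χ : G → ℂ) (y : G) * θ y⁻¹) * (χ : G → ℂ) t ^ 2 / (χ : G → ℂ) 1 = 0) ∧ (∑ᶠ χ ∈ Cfsg.principalBlock M G, ((Nat.card ↥P : ℂ)⁻¹ * ∑ᶠ y : ↥P, (χ : G → ℂ) (y : G) * θ y⁻¹) * (χ : G → ℂ) 1 = 0) ∧ (∑ᶠ χ ∈ Cfsg.principalBlock M G, ((Nat.card ↥P : ℂ)⁻¹ * ∑ᶠ y : ↥P, (χ : G → ℂ) (y : G) * θ y⁻¹) * (χ : G → ℂ) t = 0) ∧ ((Nat.card ↥P : ℂ)⁻¹ * ∑ᶠ y : ↥P, θ y ≠ 0 → (2 ≤ Nat.card {χ : Cfsg.IrrCharacter G // χ ∈ Cfsg.principalBlock M G ∧ 0 < (((Nat.card ↥P : ℂ)⁻¹ * ∑ᶠ y : ↥P, (χ : G → ℂ) (y : G) * θ y⁻¹)).re}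 ∧ 2 ≤ Nat.card {χ : Cfsg.IrrCharacter G // χ ∈ Cfsg.principalBlock M G ∧ (((Nat.card ↥P : ℂ)⁻¹ * ∑ᶠ y : ↥P, (χ : G → ℂ) (y : G) * θ y⁻¹)).re < 0}) ∨ ∃ K : Subgroup G, K.Normal ∧ K ≠ ⊤ ∧ Cfsg.pPrimeCore 2 G ≤ K ∧ t ∈ K) := by
  classical
  have := Fintype.ofFinite G
  have : M.IsPrime := hM.2.1.isPrime
  set B := Cfsg.principalBlock M G with hB
  set T := (Set.toFinite B).toFinset with hT
  simp only [finsum_mem_eq_finite_toFinset_sum _ (Set.toFinite B), finsum_eq_sum_of_fintype, ← hT]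
  set c : ℂ := (Nat.card ↥P : ℂ)⁻¹ with hc
  set a : Cfsg.IrrCharacter G → ℂ := fun χ => c * ∑ y : P, (χ : G → ℂ) (y : G) * θ y⁻¹ with ha
  have ht2 : t⁻¹ = t := inv_eq_iff_mul_eq_one.2 (by rw [← pow_two, ← ht, pow_orderOf_eq_one])
  -- columns orthogonal to the sections meeting `U`
  have hcol : ∀ (g v : G), Cfsg.IsPPart 2 g v → (∀ u ∈ U, ¬ IsConj v u) →
      ∑ χ ∈ T, a χ * (χ : G → ℂ) g = 0 := by
    intro g v hv hn
    calc ∑ χ ∈ T, a χ * (χ : G → ℂ) g
        = c * ∑ u : P, θ u * ∑ χ ∈ T, (χ : G → ℂ) g * (χ : G → ℂ) (u : G)⁻¹ := by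
          have e1 : ∀ χ : Cfsg.IrrCharacter G, ∑ y : P, (χ : G → ℂ) (y : G) * θ y⁻¹ =
              ∑ u : P, (χ : G → ℂ) (u : G)⁻¹ * θ u := fun χ =>
            Fintype.sum_equiv (Equiv.inv P) _ _ fun y => by simp
          simp only [ha, e1, Finset.mul_sum, Finset.sum_mul]
          rw [Finset.sum_comm]
          exact Finset.sum_congr rfl fun u _ => Finset.sum_congr rfl fun χ _ => by ring
      _ = 0 := by
          refine mul_eq_zero_of_right _ (Finset.sum_eq_zero fun u _ => ?_)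
          by_cases hu : (u : G) ∈ U
          · obtain ⟨k, hk⟩ := IsPGroup.iff_orderOf.1 hP u
            have hup : Cfsg.IsPPart 2 (u : G) (u : G) :=
              ⟨1, mul_one _, Commute.one_right _, ⟨k, by rw [← hk]; exact Subgroup.orderOf_coe u⟩,
                by simp⟩
            have h0 := CfsgLib.Blocks.sum_block_apply_mul_eq_zero hM
              (CfsgLib.Blocks.isPBlock_principalBlock (M := M) (G := G)) hv hup (hn _ hu)
            rw [finsum_mem_eq_finite_toFinset_sum _ (Set.toFinite _)] at h0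
            rw [h0, mul_zero]
          · rw [hθU u hu, zero_mul]
  have h1 : ∑ χ ∈ T, a χ * (χ : G → ℂ) 1 = 0 := by
    refine hcol 1 1 ⟨1, mul_one _, Commute.refl _, ⟨0, by simp⟩, by simp⟩ fun u hu hcj => ?_
    have hu1 : u = 1 := isConj_one_right.mp hcj
    exact hinv u hu 1 (by simp [hu1])
  have h2 : ∑ χ ∈ T, a χ * (χ : G → ℂ) t = 0 := by
    refine hcol t t ⟨1, mul_one _, Commute.one_right _, ⟨1, by rw [ht, pow_one]⟩, by simp⟩
      fun u hu hcj => ?_
    obtain ⟨g, hg⟩ := isConj_iff.1 hcj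
    refine hinv u hu g ?_
    rw [hg, mul_inv_cancel_right, ← hg, mul_inv_rev, mul_inv_rev, inv_inv, ht2, mul_assoc]
  have h3 : ∑ χ ∈ T, a χ * (χ : G → ℂ) t ^ 2 / (χ : G → ℂ) 1 = 0 := by
    have e : ∀ χ : Cfsg.IrrCharacter G, (χ : G → ℂ) t ^ 2 / (χ : G → ℂ) 1 =
        (Nat.card G : ℂ)⁻¹ * ∑ x : G, (χ : G → ℂ) (t * (x * t * x⁻¹)) := fun χ => by
      rw [CfsgLib.Blocks.sum_char_mul_conj]
      have : (Nat.card G : ℂ) ≠ 0 := Nat.cast_ne_zero.2 Nat.card_pos.ne'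
      field_simp
    simp only [mul_div_assoc, e, Finset.mul_sum]
    rw [Finset.sum_comm]
    refine Finset.sum_eq_zero fun x _ => ?_
    obtain ⟨v, hv⟩ := CfsgLib.Blocks.exists_pPart hM.1 (t * (x * t * x⁻¹))
    have hvn : ∀ u ∈ U, ¬ IsConj v u := by
      intro u hu hcj
      obtain ⟨g, hg⟩ := isConj_iff.1 hcj
      refine hinv u hu g ?_
      have hgi : MulAut.conj t (t * (x * t * x⁻¹)) = (t * (x * t * x⁻¹))⁻¹ := by
        rw [MulAut.conj_apply, mul_inv_rev, mul_inv_rev, mul_inv_rev, inv_inv, ht2]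
        rw [show t * (t * (x * t * x⁻¹)) * t = t * t * (x * t * x⁻¹) * t by group]
        have : t * t = 1 := by
          calc t * t = t⁻¹ * t := by rw [ht2]
            _ = 1 := inv_mul_cancel t
        rw [this, one_mul, ← mul_assoc x]
      have hvi : t * v * t⁻¹ = v⁻¹ := by
        have hv1 : Cfsg.IsPPart 2 (MulAut.conj t (t * (x * t * x⁻¹))) (MulAut.conj t v) := by
          obtain ⟨y, hy, hc', ⟨k, hk⟩, hyo⟩ := hv
          exact ⟨MulAut.conj t y, by rw [← map_mul, hy], hc'.map _,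
            ⟨k, by rw [MulEquiv.orderOf_eq, hk]⟩, by rwa [MulEquiv.orderOf_eq]⟩
        have hv2 : Cfsg.IsPPart 2 (t * (x * t * x⁻¹))⁻¹ v⁻¹ := by
          obtain ⟨y, hy, hc', ⟨k, hk⟩, hyo⟩ := hv
          exact ⟨y⁻¹, by rw [← mul_inv_rev, ← hc'.eq, hy], hc'.inv_inv,
            ⟨k, by rw [orderOf_inv, hk]⟩, by rwa [orderOf_inv]⟩
        rw [hgi] at hv1
        have := CfsgLib.Blocks.conj_pPart_eq hM.1 hv1 hv2 (x := 1) (j := 1)
          (by norm_num) (by simp)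
        simpa using this
      rw [← hg]
      calc g * t * g⁻¹ * (g * v * g⁻¹) * (g * t * g⁻¹)⁻¹ = g * (t * v * t⁻¹) * g⁻¹ := by group
        _ = (g * v * g⁻¹)⁻¹ := by rw [hvi]; group
    have h0 := hcol _ v hv hvn
    calc _ = (Nat.card G : ℂ)⁻¹ * ∑ χ ∈ T, a χ * (χ : G → ℂ) (t * (x * t * x⁻¹)) := by
          rw [Finset.mul_sum]; exact Finset.sum_congr rfl fun χ _ => by ring
      _ = 0 := by rw [h0, mul_zero]
  refine ⟨h3, h1, h2, fun hne => ?_⟩
  by_contra hcon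
  rw [not_or] at hcon
  obtain ⟨hcount, hK⟩ := hcon
  set d : Cfsg.IrrCharacter G → ℝ := fun χ => (Cfsg.charDegree (χ : G → ℂ) : ℝ) with hddef
  set xt : Cfsg.IrrCharacter G → ℝ := fun χ => ((χ : G → ℂ) t).re with hxdef
  have hd1 : ∀ χ : Cfsg.IrrCharacter G, (χ : G → ℂ) 1 = (d χ : ℂ) := fun χ => by
    rw [CfsgLib.Blocks.apply_one_eq_charDegree]; simp [hddef]
  have hxt : ∀ χ : Cfsg.IrrCharacter G, (χ : G → ℂ) t = (xt χ : ℂ) := fun χ => by
    have := CfsgLib.Char.IsIrr.map_inv χ.2 t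
    rw [ht2] at this
    exact (Complex.conj_eq_iff_re.1 this.symm).symm
  have r1 : ∑ χ ∈ T, (a χ).re * d χ = 0 := by
    have := congrArg Complex.re h1
    simpa [hd1, Complex.mul_re] using this
  have r2 : ∑ χ ∈ T, (a χ).re * xt χ = 0 := by
    have := congrArg Complex.re h2
    simpa [hxt, Complex.mul_re] using this
  have r3 : ∑ χ ∈ T, (a χ).re * xt χ ^ 2 / d χ = 0 := by
    have := congrArg Complex.re h3
    simpa [hxt, hd1, Complex.mul_re, ← Complex.ofReal_pow, mul_div_assoc, ← Complex.ofReal_div]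
      using this
  set χ₁ := CfsgLib.Char.trivChar G
  have hχ₁ : χ₁ ∈ T := (Set.Finite.mem_toFinset _).2 (CfsgLib.Blocks.trivChar_mem_principalBlock)
  have ha1 : (a χ₁).re ≠ 0 := by
    have he : a χ₁ = c * ∑ y : P, θ y := by
      simp only [ha, χ₁, CfsgLib.Char.trivChar_apply, one_mul]
      congr 1
      exact Fintype.sum_equiv (Equiv.inv P) _ _ fun y => rfl
    have hre : (starRingEnd ℂ) (a χ₁) = a χ₁ := by
      rw [he, map_mul, map_sum, hc, map_inv₀, Complex.conj_natCast]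
      congr 1
      exact Fintype.sum_equiv (Equiv.inv P) _ _ fun y =>
        (CfsgLib.Char.IsGen.map_inv hθ y).symm
    intro h0
    refine hne (he.symm.trans ?_)
    rw [← Complex.conj_eq_iff_re.1 hre, h0, Complex.ofReal_zero]
  have hxk : xt χ₁ = d χ₁ := by
    simp [hxdef, hddef, χ₁, Cfsg.charDegree, CfsgLib.Char.trivChar_apply]
  -- another character with nonzero weight
  obtain ⟨χ, hχT, hχne, haχ⟩ : ∃ χ ∈ T, χ ≠ χ₁ ∧ (a χ).re ≠ 0 := by
    by_contra h
    push Not at h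
    rw [Finset.sum_eq_single χ₁ (fun χ hχ hne => by rw [h χ hχ hne, zero_mul])
      (fun h => absurd hχ₁ h), mul_eq_zero] at r1
    rcases r1 with h' | h'
    · exact ha1 h'
    · simp [hddef, χ₁, Cfsg.charDegree, CfsgLib.Char.trivChar_apply] at h'
  have hker : xt χ = d χ := by
    have hcard : ∀ q : Cfsg.IrrCharacter G → Prop,
        ¬ 2 ≤ Nat.card {χ : Cfsg.IrrCharacter G // χ ∈ B ∧ q χ} →
          ∀ i ∈ T, ∀ j ∈ T, q i → q j → i = j := by
      intro q hq i hi j hj hqi hqj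
      have := Finite.card_le_one_iff_subsingleton.1
        (show Nat.card {χ : Cfsg.IrrCharacter G // χ ∈ B ∧ q χ} ≤ 1 by omega)
      exact congrArg Subtype.val (Subsingleton.elim
        (⟨i, (Set.Finite.mem_toFinset _).1 hi, hqi⟩ : {χ // χ ∈ B ∧ q χ})
        ⟨j, (Set.Finite.mem_toFinset _).1 hj, hqj⟩)
    have hdpos : ∀ i ∈ T, 0 < d i := fun i _ => by
      simp only [hddef]
      exact_mod_cast CfsgLib.Blocks.charDegree_pos i
    rcases not_and_or.1 hcount with hp | hn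
    · exact eq_of_card_pos_le_one T (fun i => (a i).re) d xt hdpos r1 r2 r3
        (hcard (fun i => 0 < (a i).re) hp) hχ₁ ha1 hxk χ hχT haχ
    · refine eq_of_card_pos_le_one T (fun i => -(a i).re) d xt hdpos ?_ ?_ ?_ (fun i hi j hj h h' =>
        hcard (fun i => (a i).re < 0) hn i hi j hj (neg_pos.1 h) (neg_pos.1 h')) hχ₁
        (neg_ne_zero.2 ha1) hxk χ hχT (neg_ne_zero.2 haχ)
      · simp [neg_mul, r1]
      · simp [neg_mul, r2]
      · simp [neg_mul, neg_div, r3]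
  refine hK ⟨CfsgLib.Blocks.charKer χ, inferInstance, fun htop => ?_, fun n hn => ?_, ?_⟩
  · refine hχne (Subtype.ext (funext fun g => ?_))
    have hconst : ∀ g, (χ : G → ℂ) g = (χ : G → ℂ) 1 := fun g =>
      CfsgLib.Blocks.mem_charKer.1 (htop ▸ Subgroup.mem_top g)
    have horth := CfsgLib.Char.classInner_irr χ χ₁
    rw [if_neg hχne, Cfsg.classInner] at horth
    simp only [hconst, χ₁, CfsgLib.Char.trivChar_apply, map_one, mul_one, Finset.sum_const,
      Finset.card_univ, nsmul_eq_mul, ← Nat.card_eq_fintype_card] at horth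
    rw [← mul_assoc, inv_mul_cancel₀ (Nat.cast_ne_zero.2 Nat.card_pos.ne'), one_mul] at horth
    exact absurd horth (CfsgLib.Char.IsIrr.apply_one_ne_zero χ.2)
  · have : (Cfsg.pPrimeCore 2 G).Normal := inferInstance
    exact CfsgLib.Blocks.mem_charKer.2 (CfsgLib.Blocks.apply_eq_of_mem_principalBlock _ hM
      ((Nat.Prime.coprime_iff_not_dvd hM.1).1 (CfsgLib.Core.coprime_card_pPrimeCore 2 G).symm)
      ((Set.Finite.mem_toFinset _).1 hχT) n hn)
  · exact CfsgLib.Blocks.mem_charKer.2 (by rw [hd1, hxt, hker])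

end Cfsg.Agent.S4722
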