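import Cfsg.Statements.S4723
import Cfsg.Agent.Lib.Blocks.Covering
import Cfsg.Agent.Lib.CharAction.DegreeSum
import Cfsg.Agent.Lib.Char.CliffordCorr
import Cfsg.Agent.Lib.Blocks.Union

set_option autoImplicit false
open Cfsg

namespace Cfsg.Agent.S4723

open CfsgLib CfsgLib.Blocks CfsgLib.CharAction in
/-- A stable block of a normal subgroup of `p`-power index has an invariant height zero member. -/
theorem exists_invariant {Γ : Type*} [Group Γ] [Finite Γ] {p : ℕ} [Fact p.Prime]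
    {M : Ideal Cfsg.AlgInt} (hM : Cfsg.IsPModular p M) (N : Subgroup Γ) [hN : N.Normal]
    {n : ℕ} (hidx : N.index = p ^ n) {b : Set (Cfsg.IrrCharacter N)} (hb : Cfsg.IsPBlock M b)
    (hstab : ∀ g : Γ, ∀ θ ∈ b, conjIrr N g θ ∈ b) :
    ∃ θ ∈ b, Cfsg.blockHeight p b (θ : N → ℂ) = 0 ∧
      ∀ g : Γ, g ∈ Clifford.inertia hN (θ : N → ℂ) := by
  classical
  have := Fintype.ofFinite Γ
  have := Fintype.ofFinite N
  have := Fintype.ofFinite (Cfsg.IrrCharacter Γ)
  have := Fintype.ofFinite (Cfsg.IrrCharacter N)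
  have : M.IsPrime := hM.2.1.isPrime
  obtain ⟨θ₀, hθ₀⟩ := IsPBlock.nonempty hb
  obtain ⟨χ₀, hχ₀⟩ := exists_irr_over N θ₀
  set B := Cfsg.blockOf M (χ₀ : Γ → ℂ) with hBdef
  have hB : Cfsg.IsPBlock M B := isPBlock_blockOf χ₀
  choose m hm using fun (χ : Cfsg.IrrCharacter Γ) (θ : Cfsg.IrrCharacter N) =>
    Char.IsChar.classInner_eq_natCast (Char.IsChar.restrict N (Char.IsIrr.isCharacter χ.2))
      (Char.IsIrr.isCharacter θ.2)
  have hne : ∀ {χ : Cfsg.IrrCharacter Γ} {θ : Cfsg.IrrCharacter N}, Cfsg.classInner (fun x : N => (χ : Γ → ℂ) x) (θ : N → ℂ) ≠ 0 ↔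
      m χ θ ≠ 0 := fun {χ θ} => by rw [hm, Nat.cast_ne_zero]
  have hover : ∀ χ θ, θ ∈ b → m χ θ ≠ 0 → χ ∈ B := fun χ θ hθ h =>
    sameBlock_of_constituent N hM hidx hχ₀ (hne.mpr h) (IsPBlock.sameBlock hb hθ₀ hθ)
  have hunder : ∀ χ θ, χ ∈ B → m χ θ ≠ 0 → θ ∈ b := fun χ θ hχ h => by
    obtain ⟨g, hg⟩ := exists_conj_of_sameBlock N hχ hχ₀ (hne.mpr h)
    rw [← IsPBlock.eq_blockOf hb (hstab g θ₀ hθ₀)] at hg
    exact hg
  set A := (Set.toFinite B).toFinset with hA
  set a := (Set.toFinite b).toFinset with ha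
  have hdeg : ∀ χ ∈ A, Cfsg.charDegree (χ : Γ → ℂ) =
      ∑ θ ∈ a, m χ θ * Cfsg.charDegree (θ : N → ℂ) := fun χ hχ => by
    have h := Char.classFunction_apply_eq_sum (Char.IsChar.isClassFunction
      (Char.IsChar.restrict N (Char.IsIrr.isCharacter χ.2))) 1
    simp only [hm, apply_one_eq_charDegree, OneMemClass.coe_one] at h
    rw [← Finset.sum_subset (Finset.subset_univ a) fun θ _ hθ => by
      rw [show m χ θ = 0 from by_contra fun h0 => hθ ((Set.Finite.mem_toFinset _).2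
        (hunder χ θ ((Set.Finite.mem_toFinset _).1 hχ) h0)), Nat.cast_zero, zero_mul]] at h
    exact_mod_cast h
  have hind : ∀ θ ∈ a, ∑ χ ∈ A, Cfsg.charDegree (χ : Γ → ℂ) * m χ θ =
      N.index * Cfsg.charDegree (θ : N → ℂ) := fun θ hθ => by
    have h := Char.classFunction_apply_eq_sum (Char.isClassFunction_indFun N (θ : N → ℂ)) 1
    rw [Char.indFun_apply_one, apply_one_eq_charDegree] at h
    simp only [apply_one_eq_charDegree, Char.frobenius_reciprocity N _
      (Char.IsIrr.isClassFunction (Subtype.prop _))] at h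
    have hsym : ∀ χ : Cfsg.IrrCharacter Γ,
        Cfsg.classInner (θ : N → ℂ) (fun x : N => (χ : Γ → ℂ) x) = (m χ θ : ℂ) := fun χ => by
      rw [← Char.classInner_conj_symm, hm, map_natCast]
    simp only [hsym] at h
    rw [← Finset.sum_subset (Finset.subset_univ A) fun χ _ hχ => by
      rw [show m χ θ = 0 from by_contra fun h0 => hχ ((Set.Finite.mem_toFinset _).2
        (hover χ θ ((Set.Finite.mem_toFinset _).1 hθ) h0)), Nat.cast_zero, zero_mul]] at h
    rw [Finset.sum_congr rfl fun χ _ => mul_comm _ _]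
    exact_mod_cast h.symm
  have hsum : ∑ᶠ χ ∈ B, Cfsg.charDegree (χ : Γ → ℂ) ^ 2 =
      p ^ n * ∑ᶠ θ ∈ b, Cfsg.charDegree (θ : N → ℂ) ^ 2 := by
    rw [finsum_mem_eq_finite_toFinset_sum _ (Set.toFinite B),
      finsum_mem_eq_finite_toFinset_sum _ (Set.toFinite b), ← hidx, ← hA, ← ha, Finset.mul_sum]
    calc ∑ χ ∈ A, Cfsg.charDegree (χ : Γ → ℂ) ^ 2
        = ∑ χ ∈ A, ∑ θ ∈ a, Cfsg.charDegree (χ : Γ → ℂ) * m χ θ *
            Cfsg.charDegree (θ : N → ℂ) := Finset.sum_congr rfl fun χ hχ => by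
          conv_lhs => rw [sq]; arg 2; rw [hdeg χ hχ]
          rw [Finset.mul_sum]
          exact Finset.sum_congr rfl fun θ _ => (mul_assoc _ _ _).symm
      _ = _ := by
          rw [Finset.sum_comm]
          refine Finset.sum_congr rfl fun θ hθ => ?_
          rw [← Finset.sum_mul, hind θ hθ]
          ring
  have hmin : minDeg p B = minDeg p b := by
    have h1 := factorization_sum_degree_sq hM hB
    rw [hsum, Nat.factorization_mul (pow_ne_zero _ hM.1.ne_zero) ?_, Finsupp.add_apply,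
      factorization_sum_degree_sq hM hb, hM.1.factorization_pow, Finsupp.single_eq_same,
      blockDefect_eq_sub, blockDefect_eq_sub] at h1
    · have h2 : (Nat.card Γ).factorization p = n + (Nat.card N).factorization p := by
        rw [factorization_card_eq_index_add hM N, hidx, hM.1.factorization_pow,
          Finsupp.single_eq_same]
      have h3 := minDeg_le_card (p := p) (IsPBlock.nonempty hB)
      have h4 := minDeg_le_card (p := p) (IsPBlock.nonempty hb)
      omega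
    · rw [finsum_mem_eq_finite_toFinset_sum _ (Set.toFinite b), ← ha]
      refine (Finset.sum_pos (fun θ _ => pow_pos (charDegree_pos θ) 2)
        ⟨θ₀, (Set.Finite.mem_toFinset _).2 hθ₀⟩).ne'
  obtain ⟨χ, hχ, hχmin⟩ := exists_minDeg p (IsPBlock.nonempty hB)
  obtain ⟨θ, hθ⟩ := exists_constituent N χ
  have hθb : θ ∈ b := hunder χ θ hχ (hne.mp hθ)
  have hd := Clifford.degree_eq hN θ.2 χ.2 hθ
  rw [hm, apply_one_eq_charDegree, apply_one_eq_charDegree] at hd
  have hd' : Cfsg.charDegree (χ : Γ → ℂ) = m χ θ *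
      (Clifford.inertia hN (θ : N → ℂ)).index * Cfsg.charDegree (θ : N → ℂ) := by exact_mod_cast hd
  have hθle := minDeg_le (p := p) hθb
  have hmθ : m χ θ ≠ 0 := hne.mp hθ
  simp only [degVal] at hχmin hθle
  rw [hd', Nat.factorization_mul (mul_ne_zero hmθ Subgroup.index_ne_zero_of_finite)
    (charDegree_pos θ).ne', Nat.factorization_mul hmθ Subgroup.index_ne_zero_of_finite,
    Finsupp.add_apply, Finsupp.add_apply, hmin] at hχmin
  refine ⟨θ, hθb, ?_, fun g => ?_⟩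
  · rw [blockHeight_eq_sub]
    simp only [degVal]
    omega
  · have hdvd : (Clifford.inertia hN (θ : N → ℂ)).index ∣ p ^ n :=
      hidx ▸ Subgroup.index_dvd_of_le (Clifford.le_inertia hN (Char.IsIrr.isClassFunction θ.2))
    obtain ⟨j, -, hj⟩ := (Nat.dvd_prime_pow hM.1).1 hdvd
    rw [hj, hM.1.factorization_pow, Finsupp.single_eq_same] at hχmin
    rw [Subgroup.index_eq_one.1 (show (Clifford.inertia hN (θ : N → ℂ)).index = 1 by
      rw [hj, show j = 0 by omega, pow_zero])]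
    trivial

/-- Let p be a prime, M a maximal ideal of the algebraic integers containing p, H a normal subgroup of the finite group G and b a p-block of H. Let T be the stabilizer of b in G. Then b contains a character θ of height zero whose own stabilizer in G (the elements g with θ(g h g⁻¹) = θ(h) for all h ∈ H) has index prime to p in T, i.e. contains a Sylow p-subgroup of T. -/
theorem result {G : Type*} [Group G] [Finite G] (p : ℕ) [Fact p.Prime] (M : Ideal Cfsg.AlgInt) (hM : Cfsg.IsPModular p M) (H : Subgroup G) [H.Normal] (b : Set (Cfsg.IrrCharacter ↥H)) (hb : Cfsg.IsPBlock M b) (T : Subgroup G) (hT : (∀ g : G, g ∈ T ↔ ∀ θ ∈ b, ∀ θ' : Cfsg.IrrCharacter ↥H, (∀ h h' : ↥H, (h' : G) = g * h * g⁻¹ → (θ' : ↥H → ℂ) h' = (θ : ↥H → ℂ) h) → θ' ∈ b)) : ∃ θ ∈ b, Cfsg.blockHeight p b (θ : ↥H → ℂ) = 0 ∧ ∃ S : Subgroup G, S ≤ T ∧ (∀ g : G, g ∈ S ↔ (g ∈ T ∧ ∀ h h' : ↥H, (h' : G) = g * h * g⁻¹ → (θ : ↥H → ℂ) h' = (θ : ↥H → ℂ) h)) ∧ ¬ p ∣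 S.relIndex T := by
  classical
  have hp : p.Prime := Fact.out
  have : M.IsPrime := hM.2.1.isPrime
  have := Fintype.ofFinite H
  obtain ⟨θ₀, hθ₀⟩ := CfsgLib.Blocks.IsPBlock.nonempty hb
  have hconj : ∀ (g : G) (θ θ' : Cfsg.IrrCharacter ↥H),
      (∀ h h' : ↥H, (h' : G) = g * h * g⁻¹ → (θ' : ↥H → ℂ) h' = (θ : ↥H → ℂ) h) →
      θ' = CfsgLib.Blocks.conjIrr H g⁻¹ θ := fun g θ θ' h => Subtype.ext (funext fun x => by
    rw [CfsgLib.Blocks.conjIrr_apply]
    exact h _ x (by simp [mul_assoc]))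
  have hT' : ∀ g ∈ T, ∀ θ ∈ b, CfsgLib.Blocks.conjIrr H g θ ∈ b := fun g hg θ hθ =>
    (hT g⁻¹).1 (inv_mem hg) θ hθ _ fun h h' e => by
      rw [CfsgLib.Blocks.conjIrr_apply]
      exact congrArg _ (Subtype.ext (by
        show g * (h' : G) * g⁻¹ = h
        rw [e]; group))
  have hHT : H ≤ T := fun x hx => (hT x).2 fun θ hθ θ' h => by
    rw [hconj x θ θ' h]
    convert hθ using 1
    refine Subtype.ext (funext fun n => ?_)
    rw [CfsgLib.Blocks.conjIrr_apply]
    exact (congrArg _ (Subtype.ext rfl)).trans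
      (CfsgLib.Char.IsIrr.isClassFunction θ.2 n ⟨x⁻¹, inv_mem hx⟩)
  obtain ⟨P⟩ : Nonempty (Sylow p T) := inferInstance
  set P' := (P : Subgroup T).map T.subtype with hP'
  have hP'T : P' ≤ T := Subgroup.map_subtype_le _
  let Γ := H ⊔ P'
  have hΓT : Γ ≤ T := sup_le hHT hP'T
  let N : Subgroup Γ := H.subgroupOf Γ
  have hNn : N.Normal := Subgroup.Normal.subgroupOf inferInstance _
  have hidx : ∃ n, N.index = p ^ n := by
    obtain ⟨k, hk⟩ := IsPGroup.iff_card.1 (P.2.map T.subtype)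
    have h : N.index = H.relIndex P' := by
      show H.relIndex (H ⊔ P') = _
      rw [sup_comm, Subgroup.relIndex_sup_right]
    have hdvd : H.relIndex P' ∣ p ^ k :=
      hk ▸ Subgroup.relIndex_dvd_card _ _
    obtain ⟨j, -, hj⟩ := (Nat.dvd_prime_pow hp).1 hdvd
    exact ⟨j, h.trans hj⟩
  obtain ⟨n, hn⟩ := hidx
  let e : N ≃* H := Subgroup.subgroupOfEquivOfLe le_sup_left
  let b' := CfsgLib.Blocks.pullEquiv e '' b
  have hb' : Cfsg.IsPBlock M b' := ⟨_, by
    show CfsgLib.Blocks.pullEquiv e '' b = _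
    rw [CfsgLib.Blocks.IsPBlock.eq_blockOf hb hθ₀, CfsgLib.Blocks.image_pullEquiv_blockOf]⟩
  obtain ⟨η, hη, hη0, hfix⟩ := exists_invariant hM N hn hb' (by
    rintro g _ ⟨θ, hθ, rfl⟩
    refine ⟨CfsgLib.Blocks.conjIrr H (g : G) θ, hT' g (hΓT g.2) θ hθ,
      Subtype.ext (funext fun x => ?_)⟩
    rw [CfsgLib.Blocks.conjIrr_apply, CfsgLib.Blocks.pullEquiv_apply,
      CfsgLib.Blocks.pullEquiv_apply, CfsgLib.Blocks.conjIrr_apply]
    rfl)
  obtain ⟨θ, hθ, rfl⟩ := hη
  have hdeg : ∀ φ : Cfsg.IrrCharacter H,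
      Cfsg.charDegree (CfsgLib.Blocks.pullEquiv e φ : N → ℂ) = Cfsg.charDegree (φ : H → ℂ) :=
    fun φ => by simp only [Cfsg.charDegree, CfsgLib.Blocks.pullEquiv_apply, map_one]
  refine ⟨θ, hθ, ?_, T ⊓ CfsgLib.Clifford.inertia (inferInstance : H.Normal) (θ : H → ℂ),
    inf_le_left, fun g => ?_, ?_⟩
  · rw [← hη0, Cfsg.blockHeight, Cfsg.blockHeight, hdeg, Set.image_image]
    simp only [hdeg]
  · rw [Subgroup.mem_inf, CfsgLib.Clifford.mem_inertia]
    refine and_congr_right fun _ => ⟨fun h x x' e => ?_, fun h => funext fun x => ?_⟩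
    · rw [← congrFun h x, CfsgLib.Clifford.conjFn_apply]
      exact congrArg _ (Subtype.ext e)
    · rw [CfsgLib.Clifford.conjFn_apply]
      exact h x _ rfl
  · intro hdvd
    refine Sylow.not_dvd_index P (hdvd.trans ?_)
    refine Subgroup.index_dvd_of_le fun x hx => ⟨x.2, ?_⟩
    refine CfsgLib.Clifford.mem_inertia.2 (funext fun y => ?_)
    have hxΓ : (x : G) ∈ Γ := Subgroup.mem_sup_right ⟨x, hx, rfl⟩
    have h := congrFun (CfsgLib.Clifford.mem_inertia.1 (hfix ⟨x, hxΓ⟩)) (e.symm y)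
    rw [CfsgLib.Clifford.conjFn_apply, CfsgLib.Blocks.pullEquiv_apply,
      CfsgLib.Blocks.pullEquiv_apply, MulEquiv.apply_symm_apply] at h
    rw [CfsgLib.Clifford.conjFn_apply]
    exact Eq.trans (congrArg _ (Subtype.ext rfl)) h

end Cfsg.Agent.S4723
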