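import Cfsg.Statements.S4725
import Cfsg.Agent.Lib.Blocks.HeightZero
import Cfsg.Agent.Lib.CharAction.RegBlock
import Cfsg.Agent.Lib.Blocks.Union

set_option autoImplicit false
open Cfsg

namespace Cfsg.Agent.S4725

/-- Let p be a prime, M a maximal ideal of the algebraic integers containing p, H a subgroup of the finite group G, and b a p-block of H inducing the p-block B of G, with b and B of the same defect. Then for every height-zero ζ ∈ b there is a height-zero χ ∈ B whose multiplicity in the character induced from ζ is not divisible by p. -/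
theorem result {G : Type*} [Group G] [Fintype G] (p : ℕ) [Fact p.Prime] (M : Ideal Cfsg.AlgInt) (hM : Cfsg.IsPModular p M) (H : Subgroup G) (b : Set (Cfsg.IrrCharacter ↥H)) (B : Set (Cfsg.IrrCharacter G)) (hind : Cfsg.IsInducedBlock M H b B) (hdef : Cfsg.blockDefect p b = Cfsg.blockDefect p B) (ζ : Cfsg.IrrCharacter ↥H) (hζ : ζ ∈ b) (hζ0 : Cfsg.blockHeight p b (ζ : ↥H → ℂ) = 0) : ∃ χ ∈ B, Cfsg.blockHeight p B (χ : G → ℂ) = 0 ∧ ∃ a : ℕ, Cfsg.classInner (Cfsg.indFun H (ζ : ↥H → ℂ)) (χ : G → ℂ) = (a : ℂ) ∧ ¬ p ∣ a := by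
  classical
  have : M.IsPrime := hM.2.1.isPrime
  have : Fintype H := Fintype.ofFinite H
  have hp : p.Prime := Fact.out
  have : CharP (CfsgLib.Blocks.Res M) p := CfsgLib.Blocks.charP_residueField hM
  obtain ⟨hb, hB, hω⟩ := CfsgLib.Blocks.isInducedBlock_iff.1 hind
  have hH1 : (ζ : H → ℂ) 1 = Cfsg.charDegree (ζ : H → ℂ) :=
    CfsgLib.Blocks.apply_one_eq_charDegree ζ
  obtain ⟨η, hη⟩ := CfsgLib.Blocks.IsPBlock.nonempty hB
  -- the value of the idempotent of `B` at `ζ`
  let eH := CfsgLib.Blocks.resElt H (CfsgLib.Blocks.blockIdemO M B)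
  have heH := CfsgLib.Blocks.isCentralElt_resElt H (CfsgLib.Blocks.isCentralElt_blockIdemO hB)
  let w : CfsgLib.Blocks.localRing M := ⟨_, CfsgLib.Blocks.omega_inc_mem (M := M) ζ heH⟩
  have hw : CfsgLib.Blocks.resHom M w = 1 := by
    rw [← CfsgLib.Blocks.omegaBar_red ζ heH,
      show CfsgLib.Blocks.red M eH = CfsgLib.Blocks.resElt H (CfsgLib.Blocks.blockIdemBar M B) from
        MonoidAlgebra.ext (Finsupp.ext fun h => by
          rw [CfsgLib.Blocks.coeff_resElt, CfsgLib.Blocks.blockIdemBar, CfsgLib.Blocks.coeff_red,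
            CfsgLib.Blocks.coeff_red, CfsgLib.Blocks.coeff_resElt]),
      hω ζ hζ η hη _ (CfsgLib.Blocks.isCentralElt_blockIdemBar hB),
      CfsgLib.Blocks.omegaBar_blockIdemBar hB, if_pos hη]
  have hsum : ∑ h : H, Cfsg.blockCoeff B (h : G) * (ζ : H → ℂ) h = (w : ℂ) * (ζ : H → ℂ) 1 := by
    show _ = CfsgLib.Blocks.omega (ζ : H → ℂ) (CfsgLib.Blocks.inc M eH) * _
    rw [CfsgLib.Blocks.omega_apply, div_mul_cancel₀ _ (CfsgLib.Char.IsIrr.apply_one_ne_zero ζ.2)]
    refine Finset.sum_congr rfl fun h _ => ?_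
    rw [CfsgLib.Blocks.coeff_inc, CfsgLib.Blocks.coeff_resElt, ← CfsgLib.Blocks.coeff_inc,
      CfsgLib.Blocks.inc_blockIdemO hB]
    rfl
  -- multiplicities
  have hm : ∀ χ : Cfsg.IrrCharacter G, ∃ a : ℕ,
      Cfsg.classInner (Cfsg.indFun H (ζ : H → ℂ)) (χ : G → ℂ) = (a : ℂ) := fun χ => by
    rw [CfsgLib.Char.frobenius_reciprocity H _ (CfsgLib.Char.IsIrr.isClassFunction χ.2)]
    exact CfsgLib.Char.IsChar.classInner_eq_natCast (CfsgLib.Char.IsIrr.isCharacter ζ.2)
      (CfsgLib.Char.IsChar.restrict H (CfsgLib.Char.IsIrr.isCharacter χ.2))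
  choose a ha using hm
  set A := (Set.toFinite B).toFinset with hA
  have hN : ((∑ χ ∈ A, a χ * Cfsg.charDegree (χ : G → ℂ) : ℕ) : ℂ) =
      ((H.index * Cfsg.charDegree (ζ : H → ℂ) : ℕ) : ℂ) * (w : ℂ) := by
    rw [Nat.cast_mul, mul_assoc, mul_comm _ (w : ℂ), ← hH1, ← hsum]
    simp only [Cfsg.blockCoeff, finsum_mem_eq_finite_toFinset_sum _ (Set.toFinite B), ← hA,
      Finset.mul_sum, Finset.sum_mul]
    rw [Finset.sum_comm, Nat.cast_sum]
    refine Finset.sum_congr rfl fun χ _ => ?_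
    rw [Nat.cast_mul, ← ha, CfsgLib.Char.frobenius_reciprocity H _
      (CfsgLib.Char.IsIrr.isClassFunction χ.2), Cfsg.classInner, Finset.mul_sum, Finset.sum_mul,
      ← CfsgLib.Blocks.apply_one_eq_charDegree χ]
    refine Finset.sum_congr rfl fun h _ => ?_
    rw [← H.index_mul_card, Nat.cast_mul]
    have h1 : (H.index : ℂ) ≠ 0 := Nat.cast_ne_zero.mpr Subgroup.index_ne_zero_of_finite
    have h2 : (Nat.card H : ℂ) ≠ 0 := Nat.cast_ne_zero.mpr Nat.card_pos.ne'
    field_simp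
  -- exponents
  have hE : (H.index * Cfsg.charDegree (ζ : H → ℂ)).factorization p =
      CfsgLib.CharAction.minDeg p B := by
    rw [Nat.factorization_mul Subgroup.index_ne_zero_of_finite
      (CfsgLib.Blocks.charDegree_pos ζ).ne', Finsupp.add_apply,
      (CfsgLib.Blocks.blockHeight_eq_zero_iff_minExp hζ).1 hζ0]
    have h1 := CfsgLib.Blocks.factorization_card_eq_index_add hM H
    have h2 := CfsgLib.CharAction.minDeg_le_card (p := p) (CfsgLib.Blocks.IsPBlock.nonempty hB)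
    have h3 := CfsgLib.CharAction.minDeg_le_card (p := p) (CfsgLib.Blocks.IsPBlock.nonempty hb)
    rw [CfsgLib.CharAction.blockDefect_eq_sub, CfsgLib.CharAction.blockDefect_eq_sub] at hdef
    change _ + CfsgLib.CharAction.minDeg p b = _
    omega
  set E := CfsgLib.CharAction.minDeg p B
  obtain ⟨r, hr, hrp⟩ := CfsgLib.Blocks.exists_factorization (p := p) (mul_ne_zero
    (Subgroup.index_ne_zero_of_finite (H := H)) (CfsgLib.Blocks.charDegree_pos ζ).ne')
  rw [hE] at hr
  by_contra hcon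
  push Not at hcon
  have hdvd : ∀ χ ∈ A, p ^ (E + 1) ∣ a χ * Cfsg.charDegree (χ : G → ℂ) := fun χ hχ => by
    have hχB : χ ∈ B := (Set.Finite.mem_toFinset _).1 hχ
    by_cases h0 : Cfsg.blockHeight p B (χ : G → ℂ) = 0
    · rw [pow_succ']
      exact mul_dvd_mul (hcon χ hχB h0 (a χ) (ha χ))
        ((pow_dvd_pow p (CfsgLib.CharAction.minDeg_le hχB)).trans (Nat.ordProj_dvd _ _))
    · refine Dvd.dvd.mul_left ((pow_dvd_pow p ?_).trans (Nat.ordProj_dvd _ _)) _
      rw [CfsgLib.CharAction.blockHeight_eq_sub] at h0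
      change E + 1 ≤ _
      have := CfsgLib.CharAction.minDeg_le (p := p) hχB
      simp only [CfsgLib.CharAction.degVal] at *
      omega
  obtain ⟨k, hk⟩ := Finset.dvd_sum hdvd
  rw [hk, hr] at hN
  push_cast at hN
  have hp0 : (p : ℂ) ≠ 0 := Nat.cast_ne_zero.2 hp.ne_zero
  have he : (r : CfsgLib.Blocks.localRing M) * w = (p : CfsgLib.Blocks.localRing M) * k :=
    Subtype.ext (by
      refine mul_left_cancel₀ (pow_ne_zero E hp0) ?_
      push_cast
      rw [← mul_assoc, ← hN, pow_succ, mul_assoc])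
  have := congrArg (CfsgLib.Blocks.resHom M) he
  rw [map_mul, map_mul, hw, mul_one, map_natCast, map_natCast, CharP.cast_eq_zero (CfsgLib.Blocks.Res M) p, zero_mul,
    CharP.cast_eq_zero_iff _ p] at this
  exact hrp this

end Cfsg.Agent.S4725
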