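import Cfsg.Statements.S4726
import Cfsg.Agent.Lib.Pairs.InducedCenter

set_option autoImplicit false
open Cfsg

namespace Cfsg.Agent.S4726

/-- Let p be a prime, M a maximal ideal of the algebraic integers containing p, H a subgroup of the finite group G and b a p-block of H with defect group D₀ such that C_G(D₀) ≤ H. Then b induces a block of G, and for every block B of G induced by b there is a defect group D of B with Z(D) ≤ Z(D₀) ≤ D₀ ≤ D (as subgroups of G). In particular, if the defect groups of B are abelian then D₀ is a defect group of B. -/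
theorem result {G : Type*} [Group G] [Finite G] (p : ℕ) [Fact p.Prime] (M : Ideal Cfsg.AlgInt) (hM : Cfsg.IsPModular p M) (H : Subgroup G) (b : Set (Cfsg.IrrCharacter ↥H)) (hb : Cfsg.IsPBlock M b) (D₀ : Subgroup ↥H) (hD₀ : Cfsg.IsDefectGroup p M b D₀) (hC : Subgroup.centralizer ((D₀.map H.subtype : Subgroup G) : Set G) ≤ H) : Cfsg.InducedBlockDefined M H b ∧ ∀ B : Set (Cfsg.IrrCharacter G), Cfsg.IsInducedBlock M H b B → (∃ D : Subgroup G, Cfsg.IsDefectGroup p M B D ∧ (Subgroup.center ↥D).map D.subtype ≤ ((Subgroup.center ↥D₀).map D₀.subtype).map H.subtype ∧ ((Subgroup.center ↥D₀).map D₀.subtype).map H.subtype ≤ D₀.map H.subtype ∧ D₀.map H.subtype ≤ D) ∧ (∀ D : Subgroup G, Cfsg.IsDefectGroup p M B D → IsMulCommutative ↥D → Cfsg.IsDefectGroup p M B (D₀.map H.subtype)) := by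
  classical
  have : Fintype G := Fintype.ofFinite G
  have : M.IsPrime := hM.2.1.isPrime
  refine ⟨CfsgLib.Pairs.inducedBlockDefined_of_centralizer_le hM hb hD₀ hC, fun B hind => ?_⟩
  obtain ⟨D, hD, hle, hz⟩ := CfsgLib.Pairs.exists_defectGroup_center_le hM hind hD₀ hC
  refine ⟨⟨D, hD, ?_, Subgroup.map_mono (Subgroup.map_subtype_le _), hle⟩, fun D' hD' hab => ?_⟩
  · rintro _ ⟨z, hzc, rfl⟩
    have hcomm : ∀ d ∈ D, d * (z : G) = (z : G) * d := fun d hd =>
      congrArg Subtype.val (Subgroup.mem_center_iff.1 hzc ⟨d, hd⟩)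
    obtain ⟨w, hw, hwz⟩ := hz _ z.2 hcomm
    refine ⟨w, ⟨⟨w, hw⟩, Subgroup.mem_center_iff.2 fun d => ?_, rfl⟩, hwz⟩
    refine Subtype.ext (Subtype.ext ?_)
    have h := hcomm _ (hle ⟨_, d.2, rfl⟩)
    rw [← show (w : G) = (z : G) from hwz] at h
    exact h
  · obtain ⟨x, hx⟩ := CfsgLib.Blocks.IsDefectGroup.exists_conj hM hind.2.1 hD' hD
    suffices h : D₀.map H.subtype = D by rw [h]; exact hD
    refine le_antisymm hle fun z hzD => hz z hzD fun d hd => ?_
    rw [← hx] at hzD hd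
    obtain ⟨z', hz', rfl⟩ := hzD
    obtain ⟨d', hd', rfl⟩ := hd
    rw [← map_mul, ← map_mul]
    exact congrArg _ (congrArg Subtype.val (hab.is_comm.comm (⟨d', hd'⟩ : D') ⟨z', hz'⟩))

end Cfsg.Agent.S4726
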