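import Cfsg.Statements.S4727
import Cfsg.Agent.Lib.Pairs.PiKernel
import Cfsg.Agent.Lib.Blocks.Principal

set_option autoImplicit false
open Cfsg

namespace Cfsg.Agent.S4727

/-- Let p be a prime, π a set of primes containing p, M a maximal ideal of the algebraic integers containing p, and B a p-block of the finite group G with defect group D; let B₁ be the block of N_G(D) with defect group D that induces B (the Brauer correspondent of B). Suppose every element of O_π'(N_G(D)), the largest normal subgroup of N_G(D) whose order has no prime divisor in π, lies in the kernel of every member of B₁. If y is a p-element whose centralizer C has a normal Hall π'-subgroup (every element of C whose order has no prime divisor in π lies in O_π'(C)), then χ(y x) = χ(y) for every χ ∈ B and every x ∈ C whose order has no prime divisor in π. -/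
theorem result {G : Type*} [Group G] [Finite G] (p : ℕ) [Fact p.Prime] (M : Ideal Cfsg.AlgInt) (hM : Cfsg.IsPModular p M) (π : Set ℕ) (hpπ : p ∈ π) (B : Set (Cfsg.IrrCharacter G)) (hB : Cfsg.IsPBlock M B) (D : Subgroup G) (hBD : Cfsg.IsDefectGroup p M B D) (B₁ : Set (Cfsg.IrrCharacter ↥(Subgroup.normalizer (D : Set G)))) (hB₁ : Cfsg.IsInducedBlock M (Subgroup.normalizer (D : Set G)) B₁ B) (hB₁D : Cfsg.IsDefectGroup p M B₁ (D.subgroupOf (Subgroup.normalizer (D : Set G)))) (hker : ∀ n : ↥(Subgroup.normalizer (D : Set G)), n ∈ Cfsg.piCore {q | q ∉ π} ↥(Subgroup.normalizer (D : Set G)) → n ∈ Cfsg.blockKer B₁) (y : G) (hy : ∃ k : ℕ, orderOf y = p ^ k) (hC : ∀ x : ↥(Subgroup.centralizer ({y} : Set G)), (∀ q : ℕ, q.Prime → q ∣ orderOf x → q ∉ π) → x ∈ Cfsg.piCore {q | q ∉ π} ↥(Subgroup.centralizer ({y} : Set G))) : ∀ χ ∈ B, ∀ x : G, x ∈ Subgroup.centralizer ({y} : Set G) → (∀ q : ℕ, q.Prime → q ∣ orderOf x → q ∉ π) → (χ : G → ℂ) (y * x) = (χ : G → ℂ) y := by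
  classical
  have : Fintype G := Fintype.ofFinite G
  have : M.IsPrime := hM.2.1.isPrime
  intro χ hχ x hx hxo
  set C := Subgroup.centralizer ({y} : Set G) with hCdef
  have : Fintype {b : Set (Cfsg.IrrCharacter C) // Cfsg.IsPBlock M b} := Fintype.ofFinite _
  have hyC : y ∈ C := CfsgLib.Blocks.mem_centralizer_singleton.2 (Commute.refl y)
  have key : ∀ (b : {b : Set (Cfsg.IrrCharacter C) // Cfsg.IsPBlock M b}),
      Cfsg.blockPart b.1 (fun c : C => (χ : G → ℂ) (y * (c : G))) ⟨x, hx⟩ =
        Cfsg.blockPart b.1 (fun c : C => (χ : G → ℂ) (y * (c : G))) 1 := by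
    intro b
    by_cases hind : Cfsg.IsInducedBlock M C b.1 B
    · obtain ⟨D₀, hD₀⟩ := CfsgLib.Blocks.exists_isDefectGroup (p := p) b.2
      have : (Subgroup.zpowers (⟨y, hyC⟩ : C)).Normal := ⟨fun n hn g => by
        obtain ⟨k, rfl⟩ := Subgroup.mem_zpowers_iff.1 hn
        have hg : Commute g (⟨y, hyC⟩ : C) :=
          Subtype.ext (CfsgLib.Blocks.mem_centralizer_singleton.1 g.2).eq
        rw [(hg.zpow_right k).eq, mul_inv_cancel_right]
        exact zpow_mem (Subgroup.mem_zpowers _) k⟩
      have hle : Subgroup.zpowers (⟨y, hyC⟩ : C) ≤ D₀ := by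
        obtain ⟨k, hk⟩ := hy
        exact CfsgLib.Blocks.IsDefectGroup.normal_le hM b.2 hD₀
          (IsPGroup.of_card (n := k) (by rw [Nat.card_zpowers, Subgroup.orderOf_mk, hk]))
      have hC' : Subgroup.centralizer ((D₀.map C.subtype : Subgroup G) : Set G) ≤ C := fun c hc =>
        CfsgLib.Blocks.mem_centralizer_singleton.2
          (Subgroup.mem_centralizer_iff.1 hc y
            ⟨⟨y, hyC⟩, hle (Subgroup.mem_zpowers _), rfl⟩).symm
      have hk := CfsgLib.Pairs.kernel_of_induced hM hBD hB₁ hB₁D hpπ hker hind hD₀ hC' ⟨x, hx⟩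
        (hC ⟨x, hx⟩ fun q hq hd => hxo q hq (by rwa [← Subgroup.orderOf_coe] at hd))
      simp only [CfsgLib.Blocks.blockPart_eq]
      exact finsum_congr fun ψ => finsum_congr fun hψ => by rw [hk ψ hψ]
    · have hz : ∀ c : C, ¬ p ∣ orderOf c →
          Cfsg.blockPart b.1 (fun c : C => (χ : G → ℂ) (y * (c : G))) c = 0 := fun c hc =>
        CfsgLib.Blocks.blockPart_eq_zero_of_not_induced hM hy hB hχ b.2 hind hc
      rw [hz _ (fun hd => hxo p Fact.out (by rwa [Subgroup.orderOf_mk] at hd) hpπ),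
        hz 1 (by simp [(Fact.out : p.Prime).ne_one])]
  have hθ := CfsgLib.Blocks.isClassFunction_translate (x := y) χ
  have h1 := CfsgLib.Blocks.sum_blockPart (M := M) hθ ⟨x, hx⟩
  rw [Finset.sum_congr rfl fun b _ => key b, CfsgLib.Blocks.sum_blockPart (M := M) hθ 1] at h1
  simpa using h1.symm

end Cfsg.Agent.S4727
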