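import Cfsg.Statements.S4729
import Cfsg.Agent.Lib.Blocks.Union
import Cfsg.Agent.Lib.Char.Integral
import Cfsg.Agent.Lib.Char.Extension

set_option autoImplicit false
open Cfsg

namespace Cfsg.Agent.S4729

/-- Let p be a prime, M a maximal ideal of the algebraic integers containing p, G a finite perfect group and P a Sylow p-subgroup. If the principal p-block of G contains a faithful irreducible character of degree less than 2p, then the centralizer of P is a p-group. -/
theorem result {G : Type*} [Group G] [Finite G] (p : ℕ) [Fact p.Prime] (M : Ideal Cfsg.AlgInt) (hM : Cfsg.IsPModular p M) (hperf : commutator G = ⊤) (P : Sylow p G) (χ : Cfsg.IrrCharacter G) (hχ : χ ∈ Cfsg.principalBlock M G) (hfaith : ∀ g : G, (χ : G → ℂ) g = (χ : G → ℂ) 1 → g = 1) (hdeg : Cfsg.charDegree (χ : G → ℂ) < 2 * p) : IsPGroup p ↥(Subgroup.centralizer ((P : Subgroup G) : Set G)) := by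
  classical
  have : Fintype G := Fintype.ofFinite G
  have : M.IsPrime := hM.2.1.isPrime
  have hp : p.Prime := Fact.out
  have := CfsgLib.Blocks.charP_residueField hM
  obtain ⟨m, ρ, hρ, hρc⟩ := χ.2
  set V := Fin m → ℂ with hV
  set d := Module.finrank ℂ V with hd
  have h1χ : (χ : G → ℂ) 1 = d := by rw [← hρc, Representation.char_one]
  have hdeg' : d < 2 * p := by
    rwa [Cfsg.charDegree, h1χ, Complex.natCast_re, Nat.floor_natCast] at hdeg
  have hdpos : 0 < d := CfsgLib.CharIntegral.finrank_pos_of_irreducible ρ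
  let C := Subgroup.centralizer ((P : Subgroup G) : Set G)
  suffices key : ∀ y ∈ C, ¬ p ∣ orderOf y → y = 1 by
    rw [IsPGroup.iff_orderOf]
    intro z
    obtain ⟨k, r, hr, hkr⟩ := Nat.exists_eq_pow_mul_and_not_dvd (orderOf_pos z).ne' p hp.ne_one
    have hy : orderOf ((z : G) ^ p ^ k) = r := by
      rw [orderOf_pow_of_dvd (pow_ne_zero k hp.ne_zero)
        (by rw [Subgroup.orderOf_coe, hkr]; exact dvd_mul_right _ _), Subgroup.orderOf_coe, hkr,
        Nat.mul_div_cancel_left _ (pow_pos hp.pos k)]
    have h1 := key _ (pow_mem z.2 _) (hy.symm ▸ hr)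
    rw [h1, orderOf_one] at hy
    exact ⟨k, by rw [hkr, ← hy, mul_one]⟩
  intro y hy hyp
  set n := orderOf y with hn
  have hn0 : 0 < n := orderOf_pos y
  obtain ⟨b, ε, hb, hε⟩ := CfsgLib.Char.exists_eigenbasis ρ y
  have hbk : ∀ (k : ℕ) i, ρ (y ^ k) (b i) = ε i ^ k • b i := fun k i => by
    induction k with
    | zero => rw [pow_zero, map_one, pow_zero, one_smul, Module.End.one_apply]
    | succ k ih => rw [pow_succ', map_mul, Module.End.mul_apply, ih, map_smul, hb, smul_smul, pow_succ]
  have hval : ∀ k : ℕ, (χ : G → ℂ) (y ^ k) = ∑ i, ε i ^ k := fun k => by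
    rw [← hρc, Representation.character, LinearMap.trace_eq_matrix_trace ℂ b, Matrix.trace]
    refine Finset.sum_congr rfl fun i _ => ?_
    rw [Matrix.diag_apply, LinearMap.toMatrix_apply, hbk]
    simp
  -- the values are congruent to the degree
  have hcong : ∀ k : ℕ, Cfsg.MemLocalIdeal M ((χ : G → ℂ) (y ^ k) - d) := fun k => by
    have hidx : ¬ p ∣ (Subgroup.centralizer ({y ^ k} : Set G)).index := fun h => by
      refine Sylow.not_dvd_index P ?_
      refine h.trans (Subgroup.index_dvd_of_le fun x hx => ?_)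
      rw [Subgroup.mem_centralizer_singleton_iff]
      exact Subgroup.mem_centralizer_iff.mp (pow_mem hy k) x hx
    have hI : ∀ z : CfsgLib.Blocks.localRing M, Cfsg.MemLocalIdeal M (z : ℂ) ↔
        IsLocalRing.residue (CfsgLib.Blocks.localRing M) z = 0 := fun z =>
      CfsgLib.Blocks.residue_eq_zero_iff.symm
    have hχ' : Cfsg.MemLocalIdeal M (Cfsg.centralChar (fun _ : G => (1 : ℂ)) (y ^ k) -
        Cfsg.centralChar (χ : G → ℂ) (y ^ k)) := hχ (y ^ k)
    set c := (Subgroup.centralizer ({y ^ k} : Set G)).index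
    have hc0 : (c : ℂ) ≠ 0 := Nat.cast_ne_zero.mpr fun h => hidx (h ▸ dvd_zero p)
    let u : CfsgLib.Blocks.localRing M := ⟨_, CfsgLib.Blocks.memLocalRing_of_memLocalIdeal hχ'⟩
    let w : CfsgLib.Blocks.localRing M :=
      ⟨(c : ℂ)⁻¹, CfsgLib.Blocks.inv_natCast_mem hM hidx⟩
    have hu : IsLocalRing.residue (CfsgLib.Blocks.localRing M) u = 0 := (hI u).mp hχ'
    have he : (χ : G → ℂ) (y ^ k) - d = ((-(u * w * (d : CfsgLib.Blocks.localRing M)) :
        CfsgLib.Blocks.localRing M) : ℂ) := by
      push_cast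
      show (χ : G → ℂ) (y ^ k) - d = -(((Cfsg.centralChar (fun _ : G => (1 : ℂ)) (y ^ k) -
        Cfsg.centralChar (χ : G → ℂ) (y ^ k))) * (c : ℂ)⁻¹ * d)
      rw [Cfsg.centralChar, Cfsg.centralChar, h1χ]
      have : (d : ℂ) ≠ 0 := Nat.cast_ne_zero.mpr hdpos.ne'
      field_simp
      ring
    rw [he, hI, map_neg, map_mul, map_mul, hu, zero_mul, zero_mul, neg_zero]
  -- multiplicities of the nontrivial eigenvalues
  have hmult : ∀ i, ε i ≠ 1 → p ∣ (Finset.univ.filter fun j => ε j = ε i).card := by
    intro i hi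
    let e : Fin (Module.finrank ℂ V) → CfsgLib.Blocks.localRing M := fun j =>
      ⟨ε j, CfsgLib.Blocks.mem_localRing_of_pow_eq_one hn0.ne' (hε j)⟩
    let ei : CfsgLib.Blocks.localRing M :=
      ⟨(ε i)⁻¹, CfsgLib.Blocks.mem_localRing_of_pow_eq_one hn0.ne' (by rw [inv_pow, hε i, inv_one])⟩
    set res := IsLocalRing.residue (CfsgLib.Blocks.localRing M) with hres
    have h1 : ∀ k, res (∑ j, e j ^ k) = (d : _) := fun k => by
      rw [← map_natCast res, CfsgLib.Blocks.residue_eq_iff]
      have := hcong k
      rw [hval] at this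
      push_cast
      exact this
    have h2 : (n : CfsgLib.Blocks.localRing M) *
        ((Finset.univ.filter fun j => ε j = ε i).card : CfsgLib.Blocks.localRing M) =
        ∑ k ∈ Finset.range n, (∑ j, e j ^ k) * ei ^ k := by
      refine Subtype.ext ?_
      push_cast
      show (n : ℂ) * _ = ∑ k ∈ Finset.range n, (∑ j, ε j ^ k) * ((ε i)⁻¹) ^ k
      simp only [Finset.sum_mul, ← mul_pow]
      rw [Finset.sum_comm, Finset.natCast_card_filter, Finset.mul_sum]
      refine Finset.sum_congr rfl fun j _ => ?_
      have hi0 : ε i ≠ 0 := fun h => by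
        have h' := hε i
        rw [h, zero_pow (orderOf_pos y).ne'] at h'
        exact zero_ne_one h'
      by_cases hj : ε j = ε i
      · rw [if_pos hj, hj, mul_inv_cancel₀ hi0]
        simp
      · rw [if_neg hj, mul_zero, geom_sum_eq]
        · rw [mul_pow, inv_pow, hε j, hε i, inv_one, mul_one, sub_self, zero_div]
        · exact fun h => hj ((mul_inv_eq_one₀ hi0).mp h)
    have h3 : ∑ k ∈ Finset.range n, ei ^ k = 0 := by
      refine Subtype.ext ?_
      push_cast
      show ∑ k ∈ Finset.range n, ((ε i)⁻¹) ^ k = 0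
      rw [geom_sum_eq (fun h => hi (inv_eq_one.mp h)), inv_pow, hε i, inv_one, sub_self, zero_div]
    have h4 := congrArg res h2
    rw [map_sum, map_mul, map_natCast, map_natCast] at h4
    simp only [map_mul, h1] at h4
    rw [← Finset.mul_sum, ← map_sum, h3, map_zero, mul_zero, mul_eq_zero] at h4
    rcases h4 with h4 | h4
    · exact absurd ((CharP.cast_eq_zero_iff _ p _).mp h4) hyp
    · exact (CharP.cast_eq_zero_iff _ p _).mp h4
  -- the determinant is one
  have hdet : ∏ i, ε i = 1 := by
    have h := congrArg Units.val (show CfsgLib.CharExt.detHom ρ y = 1 from by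
      have : commutator G ≤ (CfsgLib.CharExt.detHom ρ).ker :=
        Abelianization.commutator_subset_ker _
      exact this (hperf ▸ Subgroup.mem_top y))
    rw [CfsgLib.CharExt.detHom_apply, Units.val_one, ← LinearMap.det_toMatrix b] at h
    rw [← h, show LinearMap.toMatrix b b (ρ y) = Matrix.diagonal ε from ?_, Matrix.det_diagonal]
    ext i j
    rw [LinearMap.toMatrix_apply, hb, map_smul, Finsupp.smul_apply, b.repr_self, Matrix.diagonal_apply]
    by_cases hij : i = j
    · subst hij; simp
    · rw [if_neg hij, Finsupp.single_eq_of_ne hij, smul_zero]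
  have hall : ∀ i, ε i = 1 := by
    intro i
    by_contra hi
    set S := Finset.univ.filter fun j => ε j = ε i with hS
    have hSp : p ≤ S.card := Nat.le_of_dvd (Finset.card_pos.mpr ⟨i, by simp [hS]⟩) (hmult i hi)
    have hother : ∀ j, ε j ≠ 1 → ε j = ε i := fun j hj => by
      by_contra hne
      have hT : p ≤ (Finset.univ.filter fun l => ε l = ε j).card :=
        Nat.le_of_dvd (Finset.card_pos.mpr ⟨j, by simp⟩) (hmult j hj)
      have hdisj : Disjoint S (Finset.univ.filter fun l => ε l = ε j) :=
        Finset.disjoint_filter.mpr fun l _ h h' => hne (h'.symm.trans h)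
      have := Finset.card_le_univ (S ∪ Finset.univ.filter fun l => ε l = ε j)
      rw [Finset.card_union_of_disjoint hdisj, Fintype.card_fin] at this
      change _ ≤ d at this
      omega
    have hScard : S.card = p := by
      obtain ⟨c, hc⟩ := hmult i hi
      rw [← hS] at hc
      have := Finset.card_le_univ S
      rw [Fintype.card_fin] at this
      change _ ≤ d at this
      have h2 : c < 2 := Nat.lt_of_mul_lt_mul_left (a := p) (by omega)
      have h1 : c ≠ 0 := fun h0 => by
        rw [hc, h0, mul_zero] at hSp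
        exact hp.ne_zero (Nat.le_zero.mp hSp)
      rw [hc, show c = 1 by omega, mul_one]
    have hp1 : ε i ^ p = 1 := by
      rw [← hScard, ← Finset.prod_const, ← hdet, hS, Finset.prod_filter]
      refine Finset.prod_congr rfl fun j _ => ?_
      by_cases hj : ε j = ε i
      · rw [if_pos hj, hj]
      · rw [if_neg hj]
        by_contra hj1
        exact hj (hother j fun h => hj1 h.symm)
    have hg := pow_gcd_eq_one.mpr ⟨hp1, hε i⟩
    rw [(hp.coprime_iff_not_dvd.mpr hyp).gcd_eq_one, pow_one] at hg
    exact hi hg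
  refine hfaith y ?_
  have h := hval 1
  simp only [pow_one, hall, Finset.sum_const, Finset.card_univ, Fintype.card_fin, nsmul_eq_mul,
    mul_one] at h
  rw [h, h1χ]

end Cfsg.Agent.S4729
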