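import Cfsg.Statements.S4730
import Cfsg.Agent.Lib.CharDegree.Basic
import Cfsg.Agent.Lib.Blocks.LocalRing

set_option autoImplicit false
open Cfsg CfsgLib.Char CfsgLib.CharDegree

namespace Cfsg.Agent.S4730

/-- Let p be a prime, M a maximal ideal of the algebraic integers containing p, and G a finite group with trivial centre, Sylow p-subgroup P of order p^a and centre Z(P) of order p^b. If χ is a faithful irreducible character of G whose degree is a power of p, then the p-block of χ has defect at most a − b; in particular, if P is abelian then χ lies in a block of defect zero. -/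
theorem result {G : Type*} [Group G] [Finite G] (p : ℕ) [Fact p.Prime] (M : Ideal Cfsg.AlgInt) (hM : Cfsg.IsPModular p M) (hZ : Subgroup.center G = ⊥) (P : Sylow p G) (a b : ℕ) (ha : Nat.card P = p ^ a) (hb : Nat.card (Subgroup.center ↥(P : Subgroup G)) = p ^ b) (χ : Cfsg.IrrCharacter G) (hfaith : ∀ g : G, (χ : G → ℂ) g = (χ : G → ℂ) 1 → g = 1) (n : ℕ) (hdeg : Cfsg.charDegree (χ : G → ℂ) = p ^ n) : Cfsg.blockDefect p (Cfsg.blockOf M (χ : G → ℂ)) ≤ a - b ∧ (IsMulCommutative ↥(P : Subgroup G) → Cfsg.blockDefect p (Cfsg.blockOf M (χ : G → ℂ)) = 0) := by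
  classical
  have hp := Fact.out (p := p.Prime)
  have : M.IsPrime := hM.2.1.isPrime
  have := Fintype.ofFinite ↥(Subgroup.center ↥(P : Subgroup G))
  have hker : kerSubgroup χ = ⊥ := kerSubgroup_eq_bot_iff.mpr hfaith
  -- the class sizes of central elements of the Sylow subgroup
  have hidx : ∀ z : ↥(Subgroup.center ↥(P : Subgroup G)),
      ¬ p ∣ (Subgroup.centralizer ({((z : ↥(P : Subgroup G)) : G)} : Set G)).index := by
    intro z h
    refine P.not_dvd_index (h.trans (Subgroup.index_dvd_of_le fun y hy => ?_))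
    exact Subgroup.mem_centralizer_singleton_iff.mpr
      (congrArg Subtype.val (Subgroup.mem_center_iff.mp z.2 ⟨y, hy⟩))
  have hvan : ∀ z : ↥(Subgroup.center ↥(P : Subgroup G)), z ≠ 1 →
      (χ : G → ℂ) ((z : ↥(P : Subgroup G)) : G) = 0 := by
    intro z hz
    refine (eq_zero_or_norm_eq χ _ ?_).resolve_right fun h => hz ?_
    · rw [hdeg]
      exact Nat.Coprime.pow_left _ ((Nat.Prime.coprime_iff_not_dvd hp).mpr (hidx z))
    · have hc := mem_center_of_norm_eq χ hker h
      rw [hZ, Subgroup.mem_bot] at hc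
      exact Subtype.ext (Subtype.ext hc)
  have hmem : χ ∈ Cfsg.blockOf M (χ : G → ℂ) := fun g =>
    ⟨0, 1, M.zero_mem, CfsgLib.Blocks.one_notMem, by simp⟩
  -- every degree in the block is divisible by `p ^ b`
  have hblock : ∀ ψ ∈ Cfsg.blockOf M (χ : G → ℂ),
      b ≤ (Cfsg.charDegree (ψ : G → ℂ)).factorization p := by
    intro ψ hψ
    by_contra hlt
    set d := Cfsg.charDegree (ψ : G → ℂ) with hd
    obtain ⟨r, hr⟩ : p ^ d.factorization p ∣ d := Nat.ordProj_dvd d p
    have hd0 : d ≠ 0 := (charDegree_pos ψ).ne'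
    have hrp : ¬ p ∣ r := by
      rintro ⟨s, rfl⟩
      exact Nat.pow_succ_factorization_not_dvd hd0 hp ⟨s, by rw [pow_succ, mul_assoc, ← hr]⟩
    have hdC : (ψ : G → ℂ) 1 = (d : ℂ) := (cast_irrDegree ψ).symm
    have hd1 : (d : ℂ) ≠ 0 := Nat.cast_ne_zero.mpr hd0
    -- the values of `ψ / ψ 1` at nontrivial central elements of `P` lie in the local ideal
    have hval : ∀ z : ↥(Subgroup.center ↥(P : Subgroup G)), z ≠ 1 →
        Cfsg.MemLocalIdeal M ((ψ : G → ℂ) ((z : ↥(P : Subgroup G)) : G) / (d : ℂ)) := by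
      intro z hz
      have h := hψ ((z : ↥(P : Subgroup G)) : G)
      rw [Cfsg.centralChar, hvan z hz, mul_zero, zero_div, zero_sub, Cfsg.centralChar, hdC] at h
      obtain ⟨u, v, hu, hv, huv⟩ := h
      set i := (Subgroup.centralizer ({((z : ↥(P : Subgroup G)) : G)} : Set G)).index with hi
      have hiM : ((i : ℕ) : AlgInt) ∉ M := fun hh => by
        have h2 := (CfsgLib.Blocks.coe_memLocalIdeal_iff (M := M)).mpr hh
        push_cast at h2
        rw [CfsgLib.Blocks.memLocalIdeal_natCast_iff hM] at h2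
        exact hidx z h2
      refine ⟨-u, v * (i : AlgInt), M.neg_mem hu,
        fun hh => (Ideal.IsPrime.mem_or_mem ‹_› hh).elim hv hiM, ?_⟩
      have hi0 : (i : ℂ) ≠ 0 := Nat.cast_ne_zero.mpr Subgroup.index_ne_zero_of_finite
      have hv0 := CfsgLib.Blocks.coe_ne_zero_of_notMem hv
      push_cast
      field_simp at huv ⊢
      linear_combination -huv
    obtain ⟨t, ht⟩ := IsChar.classInner_eq_natCast (G := ↥(Subgroup.center ↥(P : Subgroup G)))
      (IsChar.comp ((P : Subgroup G).subtype.comp (Subgroup.center ↥(P : Subgroup G)).subtype)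
        (IsIrr.isCharacter ψ.2)) isCharacter_one
    rw [Cfsg.classInner, inv_mul_eq_iff_eq_mul₀ (Nat.cast_ne_zero.mpr Nat.card_pos.ne'), hb,
      ← Finset.add_sum_erase _ _ (Finset.mem_univ 1)] at ht
    simp only [Function.comp_apply, MonoidHom.coe_comp, Subgroup.coe_subtype, map_one, mul_one,
      OneMemClass.coe_one, hdC] at ht
    have hone : ((p ^ b : ℕ) : ℂ) * (t : ℂ) / (d : ℂ) =
        ((p ^ (b - d.factorization p) * t : ℕ) : ℂ) / (r : ℂ) := by
      have hr0 : (r : ℂ) ≠ 0 := Nat.cast_ne_zero.mpr fun h => hrp (h ▸ dvd_zero p)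
      rw [div_eq_div_iff hd1 hr0]
      have hdd : (d : ℂ) = ((p ^ d.factorization p * r : ℕ) : ℂ) := congrArg Nat.cast hr
      rw [hdd]
      rw [show p ^ b = p ^ d.factorization p * p ^ (b - d.factorization p) by
        rw [← pow_add, Nat.add_sub_cancel' (by omega)]]
      push_cast
      ring
    -- so `1` lies in the local ideal
    have hsum : ∀ s : Finset ↥(Subgroup.center ↥(P : Subgroup G)), 1 ∉ s →
        Cfsg.MemLocalIdeal M (∑ z ∈ s, (ψ : G → ℂ) ((z : ↥(P : Subgroup G)) : G) / (d : ℂ)) := by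
      intro s
      induction s using Finset.induction with
      | empty => exact fun _ => ⟨0, 1, M.zero_mem, CfsgLib.Blocks.one_notMem, by simp⟩
      | insert z s hzs ih =>
        intro h1
        rw [Finset.mem_insert, not_or] at h1
        rw [Finset.sum_insert hzs]
        obtain ⟨u, v, hu, hv, huv⟩ := hval z (Ne.symm h1.1)
        obtain ⟨u', v', hu', hv', huv'⟩ := ih h1.2
        refine ⟨u * v' + u' * v, v * v', M.add_mem (M.mul_mem_right _ hu) (M.mul_mem_right _ hu'),
          fun hh => (Ideal.IsPrime.mem_or_mem ‹_› hh).elim hv hv', ?_⟩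
        have := CfsgLib.Blocks.coe_ne_zero_of_notMem hv
        have := CfsgLib.Blocks.coe_ne_zero_of_notMem hv'
        rw [← huv, ← huv']
        push_cast
        field_simp
    have hS := hsum (Finset.univ.erase 1) (Finset.notMem_erase _ _)
    rw [← Finset.sum_div] at hS
    obtain ⟨u, v, hu, hv, huv⟩ := hS
    have h1 : ((p ^ b : ℕ) : ℂ) * (t : ℂ) / (d : ℂ) = 1 + (u : ℂ) / (v : ℂ) := by
      rw [huv, ← ht, add_div, div_self hd1]
    rw [hone] at h1
    have hv0 := CfsgLib.Blocks.coe_ne_zero_of_notMem hv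
    have hr0 : (r : ℂ) ≠ 0 := Nat.cast_ne_zero.mpr fun h => hrp (h ▸ dvd_zero p)
    field_simp at h1
    have h2 : (r : AlgInt) * v =
        ((p ^ (b - d.factorization p) * t : ℕ) : AlgInt) * v - (r : AlgInt) * u := by
      apply Subtype.ext
      push_cast
      push_cast at h1
      linear_combination -h1
    have hpM : ((p ^ (b - d.factorization p) * t : ℕ) : AlgInt) ∈ M := by
      push_cast
      exact M.mul_mem_right _ (Ideal.pow_mem_of_mem M hM.2.2 _ (by omega))
    have hrM : (r : AlgInt) ∉ M := fun hh => by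
      have h2 := (CfsgLib.Blocks.coe_memLocalIdeal_iff (M := M)).mpr hh
      push_cast at h2
      rw [CfsgLib.Blocks.memLocalIdeal_natCast_iff hM] at h2
      exact hrp h2
    have hrv : (r : AlgInt) * v ∈ M := by
      rw [h2]
      exact M.sub_mem (M.mul_mem_right _ hpM) (M.mul_mem_left _ hu)
    exact (Ideal.IsPrime.mem_or_mem ‹_› hrv).elim hrM hv
  have hG : (Nat.card G).factorization p = a := by
    have := P.card_eq_multiplicity
    rw [ha] at this
    exact (Nat.pow_right_injective hp.two_le this).symm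
  have hmain : Cfsg.blockDefect p (Cfsg.blockOf M (χ : G → ℂ)) ≤ a - b := by
    rw [Cfsg.blockDefect, hG]
    refine Nat.sub_le_sub_left ?_ a
    refine le_csInf ⟨_, Set.mem_image_of_mem _ hmem⟩ ?_
    rintro _ ⟨ψ, hψ, rfl⟩
    exact hblock ψ hψ
  refine ⟨hmain, fun hab => ?_⟩
  have hba : b = a := Nat.pow_right_injective hp.two_le (show p ^ b = p ^ a by
    rw [← hb, ← ha, Subgroup.center_eq_top_iff.mpr hab, Subgroup.card_top])
  omega

end Cfsg.Agent.S4730
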