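import Cfsg.Statements.S4731
import Cfsg.Agent.Lib.Blocks.Orthogonality
import Cfsg.Agent.Lib.Blocks.Union

set_option autoImplicit false
open Cfsg

namespace Cfsg.Agent.S4731

/-- Let p ≠ q be primes, M_p and M_q maximal ideals of the algebraic integers containing p and q respectively, and G a finite group with no element of order pq; let q^b be the q-part of the order of G. For a p-block B_p (relative to M_p), a q-block B_q (relative to M_q) and a p-singular element y, the sum of χ(1)χ(y) over the irreducible characters χ lying in both B_p and B_q is q^b times an algebraic integer. -/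
theorem result {G : Type*} [Group G] [Finite G] (p q : ℕ) [Fact p.Prime] [Fact q.Prime] (hpq : p ≠ q) (Mp Mq : Ideal Cfsg.AlgInt) (hMp : Cfsg.IsPModular p Mp) (hMq : Cfsg.IsPModular q Mq) (hno : ∀ g : G, orderOf g ≠ p * q) (b : ℕ) (hb : (Nat.card G).factorization q = b) (Bp : Set (Cfsg.IrrCharacter G)) (hBp : Cfsg.IsPBlock Mp Bp) (Bq : Set (Cfsg.IrrCharacter G)) (hBq : Cfsg.IsPBlock Mq Bq) (y : G) (hy : p ∣ orderOf y) : ∃ ω : Cfsg.AlgInt, ∑ᶠ χ ∈ Bp ∩ Bq, (Cfsg.charDegree (χ : G → ℂ) : ℂ) * (χ : G → ℂ) y = (q : ℂ) ^ b * (ω : ℂ) := by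
  classical
  have : Fintype G := Fintype.ofFinite G
  have : Fintype (Cfsg.IrrCharacter G) := Fintype.ofFinite _
  have : Mp.IsPrime := hMp.2.1.isPrime
  have : Mq.IsPrime := hMq.2.1.isPrime
  have hp : p.Prime := Fact.out
  have hq : q.Prime := Fact.out
  have hno' : ∀ g : G, p ∣ orderOf g → ¬ q ∣ orderOf g := fun g h h' => by
    obtain ⟨c, hc⟩ := Nat.Coprime.mul_dvd_of_dvd_of_dvd ((Nat.coprime_primes hp hq).mpr hpq) h h'
    refine hno (g ^ c) ?_
    have hc0 : c ≠ 0 := fun h0 => (orderOf_pos g).ne' (by rw [hc, h0, mul_zero])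
    rw [orderOf_pow_of_dvd hc0 (hc ▸ Dvd.intro_left _ rfl), hc,
      Nat.mul_div_cancel _ (Nat.pos_of_ne_zero hc0)]
  let F : G → ℂ := ∑ χ : Cfsg.IrrCharacter G,
    (if χ ∈ Bp then (χ : G → ℂ) y else 0) • (χ : G → ℂ)
  have hFv : ∀ v, F v = ∑ᶠ χ ∈ Bp, (χ : G → ℂ) v * (χ : G → ℂ) y := fun v => by
    rw [finsum_mem_eq_finite_toFinset_sum _ (Set.toFinite Bp)]
    simp only [F, Finset.sum_apply, Pi.smul_apply, smul_eq_mul, ite_mul, zero_mul,
      ← Finset.sum_filter]
    exact Finset.sum_congr (by ext; simp) fun χ _ => mul_comm _ _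
  have hF0 : ∀ v, q ∣ orderOf v → F v = 0 := fun v hv => by
    rw [hFv]
    exact CfsgLib.Blocks.sum_block_regular_singular hMp hBp (fun h => hno' v h hv) hy
  set f := blockPart Bq F with hf
  have hfsing : ∀ v, q ∣ orderOf v → f v = 0 := fun v hv => by
    rw [hf, CfsgLib.Blocks.blockPart_apply, Finset.sum_eq_zero fun w _ => ?_, mul_zero]
    by_cases hw : q ∣ orderOf w
    · rw [hF0 w hw, zero_mul]
    · refine mul_eq_zero_of_right _ ?_
      refine Eq.trans (finsum_mem_congr rfl fun (χ : Cfsg.IrrCharacter G) _ =>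
        mul_comm ((χ : G → ℂ) v) ((χ : G → ℂ) w⁻¹)) ?_
      exact CfsgLib.Blocks.sum_block_regular_singular hMq hBq (by rwa [orderOf_inv]) hv
  have hfv : ∀ v, f v = ∑ χ ∈ Finset.univ.filter (· ∈ Bp ∩ Bq),
      (χ : G → ℂ) y * (χ : G → ℂ) v := fun v => by
    rw [hf, CfsgLib.Blocks.blockPart_eq, finsum_mem_eq_finite_toFinset_sum _ (Set.toFinite Bq)]
    simp only [F, CfsgLib.Char.classInner_sum_irr, ite_mul, zero_mul, ← Finset.sum_filter]
    exact Finset.sum_congr (by ext; simp [and_comm]) fun _ _ => rfl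
  obtain ⟨Q⟩ : Nonempty (Sylow q G) := inferInstance
  have : Fintype Q := Fintype.ofFinite _
  choose m hm using fun χ : Cfsg.IrrCharacter G =>
    CfsgLib.Char.IsChar.classInner_eq_natCast
      (CfsgLib.Char.IsChar.comp (Q : Subgroup G).subtype (CfsgLib.Char.IsIrr.isCharacter χ.2))
      (CfsgLib.Char.IsIrr.isCharacter (CfsgLib.Char.trivChar (Q : Subgroup G)).2)
  have hQ : (Nat.card Q : ℂ) = (q : ℂ) ^ b := by
    rw [show Nat.card Q = q ^ b from by rw [Q.card_eq_multiplicity, hb], Nat.cast_pow]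
  have hsum : f 1 = (q : ℂ) ^ b * ∑ χ ∈ Finset.univ.filter (· ∈ Bp ∩ Bq),
      (χ : G → ℂ) y * (m χ : ℂ) := by
    have h1 : ∑ x : Q, f (x : G) = f 1 := by
      refine (Finset.sum_eq_single (1 : Q) (fun (x : Q) _ hx => hfsing (x : G) ?_)
        (fun h => absurd (Finset.mem_univ _) h)).trans (by rw [OneMemClass.coe_one])
      obtain ⟨k, hk⟩ := IsPGroup.iff_orderOf.mp Q.2 x
      rw [Subgroup.orderOf_coe, hk]
      refine dvd_pow_self q fun h0 => hx (orderOf_eq_one_iff.mp ?_)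
      rw [hk, h0, pow_zero]
    rw [← h1, Finset.mul_sum]
    simp only [hfv]
    rw [Finset.sum_comm]
    refine Finset.sum_congr rfl fun χ _ => ?_
    rw [← Finset.mul_sum, ← hm χ, ← hQ]
    simp only [Cfsg.classInner, CfsgLib.Char.trivChar_apply, map_one, mul_one, Subgroup.coe_subtype]
    rw [← mul_assoc, mul_comm (Nat.card Q : ℂ), mul_assoc ((χ : G → ℂ) y),
      mul_inv_cancel_left₀ (Nat.cast_ne_zero.mpr Nat.card_pos.ne')]
  refine ⟨⟨_, IsIntegral.sum _ fun χ _ => ?_⟩, Eq.trans ?_ hsum⟩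
  · exact (CfsgLib.Char.IsChar.isIntegral (CfsgLib.Char.IsIrr.isCharacter χ.2) y).mul
      (map_natCast (algebraMap ℤ ℂ) (m χ) ▸ isIntegral_algebraMap)
  · rw [hfv, finsum_mem_eq_finite_toFinset_sum _ (Set.toFinite _)]
    refine Finset.sum_congr (by ext; simp) fun χ _ => ?_
    rw [mul_comm, CfsgLib.Blocks.apply_one_eq_charDegree]

end Cfsg.Agent.S4731
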