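import Cfsg.Statements.S4732
import Cfsg.Agent.Lib.BrauerFeit.Main
import Mathlib.FieldTheory.IsAlgClosed.AlgebraicClosure
import Mathlib.LinearAlgebra.Matrix.ToLin

set_option autoImplicit false
universe u v
open Cfsg

namespace Cfsg.Agent.S4732

/-- Let p be a prime. There is a function f of two natural-number arguments such that every finite group G admitting a faithful representation of degree n over a field of characteristic p, with Sylow p-subgroups of order p^m, has a normal abelian subgroup A with [G : A] < f(m, n). -/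
theorem result (p : ℕ) [Fact p.Prime] : ∃ f : ℕ → ℕ → ℕ, ∀ (G : Type u) [Group G] [Finite G] (F : Type v) [Field F] [CharP F p] (n : ℕ) (ρ : Representation F G (Fin n → F)), Function.Injective ρ → ∀ m : ℕ, (Nat.card G).factorization p = m → ∃ A : Subgroup G, A.Normal ∧ IsMulCommutative A ∧ A.index < f m n := by
  obtain ⟨F₀, hF₀⟩ : ∃ f : ℕ → ℕ → ℕ,
      ∀ m n, CfsgLib.BrauerFeit.Bounded.{u, v} p m n (f m n) :=
    ⟨fun m n => Classical.choose (CfsgLib.BrauerFeit.exists_bounded p m n),
      fun m n => Classical.choose_spec (CfsgLib.BrauerFeit.exists_bounded p m n)⟩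
  refine ⟨fun m n => F₀ m n + 1, fun G _ _ F _ _ n ρ hρ m hm => ?_⟩
  let K := AlgebraicClosure F
  have : CharP K p := charP_of_injective_algebraMap (algebraMap F K).injective p
  let e₁ := LinearMap.toMatrixAlgEquiv' (R := F) (n := Fin n)
  let e₂ := Matrix.toLinAlgEquiv' (R := K) (n := Fin n)
  let c := (algebraMap F K).mapMatrix (m := Fin n)
  let σ : G →* Module.End K (Fin n → K) :=
    { toFun := fun g => e₂ (c (e₁ (ρ g)))
      map_one' := by simp
      map_mul' := fun g h => by simp }
  have hσ : Function.Injective σ := fun g h hgh =>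
    hρ (e₁.injective (Matrix.map_injective (algebraMap F K).injective (e₂.injective hgh)))
  have hG : ¬ p ^ (m + 1) ∣ Nat.card G := by
    rw [(Fact.out : p.Prime).pow_dvd_iff_le_factorization Nat.card_pos.ne', hm]
    omega
  obtain ⟨A, hAn, hAc, _, hAi⟩ :=
    hF₀ m n G K (Fin n → K) σ hσ (by rw [Module.finrank_fin_fun]) hG
  exact ⟨A, hAn, ⟨⟨fun a b => Subtype.ext (hAc a a.2 b b.2).eq⟩⟩, Nat.lt_succ_of_le hAi⟩

end Cfsg.Agent.S4732
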