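import Cfsg.Statements.S4735
import Cfsg.Agent.Lib.Blocks.PrincipalGalois

set_option autoImplicit false
open Cfsg

namespace Cfsg.Agent.S4735

/-- Let p be a prime, M a maximal ideal of the algebraic integers containing p, G a finite group, H = O_p'(G) and Ḡ = G/H. For x ∈ G write λ(G, x) for the sum of |χ(x)|^2 over the irreducible characters χ in the principal p-block of G. Then λ(G, x) is a positive integer, λ(G, x) = λ(Ḡ, x̄) where x̄ is the image of x, and λ(G, x) ≤ #C_Ḡ(x̄). Moreover λ(G, 1) = [G : H] if and only if the principal block is the only p-block of Ḡ. -/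
theorem result {G : Type*} [Group G] [Finite G] (p : ℕ) [Fact p.Prime] (M : Ideal Cfsg.AlgInt) (hM : Cfsg.IsPModular p M) (x : G) : (∃ n : ℕ, 0 < n ∧ ∑ᶠ χ ∈ Cfsg.principalBlock M G, Complex.normSq ((χ : G → ℂ) x) = n) ∧ ∑ᶠ χ ∈ Cfsg.principalBlock M G, Complex.normSq ((χ : G → ℂ) x) = ∑ᶠ ψ ∈ Cfsg.principalBlock M (G ⧸ Cfsg.pPrimeCore p G), Complex.normSq ((ψ : G ⧸ Cfsg.pPrimeCore p G → ℂ) (QuotientGroup.mk x)) ∧ ∑ᶠ χ ∈ Cfsg.principalBlock M G, Complex.normSq ((χ : G → ℂ) x) ≤ (Nat.card ↥(Subgroup.centralizer ({(QuotientGroup.mk x : G ⧸ Cfsg.pPrimeCore p G)} : Set (G ⧸ Cfsg.pPrimeCore p G))) : ℝ) ∧ ((∑ᶠ χ ∈ Cfsg.principalBlock M G, Cfsg.charDegree (χ : G → ℂ) ^ 2) = (Cfsg.pPrimeCore p G).index ↔ ∀ B : Set (Cfsg.IrrCharacter (G ⧸ Cfsg.pPrimeCore p G)), Cfsg.IsPBlock M B → B = Cfsg.principalBlock M (G ⧸ Cfsg.pPrimeCore p G)) := by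
  classical
  have : Fintype G := Fintype.ofFinite G
  have : M.IsPrime := hM.2.1.isPrime
  set N := Cfsg.pPrimeCore p G
  have hN : ¬ p ∣ Nat.card N := fun hd => (Fact.out : p.Prime).ne_one
    (Nat.eq_one_of_dvd_coprimes (CfsgLib.Core.coprime_card_pPrimeCore p G) hd dvd_rfl)
  have : Fintype (G ⧸ N) := Fintype.ofFinite _
  have := Fintype.ofFinite (Cfsg.IrrCharacter (G ⧸ N))
  have h2 := CfsgLib.Blocks.sum_principalBlock_eq_quotient hM N hN
    (fun f : G → ℂ => Complex.normSq (f x))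
  refine ⟨CfsgLib.Blocks.exists_nat_sum_normSq hM x, h2, ?_, ?_⟩
  · rw [h2, finsum_mem_eq_finite_toFinset_sum _ (Set.toFinite _)]
    refine le_trans (Finset.sum_le_univ_sum_of_nonneg fun _ => Complex.normSq_nonneg _) (le_of_eq ?_)
    refine Complex.ofReal_injective ?_
    rw [Complex.ofReal_sum, Complex.ofReal_natCast]
    simp only [← Complex.mul_conj]
    rw [CfsgLib.Char.column_orthogonality, if_pos (IsConj.refl _)]
  · rw [CfsgLib.Blocks.sum_principalBlock_eq_quotient hM N hN (fun f : G → ℂ => Cfsg.charDegree f ^ 2)]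
    have hdeg : ∀ ψ : Cfsg.IrrCharacter (G ⧸ N),
        Cfsg.charDegree (fun g : G => (ψ : G ⧸ N → ℂ) g) = Cfsg.charDegree (ψ : G ⧸ N → ℂ) := fun ψ => by
      simp only [Cfsg.charDegree, QuotientGroup.mk_one]
    simp only [hdeg, finsum_mem_eq_finite_toFinset_sum _ (Set.toFinite _)]
    have htot : ∑ ψ : Cfsg.IrrCharacter (G ⧸ N), Cfsg.charDegree (ψ : G ⧸ N → ℂ) ^ 2 = N.index := by
      have h := CfsgLib.Char.sum_sq_degree (G := G ⧸ N)
      simp only [CfsgLib.Blocks.apply_one_eq_charDegree, ← Nat.cast_pow, ← Nat.cast_sum] at h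
      exact Nat.cast_injective h
    rw [← htot]
    constructor
    · intro heq B hB
      obtain ⟨ψ, hψ⟩ := CfsgLib.Blocks.IsPBlock.nonempty hB
      refine CfsgLib.Blocks.IsPBlock.eq_of_mem hB CfsgLib.Blocks.isPBlock_principalBlock hψ ?_
      by_contra hψ0
      refine absurd heq (ne_of_lt (Finset.sum_lt_sum_of_subset (Finset.subset_univ _)
        (Finset.mem_univ ψ) (fun h => hψ0 ((Set.Finite.mem_toFinset _).1 h))
        (pow_pos (CfsgLib.Blocks.charDegree_pos ψ) 2) fun _ _ _ => Nat.zero_le _))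
    · intro hall
      refine Finset.sum_congr (Finset.eq_univ_iff_forall.2 fun ψ => (Set.Finite.mem_toFinset _).2 ?_)
        fun _ _ => rfl
      rw [← hall _ (CfsgLib.Blocks.isPBlock_blockOf ψ)]
      exact CfsgLib.Blocks.mem_blockOf_self ψ

end Cfsg.Agent.S4735
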