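import Cfsg.Statements.S4736
import Cfsg.Agent.Lib.Blocks.FongInvariant
import Cfsg.Agent.Lib.Blocks.Quotient
import Cfsg.Agent.Lib.CharDegree.ItoMichler
import Cfsg.Agent.Lib.PLocal.PSolvable
import Cfsg.Agent.Lib.Core.Misc

set_option autoImplicit false
open Cfsg

namespace Cfsg.Agent.S4736

/-- Let p be a prime, M a maximal ideal of the algebraic integers containing p, and G a finite p-solvable group with Sylow p-subgroup P. Then P is abelian if and only if every irreducible character in the principal p-block of G has height zero. -/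
theorem result {G : Type*} [Group G] [Finite G] (p : ℕ) [Fact p.Prime] (M : Ideal Cfsg.AlgInt) (hM : Cfsg.IsPModular p M) (hsolv : Cfsg.IsPSolvable p G) (P : Sylow p G) : IsMulCommutative P ↔ ∀ χ ∈ Cfsg.principalBlock M G, Cfsg.blockHeight p (Cfsg.principalBlock M G) (χ : G → ℂ) = 0 := by
  classical
  have hp : p.Prime := Fact.out
  have := Fintype.ofFinite G
  have : M.IsPrime := hM.2.1.isPrime
  set N := Cfsg.pPrimeCore p G with hNdef
  have := Fintype.ofFinite N
  have := Fintype.ofFinite (G ⧸ N)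
  have hinv : ∀ g : G, CfsgLib.Blocks.conjIrr N g (CfsgLib.Char.trivChar N) = CfsgLib.Char.trivChar N :=
    fun g => Subtype.ext (funext fun n => by
      rw [CfsgLib.Blocks.conjIrr_apply, CfsgLib.Char.trivChar_apply, CfsgLib.Char.trivChar_apply])
  obtain ⟨B, hB, hmem, -⟩ := CfsgLib.FongInvariant.exists_block hM hsolv hNdef (CfsgLib.Char.trivChar N) hinv
  have hBeq : B = Cfsg.principalBlock M G := by
    refine CfsgLib.Blocks.IsPBlock.eq_of_mem hB CfsgLib.Blocks.isPBlock_principalBlock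
      ((hmem (CfsgLib.Char.trivChar G)).2 ?_) (CfsgLib.Blocks.mem_blockOf_self (CfsgLib.Char.trivChar G))
    show Cfsg.classInner (fun n : N => (CfsgLib.Char.trivChar G : G → ℂ) n)
      (CfsgLib.Char.trivChar N : N → ℂ) ≠ 0
    have h := CfsgLib.Char.classInner_irr_self (CfsgLib.Char.trivChar N)
    intro h0
    exact one_ne_zero (h.symm.trans h0)
  subst hBeq
  have hNp : ¬ p ∣ Nat.card N := fun hd => hp.ne_one
    (Nat.eq_one_of_dvd_coprimes (CfsgLib.Core.coprime_card_pPrimeCore p G) hd dvd_rfl)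
  have hzero : ∀ χ ∈ Cfsg.principalBlock M G,
      Cfsg.blockHeight p (Cfsg.principalBlock M G) (χ : G → ℂ) = 0 ↔
        ¬ p ∣ Cfsg.charDegree (χ : G → ℂ) := fun χ hχ => by
    have h0 : sInf ((fun ψ : Cfsg.IrrCharacter G => (Cfsg.charDegree (ψ : G → ℂ)).factorization p) ''
        Cfsg.principalBlock M G) = 0 :=
      Nat.sInf_eq_zero.2 (Or.inl ⟨CfsgLib.Char.trivChar G, CfsgLib.Blocks.mem_blockOf_self
        (CfsgLib.Char.trivChar G), by simp [Cfsg.charDegree, CfsgLib.Char.trivChar_apply]⟩)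
    rw [Cfsg.blockHeight, h0, Nat.sub_zero, Nat.factorization_eq_zero_iff]
    exact ⟨fun h => h.resolve_left (fun h => h hp) |>.resolve_right
      (CfsgLib.Blocks.charDegree_pos χ).ne', fun h => Or.inr (Or.inl h)⟩
  let π := QuotientGroup.mk' N
  have hdeg : ∀ ψ : Cfsg.IrrCharacter (G ⧸ N),
      Cfsg.charDegree (CfsgLib.Blocks.inflate N ψ : G → ℂ) = Cfsg.charDegree (ψ : G ⧸ N → ℂ) := fun ψ => by
    simp only [Cfsg.charDegree, CfsgLib.Blocks.inflate_apply, QuotientGroup.mk_one]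
  have hsolv' : Cfsg.IsPSolvable p (G ⧸ N) := CfsgLib.PLocal.isPSolvable_quotient hsolv N
  let P' : Sylow p (G ⧸ N) := P.mapSurjective (QuotientGroup.mk'_surjective N)
  have hP' : (P' : Subgroup (G ⧸ N)) = (P : Subgroup G).map π := Sylow.coe_mapSurjective _ _
  constructor
  · intro hc χ hχ
    rw [hzero χ hχ]
    obtain ⟨ψ, rfl⟩ := CfsgLib.Blocks.exists_inflate_eq N χ fun n hn =>
      CfsgLib.Blocks.apply_eq_of_mem_principalBlock N hM hNp hχ n hn
    rw [hdeg]
    have hO : Cfsg.pPrimeCore p (G ⧸ N) = ⊥ := CfsgLib.Core.pPrimeCore_quotient_pPrimeCore p G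
    have hab : ∀ a ∈ (P' : Subgroup (G ⧸ N)), ∀ b ∈ (P' : Subgroup (G ⧸ N)), a * b = b * a := by
      rw [hP']
      rintro _ ⟨a, ha, rfl⟩ _ ⟨b, hb, rfl⟩
      rw [← map_mul, ← map_mul]
      exact congrArg _ (congrArg Subtype.val (hc.is_comm.comm (⟨a, ha⟩ : P) ⟨b, hb⟩))
    have hle : Cfsg.pCore p (G ⧸ N) ≤ (P' : Subgroup (G ⧸ N)) :=
      CfsgLib.Core.pCore_le_sylow P'
    have hPle : (P' : Subgroup (G ⧸ N)) ≤ Cfsg.pCore p (G ⧸ N) := le_trans
      (fun a ha => Subgroup.mem_centralizer_iff.2 fun b hb => hab b (hle hb) a ha)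
      (CfsgLib.PLocal.centralizer_pCore_le hsolv' hO)
    have hn : (P' : Subgroup (G ⧸ N)).Normal := by
      rw [le_antisymm hPle hle]
      exact CfsgLib.Core.normal_pCore p _
    exact (CfsgLib.CharDegree.itoMichler (Or.inl hsolv') P').1
      ⟨hn, ⟨⟨fun a b => Subtype.ext (hab a a.2 b b.2)⟩⟩⟩ ψ
  · intro h
    obtain ⟨-, hc⟩ := (CfsgLib.CharDegree.itoMichler (Or.inl hsolv') P').2 fun ψ => by
      rw [← hdeg]
      refine (hzero _ ?_).1 (h _ ?_) <;> refine (hmem _).2 ?_ <;>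
      · have he : (fun n : N => (CfsgLib.Blocks.inflate N ψ : G → ℂ) n) =
            (ψ : G ⧸ N → ℂ) 1 • (CfsgLib.Char.trivChar N : N → ℂ) := funext fun n => by
          rw [CfsgLib.Blocks.inflate_apply, (QuotientGroup.eq_one_iff (n : G)).2 n.2, Pi.smul_apply,
            CfsgLib.Char.trivChar_apply, smul_eq_mul, mul_one]
        rw [he, CfsgLib.Char.classInner_smul_left, CfsgLib.Char.classInner_irr_self, mul_one,
          CfsgLib.Blocks.apply_one_eq_charDegree]
        exact Nat.cast_ne_zero.2 (CfsgLib.Blocks.charDegree_pos ψ).ne'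
    refine ⟨⟨fun a b => Subtype.ext ?_⟩⟩
    have hab := congrArg Subtype.val (hc.is_comm.comm
      (⟨π a, (congrArg (π a ∈ ·) hP').mpr (Subgroup.mem_map_of_mem π a.2)⟩ : P')
      ⟨π b, (congrArg (π b ∈ ·) hP').mpr (Subgroup.mem_map_of_mem π b.2)⟩)
    have h1 : (b * a)⁻¹ * (a * b) = (1 : G) := by
      have hN' : (((b : G) * a)⁻¹ * (a * b)) ∈ N := by
        rw [← QuotientGroup.eq_one_iff]
        push_cast
        exact inv_mul_eq_one.2 hab.symm
      have hPm : (((b : G) * a)⁻¹ * (a * b)) ∈ (P : Subgroup G) :=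
        mul_mem (inv_mem (mul_mem b.2 a.2)) (mul_mem a.2 b.2)
      obtain ⟨k, hk⟩ := P.2.exists_card_eq
      have hi := Subgroup.inf_eq_bot_of_coprime (H := (P : Subgroup G)) (K := N) (hk ▸
        ((Nat.Prime.coprime_iff_not_dvd hp).2 hNp).pow_left k)
      exact (Subgroup.eq_bot_iff_forall _).1 hi _ ⟨hPm, hN'⟩
    exact (inv_mul_eq_one.1 h1).symm

end Cfsg.Agent.S4736
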