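import Cfsg.Statements.S4737
import Cfsg.Agent.Lib.Blocks.DefectNumber
import Cfsg.Agent.Lib.ZStar.PrincipalBlock
import Mathlib.LinearAlgebra.Matrix.Rank

set_option autoImplicit false
open Cfsg

namespace Cfsg.Agent.S4737

open CfsgLib.Blocks in
/-- An involution-free normalizer condition forces `t = 1` when `(t x⁻¹)³ = 1`. -/
theorem eq_one_of_pow {G : Type*} [Group G] [Finite G] {x t : G} (hx : x ^ 3 = 1)
    (hn : ∀ Q : Subgroup G, IsPGroup 2 Q → x ∈ Subgroup.normalizer (Q : Set G) → Q = ⊥)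
    (ht : t * t = 1) (h3 : (t * x⁻¹) ^ 3 = 1) : t = 1 := by
  set t1 := x⁻¹ * t * x with ht1
  set t2 := x * t * x⁻¹ with ht2
  have hti : t⁻¹ = t := inv_eq_of_mul_eq_one_right ht
  have h11 : t1 * t1 = 1 := by
    rw [ht1, show x⁻¹ * t * x * (x⁻¹ * t * x) = x⁻¹ * (t * t) * x by group, ht]; group
  have h22 : t2 * t2 = 1 := by
    rw [ht2, show x * t * x⁻¹ * (x * t * x⁻¹) = x * (t * t) * x⁻¹ by group, ht]; group
  have hxi : x⁻¹ * x⁻¹ = x := by
    calc x⁻¹ * x⁻¹ = x ^ 3 * (x⁻¹ * x⁻¹) := by rw [hx, one_mul]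
      _ = x := by group
  have hprod : t * t1 * t2 = 1 := by
    rw [← h3, ht1, ht2]
    calc t * (x⁻¹ * t * x) * (x * t * x⁻¹) = t * x⁻¹ * t * (x * x) * t * x⁻¹ := by group
      _ = t * x⁻¹ * t * x⁻¹ * t * x⁻¹ := by
        rw [show x * x = x⁻¹ by rw [← mul_left_inj x, inv_mul_cancel, ← hx, pow_three, mul_assoc]]
      _ = (t * x⁻¹) ^ 3 := by simp only [pow_three, mul_assoc]
  have h2eq : t2 = t * t1 := by
    have := eq_inv_of_mul_eq_one_left hprod
    rw [this, inv_eq_of_mul_eq_one_right h22]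
  have hcomm : t * t1 = t1 * t := by
    have := h22
    rw [h2eq] at this
    calc t * t1 = (t * t1)⁻¹ := (inv_eq_of_mul_eq_one_right this).symm
      _ = t1 * t := by rw [mul_inv_rev, hti, inv_eq_of_mul_eq_one_right h11]
  set V := Subgroup.closure ({t, t1} : Set G) with hV
  have hVt : t ∈ V := Subgroup.subset_closure (Or.inl rfl)
  have hVt1 : t1 ∈ V := Subgroup.subset_closure (Or.inr rfl)
  have hcl : ∀ v ∈ V, v = 1 ∨ v = t ∨ v = t1 ∨ v = t * t1 := by
    intro v hv
    induction hv using Subgroup.closure_induction with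
    | mem v hv =>
      rcases hv with rfl | rfl
      · exact Or.inr (Or.inl rfl)
      · exact Or.inr (Or.inr (Or.inl rfl))
    | one => exact Or.inl rfl
    | mul a b _ _ ha hb =>
      have e1 : t * (t * t1) = t1 := by rw [← mul_assoc, ht, one_mul]
      have e2 : t1 * (t * t1) = t := by rw [hcomm, ← mul_assoc, h11, one_mul]
      have e3 : t * t1 * t = t1 := by rw [hcomm, mul_assoc, ht, mul_one]
      have e4 : t * t1 * t1 = t := by rw [mul_assoc, h11, mul_one]
      have e5 : t * t1 * (t * t1) = 1 := by rw [← mul_assoc, e3, h11]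
      rcases ha with rfl | rfl | rfl | rfl <;> rcases hb with rfl | rfl | rfl | rfl <;>
        simp only [one_mul, mul_one, ht, h11, ← hcomm, e1, e2, e3, e4, e5, true_or, or_true]
    | inv a _ ha =>
      rcases ha with rfl | rfl | rfl | rfl <;>
        simp only [inv_one, hti, inv_eq_of_mul_eq_one_right h11, mul_inv_rev, ← hcomm, true_or,
          or_true]
  have hV2 : IsPGroup 2 V := fun v => ⟨1, Subtype.ext (by
    show ((v ^ 2 ^ 1 : V) : G) = 1
    rw [SubmonoidClass.coe_pow, pow_one, pow_two]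
    rcases hcl v v.2 with h | h | h | h <;> rw [h]
    exacts [mul_one _, ht, h11, by rw [← h2eq, h22]])⟩
  have hle : V.map (MulAut.conj x).toMonoidHom ≤ V := by
    rw [hV, MonoidHom.map_closure, Subgroup.closure_le]
    rintro _ ⟨v, hv, rfl⟩
    rcases hv with rfl | rfl
    · show x * v * x⁻¹ ∈ V
      rw [← ht2, h2eq]
      exact mul_mem hVt hVt1
    · show x * (x⁻¹ * t * x) * x⁻¹ ∈ V
      rw [show x * (x⁻¹ * t * x) * x⁻¹ = t by group]
      exact hVt
  have hxV : x ∈ Subgroup.normalizer (V : Set G) := by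
    have heq : V.map (MulAut.conj x).toMonoidHom = V :=
      Subgroup.eq_of_le_of_card_ge hle (by
        rw [Subgroup.card_map_of_injective (f := (MulAut.conj x).toMonoidHom) (MulAut.conj x).injective])
    refine Subgroup.mem_normalizer_iff.2 fun n => ⟨fun h => hle ⟨n, h, rfl⟩, fun h => ?_⟩
    rw [← heq] at h
    obtain ⟨m, hm, hmn⟩ := h
    exact (MulAut.conj x).injective hmn ▸ hm
  exact Subgroup.mem_bot.1 (hn V hV2 hxV ▸ hVt)

/-- Let G be a finite group of order divisible by 6. Then the number of irreducible characters of G whose degree has the same 2-part as the order of G (the characters of 2-defect zero, each forming a 2-block of defect zero on its own) is at least the number of conjugacy classes of elements of order 3 that normalize no nontrivial 2-subgroup of G. In particular G has a 2-block of defect zero as soon as some element of order 3 normalizes no nontrivial 2-subgroup. -/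
theorem result {G : Type*} [Group G] [Finite G] (h6 : 6 ∣ Nat.card G) : Nat.card {C : ConjClasses G // ∃ g ∈ C.carrier, orderOf g = 3 ∧ ∀ Q : Subgroup G, IsPGroup 2 ↥Q → g ∈ Subgroup.normalizer (Q : Set G) → Q = ⊥} ≤ Nat.card {χ : Cfsg.IrrCharacter G // (Cfsg.charDegree (χ : G → ℂ)).factorization 2 = (Nat.card G).factorization 2} := by
  classical
  have : Fintype G := Fintype.ofFinite G
  obtain ⟨M, hM⟩ := CfsgLib.ZStar.exists_isPModular Nat.prime_two
  have : M.IsPrime := hM.2.1.isPrime
  have := CfsgLib.Blocks.charP_residueField hM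
  have : Fact (Nat.Prime 2) := ⟨Nat.prime_two⟩
  have h2 : ringChar (CfsgLib.Blocks.Res M) = 2 := ringChar.eq _ 2
  set ι := {C : ConjClasses G // ∃ g ∈ C.carrier, orderOf g = 3 ∧ ∀ Q : Subgroup G, IsPGroup 2 ↥Q →
    g ∈ Subgroup.normalizer (Q : Set G) → Q = ⊥}
  set κ := {χ : Cfsg.IrrCharacter G //
    (Cfsg.charDegree (χ : G → ℂ)).factorization 2 = (Nat.card G).factorization 2}
  have : Fintype ι := Fintype.ofFinite ι
  have : Fintype κ := Fintype.ofFinite κ
  have := Fintype.ofFinite (Cfsg.IrrCharacter G)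
  have hex : ∀ i : ι, ∃ g ∈ i.1.carrier, orderOf g = 3 ∧ ∀ Q : Subgroup G, IsPGroup 2 ↥Q →
    g ∈ Subgroup.normalizer (Q : Set G) → Q = ⊥ := fun i => i.2
  choose x hxC hx3 hxn using hex
  have hpow : ∀ i, x i ^ 3 = 1 := fun i => by rw [← hx3 i, pow_orderOf_eq_one]
  have hxinj : ∀ {i j : ι}, IsConj (x i) (x j) ↔ i = j := fun {i j} => by
    constructor
    · intro h
      refine Subtype.ext ?_
      rw [← ConjClasses.mem_carrier_iff_mk_eq.1 (hxC i), ← ConjClasses.mem_carrier_iff_mk_eq.1 (hxC j)]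
      exact ConjClasses.mk_eq_mk_iff_isConj.2 h
    · rintro rfl
      exact IsConj.refl _
  have hodd : ∀ i, ¬ 2 ∣ Nat.card (Subgroup.centralizer ({x i} : Set G)) := by
    intro i hd
    obtain ⟨t, ht⟩ := exists_prime_orderOf_dvd_card' 2 hd
    have hz : IsPGroup 2 (Subgroup.zpowers (t : G)) := IsPGroup.of_card (n := 1) (by
      rw [Nat.card_zpowers, Subgroup.orderOf_coe, ht, pow_one])
    have hc : Commute (x i) (t : G) := (CfsgLib.Blocks.mem_centralizer_singleton.1 t.2).symm
    have h := hxn i _ hz (CfsgLib.Blocks.centralizer_le_normalizer' _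
      (Subgroup.mem_centralizer_iff.2 fun z hz => by
        obtain ⟨k, rfl⟩ := Subgroup.mem_zpowers_iff.1 hz
        exact (hc.zpow_right k).symm.eq))
    rw [Subgroup.zpowers_eq_bot] at h
    rw [← Subgroup.orderOf_coe, h, orderOf_one] at ht
    exact absurd ht (by norm_num)
  have hC0 : ∀ i, ((Nat.card (Subgroup.centralizer ({x i} : Set G)) : ℂ))⁻¹ ∈
      CfsgLib.Blocks.localRing M := fun i => CfsgLib.Blocks.inv_natCast_mem hM (hodd i)
  let w : ι → Cfsg.IrrCharacter G → ι → CfsgLib.Blocks.localRing M := fun i χ j =>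
    CfsgLib.Blocks.centralCharO M χ (x i) *
      ⟨(χ : G → ℂ) (x i), CfsgLib.Blocks.mem_localRing_of_isIntegral
        (CfsgLib.Char.IsChar.isIntegral (CfsgLib.Char.IsIrr.isCharacter χ.2) _)⟩ *
      ⟨_, hC0 i⟩ *
      ⟨(χ : G → ℂ) (x j), CfsgLib.Blocks.mem_localRing_of_isIntegral
        (CfsgLib.Char.IsChar.isIntegral (CfsgLib.Char.IsIrr.isCharacter χ.2) _)⟩
  -- positive defect dies
  have hdie : ∀ i j (χ : Cfsg.IrrCharacter G),
      (Cfsg.charDegree (χ : G → ℂ)).factorization 2 ≠ (Nat.card G).factorization 2 →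
        CfsgLib.Blocks.resHom M (w i χ j) = 0 := by
    intro i j χ hχ
    have hidx : (Subgroup.centralizer ({x i} : Set G)).index.factorization 2 =
        (Nat.card G).factorization 2 := by
      rw [← Subgroup.card_mul_index (Subgroup.centralizer ({x i} : Set G)),
        Nat.factorization_mul Nat.card_pos.ne' Subgroup.index_ne_zero_of_finite]
      rw [Finsupp.add_apply, Nat.factorization_eq_zero_of_not_dvd (hodd i), zero_add]
    have hle : (Cfsg.charDegree (χ : G → ℂ)).factorization 2 ≤ (Nat.card G).factorization 2 := by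
      have hd := CfsgLib.Blocks.charDegree_dvd_card χ
      exact (Nat.factorization_le_iff_dvd (fun h0 => Nat.card_pos.ne' (zero_dvd_iff.1 (h0 ▸ hd)))
        Nat.card_pos.ne').2 hd 2
    have h0 : CfsgLib.Blocks.centralCharBar M χ (x i) = 0 :=
      CfsgLib.Blocks.centralCharBar_eq_zero_of_lt hM χ (by omega)
    simp only [w, map_mul]
    rw [show CfsgLib.Blocks.resHom M (CfsgLib.Blocks.centralCharO M χ (x i)) = 0 from h0]
    simp
  -- the structure constants
  have hN : ∀ i j, ((∑ χ, w i χ j : CfsgLib.Blocks.localRing M) : ℂ) =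
      ((Finset.univ.filter fun a : G => IsConj (x i) a ∧ IsConj (x i) (a⁻¹ * (x j)⁻¹)).card : ℂ) := by
    intro i j
    have hK := CfsgLib.Blocks.isCentralElt_classSum ℂ (x i)
    have hdec : CfsgLib.Blocks.classSum ℂ (x i) * CfsgLib.Blocks.classSum ℂ (x i) =
        ∑ χ : Cfsg.IrrCharacter G, (Cfsg.centralChar (χ : G → ℂ) (x i) ^ 2) •
          CfsgLib.Blocks.blockIdem {χ} := by
      refine CfsgLib.Blocks.eq_of_omega_eq (hK.mul hK) (CfsgLib.Blocks.IsCentralElt.sum _ fun χ _ =>
        (CfsgLib.Blocks.isCentralElt_blockIdem _).smul _) fun ψ => ?_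
      rw [CfsgLib.Blocks.omega_mul ψ hK, CfsgLib.Blocks.omega_classSum
        (CfsgLib.Char.IsIrr.isClassFunction ψ.2), map_sum,
        Finset.sum_eq_single ψ ?_ (fun h => absurd (Finset.mem_univ _) h)]
      · rw [map_smul, CfsgLib.Blocks.omega_blockIdem, if_pos (Set.mem_singleton _), smul_eq_mul,
          mul_one, pow_two]
      · intro χ _ hne
        rw [map_smul, CfsgLib.Blocks.omega_blockIdem,
          if_neg (fun h => hne (Set.mem_singleton_iff.1 h).symm), smul_zero]
    have h1 := congrArg (fun z => z.coeff (x j)⁻¹) hdec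
    simp only [CfsgLib.Blocks.coeff_mul_eq_sum, CfsgLib.Blocks.coeff_classSum, ite_mul, one_mul,
      zero_mul, ← ite_and, MonoidAlgebra.coeff_sum, Finsupp.coe_finsetSum, Finset.sum_apply,
      MonoidAlgebra.coeff_smul, Finsupp.smul_apply, CfsgLib.Blocks.coeff_blockIdem,
      smul_eq_mul] at h1
    rw [Finset.sum_boole] at h1
    rw [h1, AddSubmonoidClass.coe_finsetSum]
    refine Finset.sum_congr rfl fun χ _ => ?_
    rw [CfsgLib.Blocks.blockCoeff_eq_sum, show Finset.univ.filter (· ∈ ({χ} : Set _)) = {χ} by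
      ext; simp, Finset.sum_singleton, inv_inv]
    simp only [w, Subring.coe_mul, CfsgLib.Blocks.centralCharO, Cfsg.centralChar]
    have h10 := CfsgLib.Char.IsIrr.apply_one_ne_zero χ.2
    have hG : ((Nat.card G : ℕ) : ℂ) =
        (Nat.card (Subgroup.centralizer ({x i} : Set G)) : ℂ) *
          ((Subgroup.centralizer ({x i} : Set G)).index : ℂ) := by
      rw [← Nat.cast_mul, Subgroup.card_mul_index]
    have hc : (Nat.card (Subgroup.centralizer ({x i} : Set G)) : ℂ) ≠ 0 :=
      Nat.cast_ne_zero.2 Nat.card_pos.ne'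
    have hi : ((Subgroup.centralizer ({x i} : Set G)).index : ℂ) ≠ 0 :=
      Nat.cast_ne_zero.2 Subgroup.index_ne_zero_of_finite
    rw [hG]
    field_simp
  -- parity of the structure constants
  have hpar : ∀ i j, CfsgLib.Blocks.resHom M (∑ χ, w i χ j) = if i = j then 1 else 0 := by
    intro i j
    rw [show (∑ χ, w i χ j) = (((Finset.univ.filter fun a : G =>
      IsConj (x i) a ∧ IsConj (x i) (a⁻¹ * (x j)⁻¹)).card : ℕ) : CfsgLib.Blocks.localRing M) from
        Subtype.ext (by rw [hN]; simp), map_natCast, Finset.cast_card]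
    set h := (x j)⁻¹ with hh
    have hh3 : h ^ 3 = 1 := by rw [hh, inv_pow, hpow, inv_one]
    have hhn : ∀ Q : Subgroup G, IsPGroup 2 ↥Q → h ∈ Subgroup.normalizer (Q : Set G) → Q = ⊥ :=
      fun Q hQ hm => hxn j Q hQ (by simpa [hh] using inv_mem hm)
    set S := Finset.univ.filter fun a : G => IsConj (x i) a ∧ IsConj (x i) (a⁻¹ * h)
    let τ : G → G := fun a => h⁻¹ * a⁻¹ * h ^ 2
    have hττ : ∀ a, τ (τ a) = a := fun a => by
      calc τ (τ a) = (h ^ 3)⁻¹ * a * h ^ 3 := by simp only [τ]; group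
        _ = a := by rw [hh3]; group
    have hconj : ∀ a c : G, IsConj (x i) a → IsConj (x i) (c * a * c⁻¹) := fun a c ha =>
      ha.trans (isConj_iff.2 ⟨c, rfl⟩)
    have hτS : ∀ a ∈ S, τ a ∈ S := by
      intro a ha
      simp only [S, Finset.mem_filter, Finset.mem_univ, true_and] at ha ⊢
      refine ⟨?_, ?_⟩
      · have := hconj _ h⁻¹ ha.2
        rwa [show h⁻¹ * (a⁻¹ * h) * h⁻¹⁻¹ = τ a by simp only [τ, pow_two]; group] at this
      · have := hconj _ (h ^ 2)⁻¹ ha.1
        rwa [show (h ^ 2)⁻¹ * a * (h ^ 2)⁻¹⁻¹ = (τ a)⁻¹ * h by simp only [τ, pow_two, mul_inv_rev, inv_inv, mul_assoc]] at this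
    rw [← Finset.sum_filter_add_sum_filter_not S (fun a => τ a = a)]
    have h0 : ∑ _a ∈ S.filter (fun a => ¬ τ a = a), (1 : CfsgLib.Blocks.Res M) = 0 := by
      refine Finset.sum_involution (fun a _ => τ a) (fun a _ => CharTwo.add_self_eq_zero 1)
        (fun a ha _ => (Finset.mem_filter.1 ha).2) (fun a ha => ?_) (fun a _ => hττ a)
      refine Finset.mem_filter.2 ⟨hτS a (Finset.mem_filter.1 ha).1, fun he => ?_⟩
      rw [hττ] at he
      exact (Finset.mem_filter.1 ha).2 he.symm
    rw [h0, add_zero]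
    have hfix : ∀ a ∈ S, τ a = a → a = h⁻¹ := by
      intro a ha hτ
      simp only [S, Finset.mem_filter, Finset.mem_univ, true_and] at ha
      have ha3 : a ^ 3 = 1 := by
        obtain ⟨c, hc⟩ := isConj_iff.1 ha.1
        rw [← hc, conj_pow, hpow, mul_one, mul_inv_cancel]
      have haha : a * h * a = h ^ 2 := by
        have e : a * h * τ a = a * a⁻¹ * h ^ 2 := by simp only [τ]; group
        rwa [hτ, mul_inv_cancel, one_mul] at e
      have ht2 : (a * h) * (a * h) = 1 := by rw [← mul_assoc, haha, ← pow_succ, hh3]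
      have := eq_one_of_pow hh3 hhn ht2 (by rwa [mul_inv_cancel_right])
      exact eq_inv_of_mul_eq_one_left this
    split_ifs with hij
    · subst hij
      have hset : S.filter (fun a => τ a = a) = {x i} := by
        ext a
        simp only [Finset.mem_filter, Finset.mem_singleton]
        constructor
        · intro ha
          rw [hfix a ha.1 ha.2, hh, inv_inv]
        · rintro rfl
          refine ⟨?_, ?_⟩
          · simp only [S, Finset.mem_filter, Finset.mem_univ, true_and]
            refine ⟨IsConj.refl _, ?_⟩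
            rw [hh, show (x i)⁻¹ * (x i)⁻¹ = ((x i) ^ 3)⁻¹ * x i by group, hpow, inv_one, one_mul]
          · simp only [τ, hh]
            calc ((x i)⁻¹)⁻¹ * (x i)⁻¹ * ((x i)⁻¹) ^ 2 = (x i ^ 3)⁻¹ * x i := by group
              _ = x i := by rw [hpow, inv_one, one_mul]
      rw [hset, Finset.sum_singleton]
    · refine Finset.sum_eq_zero fun a ha => absurd ?_ hij
      obtain ⟨haS, haτ⟩ := Finset.mem_filter.1 ha
      have := hfix a haS haτ
      rw [hh, inv_inv] at this
      simp only [S, Finset.mem_filter, Finset.mem_univ, true_and] at haS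
      exact hxinj.1 (this ▸ haS.1)
  let U : Matrix ι κ (CfsgLib.Blocks.Res M) := fun i χ => CfsgLib.Blocks.resHom M
    (CfsgLib.Blocks.centralCharO M χ.1 (x i) *
      ⟨(χ.1 : G → ℂ) (x i), CfsgLib.Blocks.mem_localRing_of_isIntegral
        (CfsgLib.Char.IsChar.isIntegral (CfsgLib.Char.IsIrr.isCharacter χ.1.2) _)⟩ * ⟨_, hC0 i⟩)
  let V : Matrix κ ι (CfsgLib.Blocks.Res M) := fun χ j => CfsgLib.Blocks.resHom M
      ⟨(χ.1 : G → ℂ) (x j), CfsgLib.Blocks.mem_localRing_of_isIntegral
        (CfsgLib.Char.IsChar.isIntegral (CfsgLib.Char.IsIrr.isCharacter χ.1.2) _)⟩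
  have hUV : U * V = 1 := by
    ext i j
    rw [Matrix.one_apply, ← hpar, Matrix.mul_apply, map_sum]
    rw [← Finset.sum_subset (Finset.subset_univ (Finset.univ.filter fun χ : Cfsg.IrrCharacter G =>
      (Cfsg.charDegree (χ : G → ℂ)).factorization 2 = (Nat.card G).factorization 2))
      (fun χ _ hχ => hdie i j χ (fun h => hχ (Finset.mem_filter.2 ⟨Finset.mem_univ _, h⟩))),
      Finset.sum_subtype (p := fun χ : Cfsg.IrrCharacter G =>
        (Cfsg.charDegree (χ : G → ℂ)).factorization 2 = (Nat.card G).factorization 2) _ (by simp)]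
    exact Finset.sum_congr rfl fun χ _ => by simp only [U, V, w, map_mul]
  have h1 := Matrix.rank_mul_le_left U V
  rw [hUV, Matrix.rank_one] at h1
  rw [Nat.card_eq_fintype_card, Nat.card_eq_fintype_card]
  exact h1.trans U.rank_le_card_width

end Cfsg.Agent.S4737
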