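import Cfsg.Statements.S4738
import Cfsg.Agent.Lib.CharDegree.InvertedSylow

set_option autoImplicit false
open Cfsg

namespace Cfsg.Agent.S4738

/-- An inverted Sylow subgroup makes all of them abelian. -/
theorem isMulCommutative_sylow {G : Type*} [Group G] [Finite G] {p : ℕ} [Fact p.Prime] {t : G}
    (P₀ : Sylow p G) (hP₀ : ∀ x ∈ (P₀ : Subgroup G), t * x * t⁻¹ = x⁻¹) (P : Sylow p G)
    (a b : (P : Subgroup G)) : a * b = b * a := by
  have h0 : ∀ x y : (P₀ : Subgroup G), x * y = y * x := fun x y => by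
    refine Subtype.ext (inv_injective ?_)
    show ((x : G) * y)⁻¹ = ((y : G) * x)⁻¹
    rw [← hP₀ _ ((P₀ : Subgroup G).mul_mem x.2 y.2), ← conj_mul, hP₀ _ x.2, hP₀ _ y.2,
      _root_.mul_inv_rev]
  obtain ⟨e⟩ : Nonempty ((P : Subgroup G) ≃* (P₀ : Subgroup G)) := ⟨Sylow.equiv P P₀⟩
  exact e.injective (by rw [map_mul, map_mul, h0])

/-- Let p be an odd prime and G a finite group of even order containing no element of order 2p. Then either G has an irreducible character of p-defect zero (its degree has the same p-part as the order of G), or every Sylow p-subgroup of G is abelian and all involutions of G are conjugate. -/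
theorem result {G : Type*} [Group G] [Finite G] (p : ℕ) [Fact p.Prime] (hp2 : p ≠ 2) (hG : Even (Nat.card G)) (h2p : ∀ g : G, orderOf g ≠ 2 * p) : (∃ χ : Cfsg.IrrCharacter G, (Cfsg.charDegree (χ : G → ℂ)).factorization p = (Nat.card G).factorization p) ∨ ((∀ P : Sylow p G, IsMulCommutative ↥(P : Subgroup G)) ∧ ∀ s t : G, orderOf s = 2 → orderOf t = 2 → IsConj s t) := by
  by_cases hno : ∃ χ : Cfsg.IrrCharacter G,
      (Cfsg.charDegree (χ : G → ℂ)).factorization p = (Nat.card G).factorization p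
  · exact Or.inl hno
  have hC : ∀ g : G, g ≠ 1 → (∃ k : ℕ, orderOf g = p ^ k) →
      Odd (Nat.card ↥(Subgroup.centralizer ({g} : Set G))) := by
    intro g hg ⟨k, hk⟩
    by_contra hodd
    rw [Nat.not_odd_iff_even, even_iff_two_dvd] at hodd
    obtain ⟨t, ht⟩ := exists_prime_orderOf_dvd_card' (G := Subgroup.centralizer ({g} : Set G)) 2 hodd
    have ht' : orderOf (t : G) = 2 := by rw [Subgroup.orderOf_coe, ht]
    have hk0 : k ≠ 0 := fun h => hg (orderOf_eq_one_iff.1 (by rw [hk, h, pow_zero]))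
    have hgo : orderOf (g ^ p ^ (k - 1)) = p := by
      rw [orderOf_pow_of_dvd (pow_ne_zero _ (Fact.out : p.Prime).ne_zero) (hk ▸ pow_dvd_pow p (by omega)),
        hk, Nat.pow_div (by omega) (Fact.out : p.Prime).pos, show k - (k - 1) = 1 by omega, pow_one]
    have hc : Commute ((t : G)) (g ^ p ^ (k - 1)) :=
      Commute.pow_right (Subgroup.mem_centralizer_singleton_iff.1 t.2) _
    refine h2p ((t : G) * g ^ p ^ (k - 1)) ?_
    rw [hc.orderOf_mul_eq_mul_orderOf_of_coprime, ht', hgo]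
    rw [ht', hgo]
    exact (Nat.coprime_primes Nat.prime_two Fact.out).2 (Ne.symm hp2)
  obtain ⟨t₀, ht₀⟩ := exists_prime_orderOf_dvd_card' (G := G) 2 (even_iff_two_dvd.1 hG)
  obtain ⟨P₀, hP₀, hP₀C⟩ := CfsgLib.CharDegree.exists_inverted_sylow hC hno ht₀
  refine Or.inr ⟨fun P => ?_, fun s t hs ht => ?_⟩
  · exact ⟨⟨isMulCommutative_sylow P₀ hP₀ P⟩⟩
  obtain ⟨P, hP, hPC⟩ := CfsgLib.CharDegree.exists_inverted_sylow hC hno ht
  obtain ⟨Q, hQ, -⟩ := CfsgLib.CharDegree.exists_inverted_sylow hC hno hs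
  obtain ⟨c, hc⟩ := MulAction.exists_smul_eq G P Q
  set s' := c⁻¹ * s * c with hs'
  have hs'o : orderOf s' = 2 := by
    rw [show s' = MulAut.conj c⁻¹ s by simp [hs'], MulEquiv.orderOf_eq, hs]
  have hsq : ∀ {x : G}, orderOf x = 2 → x * x = 1 := fun {x} hx => by
    rw [← pow_two, ← hx, pow_orderOf_eq_one]
  have hinv : ∀ x ∈ (P : Subgroup G), s' * x * s'⁻¹ = x⁻¹ := by
    intro x hx
    have hcx : c * x * c⁻¹ ∈ (Q : Subgroup G) := by
      rw [← hc, Sylow.coe_subgroup_smul]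
      exact ⟨x, hx, rfl⟩
    calc s' * x * s'⁻¹ = c⁻¹ * (s * (c * x * c⁻¹) * s⁻¹) * c := by rw [hs']; group
      _ = x⁻¹ := by rw [hQ _ hcx]; group
  have hmem : s' * t ∈ Subgroup.centralizer ((P : Subgroup G) : Set G) := fun x hx => by
    refine (mul_inv_eq_iff_eq_mul.1 ?_).symm
    calc s' * t * x * (s' * t)⁻¹ = s' * (t * x * t⁻¹) * s'⁻¹ := by group
      _ = x := by rw [hP x hx, ← conj_inv, hinv x hx, inv_inv]
  have h1 := CfsgLib.CharDegree.isConj_of_odd_orderOf_mul (hsq hs'o) (hsq ht)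
    (Odd.of_dvd_nat hPC (Subgroup.orderOf_dvd_natCard _ hmem))
  have h2 : IsConj s s' := isConj_iff.2 ⟨c⁻¹, by simp [hs']⟩
  exact h2.trans h1.symm

end Cfsg.Agent.S4738
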