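import Cfsg.Statements.S4740
import Cfsg.Agent.Lib.CharDegree.Divisibility

set_option autoImplicit false
open Cfsg CfsgLib.Char CfsgLib.CharDegree

namespace Cfsg.Agent.S4740

/-- Let p be an odd prime, G a finite group of even order, x an involution of G and P a subgroup of G of order p ^ c such that no conjugate of x inverts a non-identity element of P. If p ^ a is the p-part of the order of C_G(x), then some irreducible character of G has degree divisible by p ^ (c - a). -/
theorem result {G : Type*} [Group G] [Finite G] (p : ℕ) [Fact p.Prime] (hp2 : p ≠ 2) (hG : Even (Nat.card G)) (x : G) (hx : orderOf x = 2) (P : Subgroup G) (c : ℕ) (hP : Nat.card ↥P = p ^ c) (hinv : ∀ g : G, IsConj x g → ∀ z ∈ P, z ≠ 1 → g * z * g⁻¹ ≠ z⁻¹) (a : ℕ) (ha : (Nat.card ↥(Subgroup.centralizer ({x} : Set G))).factorization p = a) : ∃ χ : Cfsg.IrrCharacter G, p ^ (c - a) ∣ Cfsg.charDegree (χ : G → ℂ) := by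
  have hx2 : x * x = 1 := by rw [← sq, ← hx]; exact pow_orderOf_eq_one x
  have hxi : x⁻¹ = x := inv_eq_of_mul_eq_one_right hx2
  refine exists_pow_dvd_charDegree x P hP (fun u v z hz hz1 h => ?_) ha
  rw [hxi] at h
  refine hinv (u * x * u⁻¹) (isConj_iff.mpr ⟨u, rfl⟩) z hz hz1 ?_
  have hz' : z = v * x * v⁻¹ * (u * x * u⁻¹) := by
    calc z = (v * x * v⁻¹)⁻¹ * (u * x * u⁻¹)⁻¹ *
          (u * x * u⁻¹ * (v * x * v⁻¹ * z)) := by group
      _ = _ := by rw [h]; simp [mul_assoc, hxi]
  rw [hz']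
  simp only [mul_inv_rev, inv_inv, hxi, mul_assoc]
  have hxx : ∀ t, x * (x * t) = t := fun t => by rw [← mul_assoc, hx2, one_mul]
  simp only [inv_mul_cancel_left, hxx, mul_inv_cancel_left]
  simp [hxx, hx2, mul_assoc]

end Cfsg.Agent.S4740
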