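import Cfsg.Statements.S4741
import Cfsg.Agent.Lib.Blocks.PElementSum
import Mathlib.LinearAlgebra.Dimension.Constructions
import Mathlib.LinearAlgebra.Matrix.NonsingularInverse

set_option autoImplicit false
open Cfsg

namespace Cfsg.Agent.S4741

open CfsgLib.Blocks CfsgLib.Fusion

/-- An injective family of functionals has a nonsingular square part. -/
theorem exists_det_ne_zero {k : Type*} [Field k] {ι : Type*} {r : ℕ} (v : ι → Fin r → k)
    (h : ∀ c : Fin r → k, (∀ i, ∑ j, c j * v i j = 0) → c = 0) :
    ∃ e : Fin r → ι, Function.Injective e ∧ Matrix.det (Matrix.of fun a j => v (e a) j) ≠ 0 := by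
  classical
  have hspan : Submodule.span k (Set.range v) = ⊤ := by
    by_contra hne
    obtain ⟨f, hf0, hf⟩ := Submodule.exists_dual_map_eq_bot_of_lt_top (lt_top_iff_ne_top.mpr hne)
      inferInstance
    refine hf0 (LinearMap.ext fun w => ?_)
    have hexp : ∀ w : Fin r → k, f w = ∑ j, f (Pi.single j 1) * w j := by
      intro w
      conv_lhs => rw [← Finset.univ_sum_single w]
      rw [map_sum]
      refine Finset.sum_congr rfl fun j _ => ?_
      rw [show Pi.single j (w j) = w j • (Pi.single j 1 : Fin r → k) by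
        rw [← Pi.single_smul, smul_eq_mul, mul_one], map_smul, smul_eq_mul, mul_comm]
    have hz := h (fun j => f (Pi.single j 1)) fun i => by
      have hm := Submodule.mem_map_of_mem (f := f) (Submodule.subset_span (R := k) (Set.mem_range_self (f := v) i))
      rw [hf, Submodule.mem_bot, hexp] at hm
      exact hm
    rw [hexp, LinearMap.zero_apply]
    exact Finset.sum_eq_zero fun j _ => by
      have := congrFun hz j
      simp only [Pi.zero_apply] at this
      rw [this, zero_mul]
  obtain ⟨g, hg, -, hind⟩ := Submodule.exists_fun_fin_finrank_span_eq k (Set.range v)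
  have hr : Module.finrank k (Submodule.span k (Set.range v)) = r := by
    rw [hspan, finrank_top, Module.finrank_fin_fun]
  have hmem : ∀ a : Fin r, ∃ i, v i = g (Fin.cast hr.symm a) := fun a => hg _
  choose e he using hmem
  have hli : LinearIndependent k (fun a => v (e a)) := by
    simp only [he]
    exact hind.comp _ (Fin.cast_injective _)
  refine ⟨e, fun a b hab => hli.injective (by simp only [hab]), fun hdet => ?_⟩
  have := (Matrix.linearIndependent_rows_iff_isUnit (A := Matrix.of fun a j => v (e a) j)).mp hli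
  rw [Matrix.isUnit_iff_isUnit_det, hdet] at this
  exact not_isUnit_zero this

/-- Let p be a prime, M a maximal ideal of the algebraic integers containing p, and D a subgroup of the finite group G. Let x₁, …, x_r be pairwise non-conjugate elements of G such that D is a Sylow p-subgroup of the centralizer of each xᵢ, and such that for any conjugates g of some xᵢ and h of some xⱼ the element g h⁻¹ is never a non-identity p-element. Then there are r distinct p-blocks B₁, …, B_r of G, each having D as a defect group, such that for every choice of characters χᵢ ∈ Bᵢ of height zero the determinant of the r × r matrix (χᵢ(xⱼ)) does not lie in the local ideal at M. -/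
theorem result {G : Type*} [Group G] [Finite G] (p : ℕ) [Fact p.Prime] (M : Ideal Cfsg.AlgInt) (hM : Cfsg.IsPModular p M) (D : Subgroup G) {r : ℕ} (x : Fin r → G) (hx : ∀ i j : Fin r, IsConj (x i) (x j) → i = j) (hD : ∀ i : Fin r, ∃ S : Sylow p ↥(Subgroup.centralizer ({x i} : Set G)), (S : Subgroup ↥(Subgroup.centralizer ({x i} : Set G))).map (Subgroup.centralizer ({x i} : Set G)).subtype = D) (hsep : ∀ i j : Fin r, ∀ g h : G, IsConj (x i) g → IsConj (x j) h → ∀ k : ℕ, 0 < k → orderOf (g * h⁻¹) ≠ p ^ k) : ∃ B : Fin r → Set (Cfsg.IrrCharacter G), Function.Injective B ∧ (∀ i : Fin r, Cfsg.IsPBlock M (B i) ∧ Cfsg.IsDefectGroup p M (B i) D) ∧ ∀ χ : Fin r → Cfsg.IrrCharacter G, (∀ i : Fin r, χ i ∈ B i ∧ Cfsg.blockHeight p (B i) (χ i : G → ℂ) = 0) → ¬ Cfsg.MemLocalIdeal M (Matrix.det (Matrix.of fun i j : Fin r => (χ i : G → ℂ) (x j))) := by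
  classical
  have := Fintype.ofFinite G
  have : M.IsPrime := hM.2.1.isPrime
  have := charP_residueField hM
  have := Fintype.ofFinite {B : Set (Cfsg.IrrCharacter G) // Cfsg.IsPBlock M B}
  have hle : ∀ i, D ≤ Subgroup.centralizer ({x i} : Set G) := fun i => by
    obtain ⟨S, hS⟩ := hD i
    exact hS ▸ Subgroup.map_subtype_le _
  have hsyl : ∀ i, IsSylowIn p D (Subgroup.centralizer ({x i} : Set G)) := fun i => by
    obtain ⟨S, hS⟩ := hD i
    refine ⟨S, ?_⟩
    rw [← hS, Subgroup.subgroupOf, Subgroup.comap_map_eq_self_of_injective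
      (Subgroup.centralizer ({x i} : Set G)).subtype_injective]
  choose ψ hψ using fun B : {B : Set (Cfsg.IrrCharacter G) // Cfsg.IsPBlock M B} =>
    IsPBlock.nonempty B.2
  let 𝔅 := {B : {B : Set (Cfsg.IrrCharacter G) // Cfsg.IsPBlock M B} //
    Cfsg.IsDefectGroup p M B.1 D}
  obtain ⟨e, he, hdet⟩ := exists_det_ne_zero
    (fun (B : 𝔅) (j : Fin r) => centralCharBar M (ψ B.1) (x j)) fun c hc => by
    set z : MonoidAlgebra (Res M) G := ∑ j, c j • classSum (Res M) (x j) with hz
    have hzc : IsCentralElt z := IsCentralElt.sum _ fun j _ => (isCentralElt_classSum _ _).smul _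
    have hωz : ∀ χ, omegaBar χ z = ∑ j, c j * centralCharBar M χ (x j) := fun χ => by
      simp [hz, omegaBar_sum, omegaBar_smul, omegaBar_classSum]
    set w : MonoidAlgebra (Res M) G :=
      ∑ B, omegaBar (ψ B) z • blockIdemBar M B.1 with hw
    have hwc : IsCentralElt w :=
      IsCentralElt.sum _ fun B _ => (isCentralElt_blockIdemBar B.2).smul _
    have h0 : ∀ χ : Cfsg.IrrCharacter G, omegaBar χ (z - w) = 0 := by
      intro χ
      rw [omegaBar_sub, sub_eq_zero]
      symm
      rw [hw, omegaBar_sum,
        Finset.sum_eq_single ⟨_, isPBlock_blockOf χ⟩ ?_ (by simp)]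
      · rw [omegaBar_smul, omegaBar_blockIdemBar (isPBlock_blockOf χ), if_pos (mem_blockOf_self χ),
          mul_one, omegaBar_congr (IsPBlock.sameBlock (isPBlock_blockOf χ) (mem_blockOf_self χ)
            (hψ ⟨_, isPBlock_blockOf χ⟩))]
      · intro B _ hB
        rw [omegaBar_smul, omegaBar_blockIdemBar B.2, if_neg, mul_zero]
        exact fun h => hB (Subtype.ext (IsPBlock.eq_blockOf B.2 h))
    funext i
    have hsum := sum_translate_pElements_eq_zero hM (hzc.sub hwc) h0 (x i)
    simp only [MonoidAlgebra.coeff_sub, Finsupp.sub_apply] at hsum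
    rw [show (fun y : G => if ∃ k : ℕ, orderOf (y * (x i)⁻¹) = p ^ k then z.coeff y - w.coeff y
        else 0) = fun y => (if ∃ k : ℕ, orderOf (y * (x i)⁻¹) = p ^ k then z.coeff y else 0) -
          (if ∃ k : ℕ, orderOf (y * (x i)⁻¹) = p ^ k then w.coeff y else 0) from
      funext fun y => by split_ifs <;> simp, Finset.sum_sub_distrib] at hsum
    have hzsum : ∑ y : G, (if ∃ k : ℕ, orderOf (y * (x i)⁻¹) = p ^ k then z.coeff y else 0) = c i := by
      have hzy : ∀ y, z.coeff y = ∑ j, if IsConj (x j) y then c j else 0 := fun y => by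
        simp [hz, MonoidAlgebra.coeff_sum, Finsupp.coe_finsetSum, coeff_classSum]
      rw [Finset.sum_eq_single (x i) ?_ (by simp), if_pos ⟨0, by simp⟩, hzy,
        Finset.sum_eq_single i (fun j _ hj => if_neg fun h => hj (hx j i h)) (by simp),
        if_pos (IsConj.refl _)]
      intro y _ hy
      split_ifs with hk
      · rw [hzy]
        refine Finset.sum_eq_zero fun j _ => if_neg fun hj => ?_
        obtain ⟨k, hk⟩ := hk
        rcases Nat.eq_zero_or_pos k with rfl | hk0
        · exact hy (mul_inv_eq_one.mp (orderOf_eq_one_iff.mp (by simpa using hk)))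
        · exact hsep j i y (x i) hj (IsConj.refl _) k hk0 hk
      · rfl
    have hwsum : ∑ y : G, (if ∃ k : ℕ, orderOf (y * (x i)⁻¹) = p ^ k then w.coeff y else 0) = 0 := by
      have hDp : IsPGroup p D := (hsyl i).isPGroup (hle i)
      let act : MulAction D G :=
        { smul := fun d y => (d : G) * y * (d : G)⁻¹
          one_smul := fun y => by show ((1 : D) : G) * y * ((1 : D) : G)⁻¹ = y; simp
          mul_smul := fun a b y => by
            show ((a * b : D) : G) * y * ((a * b : D) : G)⁻¹ =
              (a : G) * ((b : G) * y * (b : G)⁻¹) * (a : G)⁻¹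
            simp [mul_assoc] }
      rw [@sum_eq_sum_fixedPoints p _ D _ hDp G _ act (Res M) _ _ _ ?_ _]
      · refine Finset.sum_eq_zero fun y hy => ?_
        have hyD : y ∈ Subgroup.centralizer (D : Set G) := fun d hd => by
          have h := (Finset.mem_filter.mp hy).2 ⟨d, hd⟩
          change d * y * d⁻¹ = y at h
          exact mul_inv_eq_iff_eq_mul.mp h
        split_ifs
        · simp only [hw, MonoidAlgebra.coeff_sum, Finsupp.coe_finsetSum, Finset.sum_apply,
            MonoidAlgebra.coeff_smul, Finsupp.smul_apply, smul_eq_mul]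
          refine Finset.sum_eq_zero fun B _ => ?_
          by_contra hne
          have hω := left_ne_zero_of_mul hne
          have he := right_ne_zero_of_mul hne
          obtain ⟨E, hE⟩ := exists_isDefectGroup (p := p) B.2
          rw [hωz] at hω
          obtain ⟨j, -, hj⟩ := Finset.exists_ne_zero_of_sum_ne_zero hω
          have h1 : SubConj E D := IsDefectGroup.subConj_of_centralCharBar_ne_zero hM B.2 hE
            (hψ B) (right_ne_zero_of_mul hj) (defLE_self (hsyl j))
          have h2 : SubConj D E :=
            (IsDefectGroup.defLE_of_coeff_ne_zero hM B.2 hE he).subConj hDp hyD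
          obtain ⟨g, hg⟩ := h1.exists_map_eq h2
          refine hω ?_
          exact hc ⟨B, hg ▸ IsDefectGroup.map_conj hE g⟩
        · rfl
      · intro d y
        show (if ∃ k : ℕ, orderOf ((d : G) * y * (d : G)⁻¹ * (x i)⁻¹) = p ^ k then
          w.coeff ((d : G) * y * (d : G)⁻¹) else 0) = _
        have hcd : (x i)⁻¹ = (d : G) * (x i)⁻¹ * (d : G)⁻¹ := by
          have := (CfsgLib.Blocks.mem_centralizer_singleton.mp (hle i d.2)).inv_right
          rw [this.eq, mul_inv_cancel_right]
        have : (d : G) * y * (d : G)⁻¹ * (x i)⁻¹ = (d : G) * (y * (x i)⁻¹) * (d : G)⁻¹ := by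
          conv_lhs => rw [hcd]
          group
        rw [this, ← MulAut.conj_apply (d : G) (y * (x i)⁻¹), MulEquiv.orderOf_eq]
        exact if_congr Iff.rfl (hwc _ _) rfl
    rw [hzsum, hwsum, sub_zero] at hsum
    exact hsum
  refine ⟨fun a => (e a).1.1, fun a b h => he (Subtype.ext (Subtype.ext h)),
    fun a => ⟨(e a).1.2, (e a).2⟩, fun χ hχ => ?_⟩
  intro hmem
  refine hdet ?_
  have hn : ∀ i j, (Cfsg.charDegree (χ i : G → ℂ)).factorization p =
      (Subgroup.centralizer ({x j} : Set G)).index.factorization p := by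
    intro i j
    obtain ⟨g, hg, hgl, hgs⟩ := isDefectGroup_iff.1 (e i).2
    rw [(blockHeight_eq_zero_iff hM (e i).1.2 hg (hχ i).1).1 (hχ i).2]
    have h1 := factorization_card_eq_index_add hM (Subgroup.centralizer ({g} : Set G))
    have h2 := factorization_card_eq_index_add hM (Subgroup.centralizer ({x j} : Set G))
    have h3 := (isSylowIn_iff_card hgl).1 hgs
    have h4 := (isSylowIn_iff_card (hle j)).1 (hsyl j)
    have h5 := Nat.pow_right_injective hM.1.two_le (h3.symm.trans h4)
    omega
  choose m hm hmp using fun i => exists_factorization (p := p) (charDegree_pos (χ i)).ne'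
  choose q hq hqp using fun j => exists_factorization (p := p)
    (Subgroup.index_ne_zero_of_finite (H := Subgroup.centralizer ({x j} : Set G)))
  let A : Matrix (Fin r) (Fin r) (localRing M) := Matrix.of fun i j =>
    (m i : localRing M) * centralCharO M (χ i) (x j) *
      ⟨(q j : ℂ)⁻¹, inv_natCast_mem hM (hqp j)⟩
  have hA : (Matrix.of fun i j => (χ i : G → ℂ) (x j)) = A.map (localRing M).subtype := by
    ext i j
    have hq0 : (q j : ℂ) ≠ 0 := Nat.cast_ne_zero.2 fun h => hqp j (h ▸ dvd_zero p)
    have hm0 : (m i : ℂ) ≠ 0 := Nat.cast_ne_zero.2 fun h => hmp i (h ▸ dvd_zero p)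
    have hp0 : (p : ℂ) ≠ 0 := Nat.cast_ne_zero.2 hM.1.ne_zero
    simp only [A, Matrix.map_apply, Matrix.of_apply, Subring.coe_subtype, Subring.coe_mul,
      SubringClass.coe_natCast, centralCharO, Cfsg.centralChar]
    rw [apply_one_eq_charDegree (χ i), hm i, hq j, hn i j]
    push_cast
    field_simp
  rw [hA, ← RingHom.mapMatrix_apply, ← RingHom.map_det, Subring.coe_subtype, ← residue_eq_zero_iff,
    RingHom.map_det] at hmem
  have hAbar : (IsLocalRing.residue (localRing M)).mapMatrix A =
      Matrix.diagonal (fun i => (m i : Res M)) *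
        (Matrix.of fun i j => centralCharBar M (ψ (e i).1) (x j)) *
        Matrix.diagonal (fun j => IsLocalRing.residue (localRing M)
          ⟨(q j : ℂ)⁻¹, inv_natCast_mem hM (hqp j)⟩) := by
    ext i j
    have heq : centralCharBar M (χ i) (x j) = centralCharBar M (ψ (e i).1) (x j) := by
      rw [← omegaBar_classSum, ← omegaBar_classSum,
        omegaBar_congr (IsPBlock.sameBlock (e i).1.2 (hχ i).1 (hψ _))]
    rw [Matrix.mul_diagonal, Matrix.diagonal_mul, Matrix.of_apply, ← heq]
    simp only [A, RingHom.mapMatrix_apply, Matrix.map_apply, Matrix.of_apply, map_mul, map_natCast]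
    rfl
  rw [hAbar, Matrix.det_mul, Matrix.det_mul, Matrix.det_diagonal, Matrix.det_diagonal,
    mul_eq_zero, mul_eq_zero] at hmem
  rcases hmem with (h | h) | h
  · obtain ⟨i, -, hi⟩ := Finset.prod_eq_zero_iff.mp h
    exact absurd ((CharP.cast_eq_zero_iff (Res M) p _).mp hi) (hmp i)
  · exact h
  · obtain ⟨j, -, hj⟩ := Finset.prod_eq_zero_iff.mp h
    refine absurd hj ((IsLocalRing.residue_ne_zero_iff_isUnit _).2 ?_)
    exact isUnit_iff_exists_inv.2 ⟨(q j : localRing M), Subtype.ext (by
      simp [inv_mul_cancel₀ (show (q j : ℂ) ≠ 0 from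
        Nat.cast_ne_zero.2 fun h => hqp j (h ▸ dvd_zero p))])⟩

end Cfsg.Agent.S4741
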