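import Cfsg.Statements.S4742
import Cfsg.Agent.Lib.CharDegree.Divisibility

set_option autoImplicit false
open Cfsg CfsgLib.Char CfsgLib.CharDegree

namespace Cfsg.Agent.S4742

/-- Let p ≠ q be primes dividing the order of the finite group G, and suppose the centralizer of every non-identity p-element of G has order prime to q. Then either G has an irreducible character of p-defect zero, or for every non-identity q-element z of G there are conjugates g, h of z such that g h⁻¹ is a non-identity p-element. -/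
theorem result {G : Type*} [Group G] [Finite G] (p q : ℕ) [Fact p.Prime] [Fact q.Prime] (hppq : p ≠ q) (hpG : p ∣ Nat.card G) (hqG : q ∣ Nat.card G) (hC : ∀ g : G, g ≠ 1 → (∃ k : ℕ, orderOf g = p ^ k) → ¬ q ∣ Nat.card ↥(Subgroup.centralizer ({g} : Set G))) : (∃ χ : Cfsg.IrrCharacter G, (Cfsg.charDegree (χ : G → ℂ)).factorization p = (Nat.card G).factorization p) ∨ ∀ z : G, z ≠ 1 → (∃ k : ℕ, orderOf z = q ^ k) → ∃ g h : G, IsConj z g ∧ IsConj z h ∧ g * h⁻¹ ≠ 1 ∧ ∃ k : ℕ, orderOf (g * h⁻¹) = p ^ k := by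
  by_cases hdef : ∀ z : G, z ≠ 1 → (∃ k : ℕ, orderOf z = q ^ k) → ∃ g h : G, IsConj z g ∧
      IsConj z h ∧ g * h⁻¹ ≠ 1 ∧ ∃ k : ℕ, orderOf (g * h⁻¹) = p ^ k
  · exact Or.inr hdef
  left
  push Not at hdef
  obtain ⟨z, hz1, ⟨kz, hkz⟩, hno⟩ := hdef
  refine exists_defectZero z (fun hdvd => ?_) (fun u v w hw ⟨k, hk⟩ h => ?_)
  · obtain ⟨g, hg⟩ := exists_prime_orderOf_dvd_card' p hdvd
    refine hC g (fun h => ?_) ⟨1, by rw [pow_one, Subgroup.orderOf_coe, hg]⟩ ?_
    · rw [← Subgroup.orderOf_coe, h, orderOf_one] at hg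
      exact (Fact.out : p.Prime).one_lt.ne hg
    · have hzC : z ∈ Subgroup.centralizer ({(g : G)} : Set G) :=
        Subgroup.mem_centralizer_singleton_iff.mpr
          (Subgroup.mem_centralizer_singleton_iff.mp g.2).symm
      refine dvd_trans ?_ (Subgroup.orderOf_dvd_natCard _ hzC)
      rw [hkz]
      refine dvd_pow_self q fun h0 => hz1 ?_
      rwa [h0, pow_zero, orderOf_eq_one_iff] at hkz
  · have hw' : u * z * u⁻¹ * (v * z * v⁻¹)⁻¹ = w⁻¹ := by
      rw [eq_inv_iff_mul_eq_one]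
      calc _ = u * z * u⁻¹ * (v * z⁻¹ * v⁻¹ * w) := by group
        _ = 1 := h
    exact hno (u * z * u⁻¹) (v * z * v⁻¹) (isConj_iff.mpr ⟨u, rfl⟩) (isConj_iff.mpr ⟨v, rfl⟩)
      (by rw [hw']; simpa using hw) k (by rw [hw', orderOf_inv, hk])

end Cfsg.Agent.S4742
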