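import Cfsg.Statements.S4743
import Cfsg.Agent.Lib.CharDegree.Divisibility
import Mathlib.GroupTheory.Perm.Cycle.Type

set_option autoImplicit false
open Cfsg CfsgLib.CharDegree

namespace Cfsg.Agent.S4743

theorem symm_hyp {G : Type*} [Group G] [Finite G] (p q : ℕ) [Fact p.Prime] [Fact q.Prime]
    (hC : ∀ g : G, g ≠ 1 → (∃ k : ℕ, orderOf g = p ^ k) →
      ¬ q ∣ Nat.card ↥(Subgroup.centralizer ({g} : Set G))) :
    ∀ g : G, g ≠ 1 → (∃ k : ℕ, orderOf g = q ^ k) →
      ¬ p ∣ Nat.card ↥(Subgroup.centralizer ({g} : Set G)) := by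
  intro g hg ⟨k, hk⟩ hd
  obtain ⟨y, hy⟩ := exists_prime_orderOf_dvd_card' p hd
  have hy' : orderOf (y : G) = p := by rw [Subgroup.orderOf_coe, hy]
  have hmem : g ∈ Subgroup.centralizer ({(y : G)} : Set G) := by
    rw [Subgroup.mem_centralizer_iff]
    intro z hz
    rw [Set.mem_singleton_iff.mp hz]
    exact (Subgroup.mem_centralizer_iff.mp y.2 g rfl).symm
  refine hC y (fun h => ?_) ⟨1, by rw [hy', pow_one]⟩ ?_
  · rw [h, orderOf_one] at hy'
    exact (Fact.out : p.Prime).one_lt.ne hy'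
  · refine dvd_trans ?_ ((Subgroup.orderOf_mk g hmem) ▸ orderOf_dvd_natCard
      (⟨g, hmem⟩ : Subgroup.centralizer ({(y : G)} : Set G)))
    rw [hk]
    refine dvd_pow_self q fun h0 => hg ?_
    rw [h0, pow_zero] at hk
    exact orderOf_eq_one_iff.mp hk

/-- A normal subgroup of order prime to `p` and divisible by `q` gives `p`-defect zero. -/
theorem defect_of_normal {G : Type*} [Group G] [Finite G] (p q : ℕ) [Fact p.Prime] [Fact q.Prime]
    (hC : ∀ g : G, g ≠ 1 → (∃ k : ℕ, orderOf g = q ^ k) →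
      ¬ p ∣ Nat.card ↥(Subgroup.centralizer ({g} : Set G)))
    (N : Subgroup G) (hN : N.Normal) (hq : q ∣ Nat.card N) (hp : ¬ p ∣ Nat.card N) :
    ∃ χ : Cfsg.IrrCharacter G,
      (Cfsg.charDegree (χ : G → ℂ)).factorization p = (Nat.card G).factorization p := by
  obtain ⟨x, hx⟩ := exists_prime_orderOf_dvd_card' q hq
  have hx' : orderOf (x : G) = q := by rw [Subgroup.orderOf_coe, hx]
  have hx1 : (x : G) ≠ 1 := fun h => by
    rw [h, orderOf_one] at hx'
    exact (Fact.out : q.Prime).one_lt.ne hx'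
  refine exists_defectZero (x : G) (hC x hx1 ⟨1, by rw [hx', pow_one]⟩) ?_
  intro a b z hz1 ⟨k, hk⟩ h
  have hzN : z ∈ N := by
    have h2 : z = (a * x * a⁻¹ * (b * (x : G)⁻¹ * b⁻¹))⁻¹ := by
      rw [← mul_assoc (a * (x : G) * a⁻¹)] at h
      exact eq_inv_of_mul_eq_one_right h
    rw [h2]
    exact N.inv_mem (N.mul_mem (hN.conj_mem _ x.2 a) (hN.conj_mem _ (N.inv_mem x.2) b))
  refine hp (dvd_trans ?_ ((Subgroup.orderOf_mk z hzN) ▸ orderOf_dvd_natCard (⟨z, hzN⟩ : N)))
  rw [hk]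
  refine dvd_pow_self p fun h0 => hz1 ?_
  rw [h0, pow_zero] at hk
  exact orderOf_eq_one_iff.mp hk

/-- A `p`-solvable group has a normal subgroup separating `p` and `q`. -/
theorem exists_separating {G : Type*} [Group G] [Finite G] (p q : ℕ) [Fact p.Prime] [Fact q.Prime]
    (hne : p ≠ q) (hpG : p ∣ Nat.card G) (h : Cfsg.IsPSolvable p G) :
    ∃ N : Subgroup G, N.Normal ∧
      ((p ∣ Nat.card N ∧ ¬ q ∣ Nat.card N) ∨ (q ∣ Nat.card N ∧ ¬ p ∣ Nat.card N)) := by
  obtain ⟨n, H, h0, hn, hmono, hnorm, hfac⟩ := h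
  by_contra hno
  push Not at hno
  have hp : p.Prime := Fact.out
  have hq : q.Prime := Fact.out
  have key : ∀ i : Fin (n + 1), ¬ p ∣ Nat.card (H i) ∧ ¬ q ∣ Nat.card (H i) := by
    intro i
    induction i using Fin.induction with
    | zero =>
      rw [h0, Subgroup.card_bot]
      exact ⟨fun h => hp.one_lt.ne' (Nat.dvd_one.mp h), fun h => hq.one_lt.ne' (Nat.dvd_one.mp h)⟩
    | succ i ih =>
      have hle : H i.castSucc ≤ H i.succ := hmono (Fin.le_def.mpr (by simp))
      have hcard : Nat.card (H i.succ) =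
          Nat.card (H i.castSucc) * (H i.castSucc).relIndex (H i.succ) :=
        ((Subgroup.card_mul_index _).symm.trans (congrArg (· * _)
          (Nat.card_congr (Subgroup.subgroupOfEquivOfLe hle).toEquiv)))
      have hsep := hno (H i.succ) (hnorm _)
      rw [hcard, hp.dvd_mul, hq.dvd_mul, or_iff_right ih.1, or_iff_right ih.2] at hsep ⊢
      rcases hfac i with ⟨m, hm⟩ | hcop
      · have h2 : ¬ q ∣ (H i.castSucc).relIndex (H i.succ) := fun hd =>
          hne ((Nat.prime_dvd_prime_iff_eq hq hp).mp (hq.dvd_of_dvd_pow (hm ▸ hd))).symm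
        exact ⟨fun hd => h2 (hsep.1 hd), h2⟩
      · have h1 : ¬ p ∣ (H i.castSucc).relIndex (H i.succ) := fun hd =>
          hp.one_lt.ne' (Nat.dvd_one.mp (hcop ▸ Nat.dvd_gcd hd dvd_rfl))
        exact ⟨h1, fun hd => h1 (hsep.2 hd)⟩
  have hlast := (key (Fin.last n)).1
  rw [hn, Subgroup.card_top] at hlast
  exact hlast hpG

/-- Let p ≠ q be primes dividing the order of the finite group G, suppose the centralizer of every non-identity p-element has order prime to q, and suppose G is p-solvable or q-solvable. Then G has an irreducible character of p-defect zero or an irreducible character of q-defect zero. -/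
theorem result {G : Type*} [Group G] [Finite G] (p q : ℕ) [Fact p.Prime] [Fact q.Prime] (hppq : p ≠ q) (hpG : p ∣ Nat.card G) (hqG : q ∣ Nat.card G) (hC : ∀ g : G, g ≠ 1 → (∃ k : ℕ, orderOf g = p ^ k) → ¬ q ∣ Nat.card ↥(Subgroup.centralizer ({g} : Set G))) (hsolv : Cfsg.IsPSolvable p G ∨ Cfsg.IsPSolvable q G) : (∃ χ : Cfsg.IrrCharacter G, (Cfsg.charDegree (χ : G → ℂ)).factorization p = (Nat.card G).factorization p) ∨ (∃ χ : Cfsg.IrrCharacter G, (Cfsg.charDegree (χ : G → ℂ)).factorization q = (Nat.card G).factorization q) := by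
  obtain ⟨N, hN, hcases⟩ : ∃ N : Subgroup G, N.Normal ∧
      ((p ∣ Nat.card N ∧ ¬ q ∣ Nat.card N) ∨ (q ∣ Nat.card N ∧ ¬ p ∣ Nat.card N)) := by
    rcases hsolv with h | h
    · exact exists_separating p q hppq hpG h
    · obtain ⟨N, hN, h'⟩ := exists_separating q p hppq.symm hqG h
      exact ⟨N, hN, h'.symm⟩
  rcases hcases with ⟨h1, h2⟩ | ⟨h1, h2⟩
  · exact Or.inr (defect_of_normal q p hC N hN h1 h2)
  · exact Or.inl (defect_of_normal p q (symm_hyp p q hC) N hN h1 h2)

end Cfsg.Agent.S4743
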