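import Cfsg.Statements.S4744
import Cfsg.Agent.Lib.CharDegree.InvertedSylow

set_option autoImplicit false
open Cfsg

namespace Cfsg.Agent.S4744

/-- An inverted Sylow subgroup makes all of them abelian. -/
theorem isMulCommutative_sylow {G : Type*} [Group G] [Finite G] {p : ℕ} [Fact p.Prime] {t : G}
    (P₀ : Sylow p G) (hP₀ : ∀ x ∈ (P₀ : Subgroup G), t * x * t⁻¹ = x⁻¹) (P : Sylow p G)
    (a b : (P : Subgroup G)) : a * b = b * a := by
  have h0 : ∀ x y : (P₀ : Subgroup G), x * y = y * x := fun x y => by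
    refine Subtype.ext (inv_injective ?_)
    show ((x : G) * y)⁻¹ = ((y : G) * x)⁻¹
    rw [← hP₀ _ ((P₀ : Subgroup G).mul_mem x.2 y.2), ← conj_mul, hP₀ _ x.2, hP₀ _ y.2,
      _root_.mul_inv_rev]
  obtain ⟨e⟩ : Nonempty ((P : Subgroup G) ≃* (P₀ : Subgroup G)) := ⟨Sylow.equiv P P₀⟩
  exact e.injective (by rw [map_mul, map_mul, h0])

/-- Let p be an odd prime and G a finite group of even order divisible by p in which the centralizer of every non-identity p-element has odd order. Then either G has an irreducible character of p-defect zero, or the normalizer of every Sylow p-subgroup P of G has even order and P is abelian. -/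
theorem result {G : Type*} [Group G] [Finite G] (p : ℕ) [Fact p.Prime] (hp2 : p ≠ 2) (hpG : p ∣ Nat.card G) (h2G : 2 ∣ Nat.card G) (hC : ∀ g : G, g ≠ 1 → (∃ k : ℕ, orderOf g = p ^ k) → Odd (Nat.card ↥(Subgroup.centralizer ({g} : Set G)))) : (∃ χ : Cfsg.IrrCharacter G, (Cfsg.charDegree (χ : G → ℂ)).factorization p = (Nat.card G).factorization p) ∨ ∀ P : Sylow p G, Even (Nat.card ↥(Subgroup.normalizer ((P : Subgroup G) : Set G))) ∧ IsMulCommutative ↥(P : Subgroup G) := by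
  by_cases hno : ∃ χ : Cfsg.IrrCharacter G,
      (Cfsg.charDegree (χ : G → ℂ)).factorization p = (Nat.card G).factorization p
  · exact Or.inl hno
  obtain ⟨t, ht⟩ := exists_prime_orderOf_dvd_card' (G := G) 2 h2G
  obtain ⟨P₀, hP₀, -⟩ := CfsgLib.CharDegree.exists_inverted_sylow hC hno ht
  refine Or.inr fun P => ⟨?_, ⟨⟨isMulCommutative_sylow P₀ hP₀ P⟩⟩⟩
  obtain ⟨c, rfl⟩ := MulAction.exists_smul_eq G P₀ P
  rw [even_iff_two_dvd, ← (show orderOf (c * t * c⁻¹) = 2 by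
    rw [← MulAut.conj_apply, MulEquiv.orderOf_eq, ht])]
  refine Subgroup.orderOf_dvd_natCard _ ?_
  have hkey : ∀ x ∈ (((c • P₀ : Sylow p G)) : Subgroup G),
      c * t * c⁻¹ * x * (c * t * c⁻¹)⁻¹ = x⁻¹ := by
    intro x hx
    rw [Sylow.coe_subgroup_smul] at hx
    obtain ⟨y, hy, rfl⟩ := hx
    show c * t * c⁻¹ * (c * y * c⁻¹) * (c * t * c⁻¹)⁻¹ = (c * y * c⁻¹)⁻¹
    calc c * t * c⁻¹ * (c * y * c⁻¹) * (c * t * c⁻¹)⁻¹ = c * (t * y * t⁻¹) * c⁻¹ := by group
      _ = (c * y * c⁻¹)⁻¹ := by rw [hP₀ y hy]; group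
  rw [Subgroup.mem_normalizer_iff]
  intro h
  refine ⟨fun hh => by rw [hkey h hh]; exact inv_mem hh, fun hh => ?_⟩
  have hti : (c * t * c⁻¹) * (c * t * c⁻¹) = 1 := by
    calc (c * t * c⁻¹) * (c * t * c⁻¹) = c * t ^ 2 * c⁻¹ := by rw [pow_two]; group
      _ = 1 := by rw [← ht, pow_orderOf_eq_one]; group
  have h2 := hkey _ hh
  have e : c * t * c⁻¹ * (c * t * c⁻¹ * h * (c * t * c⁻¹)⁻¹) * (c * t * c⁻¹)⁻¹ = h := by
    calc _ = (c * t * c⁻¹ * (c * t * c⁻¹)) * h * (c * t * c⁻¹ * (c * t * c⁻¹))⁻¹ := by group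
      _ = h := by rw [hti, one_mul, inv_one, mul_one]
  rw [e] at h2
  rw [h2]
  exact inv_mem hh

end Cfsg.Agent.S4744
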