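import Cfsg.Statements.S4745
import Cfsg.Agent.Lib.Blocks.InvolutionPairs.Transitive
import Cfsg.Agent.Lib.CharDegree.Restriction
import Cfsg.Agent.Lib.PLocal.PSolvableExt

set_option autoImplicit false
open Cfsg

namespace Cfsg.Agent.S4745

/-- Let p be an odd prime and G a finite group of even order divisible by p in which the centralizer of every non-identity p-element has odd order, and suppose G acts faithfully and transitively on a set with p ^ r elements, r ≥ 1. Then either G has an irreducible character of p-defect zero, or G is p-solvable and has an irreducible character of 2-defect zero. -/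
theorem result {G Ω : Type*} [Group G] [Finite G] [MulAction G Ω] [FaithfulSMul G Ω] [Fintype Ω] (htr : MulAction.IsPretransitive G Ω) (p : ℕ) [Fact p.Prime] (hp2 : p ≠ 2) (hpG : p ∣ Nat.card G) (h2G : 2 ∣ Nat.card G) (hC : ∀ g : G, g ≠ 1 → (∃ k : ℕ, orderOf g = p ^ k) → Odd (Nat.card ↥(Subgroup.centralizer ({g} : Set G)))) (r : ℕ) (hr : 1 ≤ r) (hΩ : Fintype.card Ω = p ^ r) : (∃ χ : Cfsg.IrrCharacter G, (Cfsg.charDegree (χ : G → ℂ)).factorization p = (Nat.card G).factorization p) ∨ (Cfsg.IsPSolvable p G ∧ ∃ χ : Cfsg.IrrCharacter G, (Cfsg.charDegree (χ : G → ℂ)).factorization 2 = (Nat.card G).factorization 2) := by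
  classical
  haveI := Fintype.ofFinite G
  haveI := htr
  by_cases hz : ∃ χ : Cfsg.IrrCharacter G,
      (Cfsg.charDegree (χ : G → ℂ)).factorization p = (Nat.card G).factorization p
  · exact Or.inl hz
  refine Or.inr ?_
  have hp := (Fact.out : p.Prime)
  have hH : CfsgLib.Blocks.InvolutionPairs.Hyp G Ω p r :=
    ⟨hp2, fun x hx hk => hC x hx hk, by rw [Nat.card_eq_fintype_card, hΩ], hpG, hz⟩
  obtain ⟨P, v, hv, hPab, hvP⟩ :=
    CfsgLib.Blocks.InvolutionPairs.exists_sylow_abelian_inverted hH h2G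
  have hab : ∀ Q : Sylow p G, IsMulCommutative ↥(Q : Subgroup G) := fun Q =>
    ⟨⟨fun a b => (Q.equiv P).injective (by rw [map_mul, map_mul]; exact hPab.is_comm.comm _ _)⟩⟩
  haveI hPn := CfsgLib.Blocks.InvolutionPairs.sylow_normal hab hH P hv hvP
  constructor
  · refine ⟨2, ![⊥, (P : Subgroup G), ⊤], rfl, rfl, ?_, ?_, ?_⟩
    · rw [Fin.monotone_iff_le_succ]
      intro i
      fin_cases i <;> simp
    · intro i
      fin_cases i <;> simp <;> infer_instance
    · intro i
      fin_cases i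
      · left
        simpa [Subgroup.relIndex_bot_left] using P.2.exists_card_eq
      · right
        simpa [Subgroup.relIndex_top_right] using (hp.coprime_iff_not_dvd.2 P.not_dvd_index).symm
  -- a character not trivial on `P`
  haveI := Fintype.ofFinite (Cfsg.IrrCharacter G)
  have hsum := CfsgLib.CharDegree.sum_sq_degree_of_not_le_ker (P : Subgroup G)
  have hidx : (P : Subgroup G).index < Nat.card G := by
    rw [← Subgroup.card_mul_index (P : Subgroup G)]
    refine lt_mul_left (Nat.pos_of_ne_zero Subgroup.index_ne_zero_of_finite) ?_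
    rw [P.card_eq_multiplicity]
    exact Nat.one_lt_pow (hp.factorization_pos_of_dvd Nat.card_pos.ne' hpG).ne' hp.one_lt
  obtain ⟨χ, hker⟩ : ∃ χ : Cfsg.IrrCharacter G,
      ∃ x ∈ (P : Subgroup G), (χ : G → ℂ) x ≠ (χ : G → ℂ) 1 := by
    by_contra hall
    push Not at hall
    simp only [fun χ : Cfsg.IrrCharacter G => show (∀ g ∈ (P : Subgroup G), (χ : G → ℂ) g = (χ : G → ℂ) 1) ↔ True from
      iff_true_intro (hall χ), not_true_eq_false, Finset.filter_false, Finset.sum_empty, zero_add] at hsum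
    exact hidx.ne hsum
  refine ⟨χ, ?_⟩
  obtain ⟨T⟩ := (inferInstance : Nonempty (Sylow 2 G))
  -- `χ` vanishes on the non-identity elements of `T`
  have hzero : ∀ t ∈ (T : Subgroup G), t ≠ 1 → (χ : G → ℂ) t = 0 := by
    intro t ht ht1
    obtain ⟨k, hk⟩ := IsPGroup.iff_orderOf.1 T.2 ⟨t, ht⟩
    rw [Subgroup.orderOf_mk] at hk
    have hk0 : k ≠ 0 := fun e => ht1 (orderOf_eq_one_iff.1 (by rw [hk, e, pow_zero]))
    have h2 : 2 ∣ orderOf t := hk ▸ dvd_pow_self 2 hk0
    have hfpf : ∀ z ∈ (P : Subgroup G), z * t = t * z → z = 1 := by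
      intro z hz hzt
      by_contra hz1
      obtain ⟨j, hj⟩ := IsPGroup.iff_orderOf.1 P.2 ⟨z, hz⟩
      rw [Subgroup.orderOf_mk] at hj
      exact (hC z hz1 ⟨j, hj⟩).not_two_dvd_nat (h2.trans
        (Subgroup.orderOf_dvd_natCard _ (Subgroup.mem_centralizer_singleton_iff.2 hzt.symm)))
    let f : ↥(P : Subgroup G) → ↥(P : Subgroup G) := fun y =>
      ⟨(y : G) * (t * (y : G)⁻¹ * t⁻¹), mul_mem y.2 (hPn.conj_mem _ (inv_mem y.2) t)⟩
    have hf : Function.Injective f := by
      rintro ⟨a, ha⟩ ⟨b, hb⟩ e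
      have e' : a * (t * a⁻¹ * t⁻¹) = b * (t * b⁻¹ * t⁻¹) := congrArg Subtype.val e
      refine Subtype.ext ?_
      change a = b
      have h1 : b⁻¹ * a * t = t * (b⁻¹ * a) := by
        calc b⁻¹ * a * t = b⁻¹ * (a * (t * a⁻¹ * t⁻¹)) * t * a := by group
          _ = b⁻¹ * (b * (t * b⁻¹ * t⁻¹)) * t * a := by rw [e']
          _ = t * (b⁻¹ * a) := by group
      exact (inv_mul_eq_one.1 (hfpf _ (mul_mem (inv_mem hb) ha) h1)).symm
    have hconst : ∀ n : ↥(P : Subgroup G), (χ : G → ℂ) ((n : G) * t) = (χ : G → ℂ) t := by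
      intro n
      obtain ⟨y, hy⟩ := (Finite.injective_iff_surjective.1 hf) n
      rw [← hy]
      change (χ : G → ℂ) ((y : G) * (t * (y : G)⁻¹ * t⁻¹) * t) = _
      rw [show (y : G) * (t * (y : G)⁻¹ * t⁻¹) * t = (y : G) * t * (y : G)⁻¹ by group]
      exact CfsgLib.Char.IsIrr.isClassFunction χ.2 _ _
    have h := CfsgLib.CharDegree.sum_coset_eq_zero χ (P : Subgroup G) hker t
    rw [Finset.sum_congr rfl fun n _ => hconst n, Finset.sum_const, nsmul_eq_mul,
      mul_eq_zero] at h
    exact h.resolve_left (Nat.cast_ne_zero.2 (Finset.card_ne_zero.2 Finset.univ_nonempty))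
  -- so the order of `T` divides the degree
  obtain ⟨n, ρ, hρ, hρχ, hn⟩ := CfsgLib.CharDegree.exists_rep χ
  haveI : Invertible (Nat.card ↥(T : Subgroup G) : ℂ) :=
    invertibleOfNonzero (Nat.cast_ne_zero.2 Nat.card_pos.ne')
  have hav := FDRep.average_char_eq_finrank_invariants (FDRep.of (ρ.comp (T : Subgroup G).subtype))
  rw [inv_mul_eq_iff_eq_mul₀ (Nat.cast_ne_zero.2 Nat.card_pos.ne')] at hav
  have hone : ∑ x : ↥(T : Subgroup G), ρ.character (x : G) = (Cfsg.charDegree (χ : G → ℂ) : ℂ) := by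
    rw [Fintype.sum_eq_single (1 : ↥(T : Subgroup G)) fun x hx => by
      rw [hρχ]; exact hzero _ x.2 fun e => hx (Subtype.ext e)]
    rw [Subgroup.coe_one, hρχ, CfsgLib.CharDegree.cast_irrDegree]
  have hdvd : Nat.card ↥(T : Subgroup G) ∣ Cfsg.charDegree (χ : G → ℂ) := by
    have h := hone.symm.trans hav
    exact ⟨_, by exact_mod_cast h⟩
  rw [T.card_eq_multiplicity] at hdvd
  have hd0 := (CfsgLib.CharDegree.charDegree_pos χ).ne'
  exact le_antisymm ((Nat.factorization_le_iff_dvd hd0 Nat.card_pos.ne').2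
    (CfsgLib.CharDegree.charDegree_dvd_card χ) 2)
    ((Nat.prime_two.pow_dvd_iff_le_factorization hd0).1 hdvd)

end Cfsg.Agent.S4745
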