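import Cfsg.Statements.S4746
import Cfsg.Agent.Lib.CharDegree.Divisibility

set_option autoImplicit false
open Cfsg CfsgLib.Char CfsgLib.CharDegree
open scoped ComplexConjugate

namespace Cfsg.Agent.S4746

/-- Let p be an odd prime and G a finite group of even order divisible by p in which the centralizer of every non-identity p-element has odd order. Then G has an irreducible character of p-defect zero or an irreducible character of even degree. -/
theorem result {G : Type*} [Group G] [Finite G] (p : ℕ) [Fact p.Prime] (hp2 : p ≠ 2) (hpG : p ∣ Nat.card G) (h2G : 2 ∣ Nat.card G) (hC : ∀ g : G, g ≠ 1 → (∃ k : ℕ, orderOf g = p ^ k) → Odd (Nat.card ↥(Subgroup.centralizer ({g} : Set G)))) : (∃ χ : Cfsg.IrrCharacter G, (Cfsg.charDegree (χ : G → ℂ)).factorization p = (Nat.card G).factorization p) ∨ ∃ χ : Cfsg.IrrCharacter G, Even (Cfsg.charDegree (χ : G → ℂ)) := by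
  classical
  have := Fintype.ofFinite G
  have := Fintype.ofFinite (Cfsg.IrrCharacter G)
  have hp := Fact.out (p := p.Prime)
  by_contra hne
  push Not at hne
  obtain ⟨hnd, hodd⟩ := hne
  obtain ⟨x, hx⟩ := exists_prime_orderOf_dvd_card' (G := G) 2 h2G
  have hx1 : x ≠ 1 := fun h => by simp [h] at hx
  have hx2 : x * x = 1 := by rw [← sq, ← hx]; exact pow_orderOf_eq_one x
  have hxi : x⁻¹ = x := inv_eq_of_mul_eq_one_right hx2
  have hxC : ¬ p ∣ Nat.card (Subgroup.centralizer ({x} : Set G)) := by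
    intro hd
    obtain ⟨g, hg⟩ := exists_prime_orderOf_dvd_card' p hd
    have hgne : (g : G) ≠ 1 := fun h => by
      rw [← Subgroup.orderOf_coe, h, orderOf_one] at hg
      exact hp.one_lt.ne hg
    have ho := hC g hgne ⟨1, by rw [pow_one, Subgroup.orderOf_coe, hg]⟩
    refine Nat.not_even_iff_odd.mpr ho (even_iff_two_dvd.mpr ?_)
    rw [← hx]
    exact Subgroup.orderOf_dvd_natCard _ (Subgroup.mem_centralizer_singleton_iff.mpr
      (Subgroup.mem_centralizer_singleton_iff.mp g.2).symm)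
  -- a `p`-element inverted by a conjugate of `x`
  obtain ⟨a, b, z, hz1, hzp, habz⟩ : ∃ a b z : G, z ≠ 1 ∧ (∃ k : ℕ, orderOf z = p ^ k) ∧
      a * x * a⁻¹ * (b * x⁻¹ * b⁻¹ * z) = 1 := by
    by_contra h
    push Not at h
    obtain ⟨χ, hχ⟩ := exists_defectZero x hxC fun a b z hz ⟨k, hk⟩ => h a b z hz ⟨k, hk⟩
    exact hnd χ hχ
  have hzinv : IsConj z z⁻¹ := by
    refine isConj_iff.mpr ⟨a * x * a⁻¹, ?_⟩
    rw [hxi] at habz
    set s := a * x * a⁻¹
    set t := b * x * b⁻¹
    have hs : s⁻¹ = s := by simp [s, mul_inv_rev, hxi, mul_assoc]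
    have ht : t⁻¹ = t := by simp [t, mul_inv_rev, hxi, mul_assoc]
    have hzst : z = t * s := by
      calc z = t⁻¹ * s⁻¹ * (s * (t * z)) := by group
        _ = _ := by rw [habz, mul_one, hs, ht]
    have hss : s * s = 1 := by nth_rewrite 2 [← hs]; exact mul_inv_cancel s
    show s * z * s⁻¹ = z⁻¹
    rw [hzst, hs, mul_inv_rev t s, hs, ht, mul_assoc, mul_assoc t s s, hss, mul_one]
  have hxz : ¬ IsConj x z := by
    intro h
    obtain ⟨k, hk⟩ := hzp
    have h2 : orderOf x = orderOf z := by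
      obtain ⟨c, rfl⟩ := isConj_iff.mp h
      exact (MulEquiv.orderOf_eq (MulAut.conj c) x).symm
    rw [hx, hk] at h2
    rcases Nat.eq_zero_or_pos k with h0 | h0
    · simp [h0] at h2
    · exact hp2 ((Nat.prime_dvd_prime_iff_eq hp Nat.prime_two).mp (h2 ▸ dvd_pow_self p h0.ne'))
  -- odd integral values at the involution
  have hval : ∀ χ : Cfsg.IrrCharacter G, ∃ n : ℤ, (χ : G → ℂ) x = 1 + 2 * (n : ℂ) := by
    intro χ
    have := Fintype.ofFinite (Subgroup.zpowers x)
    obtain ⟨m, hm⟩ := IsChar.classInner_eq_natCast (G := Subgroup.zpowers x)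
      (IsChar.restrict _ (IsIrr.isCharacter χ.2)) isCharacter_one
    have h2 : Nat.card (Subgroup.zpowers x) = 2 := by rw [Nat.card_zpowers, hx]
    have huniv : (Finset.univ : Finset (Subgroup.zpowers x)) =
        {1, ⟨x, Subgroup.mem_zpowers x⟩} := by
      refine (Finset.eq_of_subset_of_card_le (Finset.subset_univ _) ?_).symm
      rw [Finset.card_pair (fun h => hx1 (congrArg Subtype.val h).symm), Finset.card_univ,
        ← Nat.card_eq_fintype_card, h2]
    rw [Cfsg.classInner, h2, huniv,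
      Finset.sum_pair (fun h => hx1 (congrArg Subtype.val h).symm)] at hm
    simp only [OneMemClass.coe_one, map_one, mul_one] at hm
    obtain ⟨r, hr⟩ := Nat.not_even_iff_odd.mp (hodd χ)
    refine ⟨(m : ℤ) - r - 1, ?_⟩
    rw [← cast_irrDegree, hr] at hm
    push_cast at hm ⊢
    linear_combination 2 * hm
  choose n hn using hval
  have hz0 := column_orthogonality x z
  rw [if_neg hxz] at hz0
  simp only [hn, add_mul, one_mul, Finset.sum_add_distrib, mul_assoc, ← Finset.mul_sum] at hz0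
  have hzz := column_orthogonality z z
  rw [if_pos (IsConj.refl z)] at hzz
  have hreal : ∀ χ : Cfsg.IrrCharacter G, conj ((χ : G → ℂ) z) = (χ : G → ℂ) z := fun χ => by
    rw [← IsIrr.map_inv χ.2, ← apply_eq_of_isConj χ hzinv]
  simp only [hreal] at hz0 hzz
  set C := Nat.card (Subgroup.centralizer ({z} : Set G))
  have hint : ∀ χ : Cfsg.IrrCharacter G, IsIntegral ℤ ((χ : G → ℂ) z) :=
    fun χ => IsChar.isIntegral (IsIrr.isCharacter χ.2) _
  -- the square of a sum is congruent to the sum of the squares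
  have hsq : ∀ s : Finset (Cfsg.IrrCharacter G), ∃ w : ℂ, IsIntegral ℤ w ∧
      (∑ χ ∈ s, (χ : G → ℂ) z) ^ 2 = ∑ χ ∈ s, (χ : G → ℂ) z * (χ : G → ℂ) z + 2 * w := by
    intro s
    induction s using Finset.induction with
    | empty => exact ⟨0, isIntegral_zero, by simp⟩
    | insert χ s hχ ih =>
      obtain ⟨w, hw, hws⟩ := ih
      refine ⟨w + (χ : G → ℂ) z * ∑ ψ ∈ s, (ψ : G → ℂ) z,
        hw.add ((hint χ).mul (IsIntegral.sum _ fun ψ _ => hint ψ)), ?_⟩
      rw [Finset.sum_insert hχ, Finset.sum_insert hχ]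
      linear_combination hws
  obtain ⟨w, hw, hws⟩ := hsq Finset.univ
  rw [hzz] at hws
  set A := ∑ χ : Cfsg.IrrCharacter G, (n χ : ℂ) * (χ : G → ℂ) z
  have hA : IsIntegral ℤ A :=
    IsIntegral.sum _ fun χ _ => (isIntegral_algebraMap (R := ℤ) (x := n χ)).mul (hint χ)
  have hC2 : 2 ∣ C := by
    refine CfsgLib.CharIntegral.dvd_of_isIntegral_div two_ne_zero ?_
    rw [show (C : ℂ) / ((2 : ℕ) : ℂ) =
        (algebraMap ℤ ℂ 2) * (A * A) - w by
      rw [show (C : ℂ) = (∑ χ : Cfsg.IrrCharacter G, (χ : G → ℂ) z) ^ 2 - 2 * w by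
        linear_combination -hws]
      rw [show (∑ χ : Cfsg.IrrCharacter G, (χ : G → ℂ) z) = -(2 * A) by linear_combination hz0]
      simp only [map_ofNat, Nat.cast_ofNat]
      ring]
    exact (isIntegral_algebraMap.mul (hA.mul hA)).sub hw
  exact Nat.not_even_iff_odd.mpr (hC z hz1 hzp) (even_iff_two_dvd.mpr hC2)

end Cfsg.Agent.S4746
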