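import Cfsg.Statements.S4748
import Cfsg.Agent.Lib.CharAction.Semiregular
import Cfsg.Agent.Lib.PLocal.PSolvable
import Cfsg.Agent.Lib.Char.Integral

set_option autoImplicit false
open scoped Pointwise
open Cfsg

namespace Cfsg.Agent.S4748

open Subgroup in
/-- If `O_p(G) = 1` for a `p`-solvable group, no nontrivial `p`-subgroup centralizes `O_p'(G)`. -/
theorem not_le_centralizer {G : Type*} [Group G] [Finite G] {p : ℕ} [Fact p.Prime]
    (hsol : Cfsg.IsPSolvable p G) (hO : Cfsg.pCore p G = ⊥) {P : Subgroup G} (hP : IsPGroup p P)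
    (hP1 : P ≠ ⊥) : ¬ P ≤ centralizer (Cfsg.pPrimeCore p G : Set G) := by
  intro hle
  have hp : p.Prime := Fact.out
  obtain ⟨n, H, h0, hn, hmono, hnorm, hfac⟩ := hsol
  set K := Cfsg.pPrimeCore p G with hK
  set C := centralizer (K : Set G) with hC
  set Z := C ⊓ K with hZ
  have hZc : (Nat.card Z).Coprime p :=
    (CfsgLib.Core.coprime_card_pPrimeCore p G).coprime_dvd_left (card_dvd_of_le inf_le_right)
  have key : ∀ i : Fin (n + 1), H i ⊓ C ≤ Z := by
    intro i
    induction i using Fin.induction with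
    | zero => rw [h0]; simp
    | succ i ih =>
      have := hnorm i.succ
      have := hnorm i.castSucc
      set M := (H i.succ ⊓ C) ⊔ Z with hM
      have hMC : M ≤ C := sup_le inf_le_right inf_le_left
      have hdvd : Z.relIndex M ∣ (H i.castSucc).relIndex (H i.succ) := by
        rw [hM, relIndex_sup_right]
        refine (relIndex_dvd_of_le_left _ ih).trans ?_
        have : (H i.castSucc ⊓ C).relIndex (H i.succ ⊓ C)
            = (H i.castSucc).relIndex (H i.succ ⊓ C) := by
          rw [← inf_relIndex_right (H i.castSucc), ← inf_assoc,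
            inf_eq_left.2 (hmono (Fin.castSucc_le_succ i))]
        rw [this]
        exact CfsgLib.PLocal.relIndex_dvd_of_normal_le _ inf_le_left
      have hcard : Nat.card M = Nat.card Z * Z.relIndex M := by
        rw [← relIndex_bot_left M, ← relIndex_mul_relIndex ⊥ Z M bot_le le_sup_right,
          relIndex_bot_left]
      suffices hMZ : M ≤ Z from le_sup_left.trans hMZ
      rcases CfsgLib.PLocal.factor_of_dvd Fact.out hdvd (hfac i) with ⟨m, hm⟩ | hcop
      · obtain ⟨S⟩ : Nonempty (Sylow p M) := inferInstance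
        have hS : Nat.card S = p ^ m := by
          rw [S.card_eq_multiplicity, hcard, hm,
            Nat.factorization_mul Nat.card_pos.ne' (pow_ne_zero _ hp.ne_zero), Finsupp.add_apply,
            Nat.factorization_eq_zero_of_not_dvd (hp.coprime_iff_not_dvd.mp hZc.symm),
            hp.factorization_pow, Finsupp.single_eq_same, zero_add]
        have hSn : (S : Subgroup M).Normal := by
          rw [← normalizer_eq_top_iff]
          refine eq_top_of_card_eq _ (Nat.dvd_antisymm (card_subgroup_dvd_card _) ?_)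
          rw [hcard, hm]
          refine (hZc.pow_right m).mul_dvd_of_dvd_of_dvd ?_ ?_
          · rw [← Nat.card_congr (subgroupOfEquivOfLe (le_sup_right : Z ≤ M)).toEquiv]
            refine card_dvd_of_le fun z hz => centralizer_le_normalizer _ ?_
            exact mem_centralizer_iff.mpr fun a _ =>
              Subtype.ext (mem_centralizer_iff.mp (hMC a.2) _ hz.2).symm
          · exact hS ▸ card_dvd_of_le le_normalizer
        have hS1 : (S : Subgroup M) = ⊥ := by
          refine (map_eq_bot_iff_of_injective _ M.subtype_injective).mp (eq_bot_iff.mpr ?_)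
          rw [← hO]
          exact (map_mono (CfsgLib.Core.le_pCore S.2)).trans
            (CfsgLib.Core.map_subtype_pCore_le M)
        have h1 : Z.relIndex M = 1 := by
          rw [hm, ← hS, hS1, card_bot]
        exact relIndex_eq_one.mp h1
      · refine le_inf hMC (CfsgLib.Core.le_pPrimeCore ?_)
        rw [hcard]
        exact hZc.mul_left hcop
  have h1 := key (Fin.last n)
  rw [hn, top_inf_eq] at h1
  refine hP1 (card_eq_one.mp ?_)
  obtain ⟨k, hk⟩ := IsPGroup.iff_card.mp hP
  exact Nat.eq_one_of_dvd_coprimes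
    ((hk ▸ (CfsgLib.Core.coprime_card_pPrimeCore p G).pow_right k : (Nat.card K).Coprime _))
    (card_dvd_of_le ((hle.trans h1).trans inf_le_right)) dvd_rfl

open CfsgLib.Char in
theorem classInner_conj {G : Type*} [Group G] (K : Subgroup G) [K.Normal] [Fintype K]
    {f : G → ℂ} (hf : Cfsg.IsClassFunction G f) (g : G) (θ : Cfsg.IrrCharacter K) :
    Cfsg.classInner (fun n : K => f n) (CfsgLib.Blocks.conjIrr K g θ : K → ℂ) =
      Cfsg.classInner (fun n : K => f n) (θ : K → ℂ) := by
  simp only [Cfsg.classInner]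
  congr 1
  refine Fintype.sum_equiv (MulAut.conjNormal g).toEquiv _ _ fun n => ?_
  simp only [MulEquiv.toEquiv_eq_coe, MulEquiv.coe_toEquiv, CfsgLib.Blocks.conjIrr,
    CfsgLib.Blocks.pullEquiv_apply, MulAut.conjNormal_apply]
  rw [hf (n : G) g]

/-- Let G be a finite p-solvable group whose Sylow p-subgroup P meets each conjugate g P g⁻¹ with g outside N_G(P) trivially, and let χ be a faithful character of G (χ g = χ 1 only for g = 1) whose degree d satisfies d² ≤ |P|. Then P is normal in G. -/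
theorem result {G : Type*} [Group G] [Finite G] (p : ℕ) [Fact p.Prime] (hsolv : Cfsg.IsPSolvable p G) (P : Sylow p G) (hTI : ∀ g : G, g ∉ Subgroup.normalizer ((P : Subgroup G) : Set G) → (P : Subgroup G) ⊓ (MulAut.conj g • (P : Subgroup G)) = ⊥) (χ : G → ℂ) (hχ : Cfsg.IsCharacter G χ) (hfaith : ∀ g : G, χ g = χ 1 → g = 1) (hdeg : Cfsg.charDegree χ ^ 2 ≤ Nat.card ↥(P : Subgroup G)) : (P : Subgroup G).Normal := by
  classical
  have hp : p.Prime := Fact.out
  rcases eq_or_ne (P : Subgroup G) ⊥ with h1 | hP1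
  · rw [h1]; infer_instance
  by_cases hO : Cfsg.pCore p G = ⊥
  swap
  · refine Subgroup.normalizer_eq_top_iff.mp (eq_top_iff.mpr fun g _ => by_contra fun hg => hO ?_)
    rw [eq_bot_iff, ← hTI g hg]
    refine le_inf (CfsgLib.Core.pCore_le_sylow P) ?_
    intro z hz
    rw [Subgroup.mem_pointwise_smul_iff_inv_smul_mem]
    refine CfsgLib.Core.pCore_le_sylow P ?_
    simpa using (CfsgLib.Core.normal_pCore p G).conj_mem z hz g⁻¹
  exfalso
  set K := Cfsg.pPrimeCore p G with hKdef
  have hKn : K.Normal := CfsgLib.Core.normal_pPrimeCore p G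
  have hK : ¬ p ∣ Nat.card K :=
    hp.coprime_iff_not_dvd.mp (CfsgLib.Core.coprime_card_pPrimeCore p G).symm
  have hinf : K ⊓ (P : Subgroup G) = ⊥ := by
    obtain ⟨k, hk⟩ := IsPGroup.iff_card.mp P.2
    rw [← Subgroup.card_eq_one]
    exact Nat.eq_one_of_dvd_coprimes
      (hk ▸ ((CfsgLib.Core.coprime_card_pPrimeCore p G).pow_right k))
      (Subgroup.card_dvd_of_le inf_le_left) (Subgroup.card_dvd_of_le inf_le_right)
  have hs : ∀ x ∈ (P : Subgroup G), x ≠ 1 → ∀ k ∈ K, k * x = x * k →
      k ∈ Subgroup.centralizer ((P : Subgroup G) : Set G) := by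
    intro x hx hx1 k hk hkx
    have hkN : k ∈ Subgroup.normalizer ((P : Subgroup G) : Set G) := by
      by_contra hkn
      refine hx1 (Subgroup.mem_bot.mp (hTI k hkn ▸ Subgroup.mem_inf.mpr ⟨hx, ?_⟩))
      rw [Subgroup.mem_pointwise_smul_iff_inv_smul_mem]
      have : (MulAut.conj k)⁻¹ • x = x := by
        show (MulAut.conj k)⁻¹ x = x
        rw [MulAut.conj_inv_apply, mul_assoc, ← hkx, inv_mul_cancel_left]
      rwa [this]
    refine Subgroup.mem_centralizer_iff.mpr fun y hy => ?_
    have h : k * y * k⁻¹ * y⁻¹ ∈ K ⊓ (P : Subgroup G) := by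
      refine ⟨?_, (P : Subgroup G).mul_mem ((Subgroup.mem_normalizer_iff.mp hkN y).mp hy) ((P : Subgroup G).inv_mem hy)⟩
      rw [show k * y * k⁻¹ * y⁻¹ = k * (y * k⁻¹ * y⁻¹) by group]
      exact mul_mem hk (hKn.conj_mem _ (inv_mem hk) y)
    rw [hinf, Subgroup.mem_bot, mul_inv_eq_one, mul_inv_eq_iff_eq_mul] at h
    exact h.symm
  obtain ⟨x₀, hx₀, hx₀'⟩ := SetLike.not_le_iff_exists.mp (not_le_centralizer hsolv hO P.2 hP1)
  obtain ⟨k₀, hk₀, hne0⟩ : ∃ k₀ ∈ K, x₀ * k₀ * x₀⁻¹ * k₀⁻¹ ≠ 1 := by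
    by_contra! h
    refine hx₀' (Subgroup.mem_centralizer_iff.mpr fun k hk => ?_)
    have := h k hk
    rw [mul_inv_eq_one, mul_inv_eq_iff_eq_mul] at this
    exact this.symm
  have hz : x₀ * k₀ * x₀⁻¹ * k₀⁻¹ ∈ K :=
    mul_mem (hKn.conj_mem _ hk₀ x₀) (inv_mem hk₀)
  have := Fintype.ofFinite G
  have := Fintype.ofFinite K
  have := Fintype.ofFinite (Cfsg.IrrCharacter K)
  have hf : Cfsg.IsClassFunction G χ := CfsgLib.Char.IsChar.isClassFunction hχ
  have hres : Cfsg.IsCharacter K (fun n : K => χ n) := CfsgLib.Char.IsChar.comp K.subtype hχ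
  choose a ha using fun θ : Cfsg.IrrCharacter K =>
    CfsgLib.Char.IsChar.classInner_eq_natCast hres (CfsgLib.Char.IsIrr.isCharacter θ.2)
  have hdec : ∀ n : K, χ n = ∑ θ : Cfsg.IrrCharacter K, (a θ : ℂ) * (θ : K → ℂ) n := fun n => by
    simp only [← ha]
    exact CfsgLib.Char.classFunction_apply_eq_sum (CfsgLib.Char.IsChar.isClassFunction hres) n
  obtain ⟨θ, hθa, hθne⟩ : ∃ θ : Cfsg.IrrCharacter K, a θ ≠ 0 ∧
      (θ : K → ℂ) ⟨_, hz⟩ ≠ (θ : K → ℂ) 1 := by
    by_contra! h
    refine hne0 (hfaith _ ?_)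
    have e1 := hdec ⟨_, hz⟩
    have e2 := hdec 1
    rw [OneMemClass.coe_one] at e2
    refine (e1.trans ?_).trans e2.symm
    refine Finset.sum_congr rfl fun η _ => ?_
    by_cases hη : a η = 0
    · simp [hη]
    · rw [h η hη]
  obtain ⟨D, hD⟩ : ∃ D : ℕ, χ 1 = D := by
    obtain ⟨m, ρ, rfl⟩ := hχ
    exact ⟨_, Representation.char_one ρ⟩
  rw [CfsgLib.CharAction.charDegree_eq_of_apply_one hD] at hdeg
  choose dg hdg hdgpos _ using fun η : Cfsg.IrrCharacter K => CfsgLib.CharAction.degree_dvd_card η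
  have hDsum : D = ∑ η, a η * dg η := by
    have e2 := hdec 1
    rw [OneMemClass.coe_one, hD] at e2
    simp only [hdg] at e2
    exact_mod_cast e2
  rcases CfsgLib.Semiregular.le_inertia_or_inf_eq_bot P.2 hK hs θ with hinv | htriv
  · have h := CfsgLib.Semiregular.card_lt_degree_sq P.2 hK hs θ hinv hx₀ hk₀ hz hθne
    rw [CfsgLib.CharAction.charDegree_eq_of_apply_one (hdg θ)] at h
    have hle : dg θ ≤ D := hDsum ▸ le_trans
      (Nat.le_mul_of_pos_left _ (Nat.pos_of_ne_zero hθa))
      (Finset.single_le_sum (fun η _ => Nat.zero_le (a η * dg η)) (Finset.mem_univ θ))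
    exact absurd hdeg (not_le.mpr (h.trans_le (Nat.pow_le_pow_left hle 2)))
  · let F : ↥(P : Subgroup G) → Cfsg.IrrCharacter K := fun y => CfsgLib.Blocks.conjIrr K (y : G) θ
    have hF : Function.Injective F := fun y y' h => by
      have hmem : (y : G) * (y' : G)⁻¹ ∈
          CfsgLib.Clifford.inertia hKn (θ : K → ℂ) ⊓ (P : Subgroup G) := by
        refine ⟨CfsgLib.Clifford.mem_inertia.mpr (funext fun n => ?_),
          (P : Subgroup G).mul_mem y.2 ((P : Subgroup G).inv_mem y'.2)⟩
        have h2 := congrFun (congrArg Subtype.val h)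
          ⟨(y' : G)⁻¹ * n * ((y' : G)⁻¹)⁻¹, hKn.conj_mem _ n.2 _⟩
        simp only [F, CfsgLib.Blocks.conjIrr_apply] at h2
        rw [CfsgLib.Clifford.conjFn_apply]
        refine Eq.trans (congrArg _ (Subtype.ext ?_)) (h2.trans (congrArg _ (Subtype.ext ?_)))
        · show (y : G) * (y' : G)⁻¹ * (n : G) * ((y : G) * (y' : G)⁻¹)⁻¹ =
            (y : G) * ((y' : G)⁻¹ * (n : G) * ((y' : G)⁻¹)⁻¹) * (y : G)⁻¹
          group
        · show (y' : G) * ((y' : G)⁻¹ * (n : G) * ((y' : G)⁻¹)⁻¹) * (y' : G)⁻¹ = (n : G)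
          group
      rw [htriv, Subgroup.mem_bot, mul_inv_eq_one] at hmem
      exact Subtype.ext hmem
    have haF : ∀ y, a (F y) = a θ := fun y => by
      have := classInner_conj K hf (y : G) θ
      rw [ha, ha] at this
      exact_mod_cast this
    have := Fintype.ofFinite (P : Subgroup G)
    have hcard : Nat.card (P : Subgroup G) ≤ D := by
      rw [hDsum, Nat.card_eq_fintype_card]
      calc Fintype.card (P : Subgroup G) = ∑ _η ∈ Finset.univ.image F, 1 := by
            rw [Finset.sum_const, smul_eq_mul, mul_one, Finset.card_image_of_injective _ hF,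
              Finset.card_univ]
        _ ≤ ∑ η ∈ Finset.univ.image F, a η * dg η := Finset.sum_le_sum fun η hη => by
            obtain ⟨y, -, rfl⟩ := Finset.mem_image.mp hη
            rw [haF]
            exact Nat.mul_pos (Nat.pos_of_ne_zero hθa) (hdgpos _)
        _ ≤ _ := Finset.sum_le_univ_sum_of_nonneg fun η => Nat.zero_le _
    have hone : 1 < Nat.card (P : Subgroup G) := Subgroup.one_lt_card_iff_ne_bot _ |>.mpr hP1
    have : D ^ 2 ≤ D := hdeg.trans hcard
    have h3 : D ≤ 1 := by nlinarith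
    omega

end Cfsg.Agent.S4748
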