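import Cfsg.Statements.S4750
import Cfsg.Agent.Lib.CharDegree.IntegralForm
import Cfsg.Agent.Lib.Blocks.BrauerMap
import Cfsg.Agent.Lib.Char.Rep
import Mathlib.GroupTheory.Sylow
import Mathlib.GroupTheory.GroupAction.Quotient
import Mathlib.RepresentationTheory.Invariants
import Mathlib.Data.Matrix.Basis

set_option autoImplicit false
open scoped Pointwise
open Cfsg

namespace Cfsg.Agent.S4750

open Matrix Module

/-- The group-sum of the conjugates of a matrix vanishes for a large enough `p`-group in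
characteristic `p`. -/
theorem sum_conj_eq_zero {p : ℕ} [Fact p.Prime] {k : Type*} [Field k] [CharP k p] {U : Type*}
    [Group U] [Fintype U] (hU : IsPGroup p U) (hne : 1 < Fintype.card U) {n : ℕ}
    (S : U →* Matrix (Fin n) (Fin n) k) (hn : n ^ 2 ≤ Fintype.card U)
    (B : Matrix (Fin n) (Fin n) k) : ∑ u, S u * B * S u⁻¹ = 0 := by
  classical
  by_contra h0
  let L : (U → k) →ₗ[k] Matrix (Fin n) (Fin n) k :=
    Fintype.linearCombination k (fun u => S u * B * S u⁻¹)
  have hL : ∀ c, L c = ∑ u, c u • (S u * B * S u⁻¹) :=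
    fun c => Fintype.linearCombination_apply k _ c
  have htr : ∀ (a : U) (c : U → k), L (fun x => c (a⁻¹ * x)) = S a * L c * S a⁻¹ := by
    intro a c
    rw [hL, hL, Matrix.mul_sum, Matrix.sum_mul]
    refine (Fintype.sum_equiv (Equiv.mulLeft a) _ _ fun x => ?_).symm
    simp [mul_assoc, map_mul, _root_.mul_inv_rev]
  let τ : Representation k U (LinearMap.ker L) :=
    { toFun := fun a =>
        (LinearMap.funLeft k k (fun x : U => a⁻¹ * x)).restrict
          (p := LinearMap.ker L) (q := LinearMap.ker L) fun c hc => by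
            rw [LinearMap.mem_ker] at hc ⊢
            show L (fun x => c (a⁻¹ * x)) = 0
            rw [htr, hc, Matrix.mul_zero, Matrix.zero_mul]
      map_one' := by
        refine LinearMap.ext fun c => Subtype.ext (funext fun x => ?_)
        show (c : U → k) (1⁻¹ * x) = (c : U → k) x
        rw [inv_one, one_mul]
      map_mul' := fun a b => by
        refine LinearMap.ext fun c => Subtype.ext (funext fun x => ?_)
        show (c : U → k) ((a * b)⁻¹ * x) = (c : U → k) (b⁻¹ * (a⁻¹ * x))
        rw [_root_.mul_inv_rev, mul_assoc] }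
  have hinj : Function.Injective L := by
    rw [← LinearMap.ker_eq_bot]
    by_contra hker
    obtain ⟨v, hv⟩ : ∃ v : LinearMap.ker L, v ≠ 0 := by
      obtain ⟨v, hv, hv0⟩ := Submodule.exists_mem_ne_zero_of_ne_bot hker
      exact ⟨⟨v, hv⟩, fun h => hv0 (congrArg Subtype.val h)⟩
    obtain ⟨w, hw, hfix⟩ := CfsgLib.Blocks.exists_fixed_ne_zero (p := p) hU τ hv
    have hconst : ∀ x, (w : U → k) x = (w : U → k) 1 := fun x => by
      have : (w : U → k) (x⁻¹ * x) = (w : U → k) x :=
        congrFun (congrArg Subtype.val (hfix x)) x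
      rw [inv_mul_cancel] at this
      exact this.symm
    have hw1 : (w : U → k) 1 ≠ 0 := fun h => hw (Subtype.ext (funext fun x => by
      rw [hconst x, h]; rfl))
    refine h0 ((smul_eq_zero.mp ?_).resolve_left hw1)
    rw [Finset.smul_sum]
    have := LinearMap.mem_ker.mp w.2
    rw [hL] at this
    rw [← this]
    exact Finset.sum_congr rfl fun u _ => by rw [hconst u]
  have hsurj : Function.Surjective L := by
    have h1 : finrank k (Matrix (Fin n) (Fin n) k) = n ^ 2 := by
      rw [Module.finrank_matrix]; simp [sq]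
    have h2 : finrank k (U → k) = Fintype.card U := finrank_pi k
    exact (LinearMap.injective_iff_surjective_of_finrank_eq_finrank (by
      have := LinearMap.finrank_le_finrank_of_injective hinj
      omega)).mp hinj
  have hscal : ∀ X : Matrix (Fin n) (Fin n) k, (∀ a, S a * X * S a⁻¹ = X) →
      ∃ b : k, X = b • ∑ u, S u * B * S u⁻¹ := by
    intro X hX
    obtain ⟨c, rfl⟩ := hsurj X
    refine ⟨c 1, ?_⟩
    rw [Finset.smul_sum, hL]
    refine Finset.sum_congr rfl fun u _ => ?_
    have h := congrFun (hinj ((htr u c).trans (hX u))) u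
    simp only [inv_mul_cancel] at h
    rw [← h]
  obtain ⟨a, ha⟩ := hscal 1 fun u => by
    rw [Matrix.mul_one, ← map_mul, mul_inv_cancel, map_one]
  have hn1 : 1 < n := by
    by_contra hn1
    have h1 : finrank k (Matrix (Fin n) (Fin n) k) = n ^ 2 := by
      rw [Module.finrank_matrix]; simp [sq]
    have h2 : finrank k (U → k) = Fintype.card U := finrank_pi k
    have h3 := LinearMap.finrank_le_finrank_of_injective hinj
    interval_cases n <;> omega
  have hne' : ∃ i : Fin n, (Pi.single i 1 : Fin n → k) ≠ 0 :=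
    ⟨⟨0, by omega⟩, by simp⟩
  obtain ⟨i, hi⟩ := hne'
  let ρ₁ : Representation k U (Fin n → k) :=
    { toFun := fun u => Matrix.mulVecLin (S u)
      map_one' := by simp; rfl
      map_mul' := fun u v => by simp [Matrix.mulVecLin_mul]; rfl }
  let ρ₂ : Representation k U (Fin n → k) :=
    { toFun := fun u => Matrix.mulVecLin (S u⁻¹)ᵀ
      map_one' := by simp; rfl
      map_mul' := fun u v => by simp [Matrix.mulVecLin_mul, Matrix.transpose_mul]; rfl }
  obtain ⟨v, hv, hvf⟩ := CfsgLib.Blocks.exists_fixed_ne_zero (p := p) hU ρ₁ hi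
  obtain ⟨w, hw, hwf⟩ := CfsgLib.Blocks.exists_fixed_ne_zero (p := p) hU ρ₂ hi
  obtain ⟨b, hb⟩ := hscal (Matrix.vecMulVec v w) fun u => by
    have e1 : S u *ᵥ v = v := hvf u
    have e2 : w ᵥ* S u⁻¹ = w := (Matrix.mulVec_transpose _ _).symm.trans (hwf u)
    rw [Matrix.mul_vecMulVec, e1, Matrix.vecMulVec_mul, e2]
  have ha0 : a ≠ 0 := fun h => by
    rw [h, zero_smul] at ha
    exact absurd (congrFun (congrFun ha ⟨0, by omega⟩) ⟨0, by omega⟩) (by simp)
  have hvw : ∀ x y, v x * w y = (b / a) • (1 : Matrix (Fin n) (Fin n) k) x y := by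
    intro x y
    have : Matrix.vecMulVec v w = (b / a) • (1 : Matrix (Fin n) (Fin n) k) := by
      rw [ha, smul_smul, div_mul_cancel₀ b ha0, ← hb]
    exact (congrFun (congrFun this x) y).trans rfl
  obtain ⟨x, hx⟩ := Function.ne_iff.mp hv
  obtain ⟨y, hy⟩ := Function.ne_iff.mp hw
  simp only [Pi.zero_apply] at hx hy
  have := Fintype.one_lt_card_iff_nontrivial.mp (show 1 < Fintype.card (Fin n) by simpa using hn1)
  obtain ⟨z, hz⟩ := exists_ne x
  by_cases hxy : x = y
  · subst hxy
    have h1 := hvw x x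
    have h2 := hvw z z
    have h3 := hvw x z
    simp [hz.symm] at h3
    rw [Matrix.one_apply_eq] at h1 h2
    rcases h3 with h3 | h3
    · exact hx h3
    · rw [h3, mul_zero, ← h1] at h2
      exact mul_ne_zero hx hy h2.symm
  · have h3 := hvw x y
    simp [hxy] at h3
    rcases h3 with h3 | h3
    · exact hx h3
    · exact hy h3

/-- The transfer map on matrices commuting with `H`. -/
theorem finrank_invariants_eq {G : Type*} [Group G] [Fintype G] {p : ℕ} [Fact p.Prime]
    (P : Sylow p G) (H : Subgroup G)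
    (hfree : ∀ g : G, g ∉ H → ∀ u ∈ (P : Subgroup G), g⁻¹ * u * g ∈ H → u = 1)
    (hPH : (P : Subgroup G) ≤ H) (h1 : (P : Subgroup G) = ⊥ → H = ⊤) {n : ℕ}
    (hn : n ^ 2 ≤ Nat.card (P : Subgroup G))
    (O : ValuationSubring ℂ) (hO : (p : ℂ) ∈ O.nonunits) (R : G →* Matrix (Fin n) (Fin n) O)
    (π : Representation ℂ G (Matrix (Fin n) (Fin n) ℂ))
    (hπ : ∀ g X, π g X = (R g).map Subtype.val * X * (R g⁻¹).map Subtype.val) :
    finrank ℂ (Representation.invariants (π.comp H.subtype)) =
      finrank ℂ (Representation.invariants π) := by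
  classical
  have hle : Representation.invariants π ≤ Representation.invariants (π.comp H.subtype) :=
    fun X hX h => hX h
  refine le_antisymm ?_ (Submodule.finrank_mono hle)
  let V := Representation.invariants (π.comp H.subtype)
  have hV : ∀ (X : V) (g : G) (h : G), h ∈ H →
      π (g * h) (X : Matrix (Fin n) (Fin n) ℂ) = π g X := fun X g h hh => by
    rw [map_mul, Module.End.mul_apply]
    exact congrArg (π g) (X.2 ⟨h, hh⟩)
  let T₀ : Matrix (Fin n) (Fin n) ℂ →ₗ[ℂ] Matrix (Fin n) (Fin n) ℂ := ∑ q : G ⧸ H, π q.out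
  have hT : ∀ X : V, T₀ X ∈ Representation.invariants π := by
    intro X g
    simp only [T₀, LinearMap.coe_sum, Finset.sum_apply, map_sum]
    refine Fintype.sum_equiv (MulAction.toPerm g) _ _ fun q => ?_
    obtain ⟨h, hh⟩ := QuotientGroup.mk_out_eq_mul H (g * q.out)
    have e : (MulAction.toPerm g) q = QuotientGroup.mk (g * q.out) := by
      conv_lhs => rw [← QuotientGroup.out_eq' q]
      rfl
    rw [e, hh, hV X _ _ h.2, map_mul]
    rfl
  let T : V →ₗ[ℂ] Representation.invariants π := (T₀.comp V.subtype).codRestrict _ hT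
  refine LinearMap.finrank_le_finrank_of_injective (f := T) ?_
  rw [← LinearMap.ker_eq_bot, Submodule.eq_bot_iff]
  intro X hX
  by_contra hX0
  -- normalize so that all entries are integral and one of them equals one
  obtain ⟨⟨i₀, j₀⟩, hi₀⟩ : ∃ q : Fin n × Fin n, (X : Matrix (Fin n) (Fin n) ℂ) q.1 q.2 ≠ 0 := by
    by_contra h
    push Not at h
    exact hX0 (Subtype.ext (by ext i j; exact h (i, j)))
  obtain ⟨⟨i₁, j₁⟩, -, hmax⟩ := Finset.univ.exists_max_image
    (fun q : Fin n × Fin n => O.valuation ((X : Matrix (Fin n) (Fin n) ℂ) q.1 q.2))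
    ⟨(i₀, j₀), Finset.mem_univ _⟩
  set m := (X : Matrix (Fin n) (Fin n) ℂ) i₁ j₁ with hm
  have hm0 : m ≠ 0 := fun h0 => by
    have h := hmax (i₀, j₀) (Finset.mem_univ _)
    simp only [h0, map_zero] at h
    exact hi₀ ((Valuation.zero_iff _).mp (le_zero_iff.mp h))
  have hmem : ∀ i j, m⁻¹ * (X : Matrix (Fin n) (Fin n) ℂ) i j ∈ O := fun i j => by
    rw [← O.valuation_le_one_iff, inv_mul_eq_div, map_div₀]
    exact div_le_one_of_le₀ (hmax (i, j) (Finset.mem_univ _)) zero_le
  let A : Matrix (Fin n) (Fin n) O := Matrix.of fun i j => ⟨_, hmem i j⟩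
  let φ : Matrix (Fin n) (Fin n) O →+* Matrix (Fin n) (Fin n) ℂ := O.subtype.mapMatrix
  have hφ : Function.Injective φ := fun M N h => by
    ext i j
    exact congrFun (congrFun h i) j
  have hA : φ A = (m⁻¹ • X : V) := by ext i j; rfl
  have hπ' : ∀ g, π g (φ A) = φ (R g * A * R g⁻¹) := fun g => by
    rw [hπ, map_mul, map_mul]; rfl
  have hc : ∀ g, ∀ h ∈ H, R (g * h) * A * R (g * h)⁻¹ = R g * A * R g⁻¹ := fun g h hh =>
    hφ (by rw [← hπ', ← hπ', hA]; exact hV _ g h hh)
  have hsum : ∑ q : G ⧸ H, R q.out * A * R q.out⁻¹ = 0 := hφ (by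
    rw [map_sum, map_zero]
    simp only [← hπ', hA]
    have : (T X : Matrix (Fin n) (Fin n) ℂ) = 0 := by rw [LinearMap.mem_ker.mp hX]; rfl
    calc ∑ q : G ⧸ H, π q.out ((m⁻¹ • X : V) : Matrix (Fin n) (Fin n) ℂ)
        = T₀ (m⁻¹ • (X : Matrix (Fin n) (Fin n) ℂ)) := by
          simp [T₀, LinearMap.coe_sum, Finset.sum_apply, Finset.smul_sum]
      _ = 0 := by rw [map_smul]; exact (congrArg (m⁻¹ • ·) this).trans (smul_zero _))
  -- reduce modulo the maximal ideal
  let k := IsLocalRing.ResidueField O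
  have := CfsgLib.CharDegree.charP_residue O Fact.out hO
  let r : Matrix (Fin n) (Fin n) O →+* Matrix (Fin n) (Fin n) k :=
    (IsLocalRing.residue O).mapMatrix
  let S : G →* Matrix (Fin n) (Fin n) k := r.toMonoidHom.comp R
  let cm : G ⧸ H → Matrix (Fin n) (Fin n) k := fun q => S q.out * r A * S q.out⁻¹
  have hcm : ∀ g : G, cm (QuotientGroup.mk g) = S g * r A * S g⁻¹ := fun g => by
    obtain ⟨h, hh⟩ := QuotientGroup.mk_out_eq_mul H g
    simp only [cm, hh]
    show r (R (g * h)) * r A * r (R (g * h)⁻¹) = r (R g) * r A * r (R g⁻¹)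
    simp only [← map_mul, hc g h h.2]
  have hsum' : ∑ q, cm q = 0 := by
    have := congrArg r hsum
    rw [map_sum, map_zero] at this
    exact (Finset.sum_congr rfl fun q _ => by simp [cm, S]).trans this
  set q₀ : G ⧸ H := QuotientGroup.mk 1 with hq₀
  have hequ : ∀ (u : P) (q : G ⧸ H), cm (u • q) = S u * cm q * S (u : G)⁻¹ := by
    intro u q
    have e : u • q = QuotientGroup.mk ((u : G) * q.out) := by
      conv_lhs => rw [← QuotientGroup.out_eq' q]
      rfl
    rw [e, hcm]
    simp [cm, mul_assoc, _root_.mul_inv_rev]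
  have hfix : ∀ (u : P), u • q₀ = q₀ := fun u => by
    show (QuotientGroup.mk ((u : G) * 1) : G ⧸ H) = QuotientGroup.mk 1
    rw [QuotientGroup.eq, mul_one, mul_one]
    exact inv_mem (hPH u.2)
  have hfree' : ∀ q : G ⧸ H, q ≠ q₀ → ∀ u : P, u • q = q → u = 1 := by
    intro q hq u hu
    obtain ⟨g, rfl⟩ := QuotientGroup.mk_surjective q
    have hg : g ∉ H := fun hg => hq (by rw [hq₀, QuotientGroup.eq]; simpa using inv_mem hg)
    refine Subtype.ext (hfree g hg u u.2 ?_)
    have h : (QuotientGroup.mk ((u : G) * g) : G ⧸ H) = QuotientGroup.mk g := hu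
    rw [eq_comm, QuotientGroup.eq] at h
    rwa [← mul_assoc] at h
  let rp : G ⧸ H → G ⧸ H := fun q => (Quotient.mk (MulAction.orbitRel P (G ⧸ H)) q).out
  let f : G ⧸ H → k := fun q => if q ≠ q₀ ∧ q = rp q then 1 else 0
  have hf : ∀ q, q ≠ q₀ → ∑ u : P, f (u • q) = 1 := by
    intro q hq
    set rep := rp q with hrep
    obtain ⟨u₀, hu₀⟩ : rep ∈ MulAction.orbit P q :=
      MulAction.orbitRel_apply.mp (Quotient.mk_out (s := MulAction.orbitRel P (G ⧸ H)) q)
    dsimp only at hu₀
    have hne : ∀ u : P, u • q ≠ q₀ := fun u h =>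
      hq (by rw [← inv_smul_smul u q, h, hfix])
    have hcls : ∀ u : P, rp (u • q) = rp q := fun u =>
      congrArg Quotient.out (Quotient.sound (MulAction.orbitRel_apply.mpr ⟨u, rfl⟩))
    rw [Finset.sum_eq_single u₀ ?_ (by simp)]
    · simp only [f]
      exact if_pos ⟨hne u₀, hu₀.trans (hcls u₀).symm⟩
    · intro u _ hu
      simp only [f]
      refine if_neg ?_
      rintro ⟨-, h'⟩
      refine hu ?_
      have h : u • q = rep := h'.trans (hcls u)
      have : (u₀⁻¹ * u) • q = q := by rw [mul_smul, h, ← hu₀, inv_smul_smul]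
      exact (inv_mul_eq_one.mp (hfree' q hq _ this)).symm
  have hrest : ∑ q ∈ Finset.univ.erase q₀, cm q = 0 := by
    by_cases hP1 : (P : Subgroup G) = ⊥
    · refine Finset.sum_eq_zero fun q hq => absurd ?_ (Finset.ne_of_mem_erase hq)
      obtain ⟨g, rfl⟩ := QuotientGroup.mk_surjective q
      rw [hq₀, QuotientGroup.eq]
      rw [h1 hP1]
      trivial
    have hcard : 1 < Fintype.card P := by
      rw [← Nat.card_eq_fintype_card]
      exact Subgroup.one_lt_card_iff_ne_bot _ |>.mpr hP1
    have hkey : ∀ q, ∑ u : P, S (u : G) * cm q * S (u : G)⁻¹ = 0 := fun q =>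
      sum_conj_eq_zero (p := p) P.2 hcard (S.comp (P : Subgroup G).subtype)
        (by rwa [← Nat.card_eq_fintype_card]) (cm q)
    calc ∑ q ∈ Finset.univ.erase q₀, cm q
        = ∑ q, ∑ u : P, f (u • q) • cm q := by
          rw [← Finset.sum_erase (a := q₀) Finset.univ (f := fun q => ∑ u : P, f (u • q) • cm q)
            (Finset.sum_eq_zero fun u _ => by
              simp only [f]; rw [if_neg (fun h => h.1 (hfix u)), zero_smul])]
          refine Finset.sum_congr rfl fun q hq => ?_
          rw [← Finset.sum_smul, hf q (Finset.ne_of_mem_erase hq), one_smul]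
      _ = ∑ q, f q • ∑ u : P, cm (u⁻¹ • q) := by
          rw [Finset.sum_comm]
          simp only [Finset.smul_sum]
          conv_rhs => rw [Finset.sum_comm]
          exact Finset.sum_congr rfl fun u _ => Fintype.sum_equiv (MulAction.toPerm u) _ _
            fun q => by simp [inv_smul_smul]
      _ = 0 := by
          refine Finset.sum_eq_zero fun q _ => ?_
          rw [Fintype.sum_equiv (Equiv.inv P) (fun u => cm (u⁻¹ • q)) (fun u => cm (u • q))
            fun u => rfl]
          exact (congrArg (f q • ·) ((Finset.sum_congr rfl fun u _ => hequ u q).trans (hkey q))).trans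
            (smul_zero _)
  have hA0 : r A = 0 := by
    rw [← Finset.add_sum_erase _ _ (Finset.mem_univ q₀), hrest, add_zero, hq₀, hcm, map_one,
      inv_one, map_one, Matrix.one_mul, Matrix.mul_one] at hsum'
    exact hsum'
  have hA1 : A i₁ j₁ = 1 := Subtype.ext (inv_mul_cancel₀ hm0)
  have := congrFun (congrFun hA0 i₁) j₁
  change IsLocalRing.residue O (A i₁ j₁) = 0 at this
  rw [hA1, map_one] at this
  exact one_ne_zero this

/-- Let P be a Sylow p-subgroup of the finite group G that meets each conjugate g P g⁻¹ with g outside N_G(P) trivially, χ a character of G with χ(1)² ≤ |P|, and H a subgroup of G containing N_G(P). Then the inner product of χ with itself over G equals the inner product over H of the restriction of χ to H. -/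
theorem result {G : Type*} [Group G] [Fintype G] [DecidableEq G] (p : ℕ) [Fact p.Prime] (P : Sylow p G) (hTI : ∀ g : G, g ∉ Subgroup.normalizer ((P : Subgroup G) : Set G) → (P : Subgroup G) ⊓ (MulAut.conj g • (P : Subgroup G)) = ⊥) (χ : G → ℂ) (hχ : Cfsg.IsCharacter G χ) (hdeg : Cfsg.charDegree χ ^ 2 ≤ Nat.card ↥(P : Subgroup G)) (H : Subgroup G) [Fintype ↥H] (hH : Subgroup.normalizer ((P : Subgroup G) : Set G) ≤ H) : Cfsg.classInner χ χ = Cfsg.classInner (fun h : ↥H => χ h) (fun h : ↥H => χ h) := by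
  classical
  obtain ⟨n, ρ, rfl⟩ := hχ
  obtain ⟨O, hO⟩ := CfsgLib.CharDegree.exists_valuationSubring (Fact.out : p.Prime)
  obtain ⟨R, hR⟩ := CfsgLib.CharDegree.exists_integral_form O ρ
  let M : G →* Matrix (Fin n) (Fin n) ℂ := O.subtype.mapMatrix.toMonoidHom.comp R
  have hM : ∀ g, Matrix.trace (M g) = ρ.character g := fun g => by
    rw [← hR g, Matrix.trace, Matrix.trace, AddSubmonoidClass.coe_finsetSum]; rfl
  let π : Representation ℂ G (Matrix (Fin n) (Fin n) ℂ) :=
    { toFun := fun g => LinearMap.mulLeftRight ℂ (M g, M g⁻¹)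
      map_one' := by ext X : 1; simp
      map_mul' := fun g h => by ext X : 1; simp [mul_assoc, _root_.mul_inv_rev] }
  have hπ : ∀ g X, π g X = (R g).map Subtype.val * X * (R g⁻¹).map Subtype.val := fun g X =>
    LinearMap.mulLeftRight_apply _ _ _
  have htr : ∀ g, π.character g = ρ.character g * (starRingEnd ℂ) (ρ.character g) := by
    intro g
    rw [← CfsgLib.Char.character_inv, ← hM, ← hM]
    show LinearMap.trace ℂ _ (LinearMap.mulLeftRight ℂ (M g, M g⁻¹)) = _
    rw [LinearMap.trace_eq_matrix_trace ℂ (Matrix.stdBasis ℂ (Fin n) (Fin n)), Matrix.trace,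
      Fintype.sum_prod_type, Matrix.trace, Matrix.trace, Finset.sum_mul_sum]
    refine Finset.sum_congr rfl fun i _ => Finset.sum_congr rfl fun j _ => ?_
    simp [LinearMap.toMatrix_apply, Matrix.stdBasis, Pi.single_apply, ite_apply,
      Matrix.mul_apply, Matrix.single_apply, ite_and]
  have hnG : (Nat.card G : ℂ) ≠ 0 := Nat.cast_ne_zero.mpr Nat.card_pos.ne'
  have hnH : (Nat.card H : ℂ) ≠ 0 := Nat.cast_ne_zero.mpr Nat.card_pos.ne'
  have eG : Cfsg.classInner ρ.character ρ.character =
      (finrank ℂ (Representation.invariants π) : ℂ) := by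
    have := invertibleOfNonzero hnG
    rw [← Representation.card_inv_mul_sum_char_eq_finrank, Cfsg.classInner]
    simp only [htr]
  have eH : Cfsg.classInner (fun h : H => ρ.character h) (fun h : H => ρ.character h) =
      (finrank ℂ (Representation.invariants (π.comp H.subtype)) : ℂ) := by
    have := invertibleOfNonzero hnH
    rw [← Representation.card_inv_mul_sum_char_eq_finrank, Cfsg.classInner]
    exact congrArg _ (Finset.sum_congr rfl fun h _ => (htr h).symm)
  have hPN : (P : Subgroup G) ≤ Subgroup.normalizer ((P : Subgroup G) : Set G) :=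
    Subgroup.le_normalizer
  rw [eG, eH, Nat.cast_inj]
  refine (finrank_invariants_eq P H ?_ (hPN.trans hH) ?_ (n := n) ?_ O hO R π hπ).symm
  · intro g hg u hu hug
    have hK : IsPGroup p ((Subgroup.zpowers (g⁻¹ * u * g)).subgroupOf H) := by
      refine IsPGroup.of_equiv ?_ (Subgroup.subgroupOfEquivOfLe (Subgroup.zpowers_le.mpr hug)).symm
      refine (P.2.map (MulAut.conj g⁻¹).toMonoidHom).to_le (Subgroup.zpowers_le.mpr ?_)
      exact ⟨u, hu, by simp⟩
    obtain ⟨Q, hQ⟩ := hK.exists_le_sylow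
    obtain ⟨h, hh⟩ := MulAction.exists_smul_eq H (P.subtype (hPN.trans hH)) Q
    have hmem : (⟨g⁻¹ * u * g, hug⟩ : H) ∈ (Q : Subgroup H) :=
      hQ (Subgroup.mem_subgroupOf.mpr (Subgroup.mem_zpowers _))
    rw [← hh, Sylow.coe_subgroup_smul, Subgroup.mem_pointwise_smul_iff_inv_smul_mem] at hmem
    have hmem' : (h : G)⁻¹ * (g⁻¹ * u * g) * h ∈ (P : Subgroup G) := by
      simpa [Subgroup.mem_subgroupOf, Sylow.coe_subtype, MulAut.inv_def, MulAut.conj_symm_apply]
        using hmem
    have hgh : g * (h : G) ∉ Subgroup.normalizer ((P : Subgroup G) : Set G) := fun hc =>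
      hg (by simpa [mul_inv_cancel_right] using H.mul_mem (hH hc) (H.inv_mem h.2))
    have : u ∈ (P : Subgroup G) ⊓ MulAut.conj (g * (h : G)) • (P : Subgroup G) := by
      refine ⟨hu, Subgroup.mem_pointwise_smul_iff_inv_smul_mem.mpr ?_⟩
      simpa [MulAut.inv_def, MulAut.conj_symm_apply, mul_assoc, _root_.mul_inv_rev] using hmem'
    rw [hTI _ hgh] at this
    exact Subgroup.mem_bot.mp this
  · intro h1
    refine top_unique (le_trans ?_ hH)
    rw [h1]
    exact (Subgroup.normalizer_eq_top_iff.mpr inferInstance).ge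
  · simpa [Cfsg.charDegree, Representation.char_one, finrank_fin_fun] using hdeg

end Cfsg.Agent.S4750
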