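import Cfsg.Statements.S4751
import Cfsg.Agent.Lib.CharDegree.UnitValues
import Mathlib.RingTheory.RootsOfUnity.Complex
import Mathlib.Analysis.Complex.Polynomial.Basic
import Mathlib.RingTheory.RootsOfUnity.AlgebraicallyClosed
import Mathlib.GroupTheory.FiniteAbelian.Duality
import Mathlib.GroupTheory.SpecificGroups.Alternating

set_option autoImplicit false
open Cfsg

namespace Cfsg.Agent.S4751


open CfsgLib.Char CfsgLib.CharDegree CfsgLib.CharDegree.UnitValues
open scoped ComplexConjugate Pointwise commutatorElement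

section

variable {G : Type*} [Group G]

/-- The three-cycle and an involution give a symmetric group of degree four. -/
theorem exists_symm_four [Finite G] (P C : Subgroup G) [P.Normal] [C.Normal] (hPC : P ≤ C)
    (hP : Nat.card P = 4) {Ω : Type*} [Finite Ω] (hΩ : Nat.card Ω = 3) (φ : G →* Equiv.Perm Ω)
    (hker : φ.ker = C) (htrans : ∀ a b : Ω, ∃ g, φ g a = b)
    (hodd : ∀ c ∈ C, c ^ 2 ∈ P → c ∈ P) (hcent : ∀ c ∈ C, ∀ g : G, ⁅g, c⁆ ∈ P)
    {h : G} (hh : h ∉ C) (hh2 : h ^ 2 ∈ P)
    (hfix : ∀ g : G, g ^ 3 ∈ P → g ∉ C → ∀ u ∈ P, g * u = u * g → u = 1)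
    (hcentP : ∀ x : G, (∀ u ∈ P, u * x = x * u) → x ∈ C) :
    ∃ H : Subgroup G, H ⊓ C = P ∧ H ⊔ C = ⊤ ∧ Nonempty (↥H ≃* Equiv.Perm (Fin 4)) := by
  classical
  have := Fintype.ofFinite Ω
  have hperm : Nat.card (Equiv.Perm Ω) = 6 := by
    rw [Nat.card_eq_fintype_card, Fintype.card_perm, ← Nat.card_eq_fintype_card, hΩ]; rfl
  -- the image is the whole symmetric group
  have hφh : φ h ≠ 1 := fun e => hh (hker ▸ e)
  have hord : orderOf (φ h) = 2 := orderOf_eq_prime (by
    rw [← map_pow]; exact MonoidHom.mem_ker.mp (hker.ge (hPC hh2))) hφh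
  have hsurj : Function.Surjective φ := by
    rw [← MonoidHom.range_eq_top]
    refine Subgroup.eq_top_of_card_eq _ ?_
    rw [hperm]
    have h2 : 2 ∣ Nat.card φ.range := hord ▸ Subgroup.orderOf_dvd_natCard _ ⟨h, rfl⟩
    have h6 : Nat.card φ.range ∣ 6 := hperm ▸ Subgroup.card_subgroup_dvd_card _
    have h3 : 3 ∣ Nat.card φ.range := by
      haveI : Nonempty Ω := (Nat.card_pos_iff.mp (by omega)).1
      haveI : MulAction.IsPretransitive φ.range Ω := ⟨fun a b => by
        obtain ⟨g, hg⟩ := htrans a b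
        exact ⟨⟨φ g, g, rfl⟩, hg⟩⟩
      obtain ⟨a⟩ := (inferInstance : Nonempty Ω)
      rw [← hΩ, ← MulAction.index_stabilizer_of_transitive φ.range a]
      exact Subgroup.index_dvd_card _
    exact Nat.dvd_antisymm h6 (Nat.Coprime.mul_dvd_of_dvd_of_dvd (by norm_num) h2 h3)
  -- a three-cycle inverted by `h` modulo `P`
  obtain ⟨c3, hc3⟩ := exists_prime_orderOf_dvd_card' (G := Equiv.Perm Ω) 3 (by rw [hperm]; norm_num)
  obtain ⟨y, rfl⟩ := hsurj c3
  set q := QuotientGroup.mk' P with hq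
  set w := ⁅y, h⁆ with hw
  have hhq : q h * q h = 1 := by
    rw [← map_mul, ← sq]; exact (QuotientGroup.eq_one_iff (h ^ 2)).mpr hh2
  have hhinv : (q h)⁻¹ = q h := inv_eq_of_mul_eq_one_right hhq
  have hinv : q h * q w * (q h)⁻¹ = (q w)⁻¹ := by
    rw [hw, map_commutatorElement, commutatorElement_inv]
    simp only [commutatorElement_def]
    rw [hhinv]
    simp only [mul_assoc, hhq, mul_one]
  have hnc : φ y * φ h ≠ φ h * φ y := fun e => by
    have h6 : orderOf (φ y * φ h) = 6 := by
      have hcm : Commute (φ y) (φ h) := e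
      rw [hcm.orderOf_mul_eq_mul_orderOf_of_coprime (by rw [hc3, hord]; norm_num), hc3, hord]
    haveI : IsCyclic (Equiv.Perm Ω) := isCyclic_of_orderOf_eq_card _ (h6.trans hperm.symm)
    obtain ⟨e'⟩ := Finite.card_eq.mp (hΩ.trans (Nat.card_fin 3).symm)
    letI := IsCyclic.commGroup (α := Equiv.Perm Ω)
    have h1 := mul_comm (e'.symm.permCongr (Equiv.swap (0 : Fin 3) 1))
      (e'.symm.permCongr (Equiv.swap (1 : Fin 3) 2))
    have h2 := DFunLike.congr_fun (congrArg e'.permCongr h1) 0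
    simp [Equiv.permCongr_apply, Equiv.swap_apply_def] at h2
  have hφw : φ w ≠ 1 := fun e => hnc (by
    rw [hw, map_commutatorElement, commutatorElement_eq_one_iff_mul_comm] at e
    exact e)
  have hw3C : φ (w ^ 3) = 1 := by
    have hsign : Equiv.Perm.sign (φ w) = 1 := by
      rw [hw, map_commutatorElement, commutatorElement_def]
      simp [mul_comm, mul_assoc, mul_left_comm]
    haveI : Nontrivial Ω := Fintype.one_lt_card_iff_nontrivial.mp (by
      rw [← Nat.card_eq_fintype_card, hΩ]; norm_num)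
    have hcard : Nat.card (alternatingGroup Ω) = 3 := by
      have h := Equiv.Perm.sign_surjective Ω
      have h2 := (alternatingGroup Ω).card_mul_index
      rw [alternatingGroup.index_eq_two, hperm] at h2
      omega
    rw [map_pow]
    have := pow_card_eq_one' (G := alternatingGroup Ω) (x := ⟨φ w, hsign⟩)
    rw [hcard] at this
    exact congrArg Subtype.val this
  have hwC : w ^ 3 ∈ C := hker ▸ MonoidHom.mem_ker.mpr hw3C
  have hw3 : q w ^ 3 = 1 := by
    have hfixed : q h * q (w ^ 3) * (q h)⁻¹ = q (w ^ 3) := by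
      have h1 : q ⁅h, w ^ 3⁆ = 1 := (QuotientGroup.eq_one_iff _).mpr (hcent _ hwC h)
      rw [map_commutatorElement, commutatorElement_def] at h1
      exact eq_of_mul_inv_eq_one h1
    have h6 : q w ^ 3 * q w ^ 3 = 1 := by
      have h2 : q h * q w ^ 3 * (q h)⁻¹ = (q w ^ 3)⁻¹ := by rw [← conj_pow, hinv, inv_pow]
      rw [← map_pow, hfixed, map_pow] at h2
      exact mul_eq_one_iff_eq_inv.mpr h2
    rw [← map_pow, ← map_mul, ← sq] at h6
    rw [← map_pow]
    exact (QuotientGroup.eq_one_iff _).mpr (hodd _ hwC ((QuotientGroup.eq_one_iff _).mp h6))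
  -- the subgroup
  set H : Subgroup G := Subgroup.closure ({w, h} : Set G) ⊔ P with hH
  have hwH : w ∈ H := Subgroup.mem_sup_left (Subgroup.subset_closure (by simp))
  have hhH : h ∈ H := Subgroup.mem_sup_left (Subgroup.subset_closure (by simp))
  have hPH : P ≤ H := le_sup_right
  have hnormal : ∀ g ∈ H, ∃ i < 3, ∃ j < 2, q g = q w ^ i * q h ^ j := by
    intro g hg
    have hword : ∀ z : G ⧸ P, z ∈ Subgroup.closure ({q w, q h} : Set (G ⧸ P)) →
        ∃ i < 3, ∃ j < 2, z = q w ^ i * q h ^ j := by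
      intro z hz
      have hmulw : ∀ i j : ℕ, ∃ i' < 3, ∃ j' < 2, q w ^ i * q h ^ j = q w ^ i' * q h ^ j' :=
        fun i j => ⟨i % 3, Nat.mod_lt _ (by norm_num), j % 2, Nat.mod_lt _ (by norm_num), by
          rw [pow_eq_pow_mod i hw3, pow_eq_pow_mod j (by rw [sq]; exact hhq)]⟩
      have hswap : ∀ i : ℕ, q h * q w ^ i = q w ^ (2 * i) * q h := fun i => by
        have h2 : q h * q w ^ i * (q h)⁻¹ = q w ^ (2 * i) := by
          rw [← conj_pow, hinv, pow_mul, show (q w)⁻¹ = q w ^ 2 from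
            inv_eq_of_mul_eq_one_right (by rw [← pow_succ']; exact hw3)]
        rw [← h2]; group
      induction hz using Subgroup.closure_induction_left with
      | one => exact ⟨0, by norm_num, 0, by norm_num, by simp⟩
      | mul_left x hx y _ ih =>
        obtain ⟨i, -, j, -, rfl⟩ := ih
        rcases hx with rfl | rfl
        · obtain ⟨i', hi', j', hj', e⟩ := hmulw (i + 1) j
          exact ⟨i', hi', j', hj', by rw [← mul_assoc, ← pow_succ', e]⟩
        · obtain ⟨i', hi', j', hj', e⟩ := hmulw (2 * i) (j + 1)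
          exact ⟨i', hi', j', hj', by rw [← mul_assoc, hswap, mul_assoc, ← pow_succ', e]⟩
      | inv_mul_cancel x hx y _ ih =>
        obtain ⟨i, -, j, -, rfl⟩ := ih
        rcases hx with rfl | rfl
        · obtain ⟨i', hi', j', hj', e⟩ := hmulw (i + 2) j
          refine ⟨i', hi', j', hj', ?_⟩
          rw [← e, ← mul_assoc]
          congr 1
          rw [inv_mul_eq_iff_eq_mul, ← pow_succ', show i + 2 + 1 = i + 3 by ring, pow_add, hw3, mul_one]
        · obtain ⟨i', hi', j', hj', e⟩ := hmulw (2 * i) (j + 1)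
          exact ⟨i', hi', j', hj', by rw [hhinv, ← mul_assoc, hswap, mul_assoc, ← pow_succ', e]⟩
    refine hword (q g) ?_
    have hmap : H.map q ≤ Subgroup.closure ({q w, q h} : Set (G ⧸ P)) := by
      rw [hH, Subgroup.map_sup, MonoidHom.map_closure, Set.image_pair,
        (Subgroup.map_eq_bot_iff (f := q) P).mpr (by rw [hq, QuotientGroup.ker_mk']), sup_bot_eq]
    exact hmap (Subgroup.mem_map_of_mem q hg)
  have hHC : H ⊓ C = P := by
    refine le_antisymm (fun g hg => ?_) (le_inf hPH hPC)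
    obtain ⟨hgH, hgC⟩ := Subgroup.mem_inf.mp hg
    obtain ⟨i, hi, j, hj, e⟩ := hnormal g hgH
    have hg' : φ g = φ w ^ i * φ h ^ j := by
      have h1 : g⁻¹ * (w ^ i * h ^ j) ∈ P := by
        rw [← QuotientGroup.eq_one_iff]
        show q _ = 1
        rw [map_mul, map_mul, map_inv, map_pow, map_pow, e, inv_mul_cancel]
      have h2 := MonoidHom.mem_ker.mp (hker.ge (hPC h1))
      rw [map_mul, map_mul, map_inv, map_pow, map_pow, inv_mul_eq_one] at h2
      exact h2
    rw [MonoidHom.mem_ker.mp (hker.ge hgC)] at hg'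
    have hw3' : orderOf (φ w) = 3 := orderOf_eq_prime (by rw [← map_pow]; exact hw3C) hφw
    have hj0 : j = 0 := by
      by_contra hne
      obtain rfl : j = 1 := by omega
      rw [pow_one] at hg'
      have h3 := eq_inv_of_mul_eq_one_right hg'.symm
      have h4 : orderOf (φ h) ∣ 3 := by
        rw [h3, orderOf_inv]
        exact (orderOf_pow_dvd i).trans hw3'.dvd
      rw [hord] at h4; norm_num at h4
    subst hj0
    rw [pow_zero, mul_one] at hg'
    have hi0 : i = 0 := Nat.eq_zero_of_dvd_of_lt (hw3' ▸ orderOf_dvd_of_pow_eq_one hg'.symm) hi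
    subst hi0
    rw [pow_zero, pow_zero, one_mul] at e
    exact (QuotientGroup.eq_one_iff g).mp e
  have hφH : H.map φ = ⊤ := by
    refine Subgroup.eq_top_of_card_eq _ (Nat.dvd_antisymm (Subgroup.card_subgroup_dvd_card _) ?_)
    rw [hperm, show (6 : ℕ) = 2 * 3 from rfl]
    refine Nat.Coprime.mul_dvd_of_dvd_of_dvd (by norm_num) ?_ ?_
    · exact hord ▸ Subgroup.orderOf_dvd_natCard _ ⟨h, hhH, rfl⟩
    · have hw3' : orderOf (φ w) = 3 := orderOf_eq_prime (by rw [← map_pow]; exact hw3C) hφw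
      exact hw3' ▸ Subgroup.orderOf_dvd_natCard _ ⟨w, hwH, rfl⟩
  refine ⟨H, hHC, ?_, ?_⟩
  · have h1 := Subgroup.comap_map_eq φ H
    rw [hφH, Subgroup.comap_top, hker] at h1
    exact h1.symm
  -- the action on four cosets
  have hcardH : Nat.card H = 24 := by
    have h1 := Subgroup.relIndex_mul_relIndex ⊥ P H bot_le hPH
    simp only [Subgroup.relIndex_bot_left] at h1
    have h2 : P.relIndex H = 6 := by
      have h3 := (Subgroup.relIndex_ker φ (K := H))
      rw [hker, hφH, Subgroup.card_top, hperm, ← Subgroup.inf_relIndex_right, inf_comm, hHC] at h3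
      exact h3
    rw [h2, hP] at h1
    omega
  haveI : Fact (Nat.Prime 3) := ⟨Nat.prime_three⟩
  set w' := w ^ 4 with hw'
  have hw'H : w' ∈ H := pow_mem hwH 4
  have hw'C : w' ∉ C := fun hmem => hφw (by
    have h1 := MonoidHom.mem_ker.mp (hker.ge hmem)
    rwa [hw', map_pow, show 4 = 3 + 1 from rfl, pow_succ, ← map_pow, hw3C, one_mul] at h1)
  have hw'3 : w' ^ 3 = 1 := by
    have h1 : w ^ 3 ∈ P := (QuotientGroup.eq_one_iff _).mp (by
      show q (w ^ 3) = 1
      rw [map_pow]; exact hw3)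
    have h2 := pow_card_eq_one' (G := P) (x := ⟨w ^ 3, h1⟩)
    rw [hP] at h2
    have h3 : (w ^ 3) ^ 4 = 1 := congrArg Subtype.val h2
    rw [hw', ← pow_mul, show 4 * 3 = 3 * 4 from rfl, pow_mul, h3]
  set R : Subgroup H := Subgroup.zpowers ⟨w', hw'H⟩ with hR
  have hRcard : Nat.card R = 3 := by
    rw [hR, Nat.card_zpowers, Subgroup.orderOf_mk]
    exact orderOf_eq_prime hw'3 fun e => hw'C (e ▸ one_mem C)
  have hRsyl : ¬ 3 ∣ R.index := by
    have := R.card_mul_index
    rw [hRcard, hcardH] at this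
    omega
  have hRp : IsPGroup 3 R := IsPGroup.of_card (n := 1) (by rw [hRcard]; rfl)
  set S := hRp.toSylow hRsyl with hS
  -- the index three subgroup
  set M : Subgroup H := R ⊔ P.subgroupOf H with hM
  have hMn : M.Normal := by
    have hMC : ∀ g : H, g ∈ M ↔ Equiv.Perm.sign (φ g) = 1 := by
      have hle : M ≤ (Equiv.Perm.sign.comp (φ.comp H.subtype)).ker := by
        refine sup_le ((Subgroup.zpowers_le).mpr ?_) fun g hg => ?_
        · show Equiv.Perm.sign (φ w') = 1
          rw [hw', map_pow, map_pow, hw, map_commutatorElement, commutatorElement_def]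
          simp [mul_comm, mul_assoc, mul_left_comm]
        · show Equiv.Perm.sign (φ g) = 1
          have h1 : φ (g : G) = 1 := MonoidHom.mem_ker.mp (hker.ge (hPC hg))
          rw [h1, map_one]
      intro g
      refine ⟨fun hg => hle hg, fun hg => ?_⟩
      have h12 : 12 ∣ Nat.card M := by
        rw [show 12 = 3 * 4 from rfl]
        refine Nat.Coprime.mul_dvd_of_dvd_of_dvd (by norm_num)
          (hRcard ▸ Subgroup.card_dvd_of_le le_sup_left) ?_
        rw [← hP, ← Nat.card_congr (Subgroup.subgroupOfEquivOfLe hPH).toEquiv]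
        exact Subgroup.card_dvd_of_le le_sup_right
      have hneq : Nat.card (Equiv.Perm.sign.comp (φ.comp H.subtype)).ker = 12 := by
        have h1 := (Equiv.Perm.sign.comp (φ.comp H.subtype)).ker.card_mul_index
        rw [Subgroup.index_ker, hcardH] at h1
        have h2 : Nat.card (Equiv.Perm.sign.comp (φ.comp H.subtype)).range = 2 := by
          haveI : Nontrivial Ω := Fintype.one_lt_card_iff_nontrivial.mp (by
            rw [← Nat.card_eq_fintype_card, hΩ]; norm_num)
          rw [MonoidHom.range_eq_top.mpr, Subgroup.card_top, Nat.card_eq_fintype_card,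
            Fintype.card_units_int]
          intro s
          obtain ⟨σ, hσ⟩ := Equiv.Perm.sign_surjective Ω s
          obtain ⟨g', hg', rfl⟩ : σ ∈ H.map φ := hφH ▸ Subgroup.mem_top σ
          exact ⟨⟨g', hg'⟩, hσ⟩
        rw [h2] at h1; omega
      have heq := Subgroup.eq_of_le_of_card_ge hle
        (hneq ▸ Nat.le_of_dvd Nat.card_pos h12)
      rw [heq]; exact hg
    refine ⟨fun n hn g => (hMC _).mpr ?_⟩
    have h1 := (hMC n).mp hn
    show Equiv.Perm.sign (φ ((g : G) * (n : G) * (g : G)⁻¹)) = 1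
    simp [h1, mul_comm]
  have hSM : (S : Subgroup H) ≤ M := le_sup_left
  set N := Subgroup.normalizer ((S : Subgroup H) : Set H) with hN
  have hsup : N ⊔ P.subgroupOf H = ⊤ := by
    have h := Sylow.normalizer_sup_eq_top (S.subtype hSM)
    rw [Sylow.coe_subtype, Subgroup.subgroupOf_map_subtype, inf_eq_left.mpr hSM] at h
    rw [eq_top_iff, ← h]
    refine sup_le le_sup_left (sup_le ?_ le_sup_right)
    exact le_sup_of_le_left Subgroup.le_normalizer
  have hinf : N ⊓ P.subgroupOf H = ⊥ := by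
    rw [Subgroup.eq_bot_iff_forall]
    rintro x ⟨hxN, hxP⟩
    have hwR : (⟨w', hw'H⟩ : H) ∈ (S : Subgroup H) := Subgroup.mem_zpowers _
    have h1 : (x : G) * w' * (x : G)⁻¹ * w'⁻¹ ∈ P := by
      have := mul_mem (show (x : G) ∈ P from hxP)
        ((inferInstance : P.Normal).conj_mem _ (inv_mem (show (x : G) ∈ P from hxP)) w')
      simpa [mul_assoc] using this
    have h2 : x * ⟨w', hw'H⟩ * x⁻¹ * ⟨w', hw'H⟩⁻¹ ∈ (S : Subgroup H) :=
      mul_mem ((Subgroup.mem_normalizer_iff.mp hxN _).mp hwR) (inv_mem hwR)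
    have h3 : x * ⟨w', hw'H⟩ * x⁻¹ * ⟨w', hw'H⟩⁻¹ = 1 := by
      refine orderOf_eq_one_iff.mp (Nat.eq_one_of_dvd_coprimes (a := 3) (b := 4) (by norm_num)
        (hRcard ▸ Subgroup.orderOf_dvd_natCard _ h2) ?_)
      rw [← Subgroup.orderOf_coe]
      exact hP ▸ Subgroup.orderOf_dvd_natCard _ h1
    have h4 : w' * (x : G) = x * w' := by
      have := congrArg (Subtype.val : H → G) h3
      simp only [Subgroup.coe_mul, Subgroup.coe_inv, OneMemClass.coe_one] at this
      rw [mul_inv_eq_one, mul_inv_eq_iff_eq_mul] at this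
      exact this.symm
    exact Subtype.ext (hfix w' (hw'3 ▸ one_mem P) hw'C x hxP h4)
  have hidx : N.index = 4 := by
    haveI : (P.subgroupOf H).Normal := Subgroup.normal_subgroupOf
    have hc := Subgroup.isComplement'_of_disjoint_and_mul_eq_univ (H := N) (K := P.subgroupOf H)
      (disjoint_iff.mpr hinf) (by rw [← Subgroup.mul_normal, hsup]; rfl)
    rw [hc.symm.index_eq_card, Nat.card_congr (Subgroup.subgroupOfEquivOfLe hPH).toEquiv, hP]
  have hcore : N.normalCore = ⊥ := by
    rw [Subgroup.eq_bot_iff_forall]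
    intro x hx
    have hxN : x ∈ N := Subgroup.normalCore_le N hx
    have hxcent : (x : G) ∈ Subgroup.centralizer (P : Set G) := by
      rw [Subgroup.mem_centralizer_iff]
      intro u hu
      have h1 : (⟨u, hPH hu⟩ : H) * x * (⟨u, hPH hu⟩ : H)⁻¹ * x⁻¹ ∈ N ⊓ P.subgroupOf H := by
        refine Subgroup.mem_inf.mpr ⟨Subgroup.normalCore_le N (mul_mem
          ((inferInstance : N.normalCore.Normal).conj_mem x hx _) (inv_mem hx)), ?_⟩
        show u * (x : G) * u⁻¹ * (x : G)⁻¹ ∈ P
        have := mul_mem hu ((inferInstance : P.Normal).conj_mem _ (inv_mem hu) (x : G))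
        simpa [mul_assoc] using this
      rw [hinf, Subgroup.mem_bot] at h1
      have h2 := congrArg (Subtype.val : H → G) h1
      simp only [Subgroup.coe_mul, Subgroup.coe_inv, OneMemClass.coe_one] at h2
      rw [mul_inv_eq_one, mul_inv_eq_iff_eq_mul] at h2
      exact h2
    have hxP : (x : G) ∈ P := by
      by_cases hxC : (x : G) ∈ C
      · rw [← hHC]; exact Subgroup.mem_inf.mpr ⟨x.2, hxC⟩
      · exfalso
        have hx2 : ∀ u ∈ P, u * (x : G) = x * u := fun u hu =>
          Subgroup.mem_centralizer_iff.mp hxcent u hu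
        exact hxC (hcentP (x : G) hx2)
    have : x ∈ N ⊓ P.subgroupOf H := Subgroup.mem_inf.mpr ⟨hxN, hxP⟩
    rwa [hinf, Subgroup.mem_bot] at this
  let act := MulAction.toPermHom H (H ⧸ N)
  have hinj : Function.Injective act := by
    rw [← MonoidHom.ker_eq_bot_iff, ← Subgroup.normalCore_eq_ker, hcore]
  have hX : Nat.card (H ⧸ N) = 4 := by rw [← Subgroup.index_eq_card, hidx]
  obtain ⟨e⟩ := Finite.card_eq.mp (hX.trans (Nat.card_fin 4).symm)
  have hbij : Function.Bijective act := by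
    refine (Nat.bijective_iff_injective_and_card _).mpr ⟨hinj, ?_⟩
    rw [hcardH, Nat.card_congr e.permCongr, Nat.card_eq_fintype_card, Fintype.card_perm,
      Fintype.card_fin]
    rfl
  exact ⟨(MulEquiv.ofBijective act hbij).trans e.permCongrHom⟩

end

/-- Let χ be a faithful, non-linear irreducible character of the finite group G (χ g = χ 1 only for g = 1, χ 1 ≠ 1) whose value at every element of order divisible by p is a root of unity, and suppose P = O_p(G) ≠ 1. Then either P is an elementary abelian Sylow p-subgroup of G, C_G(P) is the internal direct product of P and Z(G), G acts transitively by conjugation on the non-principal linear characters of P, and χ 1 = |P| − 1; or p = 2 and G is the internal direct product of a subgroup isomorphic to the symmetric group S₄ and the centre Z(G), which has odd order. -/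
theorem result {G : Type*} [Group G] [Finite G] (p : ℕ) [Fact p.Prime] (χ : Cfsg.IrrCharacter G) (hfaith : ∀ g : G, (χ : G → ℂ) g = (χ : G → ℂ) 1 → g = 1) (hnl : (χ : G → ℂ) 1 ≠ 1) (hroot : ∀ g : G, p ∣ orderOf g → ∃ n : ℕ, 0 < n ∧ ((χ : G → ℂ) g) ^ n = 1) (hP : Cfsg.pCore p G ≠ ⊥) : ((Nat.card ↥(Cfsg.pCore p G)).factorization p = (Nat.card G).factorization p ∧ Cfsg.IsElementaryAbelian p (Cfsg.pCore p G) ∧ Subgroup.centralizer ((Cfsg.pCore p G : Subgroup G) : Set G) = Cfsg.pCore p G ⊔ Subgroup.center G ∧ Cfsg.pCore p G ⊓ Subgroup.center G = ⊥ ∧ (∀ lam mu : ↥(Cfsg.pCore p G) → ℂ, Cfsg.IsCharacter ↥(Cfsg.pCore p G) lam → lam 1 = 1 → lam ≠ (fun _ => (1 : ℂ)) → Cfsg.IsCharacter ↥(Cfsg.pCore p G) mu → mu 1 = 1 → mu ≠ (fun _ => (1 : ℂ)) → ∃ g : G, ∀ (x : G) (hx : x ∈ Cfsg.pCore p G) (hgx : g * x * g⁻¹ ∈ Cfsg.pCore p G), mu ⟨x, hx⟩ = lam ⟨g * x * g⁻¹, hgx⟩) ∧ (χ : G → ℂ) 1 = (Nat.card ↥(Cfsg.pCore p G) : ℂ) - 1) ∨ (p = 2 ∧ Odd (Nat.card ↥(Subgroup.center G)) ∧ ∃ H : Subgroup G,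 Nonempty (↥H ≃* Equiv.Perm (Fin 4)) ∧ H ⊓ Subgroup.center G = ⊥ ∧ H ⊔ Subgroup.center G = ⊤) := by
  classical
  have hp : p.Prime := Fact.out
  have := Fintype.ofFinite G
  set P := Cfsg.pCore p G with hPdef
  have := Fintype.ofFinite P
  have hPp : IsPGroup p P := CfsgLib.Core.isPGroup_pCore p G
  haveI hPn : P.Normal := by rw [hPdef]; infer_instance
  have hsing : ∀ g : G, p ∣ orderOf g → ‖(χ : G → ℂ) g‖ = 1 := fun g hg => by
    obtain ⟨n, hn, hn1⟩ := hroot g hg
    exact Complex.norm_eq_one_of_pow_eq_one hn1 hn.ne'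
  obtain ⟨hab, hdeg, h1, hl, htrans⟩ := restrict_spec χ hfaith hnl P hPp hP (fun u hu => by
    refine hsing u ?_
    obtain ⟨j, hj⟩ := IsPGroup.iff_orderOf.mp hPp u
    rw [← Subgroup.orderOf_coe] at hj
    have hj0 : j ≠ 0 := fun h => hu (orderOf_eq_one_iff.mp (by
      rw [← Subgroup.orderOf_coe, hj, h, pow_zero]))
    rw [hj]; exact dvd_pow_self p hj0)
  have := Fintype.ofFinite (Cfsg.IrrCharacter P)
  have : Fintype (P →* ℂˣ) := Fintype.ofInjective (lin (G := P)) lin_injective
  -- separation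
  have hsep : ∀ u : P, u ≠ 1 → ∃ l : P →* ℂˣ, l u ≠ 1 := fun u hu => by
    letI : CommGroup P := { (inferInstance : Group P) with mul_comm := hab }
    exact CommGroup.exists_apply_ne_one_of_hasEnoughRootsOfUnity P ℂ hu
  have hcardhom : Nat.card (P →* ℂˣ) = Nat.card P := by
    letI : CommGroup P := { (inferInstance : Group P) with mul_comm := hab }
    exact CommGroup.card_monoidHom_of_hasEnoughRootsOfUnity P ℂ
  have hsepE : ∀ u v : P, (∀ l : P →* ℂˣ, l u = l v) → u = v := fun u v h => by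
    by_contra hne
    obtain ⟨l, hl⟩ := hsep (u⁻¹ * v) fun e => hne (inv_mul_eq_one.mp e)
    exact hl (by rw [map_mul, map_inv, h l, inv_mul_cancel])
  have hPgt : 2 < Nat.card P := by
    by_contra hle
    have hne1 : Nat.card P ≠ 1 := fun h => hP (Subgroup.card_eq_one.mp h)
    have hc : Nat.card P = 2 := by
      have := Nat.card_pos (α := P)
      omega
    apply hnl
    rw [hdeg, hc]; norm_num
  -- exponent `p`
  have hexp : ∀ u : P, u ^ p = 1 := by
    obtain ⟨k, hk⟩ := IsPGroup.iff_card.mp hPp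
    have hk0 : k ≠ 0 := fun h => by rw [hk, h] at hPgt; simp at hPgt
    obtain ⟨l₀, hl₀⟩ := exists_prime_orderOf_dvd_card' (G := P →* ℂˣ) p
      (by rw [hcardhom, hk]; exact dvd_pow_self p hk0)
    have hl₀1 : l₀ ≠ 1 := fun h => hp.one_lt.ne (by rw [← hl₀, h, orderOf_one])
    intro u
    by_contra hu
    obtain ⟨l, hlu⟩ := hsep _ hu
    obtain ⟨g, hg⟩ := htrans l₀ l hl₀1 (fun h => hlu (by rw [h]; rfl))
    apply hlu
    have h2 : l₀ (MulAut.conjNormal g u) ^ p = 1 := by
      rw [← MonoidHom.pow_apply, ← hl₀, pow_orderOf_eq_one]; rfl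
    rw [map_pow]
    exact Units.ext (by rw [Units.val_pow_eq_pow_val, hg u, ← Units.val_pow_eq_pow_val, h2])
  obtain ⟨n, ρ, -, hρ, -⟩ := exists_rep χ
  set C := Subgroup.centralizer ((P : Subgroup G) : Set G) with hCdef
  haveI hCn : C.Normal := by rw [hCdef]; infer_instance
  have hPC : P ≤ C := fun x hx => Subgroup.mem_centralizer_iff.mpr fun y hy =>
    congrArg Subtype.val (hab ⟨y, hy⟩ ⟨x, hx⟩)
  have hCfix : ∀ c ∈ C, ∀ u : P, MulAut.conjNormal c u = u := fun c hc u => Subtype.ext (by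
    rw [MulAut.conjNormal_apply, ← Subgroup.mem_centralizer_iff.mp hc u u.2, mul_inv_cancel_right])
  -- the centralizer is abelian
  have hsum : ∑ l : P →* ℂˣ, proj P ρ l = 1 := by
    have hs : ∀ u : P, u ≠ 1 → ∑ l : P →* ℂˣ, (l u⁻¹ : ℂ) = 0 := fun u hu => by
      obtain ⟨m, hm⟩ := hsep u⁻¹ (inv_ne_one.mpr hu)
      have he : (m u⁻¹ : ℂ) * ∑ l : P →* ℂˣ, (l u⁻¹ : ℂ) = ∑ l : P →* ℂˣ, (l u⁻¹ : ℂ) := by
        rw [Finset.mul_sum]
        exact Fintype.sum_equiv (Equiv.mulLeft m) _ _ fun l => by simp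
      by_contra hne
      exact hm (Units.ext (mul_right_cancel₀ hne (he.trans (one_mul _).symm)))
    simp only [proj]
    rw [← Finset.smul_sum, Finset.sum_comm]
    rw [Fintype.sum_eq_single (1 : P) fun u hu => by rw [← Finset.sum_smul, hs u hu, zero_smul]]
    simp only [inv_one, map_one, Units.val_one, one_smul, OneMemClass.coe_one, Finset.sum_const,
      Finset.card_univ]
    rw [← Nat.card_eq_fintype_card, hcardhom, ← Nat.cast_smul_eq_nsmul ℂ, smul_smul,
      inv_mul_cancel₀ (Nat.cast_ne_zero.mpr Nat.card_pos.ne'), one_smul]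
  have hzero : proj P ρ (1 : P →* ℂˣ) = 0 := by
    have h := finrank_range_proj P ρ (1 : P →* ℂˣ)
    rw [show (lin (1 : P →* ℂˣ) : P → ℂ) = (trivChar P : P → ℂ) from funext fun u => by
      simp [lin_apply], hρ, h1, Nat.cast_eq_zero, Submodule.finrank_eq_zero,
      LinearMap.range_eq_bot] at h
    exact h
  have hCab : ∀ c ∈ C, ∀ d ∈ C, c * d = d * c := by
    intro c hc d hd
    have heach : ∀ l : P →* ℂˣ, ρ (c * d) * proj P ρ l = ρ (d * c) * proj P ρ l := fun l => by
      by_cases hl1 : l = 1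
      · rw [hl1, hzero, mul_zero, mul_zero]
      obtain ⟨zc, -, hzc, -⟩ := scalar_on_range P ρ l (by rw [hρ]; exact hl l hl1) (a := c)
        fun u => by rw [hCfix c hc]
      obtain ⟨zd, -, hzd, -⟩ := scalar_on_range P ρ l (by rw [hρ]; exact hl l hl1) (a := d)
        fun u => by rw [hCfix d hd]
      rw [map_mul, map_mul, mul_assoc, mul_assoc, hzd, hzc, mul_smul_comm, mul_smul_comm, hzc, hzd,
        smul_smul, smul_smul, mul_comm]
    have heq : ρ (c * d) = ρ (d * c) := by
      rw [← mul_one (ρ (c * d)), ← hsum, Finset.mul_sum, Finset.sum_congr rfl fun l _ => heach l,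
        ← Finset.mul_sum, hsum, mul_one]
    refine mul_inv_eq_one.mp (hfaith _ ?_)
    rw [← hρ, Representation.character, map_mul ρ (c * d), heq, ← map_mul, mul_inv_cancel]
    rfl
  -- Parseval
  have hpar := parseval χ P hab h1 hl
  have hcomm : ∀ y : G, (∀ u : P, (y : G) * u = u * y) → ¬ p ∣ orderOf y → ∀ u : P, u ≠ 1 →
      ‖(χ : G → ℂ) (y * u)‖ = 1 := fun y hy hyp u hu => by
    refine hsing _ ?_
    have hcm : Commute y (u : G) := hy u
    have h2 : orderOf (u : G) = p := orderOf_eq_prime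
      (congrArg Subtype.val (hexp u)) fun h => hu (Subtype.ext h)
    rw [hcm.orderOf_mul_eq_mul_orderOf_of_coprime (by
      rw [h2, Nat.coprime_comm]; exact hp.coprime_iff_not_dvd.mpr hyp), h2]
    exact dvd_mul_left _ _
  have hzcen : ∀ y ∈ C, ¬ p ∣ orderOf y → y ∈ Subgroup.center G := by
    intro y hy hyp
    refine mem_center_of_norm_eq χ ?_ ?_
    · rw [kerSubgroup_eq_bot_iff]; exact hfaith
    have h := hpar y
    rw [Nat.card_congr (Equiv.subtypeEquivRight fun l : P →* ℂˣ => show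
        (l ≠ 1 ∧ ∀ u : P, l (MulAut.conjNormal y u) = l u) ↔ l ≠ 1 from
        ⟨And.left, fun h => ⟨h, fun u => by rw [hCfix y hy]⟩⟩),
      Nat.card_eq_fintype_card (α := {l : P →* ℂˣ // l ≠ 1}), Fintype.card_subtype_compl,
      Fintype.card_subtype_eq, ← Nat.card_eq_fintype_card, hcardhom,
      ← Finset.add_sum_erase _ _ (Finset.mem_univ (1 : P)),
      Finset.sum_congr rfl (fun u hu => show Complex.normSq ((χ : G → ℂ) (y * (u : P))) = 1 by
        rw [Complex.normSq_eq_norm_sq, hcomm y (fun u => (Subgroup.mem_centralizer_iff.mp hy u u.2).symm)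
          hyp u (Finset.ne_of_mem_erase hu), one_pow]), Finset.sum_const,
      Finset.card_erase_of_mem (Finset.mem_univ _), Finset.card_univ, ← Nat.card_eq_fintype_card,
      OneMemClass.coe_one, mul_one, nsmul_eq_mul, mul_one, Nat.cast_sub Nat.card_pos,
      Nat.cast_one] at h
    have h3 : (Cfsg.charDegree (χ : G → ℂ) : ℝ) = (Nat.card P : ℝ) - 1 := by
      have h4 := congrArg Complex.re ((cast_irrDegree χ).trans hdeg)
      simpa using h4
    rw [Complex.normSq_eq_norm_sq] at h
    rw [h3]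
    have hpos : (0 : ℝ) ≤ (Nat.card P : ℝ) - 1 := by
      have : (1 : ℝ) ≤ (Nat.card P : ℝ) := by exact_mod_cast Nat.card_pos (α := P)
      linarith
    refine (sq_eq_sq₀ (norm_nonneg _) hpos).mp ?_
    linear_combination h
  -- `p`-elements of `C` lie in `P`
  have hCp : ∀ c ∈ C, ∀ j : ℕ, c ^ p ^ j = 1 → c ∈ P := by
    intro c hc j hj
    let S : Subgroup G :=
      { carrier := {x | x ∈ C ∧ ∃ j : ℕ, x ^ p ^ j = 1}
        one_mem' := ⟨one_mem C, 0, by simp⟩
        mul_mem' := fun {a b} ha hb => by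
          obtain ⟨ha, i, hi⟩ := ha
          obtain ⟨hb, j, hj⟩ := hb
          refine ⟨mul_mem ha hb, i + j, ?_⟩
          rw [(show Commute a b from hCab a ha b hb).mul_pow, pow_add, pow_mul, hi, one_pow,
            one_mul, mul_comm (p ^ i), pow_mul, hj, one_pow]
        inv_mem' := fun {a} ha => by
          obtain ⟨ha, i, hi⟩ := ha
          exact ⟨inv_mem ha, i, by rw [inv_pow, hi, inv_one]⟩ }
    haveI : S.Normal := ⟨fun x hx g => by
      obtain ⟨hx, i, hi⟩ := hx
      exact ⟨hCn.conj_mem x hx g, i, by rw [conj_pow, hi, mul_one, mul_inv_cancel]⟩⟩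
    refine CfsgLib.Core.le_pCore (N := S) (fun x => ?_) ⟨hc, j, hj⟩
    obtain ⟨-, i, hi⟩ := x.2
    exact ⟨i, Subtype.ext hi⟩
  have hCeq : C = P ⊔ Subgroup.center G := by
    refine le_antisymm (fun c hc => ?_) (sup_le hPC (Subgroup.center_le_centralizer _))
    obtain ⟨a, m, hm, he⟩ := Nat.exists_eq_pow_mul_and_not_dvd (orderOf_pos c).ne' p hp.ne_one
    have hu : c ^ m ∈ P := hCp _ (pow_mem hc m) a (by
      rw [← pow_mul, mul_comm, ← he, pow_orderOf_eq_one])
    have hy : c ^ p ^ a ∈ Subgroup.center G := hzcen _ (pow_mem hc _) fun hd => hm (hd.trans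
      (orderOf_dvd_of_pow_eq_one (by rw [← pow_mul, ← he, pow_orderOf_eq_one])))
    have hcop : Nat.gcd (p ^ a) m = 1 := ((hp.coprime_iff_not_dvd.mpr hm).pow_left a)
    have hb := Nat.gcd_eq_gcd_ab (p ^ a) m
    rw [hcop, Nat.cast_one] at hb
    rw [← zpow_one c, hb, zpow_add, zpow_mul, zpow_mul, zpow_natCast, zpow_natCast]
    exact mul_mem (zpow_mem (Subgroup.mem_sup_right hy) _) (zpow_mem (Subgroup.mem_sup_left hu) _)
  have hPZ : P ⊓ Subgroup.center G = ⊥ := by
    rw [Subgroup.eq_bot_iff_forall]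
    rintro z ⟨hzP, hzZ⟩
    set u : P := ⟨z, hzP⟩ with hu
    suffices u = 1 from congrArg Subtype.val this
    have hconst : ∀ l m : P →* ℂˣ, l ≠ 1 → m ≠ 1 → m u = l u := fun l m hl' hm' => by
      obtain ⟨g, hg⟩ := htrans l m hl' hm'
      have hgu : MulAut.conjNormal g u = u := Subtype.ext (by
        rw [MulAut.conjNormal_apply]
        show g * z * g⁻¹ = z
        rw [Subgroup.mem_center_iff.mp hzZ g, mul_inv_cancel_right])
      exact Units.ext (by rw [hg u, hgu])
    by_contra hne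
    obtain ⟨l, hlu⟩ := hsep u hne
    have hl1 : l ≠ 1 := fun h => hlu (by rw [h]; rfl)
    have hmul : ∀ m : P →* ℂˣ, m ≠ 1 → l * m = 1 := fun m hm => by
      by_contra hlm
      have h2 := hconst l (l * m) hl1 hlm
      rw [MonoidHom.mul_apply, hconst l m hl1 hm, mul_eq_left] at h2
      exact hlu h2
    have hsub : (Finset.univ : Finset (P →* ℂˣ)) ⊆ {1, l⁻¹} := fun m _ => by
      by_cases hm : m = 1
      · simp [hm]
      · have h2 : m = l⁻¹ := MonoidHom.ext fun w =>
          eq_inv_of_mul_eq_one_right (DFunLike.congr_fun (hmul m hm) w)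
        simp [h2]
    have hle := (Finset.card_le_card hsub).trans Finset.card_le_two
    rw [Finset.card_univ, ← Nat.card_eq_fintype_card, hcardhom] at hle
    omega
  by_cases hsyl : (Nat.card P).factorization p = (Nat.card G).factorization p
  · refine Or.inl ⟨hsyl, ⟨⟨⟨hab⟩⟩, fun a ha => congrArg Subtype.val (hexp ⟨a, ha⟩)⟩, hCeq, hPZ,
      fun lam mu hlc hl1 hln hmc hm1 hmn => ?_, hdeg⟩
    obtain ⟨l, hlam⟩ := exists_linear_of_degree_one hlc hl1
    obtain ⟨m, hmu⟩ := exists_linear_of_degree_one hmc hm1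
    have hl' : l ≠ 1 := fun h => hln (funext fun u => by rw [hlam, h]; simp)
    have hm' : m ≠ 1 := fun h => hmn (funext fun u => by rw [hmu, h]; simp)
    obtain ⟨g, hg⟩ := htrans l m hl' hm'
    refine ⟨g, fun x hx hgx => ?_⟩
    rw [hlam, hmu]
    simp only [hg]
    congr 2
  -- a `p`-element outside `P`
  obtain ⟨s, hsP, k, hsk⟩ : ∃ s, s ∉ P ∧ ∃ k : ℕ, orderOf s = p ^ k := by
    obtain ⟨S⟩ : Nonempty (Sylow p G) := inferInstance
    have hle : P ≤ (S : Subgroup G) := CfsgLib.Core.pCore_le_sylow S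
    by_contra hno
    push Not at hno
    have heq : (S : Subgroup G) = P := le_antisymm (fun s hs => by
      by_contra h
      obtain ⟨k, hk⟩ := IsPGroup.iff_orderOf.mp S.2 ⟨s, hs⟩
      rw [Subgroup.orderOf_mk] at hk
      exact hno s h k hk) hle
    apply hsyl
    rw [← heq, S.card_eq_multiplicity, hp.factorization_pow, Finsupp.single_eq_same]
  have hnorm1 : ∀ g : G, g ∉ P → (∃ k : ℕ, orderOf g = p ^ k) → ∀ u : P,
      ‖(χ : G → ℂ) (g * u)‖ = 1 := by
    intro g hgP ⟨j, hj⟩ u
    refine hsing _ ?_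
    have h2 := orderOf_map_dvd (QuotientGroup.mk' P) (g * (u : G))
    refine dvd_trans ?_ h2
    have h3 : QuotientGroup.mk' P (g * (u : G)) = QuotientGroup.mk' P g := by
      rw [map_mul, show QuotientGroup.mk' P (u : G) = 1 from (QuotientGroup.eq_one_iff _).mpr u.2,
        mul_one]
    rw [h3]
    obtain ⟨i, -, hi⟩ := (Nat.dvd_prime_pow hp).mp (hj ▸ orderOf_map_dvd (QuotientGroup.mk' P) g)
    rw [hi]
    refine dvd_pow_self p fun hi0 => hgP ?_
    rw [← QuotientGroup.eq_one_iff]
    exact orderOf_eq_one_iff.mp (by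
      show orderOf (QuotientGroup.mk' P g) = 1
      rw [hi, hi0, pow_zero])
  -- the linear characters fixed by an element
  let F : G → Subgroup (P →* ℂˣ) := fun g =>
    { carrier := {l | ∀ u : P, l (MulAut.conjNormal g u) = l u}
      one_mem' := fun u => rfl
      mul_mem' := fun {a b} ha hb u => by rw [MonoidHom.mul_apply, MonoidHom.mul_apply, ha u, hb u]
      inv_mem' := fun {a} ha u => by rw [MonoidHom.inv_apply, MonoidHom.inv_apply, ha u] }
  have hF : ∀ g : G, g ∉ P → (∃ k : ℕ, orderOf g = p ^ k) → Nat.card (F g) = 2 := by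
    intro g hgP hg
    have h := hpar g
    rw [Finset.sum_congr rfl (fun u _ => show Complex.normSq ((χ : G → ℂ) (g * (u : P))) = 1 by
      rw [Complex.normSq_eq_norm_sq, hnorm1 g hgP hg u, one_pow]), Finset.sum_const, Finset.card_univ,
      nsmul_eq_mul, mul_one, ← Nat.card_eq_fintype_card] at h
    have hone : Nat.card {l : P →* ℂˣ // l ≠ 1 ∧ ∀ u : P, l (MulAut.conjNormal g u) = l u} = 1 := by
      have h2 : ((1 : ℕ) : ℝ) = (Nat.card {l : P →* ℂˣ // l ≠ 1 ∧
          ∀ u : P, l (MulAut.conjNormal g u) = l u} : ℝ) := by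
        rw [Nat.cast_one]
        exact mul_left_cancel₀ (Nat.cast_ne_zero.mpr Nat.card_pos.ne' : (Nat.card P : ℝ) ≠ 0)
          ((mul_one _).trans h)
      exact (Nat.cast_injective h2).symm
    have e : {l : P →* ℂˣ // l ≠ 1 ∧ ∀ u : P, l (MulAut.conjNormal g u) = l u} ≃
        {l : F g // l ≠ 1} :=
      { toFun := fun l => ⟨⟨l.1, l.2.2⟩, fun e => l.2.1 (congrArg Subtype.val e)⟩
        invFun := fun l => ⟨l.1.1, fun e => l.2 (Subtype.ext e), l.1.2⟩
        left_inv := fun l => rfl
        right_inv := fun l => rfl }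
    have := Fintype.ofFinite (F g)
    rw [Nat.card_congr e, Nat.card_eq_fintype_card, Fintype.card_subtype_compl,
      Fintype.card_subtype_eq] at hone
    rw [Nat.card_eq_fintype_card]
    omega
  obtain ⟨kP, hkP⟩ := IsPGroup.iff_card.mp hPp
  have hp2 : p = 2 := by
    have hd : Nat.card (F s) ∣ p ^ kP := by
      rw [← hkP, ← hcardhom]; exact Subgroup.card_subgroup_dvd_card _
    rw [hF s hsP ⟨k, hsk⟩] at hd
    exact ((Nat.prime_dvd_prime_iff_eq Nat.prime_two hp).mp (Nat.prime_two.dvd_of_dvd_pow hd)).symm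
  subst hp2
  have hZodd : Odd (Nat.card (Subgroup.center G)) := by
    by_contra hne
    obtain ⟨z, hz⟩ := exists_prime_orderOf_dvd_card' (G := Subgroup.center G) 2
      (Nat.not_odd_iff_even.mp hne).two_dvd
    have hzC : (z : G) ∈ C := Subgroup.center_le_centralizer _ z.2
    have hzP := hCp _ hzC 1 (by
      rw [pow_one, ← hz, ← Subgroup.orderOf_coe, pow_orderOf_eq_one])
    have : (z : G) = 1 := by
      rw [← Subgroup.mem_bot, ← hPZ]; exact Subgroup.mem_inf.mpr ⟨hzP, z.2⟩
    rw [← Subgroup.orderOf_coe, this, orderOf_one] at hz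
    norm_num at hz
  -- an element acting as an involution
  have hpel : ∀ j : ℕ, ∃ i, orderOf (s ^ 2 ^ j) = 2 ^ i := fun j => by
    obtain ⟨i, -, hi⟩ := (Nat.dvd_prime_pow Nat.prime_two).mp (hsk ▸ orderOf_pow_dvd (2 ^ j))
    exact ⟨i, hi⟩
  obtain ⟨t, htC, ht2, i, hti⟩ : ∃ t, t ∉ C ∧ t ^ 2 ∈ C ∧ ∃ i, orderOf t = 2 ^ i := by
    by_contra hno
    push Not at hno
    have hsC : s ∉ C := fun h => hsP (hCp s h k (by rw [← hsk, pow_orderOf_eq_one]))
    have : ∀ j : ℕ, s ^ 2 ^ j ∉ C := by
      intro j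
      induction j with
      | zero => simpa using hsC
      | succ j ihj =>
        intro hmem
        rw [pow_succ, pow_mul] at hmem
        obtain ⟨i, hi⟩ := hpel j
        exact hno _ ihj hmem i hi
    exact this k (by rw [← hsk, pow_orderOf_eq_one]; exact one_mem C)
  have ht2P : t ^ 2 ∈ P := hCp _ ht2 i (by
    rw [← pow_mul, mul_comm, pow_mul, ← hti, pow_orderOf_eq_one, one_pow])
  have htP : t ∉ P := fun h => htC (hPC h)
  have hexpl : ∀ (l : P →* ℂˣ) (u : P), l u * l u = 1 := fun l u => by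
    rw [← map_mul, ← sq, hexp, map_one]
  have hP4 : Nat.card P = 4 := by
    let δ : (P →* ℂˣ) →* (P →* ℂˣ) :=
      { toFun := fun l => l * l.comp (MulAut.conjNormal t : P ≃* P).toMonoidHom
        map_one' := by ext u; simp
        map_mul' := fun a b => by
          ext u
          simp only [MonoidHom.mul_apply, MonoidHom.comp_apply, MulEquiv.coe_toMonoidHom, Units.val_mul]
          ring }
    have hrange : δ.range ≤ F t := by
      rintro _ ⟨l, rfl⟩ u
      show l (MulAut.conjNormal t u) * l (MulAut.conjNormal t (MulAut.conjNormal t u)) =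
        l u * l (MulAut.conjNormal t u)
      rw [show MulAut.conjNormal t (MulAut.conjNormal t u) = MulAut.conjNormal (t ^ 2) u by
        rw [sq, map_mul]; rfl, hCfix _ ht2 u, mul_comm]
    have hker : δ.ker ≤ F t := fun l hl' u => by
      have h2 : l u * l (MulAut.conjNormal t u) = 1 := DFunLike.congr_fun (MonoidHom.mem_ker.mp hl') u
      exact mul_left_cancel (h2.trans (hexpl l u).symm)
    have h3 := δ.ker.card_mul_index
    rw [Subgroup.index_ker, hcardhom] at h3
    have h4 := hF t htP ⟨i, hti⟩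
    have h5 := Nat.le_of_dvd (h4 ▸ Nat.card_pos) (Subgroup.card_dvd_of_le hrange)
    have h6 := Nat.le_of_dvd (h4 ▸ Nat.card_pos) (Subgroup.card_dvd_of_le hker)
    rw [h4] at h5 h6
    have h7 : Nat.card P ≤ 4 := by rw [← h3]; exact Nat.mul_le_mul h6 h5
    have h8 : Nat.card P = 2 ^ kP := hkP
    rcases (show kP = 0 ∨ kP = 1 ∨ kP = 2 ∨ 3 ≤ kP by omega) with h | h | h | h
    · rw [h] at h8; omega
    · rw [h] at h8; omega
    · rw [h8, h]; rfl
    · have : 2 ^ 3 ≤ 2 ^ kP := Nat.pow_le_pow_right (by norm_num) h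
      omega
  -- the action on the three nontrivial linear characters
  let Ω := {l : P →* ℂˣ // l ≠ 1}
  letI : MulAction G Ω :=
    { smul := fun g l => ⟨l.1.comp (MulAut.conjNormal g⁻¹ : P ≃* P).toMonoidHom, fun h => l.2 (by
        ext u
        have h2 := DFunLike.congr_fun h (MulAut.conjNormal g u)
        simp only [MonoidHom.comp_apply, MulEquiv.coe_toMonoidHom, MonoidHom.one_apply] at h2
        rw [show MulAut.conjNormal g⁻¹ (MulAut.conjNormal g u) = u from
          Subtype.ext (by simp [mul_assoc])] at h2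
        simp [h2])⟩
      one_smul := fun l => Subtype.ext (MonoidHom.ext fun u => congrArg l.1 (Subtype.ext (by simp)))
      mul_smul := fun a b l => Subtype.ext (MonoidHom.ext fun u => congrArg l.1 (Subtype.ext (by
        simp [mul_assoc]))) }
  let φ := MulAction.toPermHom G Ω
  have hker : φ.ker = C := by
    ext g
    rw [MonoidHom.mem_ker, hCdef, Subgroup.mem_centralizer_iff]
    constructor
    · intro h u hu
      have h2 : MulAut.conjNormal g⁻¹ (⟨u, hu⟩ : P) = ⟨u, hu⟩ := by
        refine hsepE _ _ fun l => ?_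
        by_cases hl1 : l = 1
        · rw [hl1]; rfl
        · exact DFunLike.congr_fun (congrArg Subtype.val (Equiv.ext_iff.mp h ⟨l, hl1⟩)) ⟨u, hu⟩
      have h3 := congrArg Subtype.val h2
      rw [MulAut.conjNormal_apply, inv_inv] at h3
      calc u * g = g * (g⁻¹ * u * g) := by group
        _ = g * u := by rw [h3]
    · intro h
      refine Equiv.ext fun l => Subtype.ext (MonoidHom.ext fun u => congrArg l.1 (Subtype.ext ?_))
      show g⁻¹ * (u : G) * g⁻¹⁻¹ = u
      rw [inv_inv, mul_assoc, h u u.2, ← mul_assoc, inv_mul_cancel, one_mul]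
  have hΩ : Nat.card Ω = 3 := by
    rw [Nat.card_eq_fintype_card, Fintype.card_subtype_compl, Fintype.card_subtype_eq,
      ← Nat.card_eq_fintype_card, hcardhom, hP4]
  have hodd' : ∀ c ∈ C, c ^ 2 ∈ P → c ∈ P := fun c hc h2 => hCp c hc 2 (by
    rw [show (2 : ℕ) ^ 2 = 2 * 2 from rfl, pow_mul]
    exact congrArg Subtype.val (hexp ⟨c ^ 2, h2⟩))
  have hfix : ∀ g : G, g ^ 3 ∈ P → g ∉ C → ∀ u ∈ P, g * u = u * g → u = 1 := by
    intro g hg3 hgC u hu hcm
    by_contra hu1
    set v : P := ⟨u, hu⟩ with hv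
    have hgv : ∀ l : Ω, (φ g l).1 v = l.1 v := fun l => congrArg l.1 (Subtype.ext (by
      show g⁻¹ * u * g⁻¹⁻¹ = u
      rw [inv_inv, mul_assoc, ← hcm, ← mul_assoc, inv_mul_cancel, one_mul]))
    obtain ⟨l, hlv⟩ := hsep v fun e => hu1 (congrArg Subtype.val e)
    have hl1 : l ≠ 1 := fun h => hlv (by rw [h]; rfl)
    have h3 : φ g ^ 3 = 1 := by rw [← map_pow]; exact MonoidHom.mem_ker.mp (hker.ge (hPC hg3))
    have hg1 : φ g ≠ 1 := fun h => hgC (hker ▸ h)
    -- the three-cycle has no fixed point, and its orbit product is trivial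
    have := Fintype.ofFinite Ω
    have hfree : ∀ x : Ω, φ g x ≠ x := by
      intro x hx
      have hd := Equiv.Perm.exists_fixed_point_of_prime' (p := 3) (n := 1) (hp := ⟨Nat.prime_three⟩)
        (by rw [← Nat.card_eq_fintype_card, hΩ]) (by rw [pow_one]; exact h3) hx
      obtain ⟨y, hy, hyx⟩ := hd
      refine hg1 (Equiv.ext fun z => ?_)
      by_contra hz
      have hz2 : φ g (φ g z) ≠ φ g z := fun e => hz ((φ g).injective e)
      have hzx : φ g z ≠ x := fun e => hz (by rw [Equiv.Perm.one_apply, e, (φ g).injective (e.trans hx.symm)])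
      have hzy : φ g z ≠ y := fun e => hz (by rw [Equiv.Perm.one_apply, e, (φ g).injective (e.trans hy.symm)])
      have hzx' : z ≠ x := fun e => hz (by rw [Equiv.Perm.one_apply, e, hx])
      have hzy' : z ≠ y := fun e => hz (by rw [Equiv.Perm.one_apply, e, hy])
      have hcard4 : ({x, y, z, φ g z} : Finset Ω).card = 4 := by
        rw [Finset.card_insert_of_notMem, Finset.card_insert_of_notMem,
          Finset.card_insert_of_notMem, Finset.card_singleton]
        · simp [Ne.symm (show φ g z ≠ z from hz)]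
        · simp [hzy.symm, hzy'.symm]
        · simp [hyx.symm, hzx.symm, hzx'.symm]
      have := Finset.card_le_univ ({x, y, z, φ g z} : Finset Ω)
      rw [hcard4, ← Nat.card_eq_fintype_card, hΩ] at this
      omega
    set l₀ : Ω := ⟨l, hl1⟩ with hl₀
    set m := (φ g l₀).1 with hm
    have hmv : m v = l v := hgv l₀
    have hml : m ≠ l := fun e => hfree l₀ (Subtype.ext e)
    have hlm : l * m ≠ 1 := fun e => hml (MonoidHom.ext fun w =>
      mul_left_cancel ((DFunLike.congr_fun e w).trans (hexpl l w).symm))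
    have hprod : (l * m) v = 1 := by rw [MonoidHom.mul_apply, hmv, hexpl]
    have hall : ∀ n : P →* ℂˣ, n ≠ 1 → n ≠ l * m → n v = l v := by
      intro n hn1 hnlm
      by_cases hnl : n = l
      · rw [hnl]
      by_cases hnm : n = m
      · rw [hnm, hmv]
      exfalso
      have hm1 : m ≠ 1 := (φ g l₀).2
      have hcard5 : ({1, l, m, l * m, n} : Finset (P →* ℂˣ)).card = 5 := by
        have e1 : l * m ≠ l := fun e => hm1 (MonoidHom.ext fun w => mul_eq_left.mp (DFunLike.congr_fun e w))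
        have e2 : l * m ≠ m := fun e => hl1 (MonoidHom.ext fun w => mul_eq_right.mp (DFunLike.congr_fun e w))
        rw [Finset.card_insert_of_notMem, Finset.card_insert_of_notMem,
          Finset.card_insert_of_notMem, Finset.card_insert_of_notMem, Finset.card_singleton]
        · simp [Ne.symm hnlm]
        · simp [e2.symm, Ne.symm hnm]
        · simp [hml.symm, e1.symm, Ne.symm hnl]
        · simp [hl1.symm, hm1.symm, hlm.symm, hn1.symm]
      have := Finset.card_le_univ ({1, l, m, l * m, n} : Finset (P →* ℂˣ))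
      rw [hcard5, ← Nat.card_eq_fintype_card, hcardhom, hP4] at this
      omega
    -- the orbit of `l * m` is everything
    have hx := hgv ⟨l * m, hlm⟩
    have hy := hall _ (φ g ⟨l * m, hlm⟩).2 fun e => hfree ⟨l * m, hlm⟩ (Subtype.ext e)
    rw [hy, hprod] at hx
    exact hlv hx

  obtain ⟨H, hHC, hHtop, hiso⟩ := exists_symm_four P C hPC hP4 hΩ φ hker
    (fun a b => by
      obtain ⟨g, hg⟩ := htrans a.1 b.1 a.2 b.2
      refine ⟨g⁻¹, Subtype.ext (MonoidHom.ext fun u => ?_)⟩
      show a.1 (MulAut.conjNormal g⁻¹⁻¹ u) = b.1 u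
      rw [inv_inv]
      exact Units.ext (hg u).symm)
    hodd' (fun c hc g => by
      have hc' : c ∈ P ⊔ Subgroup.center G := hCeq ▸ hc
      obtain ⟨a, ha, z, hz, rfl⟩ := (Subgroup.mem_sup_of_normal_right).mp hc'
      have h2 : ⁅g, a * z⁆ = g * a * g⁻¹ * a⁻¹ := by
        rw [commutatorElement_def, mul_inv_rev]
        calc g * (a * z) * g⁻¹ * (z⁻¹ * a⁻¹) = g * a * (z * g⁻¹) * z⁻¹ * a⁻¹ := by group
          _ = g * a * (g⁻¹ * z) * z⁻¹ * a⁻¹ := by rw [Subgroup.mem_center_iff.mp hz g⁻¹]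
          _ = _ := by group
      rw [h2]
      exact mul_mem (hPn.conj_mem a ha g) (inv_mem ha))
    htC ht2P hfix (fun x hx => Subgroup.mem_centralizer_iff.mpr hx)
  refine Or.inr ⟨rfl, hZodd, H, hiso, ?_, ?_⟩
  · rw [eq_bot_iff, ← hPZ]
    refine le_inf ?_ inf_le_right
    rw [← hHC]
    exact le_inf inf_le_left (inf_le_right.trans (Subgroup.center_le_centralizer _))
  · rw [eq_top_iff, ← hHtop, hCeq]
    exact sup_le le_sup_left (sup_le ((hHC.ge.trans inf_le_left).trans le_sup_left) le_sup_right)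

end Cfsg.Agent.S4751
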