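import Cfsg.Statements.S4754
import Cfsg.Agent.Lib.CharDegree.Counting

set_option autoImplicit false
open Cfsg CfsgLib.Char CfsgLib.CharDegree

namespace Cfsg.Agent.S4754

/-- For elements x, y of a finite group G, the conjugacy class of x y equals the set of all products of a conjugate of x with a conjugate of y if and only if χ(1) χ(a x a⁻¹ b y b⁻¹) = χ(x) χ(y) for all a, b ∈ G and every irreducible character χ. -/
theorem result {G : Type*} [Group G] [Finite G] (x y : G) : (∀ z : G, IsConj (x * y) z ↔ ∃ a b : G, z = a * x * a⁻¹ * (b * y * b⁻¹)) ↔ ∀ (a b : G) (χ : Cfsg.IrrCharacter G), (χ : G → ℂ) 1 * (χ : G → ℂ) (a * x * a⁻¹ * (b * y * b⁻¹)) = (χ : G → ℂ) x * (χ : G → ℂ) y := by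
  classical
  have := Fintype.ofFinite G
  have hN : (Nat.card G : ℂ) ≠ 0 := Nat.cast_ne_zero.mpr Nat.card_pos.ne'
  constructor
  · intro h a b χ
    have hall : ∀ c : G, (χ : G → ℂ) (c * x * c⁻¹ * (b * y * b⁻¹)) = (χ : G → ℂ) (x * y) :=
      fun c => (apply_eq_of_isConj χ ((h _).mpr ⟨c, b, rfl⟩)).symm
    have hs := sum_conj_mul χ x (b * y * b⁻¹)
    rw [Finset.sum_congr rfl fun c _ => hall c, Finset.sum_const, Finset.card_univ, nsmul_eq_mul,
      ← Nat.card_eq_fintype_card, IsIrr.isClassFunction χ.2 y b,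
      eq_div_iff (IsIrr.apply_one_ne_zero χ.2)] at hs
    rw [hall a]
    apply mul_left_cancel₀ hN
    rw [← mul_assoc _ ((χ : G → ℂ) x), ← hs]
    ring
  · intro h z
    constructor
    · intro hz
      obtain ⟨c, rfl⟩ := isConj_iff.mp hz
      exact ⟨c, c, by group⟩
    · rintro ⟨a, b, rfl⟩
      refine isConj_of_forall_eq fun χ => ?_
      apply mul_left_cancel₀ (IsIrr.apply_one_ne_zero χ.2)
      rw [h a b χ]
      simpa using h 1 1 χ

end Cfsg.Agent.S4754
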