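import Cfsg.Statements.S4755
import Cfsg.Agent.Lib.CharDegree.Counting

set_option autoImplicit false
open Cfsg CfsgLib.Char CfsgLib.CharDegree
open scoped ComplexConjugate commutatorElement

namespace Cfsg.Agent.S4755

/-- Let x, y be non-identity elements of the finite group G such that χ(x' y') = χ(x') χ(y') for all conjugates x' of x, y' of y and every irreducible character χ. Then the conjugacy class of x y is the set of all products of a conjugate of x with a conjugate of y; every irreducible character of degree greater than 1 vanishes at x y; and the conjugacy class of x y is the coset of the commutator subgroup containing x y. -/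
theorem result {G : Type*} [Group G] [Finite G] (x y : G) (hx : x ≠ 1) (hy : y ≠ 1) (h : ∀ (a b : G) (χ : Cfsg.IrrCharacter G), (χ : G → ℂ) (a * x * a⁻¹ * (b * y * b⁻¹)) = (χ : G → ℂ) (a * x * a⁻¹) * (χ : G → ℂ) (b * y * b⁻¹)) : (∀ z : G, IsConj (x * y) z ↔ ∃ a b : G, z = a * x * a⁻¹ * (b * y * b⁻¹)) ∧ (∀ χ : Cfsg.IrrCharacter G, (χ : G → ℂ) 1 ≠ 1 → (χ : G → ℂ) (x * y) = 0) ∧ (∀ z : G, IsConj (x * y) z ↔ (x * y)⁻¹ * z ∈ commutator G) := by
  classical
  have := Fintype.ofFinite G
  have := Fintype.ofFinite (Cfsg.IrrCharacter G)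
  have hN : (Nat.card G : ℂ) ≠ 0 := Nat.cast_ne_zero.mpr Nat.card_pos.ne'
  have hall : ∀ (a b : G) (χ : Cfsg.IrrCharacter G),
      (χ : G → ℂ) (a * x * a⁻¹ * (b * y * b⁻¹)) = (χ : G → ℂ) x * (χ : G → ℂ) y := fun a b χ => by
    rw [h a b χ, IsIrr.isClassFunction χ.2 x a, IsIrr.isClassFunction χ.2 y b]
  have hxy : ∀ χ : Cfsg.IrrCharacter G,
      (χ : G → ℂ) (x * y) = (χ : G → ℂ) x * (χ : G → ℂ) y := fun χ => by
    simpa using hall 1 1 χ
  have hnl : ∀ χ : Cfsg.IrrCharacter G, (χ : G → ℂ) 1 ≠ 1 → (χ : G → ℂ) (x * y) = 0 := by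
    intro χ hχ
    have hs := sum_conj_mul χ x y
    have hc : ∀ a, (χ : G → ℂ) (a * x * a⁻¹ * y) = (χ : G → ℂ) x * (χ : G → ℂ) y := fun a => by
      simpa using hall a 1 χ
    rw [Finset.sum_congr rfl fun a _ => hc a, Finset.sum_const, Finset.card_univ, nsmul_eq_mul,
      ← Nat.card_eq_fintype_card, eq_div_iff (IsIrr.apply_one_ne_zero χ.2)] at hs
    rw [hxy]
    have h0 : (Nat.card G : ℂ) * ((χ : G → ℂ) x * (χ : G → ℂ) y) * ((χ : G → ℂ) 1 - 1) = 0 := by
      linear_combination hs
    simpa [hN, sub_ne_zero.mpr hχ] using h0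
  refine ⟨fun z => ⟨fun hz => ?_, ?_⟩, hnl, fun z => ⟨fun hz => ?_, fun hz => ?_⟩⟩
  · obtain ⟨c, rfl⟩ := isConj_iff.mp hz
    exact ⟨c, c, by group⟩
  · rintro ⟨a, b, rfl⟩
    exact isConj_of_forall_eq fun χ => by rw [hall, hxy]
  · obtain ⟨c, rfl⟩ := isConj_iff.mp hz
    have hm := Subgroup.commutator_mem_commutator (Subgroup.mem_top ((x * y)⁻¹))
      (Subgroup.mem_top c) (H₁ := ⊤) (H₂ := ⊤)
    rw [commutator_def]
    convert hm using 1
    rw [commutatorElement_def]
    group
  · have hlin : ∀ χ : Cfsg.IrrCharacter G, (χ : G → ℂ) z * conj ((χ : G → ℂ) (x * y)) =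
        if Cfsg.charDegree (χ : G → ℂ) = 1 then 1 else 0 := by
      intro χ
      split_ifs with hd
      · obtain ⟨l, hl⟩ := exists_hom_of_degree_one χ hd
        have h1 : l ((x * y)⁻¹ * z) = 1 :=
          MonoidHom.mem_ker.mp (Abelianization.commutator_subset_ker l hz)
        rw [map_mul, map_inv, inv_mul_eq_one] at h1
        rw [hl]
        show ((l z : ℂˣ) : ℂ) * conj ((l (x * y) : ℂˣ) : ℂ) = 1
        rw [← h1]
        have hm := IsIrr.map_inv χ.2 (x * y)
        simp only [hl] at hm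
        rw [← hm, map_inv, ← Units.val_mul, mul_inv_cancel, Units.val_one]
      · rw [hnl χ fun h1 => hd ((charDegree_eq_one_iff χ).mpr h1), map_zero, mul_zero]
    by_contra hc
    have ho := column_orthogonality z (x * y)
    rw [if_neg fun h => hc h.symm, Finset.sum_congr rfl fun χ _ => hlin χ, Finset.sum_boole,
      ← Fintype.card_subtype, ← Nat.card_eq_fintype_card, card_linear, Nat.cast_eq_zero] at ho
    exact Subgroup.index_ne_zero_of_finite ho

end Cfsg.Agent.S4755
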