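import Cfsg.Statements.S4756
import Cfsg.Agent.S0165
import Cfsg.Agent.Lib.CharDegree.Basic
import Cfsg.Agent.Lib.Core.FPF
import Cfsg.Agent.Lib.Core.Coprime
import Mathlib.GroupTheory.SchurZassenhaus

set_option autoImplicit false
open Cfsg

namespace Cfsg.Agent.S4756


open CfsgLib.Char CfsgLib.CharDegree
open scoped ComplexConjugate commutatorElement Pointwise

section

variable {G : Type*} [Group G] [Finite G]

theorem sum_sq_nat [Fintype (Cfsg.IrrCharacter G)] :
    ∑ χ : Cfsg.IrrCharacter G, Cfsg.charDegree (χ : G → ℂ) ^ 2 = Nat.card G := by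
  apply Nat.cast_injective (R := ℂ)
  push_cast
  rw [← sum_sq_degree]
  exact Finset.sum_congr rfl fun χ _ => by rw [cast_irrDegree]

theorem degree_sq_lt (χ : Cfsg.IrrCharacter G) (hχ : Cfsg.charDegree (χ : G → ℂ) ≠ 1) :
    Cfsg.charDegree (χ : G → ℂ) ^ 2 < Nat.card G := by
  classical
  have := Fintype.ofFinite G
  have := Fintype.ofFinite (Cfsg.IrrCharacter G)
  have h1 : Cfsg.charDegree (trivChar G : G → ℂ) = 1 := charDegree_eq_of_apply_one (by simp)
  have hne : trivChar G ≠ χ := fun h => hχ (h ▸ h1)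
  rw [← sum_sq_nat (G := G)]
  exact Finset.single_lt_sum (f := fun ψ : Cfsg.IrrCharacter G => Cfsg.charDegree (ψ : G → ℂ) ^ 2)
    hne (Finset.mem_univ χ) (Finset.mem_univ _) (by rw [h1]; norm_num)
    fun _ _ _ => Nat.zero_le _

/-- An element where every nonlinear character vanishes. -/
theorem card_centralizer_eq {g : G}
    (h : ∀ χ : Cfsg.IrrCharacter G, Cfsg.charDegree (χ : G → ℂ) ≠ 1 → (χ : G → ℂ) g = 0) :
    Nat.card (Subgroup.centralizer ({g} : Set G)) = (commutator G).index := by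
  classical
  have := Fintype.ofFinite (Cfsg.IrrCharacter G)
  apply Nat.cast_injective (R := ℂ)
  have h1 := column_orthogonality g g
  rw [if_pos (IsConj.refl g)] at h1
  rw [← h1, ← card_linear, Nat.card_eq_fintype_card, Fintype.card_subtype, Finset.natCast_card_filter]
  refine Finset.sum_congr rfl fun χ _ => ?_
  by_cases hd : Cfsg.charDegree (χ : G → ℂ) = 1
  · obtain ⟨l, hl⟩ := exists_hom_of_degree_one χ hd
    rw [if_pos hd, hl, Complex.mul_conj, Complex.normSq_eq_norm_sq,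
      Complex.norm_eq_one_of_pow_eq_one (n := Nat.card G) ?_ Nat.card_pos.ne']
    · simp
    · rw [← Units.val_pow_eq_pow_val, ← map_pow, pow_card_eq_one', map_one, Units.val_one]
  · rw [if_neg hd, h χ hd, zero_mul]

/-- A nonlinear character of defect zero for `q` vanishes on `q`-singular elements. -/
theorem vanish_of_full {q : ℕ} (hq : q.Prime) (χ : Cfsg.IrrCharacter G)
    (hd : q ^ (Nat.card G).factorization q ∣ Cfsg.charDegree (χ : G → ℂ)) {g : G}
    (hg : q ∣ orderOf g) : (χ : G → ℂ) g = 0 := by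
  obtain ⟨n, ρ, hρ, hχ, hn⟩ := exists_rep χ
  have := hρ
  rw [← hχ]
  refine Cfsg.Agent.S0165.result ρ q _ hq (Nat.ordProj_dvd _ _)
    (Nat.pow_succ_factorization_not_dvd Nat.card_pos.ne' hq) ?_ g hg
  rwa [Module.finrank_fin_fun, hn]

/-- A `p`-regular element is conjugate into the complement of a normal Sylow `p`-subgroup. -/
theorem exists_conj_mem {p : ℕ} [Fact p.Prime] (P : Sylow p G) (A : Subgroup G)
    (hPn : (P : Subgroup G).Normal) (hcop : (Nat.card A).Coprime p)
    (hsup : A ⊔ (P : Subgroup G) = ⊤) {h : G} (hh : (orderOf h).Coprime p) :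
    ∃ y : G, y * h * y⁻¹ ∈ A := by
  haveI := hPn
  have hx : h ∈ A ⊔ (P : Subgroup G) := by rw [hsup]; trivial
  obtain ⟨k, hk⟩ := IsPGroup.iff_card.mp P.2
  have hcopP : (orderOf h).Coprime (Nat.card (P : Subgroup G)) := by
    rw [hk]; exact hh.pow_right k
  obtain ⟨a, ha, u, hu, rfl⟩ := (CfsgLib.Core.mem_sup_iff_mul (by
    rw [Subgroup.normalizer_eq_top]; exact le_top)).mp hx
  have hq : ((a * u : G) : G ⧸ (P : Subgroup G)) = (a : G ⧸ (P : Subgroup G)) := by
    rw [QuotientGroup.mk_mul, (QuotientGroup.eq_one_iff u).mpr hu, mul_one]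
  have hord : ∀ z : G, (orderOf z).Coprime (Nat.card (P : Subgroup G)) →
      orderOf (z : G ⧸ (P : Subgroup G)) = orderOf z := fun z hz => by
    refine Nat.dvd_antisymm (orderOf_map_dvd (QuotientGroup.mk' (P : Subgroup G)) z) ?_
    rw [orderOf_dvd_iff_pow_eq_one]
    have h1 : z ^ orderOf (z : G ⧸ (P : Subgroup G)) ∈ (P : Subgroup G) := by
      rw [← QuotientGroup.eq_one_iff, QuotientGroup.mk_pow, pow_orderOf_eq_one]
    exact orderOf_eq_one_iff.mp (Nat.eq_one_of_dvd_coprimes hz (orderOf_pow_dvd _)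
      (Subgroup.orderOf_dvd_natCard _ h1))
  have hcopA : (orderOf a).Coprime (Nat.card (P : Subgroup G)) := by
    rw [hk]
    exact ((hcop.coprime_dvd_left (Subgroup.orderOf_dvd_natCard _ ha))).pow_right k
  have heq : orderOf (a * u) = orderOf a := by rw [← hord _ hcopP, hq, hord _ hcopA]
  obtain ⟨n, -, hn⟩ := CfsgLib.Core.exists_conj_eq_of_coprime (N := (P : Subgroup G))
    (H := Subgroup.zpowers a) (K := Subgroup.zpowers (a * u))
    (CfsgLib.Core.le_normalizer_of_normal _ _)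
    (by
      rw [Subgroup.zpowers_le]
      exact mul_mem (Subgroup.mem_sup_left (Subgroup.mem_zpowers a)) (Subgroup.mem_sup_right hu))
    (by rw [Nat.card_zpowers, Nat.card_zpowers, heq]) (by rw [Nat.card_zpowers]; exact hcopA)
    (Or.inr (Group.isSolvable_of_comm fun x y => Subtype.ext (by
      obtain ⟨i, hi⟩ := Subgroup.mem_zpowers_iff.mp x.2
      obtain ⟨j, hj⟩ := Subgroup.mem_zpowers_iff.mp y.2
      show (x : G) * y = y * x
      rw [← hi, ← hj, ← zpow_add, ← zpow_add, add_comm])))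
  have hmem : a * u ∈ MulAut.conj n • Subgroup.zpowers a := hn ▸ Subgroup.mem_zpowers (a * u)
  obtain ⟨w, hw, hw'⟩ := hmem
  refine ⟨n⁻¹, ?_⟩
  rw [← hw']
  simpa [mul_assoc] using (Subgroup.zpowers_le.mpr ha hw)

theorem structure_of_mult
    (hmul : ∀ (x y : G) (χ : Cfsg.IrrCharacter G), x ≠ 1 → y ≠ 1 →
      (∃ p q a b : ℕ, p.Prime ∧ q.Prime ∧ p ≠ q ∧ orderOf x = p ^ a ∧ orderOf y = q ^ b) →
      (χ : G → ℂ) (x * y) = (χ : G → ℂ) x * (χ : G → ℂ) y) :
    (∃ p : ℕ, p.Prime ∧ IsPGroup p G) ∨ IsMulCommutative G ∨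
      ∃ (p : ℕ) (_ : Fact p.Prime) (P : Sylow p G) (A : Subgroup G), (P : Subgroup G).Normal ∧
        IsCyclic ↥A ∧ A ≠ ⊥ ∧ (Nat.card ↥A).Coprime p ∧ A ⊔ (P : Subgroup G) = ⊤ ∧
        IsMulCommutative ↥((P : Subgroup G) ⊓ Subgroup.centralizer (A : Set G)) ∧
        (⁅A, (P : Subgroup G)⁆).Normal ∧
        ((P : Subgroup G) ⊓ Subgroup.centralizer (A : Set G)) ⊔ ⁅A, (P : Subgroup G)⁆ = (P : Subgroup G) ∧
        ((P : Subgroup G) ⊓ Subgroup.centralizer (A : Set G)) ⊓ ⁅A, (P : Subgroup G)⁆ = ⊥ ∧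
        ∀ a ∈ A, a ≠ 1 → ∀ d ∈ ⁅A, (P : Subgroup G)⁆, a * d = d * a → d = 1 := by
  classical
  have := Fintype.ofFinite G
  have := Fintype.ofFinite (Cfsg.IrrCharacter G)
  by_cases hab : IsMulCommutative G
  · exact Or.inr (Or.inl hab)
  -- some nonlinear character
  obtain ⟨χ₀, hχ₀⟩ : ∃ χ : Cfsg.IrrCharacter G, Cfsg.charDegree (χ : G → ℂ) ≠ 1 := by
    by_contra h
    push Not at h
    apply hab
    have h1 : (commutator G).index = Nat.card G := by
      rw [← card_linear, Nat.card_congr (Equiv.subtypeUnivEquiv h), ← sum_sq_nat (G := G),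
        Finset.sum_congr rfl (fun χ _ => by rw [h χ, one_pow]), Finset.sum_const, Finset.card_univ,
        smul_eq_mul, mul_one, Nat.card_eq_fintype_card]
    have h2 : commutator G = ⊥ := by
      rw [← Subgroup.card_eq_one]
      have := (commutator G).card_mul_index
      rw [h1] at this
      exact Nat.eq_of_mul_eq_mul_right Nat.card_pos (by rw [this, one_mul])
    refine ⟨⟨fun a b => ?_⟩⟩
    rw [← commutatorElement_eq_one_iff_mul_comm, ← Subgroup.mem_bot, ← h2, commutator_def]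
    exact Subgroup.commutator_mem_commutator (Subgroup.mem_top a) (Subgroup.mem_top b)
  -- at most one prime is not of defect zero
  have hkey : ∀ χ : Cfsg.IrrCharacter G, Cfsg.charDegree (χ : G → ℂ) ≠ 1 →
      ∀ q r : ℕ, q.Prime → r.Prime → q ≠ r →
        q ^ (Nat.card G).factorization q ∣ Cfsg.charDegree (χ : G → ℂ) ∨
          r ^ (Nat.card G).factorization r ∣ Cfsg.charDegree (χ : G → ℂ) := by
    intro χ hχ q r hq hr hqr
    have hfull : ∀ s : ℕ, s.Prime → (∀ x : G, x ≠ 1 → (∃ a, orderOf x = s ^ a) → (χ : G → ℂ) x = 0) →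
        s ^ (Nat.card G).factorization s ∣ Cfsg.charDegree (χ : G → ℂ) := by
      intro s hs hv
      haveI := Fact.mk hs
      obtain ⟨S⟩ : Nonempty (Sylow s G) := inferInstance
      have := Fintype.ofFinite (S : Subgroup G)
      obtain ⟨m, hm⟩ := IsChar.classInner_eq_natCast
        (IsChar.restrict (S : Subgroup G) (IsIrr.isCharacter χ.2))
        (IsIrr.isCharacter (trivChar (S : Subgroup G)).2)
      rw [Cfsg.classInner, Fintype.sum_eq_single (1 : (S : Subgroup G)) fun x hx => ?_] at hm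
      · refine ⟨m, Nat.cast_injective (R := ℂ) ?_⟩
        rw [← S.card_eq_multiplicity, Nat.cast_mul, ← hm, cast_irrDegree]
        simp [mul_inv_cancel_left₀ (Nat.cast_ne_zero.mpr Nat.card_pos.ne' :
          (Nat.card (S : Subgroup G) : ℂ) ≠ 0)]
      · obtain ⟨a, ha⟩ := IsPGroup.iff_orderOf.mp S.2 x
        rw [hv x (fun h => hx (Subtype.ext h)) ⟨a, (Subgroup.orderOf_coe x).trans ha⟩, zero_mul]
    by_contra hno
    push Not at hno
    obtain ⟨x, hx, ⟨a, ha⟩, hxv⟩ : ∃ x : G, x ≠ 1 ∧ (∃ a, orderOf x = q ^ a) ∧ (χ : G → ℂ) x ≠ 0 := by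
      by_contra h; push Not at h
      exact hno.1 (hfull q hq h)
    obtain ⟨y, hy, ⟨b, hb⟩, hyv⟩ : ∃ y : G, y ≠ 1 ∧ (∃ b, orderOf y = r ^ b) ∧ (χ : G → ℂ) y ≠ 0 := by
      by_contra h; push Not at h
      exact hno.2 (hfull r hr h)
    have h := sum_conj_mul χ x y
    rw [Finset.sum_congr rfl fun g _ => show (χ : G → ℂ) (g * x * g⁻¹ * y) =
        (χ : G → ℂ) x * (χ : G → ℂ) y by
      rw [hmul _ y χ (fun h => hx (by simpa using h)) hy
        ⟨q, r, a, b, hq, hr, hqr, by rw [← MulAut.conj_apply, MulEquiv.orderOf_eq, ha], hb⟩,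
        IsIrr.isClassFunction χ.2 x g], Finset.sum_const, Finset.card_univ, nsmul_eq_mul,
      ← Nat.card_eq_fintype_card] at h
    have hne : (χ : G → ℂ) 1 ≠ 1 := fun h0 => hχ ((charDegree_eq_one_iff χ).mpr h0)
    have h0 : (χ : G → ℂ) 1 ≠ 0 := IsIrr.apply_one_ne_zero χ.2
    have hGne : (Nat.card G : ℂ) ≠ 0 := Nat.cast_ne_zero.mpr Nat.card_pos.ne'
    field_simp at h
    exact hne h
  -- the prime
  obtain ⟨p, hpp, hp⟩ : ∃ p : ℕ, p.Prime ∧ ∀ χ : Cfsg.IrrCharacter G,
      Cfsg.charDegree (χ : G → ℂ) ≠ 1 → ordCompl[p] (Nat.card G) ∣ Cfsg.charDegree (χ : G → ℂ) := by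
    have hdvd : ∀ χ : Cfsg.IrrCharacter G, Cfsg.charDegree (χ : G → ℂ) ≠ 1 → ∀ r : ℕ, r.Prime →
        ¬ r ^ (Nat.card G).factorization r ∣ Cfsg.charDegree (χ : G → ℂ) →
        ordCompl[r] (Nat.card G) ∣ Cfsg.charDegree (χ : G → ℂ) := by
      intro χ hχ r hr hnr
      rw [Nat.dvd_iff_prime_pow_dvd_dvd]
      intro q k hq hk
      rcases Nat.eq_zero_or_pos k with rfl | hk0
      · simp
      have hqr : q ≠ r := fun h =>
        Nat.not_dvd_ordCompl hr Nat.card_pos.ne' (h ▸ (dvd_pow_self q hk0.ne').trans hk)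
      refine dvd_trans (pow_dvd_pow q ?_) ((hkey χ hχ q r hq hr hqr).resolve_right hnr)
      exact (hq.pow_dvd_iff_le_factorization Nat.card_pos.ne').mp (hk.trans (Nat.ordCompl_dvd _ _))
    have hex : ∀ χ : Cfsg.IrrCharacter G, Cfsg.charDegree (χ : G → ℂ) ≠ 1 →
        ∃ r : ℕ, r.Prime ∧ ¬ r ^ (Nat.card G).factorization r ∣ Cfsg.charDegree (χ : G → ℂ) := by
      intro χ hχ
      by_contra h
      push Not at h
      have h1 : Nat.card G ∣ Cfsg.charDegree (χ : G → ℂ) := by
        rw [Nat.dvd_iff_prime_pow_dvd_dvd]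
        exact fun q k hq hk => (pow_dvd_pow q
          ((hq.pow_dvd_iff_le_factorization Nat.card_pos.ne').mp hk)).trans (h q hq)
      have h2 := Nat.le_of_dvd (charDegree_pos χ) h1
      have h3 := degree_sq_lt χ hχ
      nlinarith [charDegree_pos χ]
    obtain ⟨p, hpp, hp⟩ := hex χ₀ hχ₀
    refine ⟨p, hpp, fun χ hχ => ?_⟩
    obtain ⟨r, hr, hnr⟩ := hex χ hχ
    by_cases hrp : r = p
    · exact hrp ▸ hdvd χ hχ r hr hnr
    exfalso
    have h1 := Nat.le_of_dvd (charDegree_pos χ) (hdvd χ hχ r hr hnr)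
    have h2 := Nat.le_of_dvd (charDegree_pos χ₀) (hdvd χ₀ hχ₀ p hpp hp)
    have h3 := degree_sq_lt χ hχ
    have h4 := degree_sq_lt χ₀ hχ₀
    have h5 := Nat.ordProj_mul_ordCompl_eq_self (Nat.card G) r
    have h6 := Nat.ordProj_mul_ordCompl_eq_self (Nat.card G) p
    have h7 : p ^ (Nat.card G).factorization p ≤ ordCompl[r] (Nat.card G) :=
      Nat.le_of_dvd (Nat.ordCompl_pos r Nat.card_pos.ne') (Nat.Coprime.dvd_of_dvd_mul_left
        (((Nat.coprime_primes hpp hr).mpr (Ne.symm hrp)).pow _ _)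
        ((Nat.ordProj_dvd (Nat.card G) p).trans h5.symm.dvd))
    have h8 : r ^ (Nat.card G).factorization r ≤ ordCompl[p] (Nat.card G) :=
      Nat.le_of_dvd (Nat.ordCompl_pos p Nat.card_pos.ne') (Nat.Coprime.dvd_of_dvd_mul_left
        (((Nat.coprime_primes hr hpp).mpr hrp).pow _ _)
        ((Nat.ordProj_dvd (Nat.card G) r).trans h6.symm.dvd))
    have h9 : (ordCompl[r] (Nat.card G)) ^ 2 < Nat.card G :=
      lt_of_le_of_lt (Nat.pow_le_pow_left h1 2) h3
    have h10 : (ordCompl[p] (Nat.card G)) ^ 2 < Nat.card G :=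
      lt_of_le_of_lt (Nat.pow_le_pow_left h2 2) h4
    generalize ordCompl[r] (Nat.card G) = U at *
    generalize ordCompl[p] (Nat.card G) = V at *
    rw [← h5, sq] at h9
    rw [← h6, sq] at h10
    have h11 := Nat.lt_of_mul_lt_mul_right h9
    have h12 := Nat.lt_of_mul_lt_mul_right h10
    omega
  haveI := Fact.mk hpp
  by_cases hm : ordCompl[p] (Nat.card G) = 1
  · refine Or.inl ⟨p, hpp, IsPGroup.of_card (n := (Nat.card G).factorization p) ?_⟩
    conv_lhs => rw [← Nat.ordProj_mul_ordCompl_eq_self (Nat.card G) p, hm, mul_one]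
  have hvan : ∀ g : G, (¬ ∃ k, orderOf g = p ^ k) → ∀ χ : Cfsg.IrrCharacter G,
      Cfsg.charDegree (χ : G → ℂ) ≠ 1 → (χ : G → ℂ) g = 0 := by
    intro g hg χ hχ
    obtain ⟨q, hq, hqg, hqp⟩ : ∃ q : ℕ, q.Prime ∧ q ∣ orderOf g ∧ q ≠ p := by
      by_contra h
      push Not at h
      exact hg ⟨_, Nat.eq_prime_pow_of_unique_prime_dvd (orderOf_pos g).ne'
        fun {d} hd hdg => h d hd hdg⟩
    refine vanish_of_full hq χ ?_ hqg
    refine dvd_trans ?_ (hp χ hχ)
    exact Nat.Coprime.dvd_of_dvd_mul_left (((Nat.coprime_primes hq hpp).mpr hqp).pow _ _)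
      ((Nat.ordProj_dvd (Nat.card G) q).trans (Nat.ordProj_mul_ordCompl_eq_self _ p).symm.dvd)
  refine Or.inr (Or.inr ⟨p, inferInstance, ?_⟩)
  -- the derived subgroup is a `p`-group
  have hG'p : IsPGroup p (commutator G) := by
    have h1 : ordCompl[p] (Nat.card G) ∣ (commutator G).index := by
      have hs := sum_sq_nat (G := G)
      have hfst : ∑ χ ∈ Finset.univ.filter
          (fun χ : Cfsg.IrrCharacter G => Cfsg.charDegree (χ : G → ℂ) = 1),
          Cfsg.charDegree (χ : G → ℂ) ^ 2 = (Finset.univ.filter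
          (fun χ : Cfsg.IrrCharacter G => Cfsg.charDegree (χ : G → ℂ) = 1)).card := by
        rw [Finset.card_eq_sum_ones]
        exact Finset.sum_congr rfl fun χ hχ => by rw [(Finset.mem_filter.mp hχ).2, one_pow]
      rw [← Finset.sum_filter_add_sum_filter_not Finset.univ
        (fun χ : Cfsg.IrrCharacter G => Cfsg.charDegree (χ : G → ℂ) = 1), hfst,
        ← Fintype.card_subtype, ← Nat.card_eq_fintype_card, card_linear] at hs
      refine (Nat.dvd_add_left (Finset.dvd_sum fun χ hχ => ?_)).mp (by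
        rw [hs]; exact Nat.ordCompl_dvd _ _)
      exact (hp χ (Finset.mem_filter.mp hχ).2).trans (dvd_pow_self _ two_ne_zero)
    obtain ⟨c, hc⟩ := h1
    have h2 : Nat.card (commutator G) ∣ p ^ (Nat.card G).factorization p := by
      refine ⟨c, Nat.eq_of_mul_eq_mul_right (Nat.ordCompl_pos p (Nat.card_pos (α := G)).ne') ?_⟩
      rw [Nat.ordProj_mul_ordCompl_eq_self]
      conv_lhs => rw [← (commutator G).card_mul_index, hc]
      ring
    obtain ⟨k, -, hk⟩ := (Nat.dvd_prime_pow hpp).mp h2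
    exact IsPGroup.of_card hk
  obtain ⟨P⟩ : Nonempty (Sylow p G) := inferInstance
  have hG'P : commutator G ≤ (P : Subgroup G) :=
    le_sup_right.trans (P.3 (P.2.to_sup_of_normal_right hG'p) le_sup_left).le
  have hPn : (P : Subgroup G).Normal := Subgroup.Normal.of_commutator_le _ hG'P
  obtain ⟨A, hA⟩ := Subgroup.exists_right_complement'_of_coprime (N := (P : Subgroup G)) P.card_coprime_index
  have hAcard : Nat.card A = ordCompl[p] (Nat.card G) := by
    rw [← hA.symm.index_eq_card, ← Nat.mul_right_inj (Nat.card_pos (α := (P : Subgroup G))).ne',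
      Subgroup.card_mul_index, P.card_eq_multiplicity, Nat.ordProj_mul_ordCompl_eq_self]
  have hAcop : (Nat.card A).Coprime p := by
    rw [hAcard]
    exact (Nat.coprime_ordCompl hpp Nat.card_pos.ne').symm
  have hA0 : A ≠ ⊥ := fun h => hm (by rw [← hAcard, h, Subgroup.card_bot])
  have hAP : A ⊓ (P : Subgroup G) = ⊥ := hA.symm.disjoint.eq_bot
  have hAcomm : ∀ a ∈ A, ∀ b ∈ A, a * b = b * a := fun a ha b hb => by
    rw [← commutatorElement_eq_one_iff_mul_comm, ← Subgroup.mem_bot, ← hAP]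
    refine Subgroup.mem_inf.mpr ⟨mul_mem (mul_mem (mul_mem ha hb) (inv_mem ha)) (inv_mem hb),
      hG'P ?_⟩
    rw [commutator_def]
    exact Subgroup.commutator_mem_commutator (Subgroup.mem_top a) (Subgroup.mem_top b)
  set C := (P : Subgroup G) ⊓ Subgroup.centralizer (A : Set G) with hC
  set D := ⁅A, (P : Subgroup G)⁆ with hD
  have hcop : (Nat.card A).Coprime (Nat.card (P : Subgroup G)) := by
    rw [P.card_eq_multiplicity]
    exact hAcop.pow_right _
  have hsup : D ⊔ C = (P : Subgroup G) := by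
    rw [hD, Subgroup.commutator_comm A]
    exact CfsgLib.Core.commutator_sup_centralizer
      (A := A) (K := (P : Subgroup G)) (by rw [Subgroup.normalizer_eq_top]; exact le_top) hcop
      (Or.inl (Group.isSolvable_of_comm fun a b => Subtype.ext (hAcomm a a.2 b b.2)))
  have hDG' : D ≤ commutator G := by
    rw [hD, commutator_def]; exact Subgroup.commutator_mono le_top le_top
  have hcent : ∀ a ∈ A, a ≠ 1 →
      Nat.card (Subgroup.centralizer ({a} : Set G)) = (commutator G).index := fun a ha h1 =>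
    card_centralizer_eq fun χ hχ => hvan a (fun ⟨k, hk⟩ => h1 (orderOf_eq_one_iff.mp
      (Nat.eq_one_of_dvd_coprimes (hAcop.pow_right k) (Subgroup.orderOf_dvd_natCard _ ha)
        (hk ▸ dvd_rfl)))) χ hχ
  have hprod : ∀ a ∈ A, Function.Injective
      (fun z : A × C => (z.1 : G) * z.2) ∧ ∀ z : A × C, (z.1 : G) * z.2 ∈ Subgroup.centralizer ({a} : Set G) := by
    intro a ha
    refine ⟨fun z w h => ?_, fun z => Subgroup.mem_centralizer_singleton_iff.mpr ?_⟩
    · have h1 : (w.1 : G)⁻¹ * z.1 = (w.2 : G) * (z.2 : G)⁻¹ := by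
        have h' : (z.1 : G) * z.2 = w.1 * w.2 := h
        calc (w.1 : G)⁻¹ * z.1 = (w.1 : G)⁻¹ * ((z.1 : G) * z.2) * (z.2 : G)⁻¹ := by group
          _ = _ := by rw [h']; group
      have h2 : (w.1 : G)⁻¹ * z.1 ∈ A ⊓ (P : Subgroup G) := Subgroup.mem_inf.mpr
        ⟨mul_mem (inv_mem w.1.2) z.1.2, h1 ▸ mul_mem w.2.2.1 (inv_mem z.2.2.1)⟩
      rw [hAP, Subgroup.mem_bot] at h2
      rw [h2] at h1
      exact Prod.ext (Subtype.ext (inv_mul_eq_one.mp h2).symm)
        (Subtype.ext (mul_inv_eq_one.mp h1.symm).symm)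
    · have h1 : (z.2 : G) * a = a * z.2 := (Subgroup.mem_centralizer_iff.mp z.2.2.2 a ha).symm
      rw [mul_assoc, h1, ← mul_assoc, hAcomm _ z.1.2 a ha, mul_assoc]
  obtain ⟨⟨a₀, ha₀⟩, ha₀1⟩ := A.ne_bot_iff_exists_ne_one.mp hA0
  have hle : Nat.card A * Nat.card C ≤ (commutator G).index := by
    rw [← hcent a₀ ha₀ (fun h => ha₀1 (Subtype.ext h)), ← Nat.card_prod]
    exact Nat.card_le_card_of_injective (fun z => ⟨_, (hprod a₀ ha₀).2 z⟩)
      fun z w h => (hprod a₀ ha₀).1 (congrArg Subtype.val h)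
  have hCG' : Nat.card C * Nat.card (commutator G) ≤ Nat.card (P : Subgroup G) := by
    refine Nat.le_of_mul_le_mul_left ?_ (Nat.card_pos (α := A))
    calc Nat.card A * (Nat.card C * Nat.card (commutator G))
        = Nat.card A * Nat.card C * Nat.card (commutator G) := (mul_assoc _ _ _).symm
      _ ≤ (commutator G).index * Nat.card (commutator G) := Nat.mul_le_mul_right _ hle
      _ = Nat.card A * Nat.card (P : Subgroup G) := by
          rw [mul_comm, (commutator G).card_mul_index, hA.symm.card_mul]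
  -- `D = G'` and `C ⊓ G' = ⊥`
  have hPsub : Nat.card (P : Subgroup G) * Nat.card ↥(C ⊓ commutator G) =
      Nat.card C * Nat.card (commutator G) := by
    have h := (commutator G).relIndex_mul_index (K := C ⊔ commutator G) le_sup_right
    have h2 : (commutator G).relIndex (C ⊔ commutator G) = (commutator G).relIndex C :=
      Subgroup.relIndex_sup_right C (commutator G)
    have h3 : C ⊔ commutator G = (P : Subgroup G) := le_antisymm (sup_le inf_le_left hG'P)
      (hsup ▸ sup_le (hDG'.trans le_sup_right) le_sup_left)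
    rw [h3] at h2
    have h4 := Subgroup.relIndex_mul_relIndex ⊥ (commutator G) (P : Subgroup G) bot_le hG'P
    have h5 := Subgroup.relIndex_mul_relIndex ⊥ (C ⊓ commutator G) C bot_le inf_le_left
    rw [inf_comm, Subgroup.inf_relIndex_right] at h5
    simp only [Subgroup.relIndex_bot_left] at h4 h5
    rw [← h4, ← h5, h2, inf_comm C]
    ring
  have hinf : C ⊓ commutator G = ⊥ := by
    rw [← Subgroup.card_eq_one]
    have h1 : Nat.card (P : Subgroup G) * Nat.card ↥(C ⊓ commutator G) ≤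
        Nat.card (P : Subgroup G) * 1 := by rw [mul_one, hPsub]; exact hCG'
    exact le_antisymm (Nat.le_of_mul_le_mul_left h1 Nat.card_pos) Nat.card_pos
  have hDeq : D = commutator G := by
    refine le_antisymm hDG' fun g hg => ?_
    have hg' : g ∈ D ⊔ C := hsup ▸ hG'P hg
    have hnorm : C ≤ Subgroup.normalizer (D : Set G) :=
      inf_le_left.trans (Subgroup.normalizer_commutator_ge_right A (P : Subgroup G))
    rw [sup_comm] at hg'
    obtain ⟨c, hc, d, hd, rfl⟩ := (CfsgLib.Core.mem_sup_iff_mul hnorm).mp hg'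
    have : c ∈ C ⊓ commutator G := Subgroup.mem_inf.mpr
      ⟨hc, by simpa [mul_assoc] using mul_mem hg (inv_mem (hDG' hd))⟩
    rw [hinf, Subgroup.mem_bot] at this
    rw [this, one_mul]
    exact hd
  have hfpf : ∀ a ∈ A, a ≠ 1 → ∀ d ∈ D, a * d = d * a → d = 1 := by
    intro a ha h1 d hd hcomm
    have heq : (commutator G).index = Nat.card A * Nat.card C := by
      have h := hPsub
      rw [hinf, Subgroup.card_bot, mul_one] at h
      refine Nat.eq_of_mul_eq_mul_left (Nat.card_pos (α := commutator G)) ?_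
      rw [(commutator G).card_mul_index, ← hA.symm.card_mul, h]
      ring
    have hsurj : Function.Surjective (fun z : A × C =>
        (⟨_, (hprod a ha).2 z⟩ : Subgroup.centralizer ({a} : Set G))) := by
      refine ((Nat.bijective_iff_injective_and_card _).mpr ⟨fun z w h =>
        (hprod a ha).1 (congrArg Subtype.val h), ?_⟩).2
      rw [Nat.card_prod, ← heq, hcent a ha h1]
    obtain ⟨⟨α, c⟩, hz⟩ := hsurj ⟨d, Subgroup.mem_centralizer_singleton_iff.mpr hcomm.symm⟩
    have hz' : (α : G) * c = d := congrArg Subtype.val hz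
    have h2 : (α : G) ∈ A ⊓ (P : Subgroup G) := Subgroup.mem_inf.mpr ⟨α.2, by
      rw [show (α : G) = d * (c : G)⁻¹ by rw [← hz']; group]
      exact mul_mem (hG'P (hDG' hd)) (inv_mem c.2.1)⟩
    rw [hAP, Subgroup.mem_bot] at h2
    rw [h2, one_mul] at hz'
    have h3 : d ∈ C ⊓ commutator G := Subgroup.mem_inf.mpr ⟨hz' ▸ c.2, hDG' hd⟩
    rwa [hinf, Subgroup.mem_bot] at h3
  haveI : IsMulCommutative A := ⟨⟨fun a b => Subtype.ext (hAcomm a a.2 b b.2)⟩⟩
  have hD0 : D ≠ ⊥ := fun h => hab ⟨⟨fun x y => by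
    rw [← commutatorElement_eq_one_iff_mul_comm, ← Subgroup.mem_bot, ← h, hDeq, commutator_def]
    exact Subgroup.commutator_mem_commutator (Subgroup.mem_top x) (Subgroup.mem_top y)⟩⟩
  have hCc : IsMulCommutative C := ⟨⟨fun x y => Subtype.ext (by
    show (x : G) * y = y * x
    rw [← commutatorElement_eq_one_iff_mul_comm, ← Subgroup.mem_bot, ← hinf]
    refine Subgroup.mem_inf.mpr ⟨mul_mem (mul_mem (mul_mem x.2 y.2) (inv_mem x.2)) (inv_mem y.2), ?_⟩
    rw [commutator_def]
    exact Subgroup.commutator_mem_commutator (Subgroup.mem_top _) (Subgroup.mem_top _))⟩⟩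
  refine ⟨P, A, hPn, ?_, hA0, hAcop, hA.symm.sup_eq_top, hCc, ?_, sup_comm D C ▸ hsup,
    (show C ⊓ D = ⊥ from hDeq.symm ▸ hinf), hfpf⟩
  · refine CfsgLib.Core.FPF.isCyclic_of_isMulCommutative (A := A) (K := D)
      (Subgroup.normalizer_commutator_ge_left A (P : Subgroup G)) (fun a ha h1 => ?_) hD0 le_rfl
    refine (Subgroup.eq_bot_iff_forall _).mpr fun d hd => hfpf a ha h1 d hd.1 ?_
    exact (Subgroup.mem_centralizer_singleton_iff.mp hd.2).symm
  · show D.Normal
    rw [hDeq]; infer_instance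

theorem mult_of_structure {p : ℕ} [Fact p.Prime] (P : Sylow p G) (A : Subgroup G)
    (hPn : (P : Subgroup G).Normal) (hAc : IsCyclic A) (hcop : (Nat.card A).Coprime p)
    (hsup : A ⊔ (P : Subgroup G) = ⊤)
    (hCc : IsMulCommutative ↥((P : Subgroup G) ⊓ Subgroup.centralizer (A : Set G)))
    (hDn : (⁅A, (P : Subgroup G)⁆).Normal)
    (hCD : ((P : Subgroup G) ⊓ Subgroup.centralizer (A : Set G)) ⊔ ⁅A, (P : Subgroup G)⁆ = (P : Subgroup G))
    (hinf : ((P : Subgroup G) ⊓ Subgroup.centralizer (A : Set G)) ⊓ ⁅A, (P : Subgroup G)⁆ = ⊥)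
    (hfpf : ∀ a ∈ A, a ≠ 1 → ∀ d ∈ ⁅A, (P : Subgroup G)⁆, a * d = d * a → d = 1)
    (χ : Cfsg.IrrCharacter G) (hχ : Cfsg.charDegree (χ : G → ℂ) ≠ 1)
    (g : G) (hg : g ∉ (P : Subgroup G)) : (χ : G → ℂ) g = 0 := by
  classical
  have := Fintype.ofFinite (Cfsg.IrrCharacter G)
  set C := (P : Subgroup G) ⊓ Subgroup.centralizer (A : Set G) with hC
  set D := ⁅A, (P : Subgroup G)⁆ with hD
  have hgen : ∀ x : G, ∃ a ∈ A, ∃ c ∈ C, ∃ d ∈ D, x = a * c * d := fun x => by
    have hx : x ∈ A ⊔ (P : Subgroup G) := hsup ▸ Subgroup.mem_top x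
    obtain ⟨a, ha, u, hu, rfl⟩ := (CfsgLib.Core.mem_sup_iff_mul (by
      rw [Subgroup.normalizer_eq_top]; exact le_top)).mp hx
    rw [← hCD] at hu
    obtain ⟨c, hc, d, hd, rfl⟩ := (CfsgLib.Core.mem_sup_iff_mul (by
      rw [Subgroup.normalizer_eq_top]; exact le_top)).mp hu
    exact ⟨a, ha, c, hc, d, hd, by group⟩
  have hAcomm : ∀ a ∈ A, ∀ b ∈ A, a * b = b * a := fun a ha b hb => by
    haveI := hAc
    letI := IsCyclic.commGroup (α := A)
    exact congrArg Subtype.val (mul_comm (⟨a, ha⟩ : A) ⟨b, hb⟩)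
  have hCA : ∀ c ∈ C, ∀ a ∈ A, a * c = c * a := fun c hc a ha =>
    Subgroup.mem_centralizer_iff.mp hc.2 a ha
  have hCC : ∀ c ∈ C, ∀ c' ∈ C, c * c' = c' * c := fun c hc c' hc' =>
    congrArg Subtype.val (hCc.is_comm.comm ⟨c, hc⟩ ⟨c', hc'⟩)
  -- `G ⧸ D` is abelian
  have hG'D : commutator G ≤ D := by
    haveI := hDn
    have hq : ∀ x : G, ∃ a ∈ A, ∃ c ∈ C, (x : G ⧸ D) = ((a * c : G) : G ⧸ D) := fun x => by
      obtain ⟨a, ha, c, hc, d, hd, rfl⟩ := hgen x
      exact ⟨a, ha, c, hc, by rw [QuotientGroup.mk_mul, (QuotientGroup.eq_one_iff d).mpr hd, mul_one]⟩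
    rw [commutator_def, Subgroup.commutator_le]
    intro x _ y _
    obtain ⟨a, ha, c, hc, hx⟩ := hq x
    obtain ⟨a', ha', c', hc', hy⟩ := hq y
    rw [← QuotientGroup.eq_one_iff]
    show ((QuotientGroup.mk' D) ⁅x, y⁆) = 1
    rw [map_commutatorElement, commutatorElement_eq_one_iff_mul_comm]
    show (x : G ⧸ D) * y = y * x
    rw [hx, hy, ← QuotientGroup.mk_mul, ← QuotientGroup.mk_mul]
    congr 1
    calc a * c * (a' * c') = a * (c * a') * c' := by group
      _ = a * (a' * c) * c' := by rw [hCA c hc a' ha']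
      _ = (a * a') * (c * c') := by group
      _ = (a' * a) * (c' * c) := by rw [hAcomm a ha a' ha', hCC c hc c' hc']
      _ = a' * (a * c') * c := by group
      _ = a' * (c' * a) * c := by rw [hCA c' hc' a ha]
      _ = _ := by group
  have hidx : D.index ≤ (commutator G).index :=
    Nat.le_of_dvd (Nat.pos_of_ne_zero Subgroup.index_ne_zero_of_finite) (Subgroup.index_dvd_of_le hG'D)
  -- a power of `g` in `A` up to conjugation
  have hcentA : ∀ a ∈ A, a ≠ 1 → Nat.card (Subgroup.centralizer ({a} : Set G)) ≤ D.index := by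
    intro a ha h1
    haveI := hDn
    rw [Subgroup.index_eq_card]
    refine Nat.card_le_card_of_injective (fun x => ((x : G) : G ⧸ D)) fun x y h => Subtype.ext ?_
    have h2 : (x : G)⁻¹ * y ∈ D := QuotientGroup.eq.mp h
    have h3 := hfpf a ha h1 _ h2
      (Subgroup.mem_centralizer_singleton_iff.mp (mul_mem (inv_mem x.2) y.2)).symm
    exact inv_mul_eq_one.mp h3
  obtain ⟨e, he, hne⟩ : ∃ e : ℕ, (∃ y : G, y * g ^ e * y⁻¹ ∈ A) ∧ g ^ e ≠ 1 := by
    obtain ⟨k, hk⟩ : ∃ k, Nat.card (P : Subgroup G) = p ^ k :=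
      ⟨_, P.card_eq_multiplicity⟩
    refine ⟨p ^ k, ?_, fun h => hg ?_⟩
    · have hord : (orderOf (g ^ p ^ k)).Coprime p := by
        rw [Nat.coprime_comm, (Fact.out : p.Prime).coprime_iff_not_dvd]
        intro hd
        have hpk : p ^ (k + 1) ∣ orderOf g := by
          rw [orderOf_pow] at hd
          have h2 : p ^ k ∣ orderOf g ∨ orderOf g / Nat.gcd (orderOf g) (p ^ k) * Nat.gcd (orderOf g) (p ^ k) = orderOf g :=
            Or.inr (Nat.div_mul_cancel (Nat.gcd_dvd_left _ _))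
          obtain ⟨i, hik, hi⟩ := (Nat.dvd_prime_pow (Fact.out : p.Prime)).mp (Nat.gcd_dvd_right (orderOf g) (p ^ k))
          have hmul := Nat.div_mul_cancel (Nat.gcd_dvd_left (orderOf g) (p ^ k))
          obtain ⟨z, hz⟩ := hd
          by_cases hik' : i = k
          · subst hik'
            rw [← hmul, hz, hi]
            exact ⟨z, by ring⟩
          · exfalso
            have h3 : p ^ (i + 1) ∣ Nat.gcd (orderOf g) (p ^ k) :=
              Nat.dvd_gcd (by rw [← hmul, hz, hi]; exact ⟨z, by ring⟩) (pow_dvd_pow p (by omega))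
            rw [hi] at h3
            have := (Nat.pow_dvd_pow_iff_le_right (Fact.out : p.Prime).one_lt).mp h3
            omega
        have h2 : p ^ (k + 1) ∣ Nat.card G := hpk.trans (orderOf_dvd_natCard g)
        rw [show k = (Nat.card G).factorization p from
          Nat.pow_right_injective (Fact.out : p.Prime).two_le (hk.symm.trans P.card_eq_multiplicity)] at h2
        exact Nat.pow_succ_factorization_not_dvd Nat.card_pos.ne' Fact.out h2
      -- conjugate the cyclic subgroup into `A`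
      obtain ⟨x, hx⟩ := exists_conj_mem P A hPn hcop hsup hord
      exact ⟨x, hx⟩
    · have hpg : IsPGroup p (Subgroup.zpowers g) := IsPGroup.of_card_dvd_pow (n := k)
        (by rw [Nat.card_zpowers]; exact orderOf_dvd_of_pow_eq_one h)
      exact le_sup_right.trans (P.3 (P.2.to_sup_of_normal_left hpg) le_sup_left).le
        (Subgroup.mem_zpowers g)
  obtain ⟨y, hy⟩ := he
  have hcard : Nat.card (Subgroup.centralizer ({g} : Set G)) ≤ (commutator G).index := by
    refine le_trans ?_ ((hcentA _ hy (fun h => hne (by simpa using h))).trans hidx)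
    refine Nat.card_le_card_of_injective
      (fun x : Subgroup.centralizer ({g} : Set G) => ⟨y * x * y⁻¹, ?_⟩) fun x x' h => ?_
    · rw [Subgroup.mem_centralizer_singleton_iff]
      have hxg : Commute g (x : G) := (Subgroup.mem_centralizer_singleton_iff.mp x.2).symm
      have h1 := (hxg.pow_left e).eq
      calc y * x * y⁻¹ * (y * g ^ e * y⁻¹) = y * ((x : G) * g ^ e) * y⁻¹ := by group
        _ = y * (g ^ e * x) * y⁻¹ := by rw [h1]
        _ = _ := by group
    · exact Subtype.ext (by simpa using congrArg Subtype.val h)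
  -- column orthogonality
  by_contra hne'
  have h1 := column_orthogonality g g
  rw [if_pos (IsConj.refl g)] at h1
  have h2 := congrArg Complex.re h1
  simp only [Complex.re_sum, Complex.mul_conj, Complex.ofReal_re, Complex.natCast_re] at h2
  set L := Finset.univ.filter fun ψ : Cfsg.IrrCharacter G => Cfsg.charDegree (ψ : G → ℂ) = 1 with hL
  have hsub : ∑ ψ ∈ insert χ L, Complex.normSq ((ψ : G → ℂ) g) ≤
      ∑ ψ : Cfsg.IrrCharacter G, Complex.normSq ((ψ : G → ℂ) g) :=
    Finset.sum_le_univ_sum_of_nonneg fun _ => Complex.normSq_nonneg _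
  have hχL : χ ∉ L := fun h => hχ (Finset.mem_filter.mp h).2
  have hLsum : ∑ ψ ∈ L, Complex.normSq ((ψ : G → ℂ) g) = ((commutator G).index : ℝ) := by
    have hone : ∀ ψ : Cfsg.IrrCharacter G, ψ ∈ L → Complex.normSq ((ψ : G → ℂ) g) = 1 := by
      intro ψ hψ
      obtain ⟨l, hl⟩ := exists_hom_of_degree_one ψ (Finset.mem_filter.mp hψ).2
      rw [hl, Complex.normSq_eq_norm_sq,
        Complex.norm_eq_one_of_pow_eq_one (n := Nat.card G) ?_ Nat.card_pos.ne', one_pow]
      rw [← Units.val_pow_eq_pow_val, ← map_pow, pow_card_eq_one', map_one, Units.val_one]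
    rw [Finset.sum_congr rfl hone,
      Finset.sum_const, nsmul_eq_mul, mul_one, ← card_linear, Nat.card_eq_fintype_card,
      Fintype.card_subtype, hL]
  rw [Finset.sum_insert hχL, hLsum] at hsub
  have h3 := Complex.normSq_pos.mpr hne'
  have h4 : (Nat.card (Subgroup.centralizer ({g} : Set G)) : ℝ) ≤ ((commutator G).index : ℝ) := by
    exact_mod_cast hcard
  linarith

end

/-- For a finite group G the following are equivalent. (1) χ(x y) = χ(x) χ(y) for every irreducible character χ and all non-identity elements x, y of prime power orders for two different primes. (2) G is a p-group for some prime p, or G is abelian, or for some prime p: G = A P with P a normal Sylow p-subgroup and A a nontrivial cyclic subgroup of order prime to p such that, with C = C_P(A) and D = [A, P], one has P = C D, C abelian, D normal in G, C ∩ D = 1, and A acts fixed-point-freely on D (no non-identity element of A centralizes a non-identity element of D). -/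
theorem result {G : Type*} [Group G] [Finite G] : (∀ (x y : G) (χ : Cfsg.IrrCharacter G), x ≠ 1 → y ≠ 1 → (∃ p q a b : ℕ, p.Prime ∧ q.Prime ∧ p ≠ q ∧ orderOf x = p ^ a ∧ orderOf y = q ^ b) → (χ : G → ℂ) (x * y) = (χ : G → ℂ) x * (χ : G → ℂ) y) ↔ ((∃ p : ℕ, p.Prime ∧ IsPGroup p G) ∨ IsMulCommutative G ∨ ∃ (p : ℕ) (_ : Fact p.Prime) (P : Sylow p G) (A : Subgroup G), (P : Subgroup G).Normal ∧ IsCyclic ↥A ∧ A ≠ ⊥ ∧ (Nat.card ↥A).Coprime p ∧ A ⊔ (P : Subgroup G) = ⊤ ∧ IsMulCommutative ↥((P : Subgroup G) ⊓ Subgroup.centralizer (A : Set G)) ∧ (⁅A, (P : Subgroup G)⁆).Normal ∧ ((P : Subgroup G) ⊓ Subgroup.centralizer (A : Set G)) ⊔ ⁅A, (P : Subgroup G)⁆ = (P : Subgroup G) ∧ ((P : Subgroup G) ⊓ Subgroup.centralizer (A : Set G)) ⊓ ⁅A, (P : Subgroup G)⁆ = ⊥ ∧ ∀ a ∈ A, a ≠ 1 → ∀ d ∈ ⁅A, (P : Subgroup G)⁆, a * d = d * a → d = 1) := by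
  classical
  refine ⟨structure_of_mult, ?_⟩
  rintro (h1 | hab | h3)
  · obtain ⟨r, hr, hG⟩ := h1
    rintro x y χ hx hy ⟨p, q, a, b, hp, hq, hpq, hxo, hyo⟩
    exfalso
    haveI := Fact.mk hr
    obtain ⟨i, hi⟩ := IsPGroup.iff_orderOf.mp hG x
    obtain ⟨j, hj⟩ := IsPGroup.iff_orderOf.mp hG y
    have key : ∀ {z : G} {s c k : ℕ}, z ≠ 1 → s.Prime → orderOf z = s ^ c → orderOf z = r ^ k →
        s = r := fun {z s c k} hz hs h1 h2 => by
      have hc : c ≠ 0 := fun h => hz (orderOf_eq_one_iff.mp (by rw [h1, h, pow_zero]))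
      exact (Nat.prime_dvd_prime_iff_eq hs hr).mp
        (hs.dvd_of_dvd_pow ((h1.symm.trans h2) ▸ dvd_pow_self s hc))
    exact hpq ((key hx hp hxo hi).trans (key hy hq hyo hj).symm)
  · intro x y χ _ _ _
    obtain ⟨l, hl⟩ := CfsgLib.CharDegree.exists_hom_of_degree_one χ
      (CfsgLib.CharDegree.charDegree_of_comm (fun a b => hab.is_comm.comm a b) χ)
    rw [hl]
    simp
  · obtain ⟨r, hr, P, A, hPn, hAc, -, hcop, hsup, hCc, hDn, hCD, hinf, hfpf⟩ := h3
    rintro x y χ hx hy ⟨p, q, a, b, hp, hq, hpq, hxo, hyo⟩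
    by_cases hχ : Cfsg.charDegree (χ : G → ℂ) = 1
    · obtain ⟨l, hl⟩ := CfsgLib.CharDegree.exists_hom_of_degree_one χ hχ
      rw [hl]
      simp
    haveI := hr
    have hv := mult_of_structure P A hPn hAc hcop hsup hCc hDn hCD hinf hfpf χ hχ
    have key : ∀ {z : G} {s c : ℕ}, z ≠ 1 → s.Prime → s ≠ r → orderOf z = s ^ c →
        z ∉ (P : Subgroup G) := fun {z s c} hz hs hsr h1 hmem => by
      obtain ⟨k, hk⟩ := IsPGroup.iff_orderOf.mp P.2 ⟨z, hmem⟩
      rw [Subgroup.orderOf_mk, h1] at hk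
      have hc : c ≠ 0 := fun h => hz (orderOf_eq_one_iff.mp (by rw [h1, h, pow_zero]))
      exact hsr ((Nat.prime_dvd_prime_iff_eq hs hr.out).mp
        (hs.dvd_of_dvd_pow (hk ▸ dvd_pow_self s hc)))
    haveI := hPn
    have hxy : x * y ∉ (P : Subgroup G) := fun hmem => by
      have h1 : (x : G ⧸ (P : Subgroup G)) = (y : G ⧸ (P : Subgroup G))⁻¹ := by
        rw [eq_inv_iff_mul_eq_one, ← QuotientGroup.mk_mul, QuotientGroup.eq_one_iff]; exact hmem
      have h2 := orderOf_map_dvd (QuotientGroup.mk' (P : Subgroup G)) x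
      have h3 := orderOf_map_dvd (QuotientGroup.mk' (P : Subgroup G)) y
      rw [QuotientGroup.mk'_apply] at h2 h3
      rw [hxo] at h2
      rw [hyo, ← orderOf_inv, ← h1] at h3
      have h4 := orderOf_eq_one_iff.mp (Nat.eq_one_of_dvd_coprimes
        (((Nat.coprime_primes hp hq).mpr hpq).pow a b) h2 h3)
      have hxP := (QuotientGroup.eq_one_iff x).mp h4
      have hpr : p = r := by
        by_contra h
        exact key hx hp h hxo hxP
      exact key hy hq (fun h => hpq (hpr.trans h.symm)) hyo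
        (by simpa using mul_mem (inv_mem hxP) hmem)
    rw [hv _ hxy]
    by_cases hpr : p = r
    · rw [hv y (key hy hq (fun h => hpq (hpr.trans h.symm)) hyo), mul_zero]
    · rw [hv x (key hx hp hpr hxo), zero_mul]

end Cfsg.Agent.S4756
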