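import Cfsg.Statements.S4757
import Cfsg.Agent.Lib.CharDegree.Twist
import Cfsg.Agent.Lib.CharDegree.Counting
import Cfsg.Agent.Lib.Core.Cores

set_option autoImplicit false
open Cfsg CfsgLib.CharDegree CfsgLib.Char

namespace Cfsg.Agent.S4757

open scoped ComplexConjugate

variable {G : Type*} [Group G] [Finite G] (u : G) (hu : u ≠ 1) (c : ℂ)
  (hyp : ∀ χ : Cfsg.IrrCharacter G, (χ : G → ℂ) ≠ (fun _ => (1 : ℂ)) →
    ((χ : G → ℂ) 1 - (χ : G → ℂ) u = c ∨ (χ : G → ℂ) u = 0))

include hu hyp

theorem perfect_ne_two (hp : commutator G = ⊤) : c ≠ 2 := by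
  classical
  have := Fintype.ofFinite G
  have := Fintype.ofFinite (Cfsg.IrrCharacter G)
  intro hc
  have hsum := sum_degree_mul_apply_of_ne_one hu
  rw [← Finset.add_sum_erase _ _ (Finset.mem_univ (trivChar G)), trivChar_apply, trivChar_apply,
    one_mul] at hsum
  have hre := congrArg Complex.re hsum
  rw [Complex.add_re, Complex.one_re, Complex.re_sum, Complex.zero_re] at hre
  have hnn : ∀ χ ∈ Finset.univ.erase (trivChar G),
      0 ≤ ((χ : G → ℂ) 1 * (χ : G → ℂ) u).re := fun χ hχ => by
    have hne : (χ : G → ℂ) ≠ fun _ => 1 := fun h =>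
      Finset.ne_of_mem_erase hχ (irr_ext fun g => by rw [h, trivChar_apply])
    have h2 : 2 ≤ Cfsg.charDegree (χ : G → ℂ) := by
      have h0 := charDegree_pos χ
      have h1 : Cfsg.charDegree (χ : G → ℂ) ≠ 1 := fun h1 => hne (funext fun g => by
        rw [(charDegree_eq_one_iff_commutator χ).mp h1 g (by rw [hp]; exact Subgroup.mem_top g)]
        exact (charDegree_eq_one_iff χ).mp h1)
      omega
    rcases hyp χ hne with h | h
    · have hv : (χ : G → ℂ) u = (χ : G → ℂ) 1 - 2 := by rw [← hc, ← h]; ring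
      rw [hv, ← cast_irrDegree, Complex.mul_re, Complex.sub_re, Complex.sub_im, Complex.natCast_re,
        Complex.natCast_im]
      have h2' : (2 : ℝ) ≤ (Cfsg.charDegree (χ : G → ℂ) : ℝ) := by exact_mod_cast h2
      norm_num
      nlinarith
    · simp [h]
  linarith [Finset.sum_nonneg hnn]

theorem c_ne_zero : c ≠ 0 := by
  classical
  have := Fintype.ofFinite G
  have := Fintype.ofFinite (Cfsg.IrrCharacter G)
  intro hc
  have hsum := sum_degree_mul_apply_of_ne_one hu
  rw [← Finset.add_sum_erase _ _ (Finset.mem_univ (trivChar G)), trivChar_apply, trivChar_apply,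
    one_mul] at hsum
  have hre := congrArg Complex.re hsum
  rw [Complex.add_re, Complex.one_re, Complex.re_sum, Complex.zero_re] at hre
  have hnn : ∀ χ ∈ Finset.univ.erase (trivChar G),
      0 ≤ ((χ : G → ℂ) 1 * (χ : G → ℂ) u).re := fun χ hχ => by
    have hne : (χ : G → ℂ) ≠ fun _ => 1 := fun h =>
      Finset.ne_of_mem_erase hχ (irr_ext fun g => by rw [h, trivChar_apply])
    rcases hyp χ hne with h | h
    · rw [hc, sub_eq_zero] at h
      rw [← h, ← cast_irrDegree, ← Nat.cast_mul, Complex.natCast_re]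
      positivity
    · simp [h]
  linarith [Finset.sum_nonneg hnn]

theorem main (hG : commutator G ≠ ⊤) :
    (orderOf u = 2 ∧ Subgroup.zpowers u ⊔ Cfsg.oddCore G = ⊤ ∧
      Subgroup.centralizer ({u} : Set G) = Subgroup.zpowers u) ∧ c = 2 := by
  classical
  have := Fintype.ofFinite G
  have := Fintype.ofFinite (Cfsg.IrrCharacter G)
  have := Fact.mk Nat.prime_two
  -- linear characters
  have hlin : ∀ m : G →* ℂˣ, m ≠ 1 → (m u : ℂ) = 1 - c := fun m hm => by
    have hne : (fun g => (m g : ℂ)) ≠ fun _ : G => (1 : ℂ) := fun h =>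
      hm (MonoidHom.ext fun g => Units.ext (congrFun h g))
    rcases hyp ⟨_, isIrrCharacter_linear m⟩ hne with h | h
    · simp only [map_one, Units.val_one] at h
      rw [← h]; ring
    · exact absurd h (Units.ne_zero _)
  have hc0 := c_ne_zero u hu c hyp
  obtain ⟨χ₀, hχ₀, hχ₀ne⟩ := exists_linear_ne_one hG
  obtain ⟨l, hl⟩ := exists_hom_of_degree_one χ₀ hχ₀
  have hl1 : l ≠ 1 := fun h => hχ₀ne (by rw [hl, h]; simp)
  have hsq : ∀ m : G →* ℂˣ, m * m = 1 := fun m => by
    by_cases hm : m = 1
    · subst hm; ext g; simp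
    by_contra hne
    have h1 := hlin _ hne
    rw [MonoidHom.mul_apply, Units.val_mul, hlin m hm] at h1
    refine hc0 ?_
    have h2 : (1 - c) * (1 - c - 1) = 0 := by rw [mul_sub, h1]; ring
    rcases mul_eq_zero.mp h2 with h3 | h3
    · exact absurd ((hlin m hm).trans h3) (Units.ne_zero _)
    · linear_combination -h3
  have hc2 : c = 2 := by
    have h1 : (l u : ℂ) * (l u : ℂ) = 1 := by
      rw [← Units.val_mul, ← MonoidHom.mul_apply, hsq, MonoidHom.one_apply, Units.val_one]
    rw [hlin l hl1] at h1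
    have h2 : c * (c - 2) = 0 := by linear_combination h1
    exact sub_eq_zero.mp ((mul_eq_zero.mp h2).resolve_left hc0)
  have hlu : ∀ m : G →* ℂˣ, m ≠ 1 → (m u : ℂ) = -1 := fun m hm => by rw [hlin m hm, hc2]; norm_num
  have huniq : ∀ m : G →* ℂˣ, m ≠ 1 → m = l := fun m hm => by
    by_contra hne
    have h3 : m * l ≠ 1 := fun h => hne (by
      refine MonoidHom.ext fun g => ?_
      have h1 := DFunLike.congr_fun h g
      have h2 := DFunLike.congr_fun (hsq l) g
      simp only [MonoidHom.mul_apply, MonoidHom.one_apply] at h1 h2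
      calc m g = m g * (l g * l g) := by rw [h2, mul_one]
        _ = l g := by rw [← mul_assoc, h1, one_mul])
    have h4 := hlu _ h3
    rw [MonoidHom.mul_apply, Units.val_mul, hlu m hm, hlu l hl1] at h4
    norm_num at h4
  -- nonlinear characters vanish at `u`
  have hvan : ∀ χ : Cfsg.IrrCharacter G, Cfsg.charDegree (χ : G → ℂ) ≠ 1 →
      (χ : G → ℂ) u = 0 := fun χ hχ => by
    have hnt : ∀ ψ : Cfsg.IrrCharacter G, Cfsg.charDegree (ψ : G → ℂ) ≠ 1 →
        (ψ : G → ℂ) ≠ fun _ => 1 := fun ψ hψ h => hψ (by rw [h]; exact charDegree_one)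
    rcases hyp χ (hnt χ hχ) with h | h
    · rcases hyp (twist χ l) (hnt _ (by rwa [charDegree_twist])) with h' | h'
      · simp only [twist_apply, map_one, Units.val_one, mul_one, hlu l hl1] at h'
        have h1 : (χ : G → ℂ) u + (χ : G → ℂ) u = 0 := by linear_combination h' - h
        rwa [← two_mul, mul_eq_zero, or_iff_right two_ne_zero] at h1
      · simpa [hlu l hl1] using h'
    · exact h
  -- there are two linear characters
  have hindex : (commutator G).index = 2 := by
    rw [← card_linear, Nat.card_eq_two_iff]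
    refine ⟨⟨trivChar G, charDegree_one⟩, ⟨χ₀, hχ₀⟩, ?_, ?_⟩
    · intro h
      exact hχ₀ne (by rw [← congrArg Subtype.val (congrArg Subtype.val h)]; rfl)
    · refine Set.eq_univ_of_forall fun χ => ?_
      obtain ⟨m, hm⟩ := exists_hom_of_degree_one χ.1 χ.2
      by_cases hm1 : m = 1
      · refine Or.inl (Subtype.ext (irr_ext fun g => ?_))
        simp [hm, hm1]
      · refine Or.inr (Subtype.ext (irr_ext fun g => ?_))
        simp [hm, hl, huniq m hm1]
  have hcard : Nat.card (Subgroup.centralizer ({u} : Set G)) = 2 := by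
    have h := column_orthogonality u u
    rw [if_pos (IsConj.refl u)] at h
    have h2 : ∀ χ : Cfsg.IrrCharacter G, (χ : G → ℂ) u * conj ((χ : G → ℂ) u) =
        if Cfsg.charDegree (χ : G → ℂ) = 1 then 1 else 0 := fun χ => by
      split_ifs with h1
      · obtain ⟨m, hm⟩ := exists_hom_of_degree_one χ h1
        rw [hm, Complex.mul_conj, Complex.normSq_eq_norm_sq, norm_hom_units]; simp
      · rw [hvan χ h1, zero_mul]
    rw [Finset.sum_congr rfl fun χ _ => h2 χ, ← Finset.sum_filter, Finset.sum_const, nsmul_one,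
      Nat.cast_inj] at h
    rw [← h, ← Fintype.card_subtype, ← Nat.card_eq_fintype_card, card_linear, hindex]
  have hmem : u ∈ Subgroup.centralizer ({u} : Set G) := by
    rw [Subgroup.mem_centralizer_iff]; simp
  have hord : orderOf u = 2 := by
    have h1 : orderOf (⟨u, hmem⟩ : Subgroup.centralizer ({u} : Set G)) ∣ 2 := by
      rw [← hcard]; exact orderOf_dvd_natCard _
    rw [Subgroup.orderOf_mk] at h1
    rcases (Nat.dvd_prime Nat.prime_two).mp h1 with h2 | h2
    · exact absurd (orderOf_eq_one_iff.mp h2) hu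
    · exact h2
  have hC : Subgroup.centralizer ({u} : Set G) = Subgroup.zpowers u := by
    refine (Subgroup.eq_of_le_of_card_ge (Subgroup.zpowers_le.mpr hmem) ?_).symm
    rw [hcard, Nat.card_zpowers, hord]
  -- Sylow 2-subgroups have order 2
  have hodd : ¬ 2 ∣ Nat.card (commutator G) := by
    intro h2
    have h4 : 4 ∣ Nat.card G := by
      rw [← (commutator G).card_mul_index, hindex]
      exact Nat.mul_dvd_mul h2 dvd_rfl
    have hpg : IsPGroup 2 (Subgroup.zpowers u) :=
      IsPGroup.of_card (n := 1) (by rw [Nat.card_zpowers, hord, pow_one])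
    obtain ⟨T, hT⟩ := hpg.exists_le_sylow
    have huT : u ∈ (T : Subgroup G) := hT (Subgroup.mem_zpowers u)
    have hT4 : 2 ^ 2 ∣ Nat.card T := by
      rw [T.card_eq_multiplicity]
      exact pow_dvd_pow 2
        ((Nat.prime_two.pow_dvd_iff_le_factorization Nat.card_pos.ne').mp h4)
    have hnt : Nontrivial (T : Subgroup G) :=
      (T : Subgroup G).nontrivial_iff_exists_ne_one.mpr ⟨u, huT, hu⟩
    have := T.2.center_nontrivial
    obtain ⟨⟨z, hz⟩, hz1⟩ := exists_ne (1 : Subgroup.center (T : Subgroup G))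
    have hzC : (z : G) ∈ Subgroup.centralizer ({u} : Set G) := by
      rw [Subgroup.mem_centralizer_iff]
      intro y hy
      rw [Set.mem_singleton_iff.mp hy]
      exact congrArg Subtype.val (Subgroup.mem_center_iff.mp hz ⟨u, huT⟩)
    rw [hC] at hzC
    have hzu : (z : G) = u := by
      obtain ⟨k, hk⟩ := Subgroup.mem_zpowers_iff.mp hzC
      rw [← zpow_mod_orderOf, hord] at hk
      rcases Int.emod_two_eq_zero_or_one k with h0 | h0
      · rw [show ((2 : ℕ) : ℤ) = 2 from rfl, h0, zpow_zero] at hk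
        exact absurd (Subtype.ext (Subtype.ext hk.symm)) hz1
      · rw [show ((2 : ℕ) : ℤ) = 2 from rfl, h0, zpow_one] at hk
        exact hk.symm
    have hle : (T : Subgroup G) ≤ Subgroup.centralizer ({u} : Set G) := fun t ht => by
      rw [Subgroup.mem_centralizer_iff]
      intro y hy
      rw [Set.mem_singleton_iff.mp hy, ← hzu]
      exact (congrArg Subtype.val (Subgroup.mem_center_iff.mp hz ⟨t, ht⟩)).symm
    have h5 := Nat.le_of_dvd Nat.card_pos (hT4.trans (Subgroup.card_dvd_of_le hle))
    rw [hcard] at h5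
    norm_num at h5
  refine ⟨⟨hord, ?_, hC⟩, hc2⟩
  have hle : commutator G ≤ Cfsg.oddCore G := CfsgLib.Core.le_pPrimeCore
    (Nat.coprime_comm.mp (Nat.prime_two.coprime_iff_not_dvd.mpr hodd))
  have hucomm : u ∉ commutator G := fun h => by
    have h1 := le_ker_of_degree_one χ₀ hχ₀ h
    rw [hl] at h1
    norm_num [hlu l hl1] at h1
  refine top_le_iff.mp (le_trans ?_ (sup_le_sup_left hle _))
  have hi : (Subgroup.zpowers u ⊔ commutator G).index ∣ (commutator G).index :=
    Subgroup.index_dvd_of_le le_sup_right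
  rw [hindex] at hi
  rcases (Nat.dvd_prime Nat.prime_two).mp hi with h | h
  · exact (Subgroup.index_eq_one.mp h).ge
  · exfalso
    refine hucomm ?_
    have heq : commutator G = Subgroup.zpowers u ⊔ commutator G := by
      refine Subgroup.eq_of_le_of_card_ge le_sup_right ?_
      have h1 := (commutator G).card_mul_index
      have h2 := (Subgroup.zpowers u ⊔ commutator G).card_mul_index
      rw [hindex] at h1
      rw [h] at h2
      omega
    rw [heq]
    exact Subgroup.mem_sup_left (Subgroup.mem_zpowers u)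

end Cfsg.Agent.S4757

namespace Cfsg.Agent.S4757

theorem aux_not_perfect {G : Type*} [Group G] [Finite G] (u : G) (hord : orderOf u = 2)
    (hgen : Subgroup.zpowers u ⊔ Cfsg.oddCore G = ⊤) : commutator G ≠ ⊤ := by
  intro hp
  have hn : (Cfsg.oddCore G).Normal := inferInstance
  have hcop := CfsgLib.Core.coprime_card_pPrimeCore 2 G
  have hle : commutator G ≤ Cfsg.oddCore G := by
    rw [commutator_def, Subgroup.commutator_le]
    intro a _ b _
    rw [← QuotientGroup.eq_one_iff, ← QuotientGroup.mk'_apply, map_commutatorElement,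
      commutatorElement_eq_one_iff_mul_comm]
    have hgen' : ∀ x : G ⧸ Cfsg.oddCore G, x ∈ Subgroup.zpowers (QuotientGroup.mk' _ u) := by
      intro x
      obtain ⟨g, rfl⟩ := QuotientGroup.mk'_surjective _ x
      have h1 : Subgroup.map (QuotientGroup.mk' (Cfsg.oddCore G)) ⊤ =
          Subgroup.zpowers (QuotientGroup.mk' _ u) := by
        rw [← hgen, Subgroup.map_sup, MonoidHom.map_zpowers,
          QuotientGroup.map_mk'_self, sup_bot_eq]
      rw [← h1]
      exact Subgroup.mem_map_of_mem _ (Subgroup.mem_top g)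
    obtain ⟨i, hi⟩ := Subgroup.mem_zpowers_iff.mp (hgen' (QuotientGroup.mk' _ a))
    obtain ⟨j, hj⟩ := Subgroup.mem_zpowers_iff.mp (hgen' (QuotientGroup.mk' _ b))
    rw [← hi, ← hj, ← zpow_add, ← zpow_add, add_comm]
  rw [hp, top_le_iff] at hle
  have hodd : (Nat.card G).Coprime 2 := by
    rw [← Subgroup.card_top, ← hle]; exact hcop
  have h2 : 2 ∣ Nat.card G := hord ▸ orderOf_dvd_natCard u
  have := Nat.eq_one_of_dvd_coprimes hodd h2 dvd_rfl
  norm_num at this

/-- Let u ≠ 1 be an element of the finite group G and c a complex number such that every non-principal irreducible character χ satisfies χ(1) − χ(u) = c or χ(u) = 0. Then the following are equivalent: (a) u has order 2, G is generated by u together with O(G), the largest normal subgroup of G of odd order, and the centralizer of u is {1, u}; (b) G is not perfect; (c) c = 2. -/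
theorem result {G : Type*} [Group G] [Finite G] (u : G) (hu : u ≠ 1) (c : ℂ) (hyp : ∀ χ : Cfsg.IrrCharacter G, (χ : G → ℂ) ≠ (fun _ => (1 : ℂ)) → ((χ : G → ℂ) 1 - (χ : G → ℂ) u = c ∨ (χ : G → ℂ) u = 0)) : ((orderOf u = 2 ∧ Subgroup.zpowers u ⊔ Cfsg.oddCore G = ⊤ ∧ Subgroup.centralizer ({u} : Set G) = Subgroup.zpowers u) ↔ commutator G ≠ ⊤) ∧ (commutator G ≠ ⊤ ↔ c = 2) :=
  ⟨⟨fun h => aux_not_perfect u h.1 h.2.1, fun h => (main u hu c hyp h).1⟩,
    ⟨fun h => (main u hu c hyp h).2, fun hc hp => perfect_ne_two u hu c hyp hp hc⟩⟩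

end Cfsg.Agent.S4757
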