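import Cfsg.Statements.S4759
import Cfsg.Agent.Lib.LocalEven.SpinExt.Main
import Cfsg.Agent.Lib.PGroups.Basic

set_option autoImplicit false
open Cfsg
open scoped commutatorElement

namespace Cfsg.Agent.S4759

/-- Let G be a finite group that is the semidirect product of a normal extraspecial 2-subgroup E and a complement H acting faithfully on E (no non-identity element of H centralizes E), and suppose H has a normal subgroup K of odd order with [E, K] = E. Then every faithful irreducible character θ of E (there is exactly one) extends to G: some irreducible character of G restricts to θ on E. -/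
theorem result {G : Type*} [Group G] [Finite G] (E H : Subgroup G) [E.Normal] (hE : Cfsg.IsExtraspecial 2 ↥E) (hEH : E ⊓ H = ⊥) (hEHtop : E ⊔ H = ⊤) (hfaith : ∀ h ∈ H, (∀ e ∈ E, h * e = e * h) → h = 1) (K : Subgroup G) (hKH : K ≤ H) (hKn : ∀ h ∈ H, ∀ k ∈ K, h * k * h⁻¹ ∈ K) (hKodd : Odd (Nat.card ↥K)) (hEK : ⁅E, K⁆ = E) (θ : Cfsg.IrrCharacter ↥E) (hθ : ∀ e : ↥E, (θ : ↥E → ℂ) e = (θ : ↥E → ℂ) 1 → e = 1) : ∃ χ : Cfsg.IrrCharacter G, ∀ e : ↥E, (χ : G → ℂ) e = (θ : ↥E → ℂ) e := by
  classical
  haveI : Fact (Nat.Prime 2) := ⟨Nat.prime_two⟩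
  obtain ⟨⟨hp, hfr, hcom⟩, hc2⟩ := hE
  have hcen1 : (1 : ↥E) ∈ Subgroup.center ↥E := one_mem _
  obtain ⟨z, hzne, hzuniv⟩ : ∃ z : Subgroup.center ↥E, z ≠ 1 ∧ ∀ w : Subgroup.center ↥E, w = 1 ∨ w = z := by
    haveI : Nontrivial (Subgroup.center ↥E) := Finite.one_lt_card_iff_nontrivial.mp (by omega)
    obtain ⟨z, hz⟩ := exists_ne (1 : Subgroup.center ↥E)
    refine ⟨z, hz, fun w => ?_⟩
    by_contra hw
    push Not at hw
    haveI := Fintype.ofFinite (Subgroup.center ↥E)
    have h3 : ({1, z, w} : Finset (Subgroup.center ↥E)).card = 3 := by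
      simp [hz.symm, hw.1.symm, hw.2.symm]
    have h4 := Finset.card_le_univ ({1, z, w} : Finset (Subgroup.center ↥E))
    rw [h3, ← Nat.card_eq_fintype_card, hc2] at h4
    omega
  have hmem : ∀ x : ↥E, x ∈ Subgroup.center ↥E → x = 1 ∨ x = (z : ↥E) := fun x hx =>
    (hzuniv ⟨x, hx⟩).imp (congrArg Subtype.val) (congrArg Subtype.val)
  have hzc : ∀ x : ↥E, (z : ↥E) * x = x * z := fun x => ((Subgroup.mem_center_iff.mp z.2) x).symm
  have hs : CfsgLib.SpinExt.IsSympl (z : ↥E) := by
    refine ⟨fun e => hzne (Subtype.ext e), ?_, hzc, fun x y => ?_, fun x hx => ?_, fun x => ?_⟩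
    · rcases hmem _ (mul_mem z.2 z.2) with e | e
      · exact e
      · exact absurd (Subtype.ext (mul_eq_left.mp e)) hzne
    · have h1 : ⁅x, y⁆ ∈ Subgroup.center ↥E := hcom ▸ Subgroup.commutator_mem_commutator (Subgroup.mem_top x) (Subgroup.mem_top y)
      rcases hmem _ h1 with e | e
      · exact Or.inl (commutatorElement_eq_one_iff_mul_comm.mp e)
      · right
        rw [← hzc (y * x), ← e, commutatorElement_def]
        group
    · exact hmem x (Subgroup.mem_center_iff.mpr fun y => (hx y).symm)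
    · have h1 := CfsgLib.PGroups.pow_mem_frattini hp x
      rw [hfr, pow_two] at h1
      exact hmem _ h1
  obtain ⟨n, σ, hσ, hσc⟩ := θ.2
  haveI := hσ
  have hσz : σ (z : ↥E) ≠ 1 := fun e => hs.ne (hθ _ (by
    rw [← hσc, Representation.character, e, Representation.char_one, LinearMap.trace_one]))
  have hρ := CfsgLib.SpinExt.isSpin_of_irreducible hs σ hσz
  have hinv : ∀ g m, σ.character (CfsgLib.CharExt.cn g m) = σ.character m := by
    intro g m
    have hcn : CfsgLib.CharExt.cn g m = MulAut.conjNormal g m := Subtype.ext (MulAut.conjNormal_apply g m).symm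
    rw [hcn]
    set φ : MulAut ↥E := MulAut.conjNormal g
    by_cases h1 : m = 1
    · rw [h1, map_one]
    by_cases h2 : m = (z : ↥E)
    · rw [h2, hs.map_z]
    rw [CfsgLib.SpinExt.trace_eq_zero hs hρ.neg h1 h2, CfsgLib.SpinExt.trace_eq_zero hs hρ.neg
      (fun e => h1 ((map_eq_one_iff φ φ.injective).mp e))
      (fun e => h2 (φ.injective (e.trans (hs.map_z φ).symm)))]
  -- the projection on the complement
  have hdec : ∀ g : G, ∃ h : ↥H, g * (h : G)⁻¹ ∈ E := fun g => by
    obtain ⟨e, he, h, hh, rfl⟩ := Subgroup.mem_sup_of_normal_left.mp (hEHtop.ge (Subgroup.mem_top g))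
    exact ⟨⟨h, hh⟩, by simpa using he⟩
  have huniq : ∀ (g : G) (h h' : ↥H), g * (h : G)⁻¹ ∈ E → g * (h' : G)⁻¹ ∈ E → h = h' := by
    intro g h h' he he'
    have h1 : (h : G) * (h' : G)⁻¹ ∈ E ⊓ H := Subgroup.mem_inf.mpr ⟨by
      have := mul_mem (inv_mem he) he'
      rwa [mul_inv_rev, inv_inv, mul_assoc, inv_mul_cancel_left] at this, mul_mem h.2 (inv_mem h'.2)⟩
    rw [hEH, Subgroup.mem_bot, mul_inv_eq_one] at h1
    exact Subtype.ext h1
  choose r₀ hr₀ using hdec
  let r : G →* ↥H := MonoidHom.mk' r₀ fun x y => huniq (x * y) _ _ (hr₀ _) (by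
    have h1 := mul_mem (hr₀ x) (‹E.Normal›.conj_mem _ (hr₀ y) (r₀ x : G))
    rw [Subgroup.coe_mul]
    rwa [show x * y * ((r₀ x : G) * (r₀ y : G))⁻¹ =
      x * (r₀ x : G)⁻¹ * ((r₀ x : G) * (y * (r₀ y : G)⁻¹) * (r₀ x : G)⁻¹) by group])
  have hr : ∀ g, g * (r g : G)⁻¹ ∈ E := hr₀
  have hrH : ∀ h : ↥H, r (h : G) = h := fun h => huniq (h : G) _ _ (hr _) (by rw [mul_inv_cancel]; exact one_mem _)
  have hrE : ∀ e ∈ E, r e = 1 := fun e he => huniq e _ _ (hr e) (by simpa using he)
  have hrker : ∀ g, r g = 1 → g ∈ E := fun g hg => by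
    have := hr g
    rwa [hg, Subgroup.coe_one, inv_one, mul_one] at this
  have hrsurj : Function.Surjective r := fun h => ⟨h, hrH h⟩
  obtain ⟨ρ, hρE⟩ := CfsgLib.CharExt.exists_extension_of_family σ hinv (fun p hpp => by
    haveI : Fact p.Prime := ⟨hpp⟩
    let S : Sylow p ↥H := Classical.arbitrary _
    let P : Subgroup G := (S : Subgroup ↥H).comap r
    have hEP : E ≤ P := fun e he => by
      rw [Subgroup.mem_comap, hrE e he]; exact one_mem _
    have hPi : ¬ p ∣ P.index := by
      rw [Subgroup.index_comap_of_surjective _ hrsurj]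
      exact Sylow.not_dvd_index S
    by_cases hp2 : p = 2
    · subst hp2
      -- the 2-group and the odd group acting on `E`
      let a : (S : Subgroup ↥H) →* MulAut ↥E :=
        (MulAut.conjNormal (H := E)).comp (H.subtype.comp (S : Subgroup ↥H).subtype)
      let b : ↥K →* MulAut ↥E := (MulAut.conjNormal (H := E)).comp K.subtype
      have hyp : CfsgLib.SpinExt.Hyp (z : ↥E) a b := by
        refine ⟨hs, S.2, hKodd, fun s k => ?_, fun e he => ?_⟩
        · refine ⟨⟨_, hKn _ (s : ↥H).2 _ k.2⟩, fun x => Subtype.ext ?_⟩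
          simp only [a, b, MonoidHom.comp_apply, Subgroup.coe_subtype, MulAut.conjNormal_apply]
          group
        · rw [hs.mem_zpowers]
          have hbe : ∀ k, b k e = e ∨ b k e = e * (z : ↥E) := fun k => by
            rcases hs.mem_zpowers.mp (he k) with e1 | e1
            · exact Or.inl (inv_mul_eq_one.mp e1).symm
            · exact Or.inr (inv_mul_eq_iff_eq_mul.mp e1)
          have hiff : ∀ k y, b k y * e = e * b k y ↔ y * e = e * y := by
            intro k y
            rw [show (y * e = e * y) ↔ (b k y * b k e = b k e * b k y) by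
              rw [← map_mul, ← map_mul, (b k).injective.eq_iff]]
            rcases hbe k with e1 | e1 <;> rw [e1]
            rw [← mul_assoc, mul_assoc e, hzc, ← mul_assoc]
            exact mul_right_cancel_iff.symm
          have hcomm : E ≤ (Subgroup.centralizer ({e} : Set ↥E)).map E.subtype := by
            refine hEK.ge.trans (Subgroup.commutator_le.mpr fun y hy k hk => ?_)
            refine ⟨⟨y, hy⟩ * b ⟨k, hk⟩ (⟨y, hy⟩ : ↥E)⁻¹, ?_, ?_⟩
            · rw [SetLike.mem_coe, Subgroup.mem_centralizer_singleton_iff]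
              by_cases hye : (⟨y, hy⟩ : ↥E) * e = e * ⟨y, hy⟩
              · have h1 : (⟨y, hy⟩ : ↥E)⁻¹ * e = e * (⟨y, hy⟩ : ↥E)⁻¹ := Commute.inv_left hye
                have h2 := (hiff ⟨k, hk⟩ _).mpr h1
                exact (Commute.mul_left hye h2).eq
              · have h1 : ¬ (⟨y, hy⟩ : ↥E)⁻¹ * e = e * (⟨y, hy⟩ : ↥E)⁻¹ := fun h =>
                  hye (by simpa using (Commute.inv_left h).eq)
                exact hs.mul_mem_centralizer hye (fun h => h1 ((hiff ⟨k, hk⟩ _).mp h))
            · simp only [Subgroup.coe_subtype, Subgroup.coe_mul, b, MonoidHom.comp_apply,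
                MulAut.conjNormal_apply, InvMemClass.coe_inv, commutatorElement_def]
              group
          refine hs.nondeg e fun y => ?_
          obtain ⟨y', hy', e'⟩ := hcomm y.2
          rw [Subtype.ext e'] at hy'
          exact (Subgroup.mem_centralizer_singleton_iff.mp hy').symm
      obtain ⟨M, hM⟩ := CfsgLib.SpinExt.good hyp (Fin n → ℂ) σ hρ
      have hPr : ∀ x : P, r x ∈ (S : Subgroup ↥H) := fun x => x.2
      let rP : P →* (S : Subgroup ↥H) := (r.comp P.subtype).codRestrict _ hPr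
      have hrP : ∀ x : P, ((rP x : ↥H) : G) = r x := fun _ => rfl
      let f : P → Module.End ℂ (Fin n → ℂ) := fun x => σ ⟨(x : G) * (r x : G)⁻¹, hr x⟩ * M (rP x)
      let σP : Representation ℂ P (Fin n → ℂ) :=
        { toFun := f
          map_one' := by
            show σ _ * (M (rP 1) : Module.End ℂ (Fin n → ℂ)) = 1
            rw [map_one rP, map_one, Units.val_one, mul_one]
            exact (congrArg σ (Subtype.ext (by simp))).trans (map_one σ)
          map_mul' := fun x y => by
            show σ _ * (M (rP (x * y)) : Module.End ℂ (Fin n → ℂ)) = σ _ * M (rP x) * (σ _ * M (rP y))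
            rw [map_mul rP, map_mul M, Units.val_mul]
            conv_rhs => rw [mul_assoc, ← mul_assoc (M (rP x) : Module.End ℂ (Fin n → ℂ)), hM, mul_assoc,
              ← mul_assoc, ← map_mul]
            congr 1
            congr 1
            refine Subtype.ext ?_
            simp only [a, hrP, Subgroup.coe_mul, MonoidHom.comp_apply, Subgroup.coe_subtype,
              MulAut.conjNormal_apply, map_mul]
            group }
      refine ⟨P, hEP, σP, hPi, fun m => ?_⟩
      show σ _ * (M (rP ⟨m, hEP m.2⟩) : Module.End ℂ (Fin n → ℂ)) = σ m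
      rw [show rP ⟨m, hEP m.2⟩ = 1 from Subtype.ext (hrE _ m.2), map_one, Units.val_one, mul_one]
      congr 1
      exact Subtype.ext (by simp [hrE _ m.2])
    · -- coprime to the degree
      let N := E.subgroupOf P
      let i : N ≃* ↥E := Subgroup.subgroupOfEquivOfLe hEP
      let σ' : Representation ℂ N (Fin n → ℂ) := σ.comp i.toMonoidHom
      haveI : σ'.IsIrreducible := CfsgLib.CharExt.isIrreducible_of_restrict σ' i.symm.toMonoidHom σ
        fun x => by show σ (i (i.symm x)) = σ x; rw [MulEquiv.apply_symm_apply]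
      have hinv' : ∀ g m, σ'.character (CfsgLib.CharExt.cn g m) = σ'.character m := fun g m =>
        (congrArg σ.character (Subtype.ext rfl : i (CfsgLib.CharExt.cn g m) = CfsgLib.CharExt.cn (g : G) (i m))).trans
          (hinv (g : G) (i m))
      obtain ⟨m, hm⟩ := IsPGroup.iff_card.mp hp
      obtain ⟨j, hj⟩ := IsPGroup.iff_card.mp S.2
      have hN : Nat.card N = 2 ^ m := by rw [Nat.card_congr i.toEquiv, hm]
      have hidx : N.index = p ^ j := by
        let rP : P →* (S : Subgroup ↥H) := (r.comp P.subtype).codRestrict _ fun x => x.2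
        have hk : rP.ker = N := by
          ext x
          rw [MonoidHom.mem_ker, Subgroup.mem_subgroupOf]
          exact ⟨fun e => hrker _ (congrArg Subtype.val e), fun e => Subtype.ext (hrE _ e)⟩
        have hsur : Function.Surjective rP := fun s =>
          ⟨⟨((s : ↥H) : G), show r _ ∈ (S : Subgroup ↥H) by rw [hrH]; exact s.2⟩, Subtype.ext (hrH _)⟩
        rw [← hk, Subgroup.index_ker, MonoidHom.range_eq_top.mpr hsur, Subgroup.card_top, hj]
      have hdim : Module.finrank ℂ (Fin n → ℂ) ∣ 2 ^ m := by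
        rw [← hm, ← hρ.dim, mul_assoc]; exact dvd_mul_right _ _
      have hord : orderOf (CfsgLib.CharExt.detHom σ') ∣ 2 ^ m := by
        rw [← hN]; exact orderOf_dvd_of_pow_eq_one (CfsgLib.CharExt.hom_pow_card _)
      obtain ⟨σP, hσP⟩ := CfsgLib.CharExt.exists_extension_coprime σ' hinv' (by
        refine Nat.Coprime.coprime_dvd_left (Nat.mul_dvd_mul hord hdim) ?_
        rw [hidx, ← pow_add]
        exact Nat.Coprime.pow _ _ ((Nat.coprime_primes Nat.prime_two hpp).mpr (Ne.symm hp2)))
      refine ⟨P, hEP, σP, hPi, fun x => ?_⟩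
      exact (hσP ⟨⟨x, hEP x.2⟩, x.2⟩).trans rfl)
  haveI : ρ.IsIrreducible := CfsgLib.CharExt.isIrreducible_of_restrict ρ E.subtype σ hρE
  refine ⟨⟨ρ.character, CfsgLib.Char.isIrrCharacter_rep ρ⟩, fun e => ?_⟩
  show LinearMap.trace ℂ _ (ρ e) = _
  rw [hρE, ← hσc]
  rfl

end Cfsg.Agent.S4759
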