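import Cfsg.Statements.S4762
import Cfsg.Agent.Lib.CharDegree.Twist
import Cfsg.Agent.Lib.CharDegree.Restriction
import Cfsg.Agent.Lib.PGroups.Extraspecial
import Cfsg.Agent.Lib.OddLocal.FittingHall
import Cfsg.Agent.Lib.Char.Monomial
-- import your own Cfsg.Agent.* helpers here

set_option autoImplicit false
open Cfsg

namespace Cfsg.Agent.S4762

open CfsgLib.CharDegree CfsgLib.Char
open scoped commutatorElement

variable {G : Type*} [Group G] [Finite G]

theorem exists_nonlinear (hna : commutator G ≠ ⊥) :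
    ∃ χ : Cfsg.IrrCharacter G, Cfsg.charDegree (χ : G → ℂ) ≠ 1 := by
  classical
  have := Fintype.ofFinite (Cfsg.IrrCharacter G)
  by_contra hno
  push Not at hno
  have hsum := sum_sq_degree_of_not_le_ker (commutator G)
  rw [Finset.filter_false_of_mem (fun χ _ h => h ((charDegree_eq_one_iff_commutator χ).mp (hno χ))),
    Finset.sum_empty, zero_add] at hsum
  have h := (commutator G).card_mul_index
  rw [← hsum] at h
  exact hna (Subgroup.card_eq_one.mp
    ((Nat.mul_eq_right Subgroup.index_ne_zero_of_finite).mp h))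

theorem eq_pair_of_card_two {Z : Subgroup G} (hZ : Nat.card Z = 2) {a b : G} (ha : a ∈ Z)
    (ha1 : a ≠ 1) (hb : b ∈ Z) : b = 1 ∨ b = a := by
  obtain ⟨x, y, hxy, huniv⟩ := Nat.card_eq_two_iff.mp hZ
  have h : ∀ w : Z, w = x ∨ w = y := fun w => by
    have := huniv ▸ Set.mem_univ w
    simpa using this
  rcases h ⟨a, ha⟩ with e1 | e1 <;> rcases h 1 with e2 | e2 <;> rcases h ⟨b, hb⟩ with e3 | e3 <;>
    first
      | exact absurd (congrArg Subtype.val (e1.trans e2.symm)) ha1
      | exact Or.inl (congrArg Subtype.val (e3.trans e2.symm))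
      | exact Or.inr (congrArg Subtype.val (e3.trans e1.symm))

theorem backward (hE : Cfsg.IsExtraspecial 2 G) :
    Nat.card {χ : Cfsg.IrrCharacter G // 2 ∣ Cfsg.charDegree (χ : G → ℂ)} = 1 := by
  classical
  have := Fact.mk Nat.prime_two
  have := Fintype.ofFinite G
  have := Fintype.ofFinite (Cfsg.IrrCharacter G)
  have hGZ := CfsgLib.PGroups.IsExtraspecial.commutator_eq hE
  have hZ := CfsgLib.PGroups.IsExtraspecial.card_center hE
  have hiff : ∀ χ : Cfsg.IrrCharacter G, 2 ∣ Cfsg.charDegree (χ : G → ℂ) ↔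
      ¬ ∀ g ∈ commutator G, (χ : G → ℂ) g = (χ : G → ℂ) 1 := fun χ => by
    rw [← charDegree_eq_one_iff_commutator]
    refine ⟨fun h h1 => by rw [h1] at h; norm_num at h, fun h => ?_⟩
    obtain ⟨k, hk⟩ := (IsPGroup.iff_card).mp (CfsgLib.PGroups.IsExtraspecial.isPGroup hE)
    have hd := charDegree_dvd_card χ
    rw [hk, Nat.dvd_prime_pow Nat.prime_two] at hd
    obtain ⟨i, -, hi⟩ := hd
    rw [hi] at h ⊢
    exact dvd_pow_self 2 (fun h0 => h (by rw [h0, pow_zero]))
  set Zf := Finset.univ.filter (fun g : G => g ∈ Subgroup.center G) with hZf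
  have hZfcard : Zf.card = 2 := by
    rw [hZf, ← Fintype.card_subtype, ← Nat.card_eq_fintype_card]; exact hZ
  have hsupp : ∀ χ : Cfsg.IrrCharacter G,
      (¬ ∀ g ∈ commutator G, (χ : G → ℂ) g = (χ : G → ℂ) 1) →
      Cfsg.charDegree (χ : G → ℂ) ^ 2 * 2 = Nat.card G := by
    intro χ hχ
    push Not at hχ
    obtain ⟨z, hz, hzne⟩ := hχ
    rw [hGZ] at hz
    have hz1 : z ≠ 1 := fun h => hzne (by rw [h])
    obtain ⟨n, ρ, hρ, hρχ, -⟩ := exists_rep χ
    obtain ⟨ω, hω⟩ := CfsgLib.CharIntegral.exists_scalar_of_mem_center ρ hz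
    have hmul : ∀ x : G, (χ : G → ℂ) (z * x) = ω * (χ : G → ℂ) x := fun x => by
      rw [← hρχ]
      simp [Representation.character, hω, Module.End.mul_eq_comp, LinearMap.smul_comp]
    have hω1 : ω ≠ 1 := fun h => hzne (by
      have := hmul 1
      rwa [h, mul_one, one_mul] at this)
    have hvan : ∀ x : G, x ∉ Subgroup.center G → (χ : G → ℂ) x = 0 := by
      intro x hx
      obtain ⟨y, hy⟩ : ∃ y, y * x ≠ x * y := by
        by_contra hno
        push Not at hno
        exact hx (Subgroup.mem_center_iff.mpr hno)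
      have hc := CfsgLib.PGroups.IsExtraspecial.comm_mem hE y x
      have hcne : ⁅y, x⁆ ≠ 1 := fun h => hy (commutatorElement_eq_one_iff_mul_comm.mp h)
      have hcz : ⁅y, x⁆ = z := (eq_pair_of_card_two hZ hz hz1 hc).resolve_left hcne
      have h1 := hmul x
      rw [show z * x = y * x * y⁻¹ by rw [← hcz, commutatorElement_def]; group,
        IsIrr.isClassFunction χ.2 x y] at h1
      have h2 : (ω - 1) * (χ : G → ℂ) x = 0 := by linear_combination -h1
      exact (mul_eq_zero.mp h2).resolve_left (sub_ne_zero.mpr hω1)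
    have hsum := sum_norm_sq χ
    rw [← Finset.sum_filter_add_sum_filter_not Finset.univ (fun g => g ∈ Subgroup.center G),
      Finset.sum_eq_zero (s := Finset.univ.filter fun g => ¬ g ∈ Subgroup.center G)
        (fun g hg => by rw [hvan g (Finset.mem_filter.mp hg).2]; simp), add_zero,
      Finset.sum_congr rfl (g := fun _ => (Cfsg.charDegree (χ : G → ℂ) : ℝ) ^ 2) (fun g hg => by
        obtain ⟨c, hc⟩ := CfsgLib.CharIntegral.exists_scalar_of_mem_center ρ
          (Finset.mem_filter.mp hg).2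
        have h1 := CfsgLib.CharIntegral.norm_character_eq_of_scalar ρ g hc
        rw [hρχ, Module.finrank_fin_fun] at h1
        rw [h1]
        congr 2
        rw [← Nat.cast_inj (R := ℂ), cast_irrDegree, ← hρχ, Representation.char_one]
        simp),
      Finset.sum_const, nsmul_eq_mul, ← hZf, hZfcard, mul_comm] at hsum
    exact_mod_cast hsum
  have htotal := sum_sq_degree_of_not_le_ker (commutator G)
  set F := Finset.univ.filter (fun χ : Cfsg.IrrCharacter G =>
    ¬ ∀ g ∈ commutator G, (χ : G → ℂ) g = (χ : G → ℂ) 1) with hF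
  have hidx : 2 * (commutator G).index = Nat.card G := by
    have h := (commutator G).card_mul_index
    rwa [hGZ, hZ, ← hGZ] at h
  have hcard : F.card = 1 := by
    have h1 : ∑ χ ∈ F, Cfsg.charDegree (χ : G → ℂ) ^ 2 * 2 = F.card * Nat.card G := by
      rw [Finset.sum_congr rfl fun χ hχ => hsupp χ (Finset.mem_filter.mp hχ).2, Finset.sum_const,
        smul_eq_mul]
    rw [← Finset.sum_mul] at h1
    have hpos : 0 < Nat.card G := Nat.card_pos
    refine Nat.eq_of_mul_eq_mul_right hpos ?_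
    rw [one_mul, ← h1]
    have htotal' : ∑ χ ∈ F, Cfsg.charDegree (χ : G → ℂ) ^ 2 + (commutator G).index = Nat.card G := by
      convert htotal
    omega
  rw [Nat.card_congr (Equiv.subtypeEquivRight hiff), Nat.card_eq_fintype_card,
    Fintype.card_subtype]
  exact hcard

theorem forward [Group.IsNilpotent G] (p : ℕ) [Fact p.Prime]
    (h : Nat.card {χ : Cfsg.IrrCharacter G // p ∣ Cfsg.charDegree (χ : G → ℂ)} = 1) :
    p = 2 ∧ Cfsg.IsExtraspecial 2 G := by
  classical
  have hp : p.Prime := Fact.out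
  have := Fintype.ofFinite G
  have := Fintype.ofFinite (Cfsg.IrrCharacter G)
  obtain ⟨hsub, ⟨⟨χ, hχ⟩⟩⟩ := Nat.card_eq_one_iff_unique.mp h
  obtain ⟨P⟩ := (inferInstance : Nonempty (Sylow p G))
  have hnil : Group.IsNilpotent G := inferInstance
  have hPn : (P : Subgroup G).Normal :=
    (((Group.isNilpotent_of_finite_tfae (G := G)).out 0 3 rfl rfl).mp hnil) p inferInstance P
  obtain ⟨R, hR⟩ := Subgroup.exists_right_complement'_of_coprime P.card_coprime_index
  have hRindex : Nat.card R = (P : Subgroup G).index := hR.symm.index_eq_card.symm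
  have hcomm : ∀ u ∈ (P : Subgroup G), ∀ r ∈ R, Commute u r := fun u hu r hr => by
    refine CfsgLib.OddLocal.commute_of_coprime_orderOf hnil ?_
    refine Nat.Coprime.coprime_dvd_left ?_ (Nat.Coprime.coprime_dvd_right ?_ P.card_coprime_index)
    · exact (Subgroup.orderOf_mk u hu) ▸ orderOf_dvd_natCard (⟨u, hu⟩ : (P : Subgroup G))
    · rw [← hRindex]
      exact (Subgroup.orderOf_mk r hr) ▸ orderOf_dvd_natCard (⟨r, hr⟩ : R)
  have hRn : R.Normal := ⟨fun r hr g => by
    obtain ⟨⟨u, r'⟩, hg, -⟩ := hR.existsUnique g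
    simp only at hg
    rw [← hg, mul_inv_rev, show (u : G) * r' * r * ((r' : G)⁻¹ * (u : G)⁻¹) =
      (u : G) * ((r' : G) * r * (r' : G)⁻¹) * (u : G)⁻¹ by group,
      (hcomm u u.2 _ (R.mul_mem (R.mul_mem r'.2 hr) (R.inv_mem r'.2))).eq, mul_inv_cancel_right]
    exact R.mul_mem (R.mul_mem r'.2 hr) (R.inv_mem r'.2)⟩
  have e : G ⧸ R ≃* P := hR.QuotientMulEquiv
  have hPna : commutator (G ⧸ R) ≠ ⊥ := by
    intro hbot
    have hab : ∀ a ∈ (P : Subgroup G), ∀ b ∈ (P : Subgroup G), a * b = b * a := by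
      intro a ha b hb
      have hc := (commutator_eq_bot_iff (G ⧸ R)).mp hbot
      have h1 := hc.is_comm.comm (e.symm ⟨a, ha⟩) (e.symm ⟨b, hb⟩)
      rw [← map_mul, ← map_mul] at h1
      exact congrArg Subtype.val (e.symm.injective h1)
    obtain ⟨n, ρ, hρ, -, hn⟩ := exists_rep χ
    have h2 := CfsgLib.Clifford.finrank_dvd_index n ρ (P : Subgroup G) hab
    rw [Module.finrank_fin_fun, hn] at h2
    exact P.not_dvd_index (hχ.trans h2)
  obtain ⟨ψ, hψ⟩ := exists_nonlinear hPna
  have hψp : p ∣ Cfsg.charDegree (infl R ψ : G → ℂ) := by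
    rw [charDegree_infl]
    obtain ⟨k, hk⟩ := IsPGroup.iff_card.mp P.2
    have hd := charDegree_dvd_card ψ
    rw [Nat.card_congr e.toEquiv, hk, Nat.dvd_prime_pow hp] at hd
    obtain ⟨i, -, hi⟩ := hd
    rw [hi] at hψ ⊢
    exact dvd_pow_self p (fun h0 => hψ (by rw [h0, pow_zero]))
  have hRbot : R = ⊥ := by
    by_contra hne
    have hnt : Nontrivial (G ⧸ (P : Subgroup G)) := by
      rw [← Finite.one_lt_card_iff_nontrivial, ← Subgroup.index_eq_card, ← hRindex]
      exact (Subgroup.one_lt_card_iff_ne_bot R).mpr hne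
    have hnil' : Group.IsNilpotent (G ⧸ (P : Subgroup G)) :=
      Group.nilpotent_of_surjective (QuotientGroup.mk' _) (QuotientGroup.mk'_surjective _)
    have hsol : Group.IsSolvable (G ⧸ (P : Subgroup G)) := inferInstance
    obtain ⟨χ₁, hχ₁, hχ₁ne⟩ := exists_linear_ne_one
      (Group.IsSolvable.commutator_lt_top_of_nontrivial (G ⧸ (P : Subgroup G))).ne
    obtain ⟨l₀, hl₀⟩ := exists_hom_of_degree_one χ₁ hχ₁
    set l := l₀.comp (QuotientGroup.mk' (P : Subgroup G)) with hl
    obtain ⟨r, hr, hlr⟩ : ∃ r ∈ R, l r ≠ 1 := by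
      by_contra hno
      push Not at hno
      refine hχ₁ne (funext fun q => ?_)
      obtain ⟨g, rfl⟩ := QuotientGroup.mk_surjective q
      obtain ⟨⟨u, r⟩, hg, -⟩ := hR.existsUnique g
      simp only at hg
      rw [hl₀]
      show (l g : ℂ) = 1
      rw [← hg, map_mul, hno r r.2, mul_one, hl, MonoidHom.comp_apply, QuotientGroup.mk'_apply,
        (QuotientGroup.eq_one_iff (u : G)).mpr u.2, map_one, Units.val_one]
    have heq := congrArg Subtype.val (Subsingleton.elim
      (⟨twist (infl R ψ) l, by rwa [charDegree_twist]⟩ :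
        {χ : Cfsg.IrrCharacter G // p ∣ Cfsg.charDegree (χ : G → ℂ)}) ⟨infl R ψ, hψp⟩)
    have h1 := congrFun (congrArg Subtype.val heq) r
    simp only [twist_apply] at h1
    rw [infl_ker R ψ hr] at h1
    exact hlr (Units.ext (mul_left_cancel₀ (IsIrr.apply_one_ne_zero (infl R ψ).2)
      (h1.trans (mul_one _).symm)))
  have hG : IsPGroup p G := by
    obtain ⟨k, hk⟩ := IsPGroup.iff_card.mp P.2
    refine IsPGroup.of_card (n := k) ?_
    rw [← hk, ← Nat.card_congr e.toEquiv, ← Subgroup.index_eq_card, hRbot, Subgroup.index_bot]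
  obtain ⟨n, hn⟩ := IsPGroup.iff_card.mp hG
  have hnl : ∀ φ : Cfsg.IrrCharacter G,
      (¬ ∀ g ∈ commutator G, (φ : G → ℂ) g = (φ : G → ℂ) 1) → φ = χ := fun φ hφ => by
    rw [← charDegree_eq_one_iff_commutator] at hφ
    have hd := charDegree_dvd_card φ
    rw [hn, Nat.dvd_prime_pow hp] at hd
    obtain ⟨i, -, hi⟩ := hd
    have hpd : p ∣ Cfsg.charDegree (φ : G → ℂ) := by
      rw [hi] at hφ ⊢
      exact dvd_pow_self p (fun h0 => hφ (by rw [h0, pow_zero]))
    exact congrArg Subtype.val (Subsingleton.elim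
      (⟨φ, hpd⟩ : {χ : Cfsg.IrrCharacter G // p ∣ Cfsg.charDegree (χ : G → ℂ)}) ⟨χ, hχ⟩)
  have hχnl : ¬ ∀ g ∈ commutator G, (χ : G → ℂ) g = (χ : G → ℂ) 1 := by
    rw [← charDegree_eq_one_iff_commutator]
    intro h1
    rw [h1, Nat.dvd_one] at hχ
    exact hp.one_lt.ne' hχ
  have hsum := sum_sq_degree_of_not_le_ker (commutator G)
  replace hsum : Cfsg.charDegree (χ : G → ℂ) ^ 2 + (commutator G).index = Nat.card G := by
    rw [← hsum]
    congr 1
    symm
    refine Finset.sum_eq_single_of_mem χ ?_ fun φ hφ hne => ?_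
    · simp only [Finset.mem_filter, Finset.mem_univ, true_and]; exact hχnl
    · simp only [Finset.mem_filter, Finset.mem_univ, true_and] at hφ
      exact absurd (hnl φ hφ) hne
  obtain ⟨a, -, ha⟩ := (Nat.dvd_prime_pow hp).mp (hn ▸ charDegree_dvd_card χ)
  obtain ⟨b, -, hb⟩ := (Nat.dvd_prime_pow hp).mp
    (hn ▸ Subgroup.index_dvd_card (commutator G))
  rw [ha, hb, hn, ← pow_mul] at hsum
  have h2 := hp.two_le
  have hkey : a * 2 = b ∧ p = 2 := by
    have hlt1 : p ^ (a * 2) < p ^ n := by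
      rw [← hsum]; exact Nat.lt_add_of_pos_right (pow_pos hp.pos _)
    have hlt2 : p ^ b < p ^ n := by
      rw [← hsum]; exact Nat.lt_add_of_pos_left (pow_pos hp.pos _)
    rw [Nat.pow_lt_pow_iff_right hp.one_lt] at hlt1 hlt2
    rcases lt_trichotomy (a * 2) b with hlt | heq | hgt
    · exfalso
      have hd1 : p ^ (a * 2 + 1) ∣ p ^ b := pow_dvd_pow p (by omega)
      have hd2 : p ^ (a * 2 + 1) ∣ p ^ (a * 2) + p ^ b := by
        rw [hsum]; exact pow_dvd_pow p (by omega)
      have := (Nat.pow_dvd_pow_iff_le_right hp.one_lt).mp ((Nat.dvd_add_left hd1).mp hd2)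
      omega
    · refine ⟨heq, ?_⟩
      rw [← heq, ← two_mul] at hsum
      have : p ∣ 2 := by
        have hd : p ^ (a * 2 + 1) ∣ 2 * p ^ (a * 2) := by rw [hsum]; exact pow_dvd_pow p (by omega)
        rw [pow_succ'] at hd
        exact Nat.dvd_of_mul_dvd_mul_right (pow_pos hp.pos _) hd
      exact (Nat.prime_dvd_prime_iff_eq hp Nat.prime_two).mp this
    · exfalso
      have hd1 : p ^ (b + 1) ∣ p ^ (a * 2) := pow_dvd_pow p (by omega)
      have hd2 : p ^ (b + 1) ∣ p ^ (a * 2) + p ^ b := by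
        rw [hsum]; exact pow_dvd_pow p (by omega)
      have := (Nat.pow_dvd_pow_iff_le_right hp.one_lt).mp ((Nat.dvd_add_right hd1).mp hd2)
      omega
  obtain ⟨hab, rfl⟩ := hkey
  refine ⟨rfl, ?_⟩
  have hcard : Nat.card G = 2 * 2 ^ b := by rw [hn, ← hsum, hab, ← two_mul]
  have hc2 : Nat.card (commutator G) = 2 := by
    have hm := (commutator G).card_mul_index
    rw [hb, hcard] at hm
    exact Nat.eq_of_mul_eq_mul_right (pow_pos Nat.two_pos _) hm
  have hcle : commutator G ≤ Subgroup.center G := by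
    intro z hz
    rw [Subgroup.mem_center_iff]
    intro g
    by_cases hz1 : z = 1
    · simp [hz1]
    have hmem : g * z * g⁻¹ ∈ commutator G :=
      (inferInstance : (commutator G).Normal).conj_mem z hz g
    rcases eq_pair_of_card_two hc2 hz hz1 hmem with h' | h'
    · exact absurd (by simpa using h') hz1
    · exact mul_inv_eq_iff_eq_mul.mp h'
  have hZ : Nat.card (Subgroup.center G) = 2 := by
    refine le_antisymm ?_ (hc2 ▸ Subgroup.card_le_of_le hcle)
    have := sq_charDegree_mul_card_le χ (Subgroup.center G) le_rfl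
    rw [ha, ← pow_mul, hab, hcard, mul_comm 2] at this
    exact Nat.le_of_mul_le_mul_left this (pow_pos Nat.two_pos _)
  refine CfsgLib.PGroups.isExtraspecial_of hG (fun hc => ?_) hZ hcle fun x => ?_
  · rw [(commutator_eq_bot_iff G).mpr hc, Subgroup.card_bot] at hc2
    norm_num at hc2
  · rw [Subgroup.mem_center_iff]
    intro y
    have hc : ⁅x, y⁆ ∈ Subgroup.center G :=
      hcle (Subgroup.commutator_mem_commutator (Subgroup.mem_top x) (Subgroup.mem_top y))
    have hmem : ⁅x, y⁆ ∈ commutator G :=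
      Subgroup.commutator_mem_commutator (Subgroup.mem_top x) (Subgroup.mem_top y)
    have hsq : ⁅x, y⁆ * ⁅x, y⁆ = 1 := by
      have h3 := pow_card_eq_one' (G := commutator G) (x := ⟨_, hmem⟩)
      rw [hc2, sq] at h3
      exact congrArg Subtype.val h3
    refine (commutatorElement_eq_one_iff_mul_comm.mp ?_).symm
    have e3 : ⁅x ^ 2, y⁆ = x * ⁅x, y⁆ * x⁻¹ * ⁅x, y⁆ := by
      simp only [commutatorElement_def, sq]; group
    rw [e3, Subgroup.mem_center_iff.mp hc x, mul_inv_cancel_right, hsq]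

/-- Let p be a prime and G a finite nilpotent group. Then G has exactly one irreducible complex character of degree divisible by p if and only if p = 2 and G is an extraspecial 2-group. -/
theorem result {G : Type*} [Group G] [Finite G] [Group.IsNilpotent G] (p : ℕ) [Fact p.Prime] : Nat.card {χ : Cfsg.IrrCharacter G // p ∣ Cfsg.charDegree (χ : G → ℂ)} = 1 ↔ (p = 2 ∧ Cfsg.IsExtraspecial 2 G) := by
  refine ⟨forward p, fun ⟨hp2, hE⟩ => ?_⟩
  subst hp2
  exact backward hE

end Cfsg.Agent.S4762
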