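import Cfsg.Statements.S4763
import Cfsg.Agent.Lib.Char.CoprimeDegree
import Cfsg.Agent.Lib.CharAction.Semiregular
import Cfsg.Agent.Lib.CharDegree.Basic
import Cfsg.Agent.Lib.CharDegree.Twist
import Mathlib.GroupTheory.FiniteAbelian.Duality
import Mathlib.RingTheory.RootsOfUnity.AlgebraicallyClosed
-- import your own Cfsg.Agent.* helpers here

set_option autoImplicit false
open Cfsg

namespace Cfsg.Agent.S4763

open CfsgLib.Char CfsgLib.CharDegree CfsgLib.Gallagher
open scoped ComplexConjugate commutatorElement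

variable {G : Type*} [Group G] [Finite G]

/-- A quotient of order a prime power with a unique character of degree divisible by `p` is
abelian. -/
theorem quotient_comm (p : ℕ) [Fact p.Prime] (N : Subgroup G) [N.Normal] (hN : (Nat.card N).Coprime p)
    {k : ℕ} (hk : N.index = p ^ k) (hnil : ¬ Group.IsNilpotent G)
    (hone : Nat.card {χ : Cfsg.IrrCharacter G // p ∣ Cfsg.charDegree (χ : G → ℂ)} = 1) :
    ∀ a b : G ⧸ N, a * b = b * a := by
  classical
  have hp := (Fact.out : p.Prime)
  have := Fintype.ofFinite G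
  have := Fintype.ofFinite N
  have := Fintype.ofFinite (G ⧸ N)
  have := Fintype.ofFinite (IrrCharacter G)
  have := Fintype.ofFinite (IrrCharacter N)
  have := Fintype.ofFinite (IrrCharacter (G ⧸ N))
  have hcardQ : Nat.card (G ⧸ N) = p ^ k := by rw [← Subgroup.index_eq_card, hk]
  by_contra hcom
  push Not at hcom
  obtain ⟨a, b, hab⟩ := hcom
  -- a nonlinear character of the quotient
  obtain ⟨β, hβ⟩ : ∃ β : IrrCharacter (G ⧸ N), charDegree (β : G ⧸ N → ℂ) ≠ 1 := by
    by_contra! hall
    have h1 : ∀ g ∈ commutator (G ⧸ N), g = 1 := fun g hg => by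
      by_contra hg1
      have h0 := sum_degree_mul_apply_of_ne_one hg1
      rw [Finset.sum_congr rfl fun χ _ => by
        rw [(charDegree_eq_one_iff_commutator χ).mp (hall χ) g hg, ← sq],
        CfsgLib.Char.sum_sq_degree] at h0
      exact Nat.cast_ne_zero.mpr Nat.card_pos.ne' h0
    refine hab ?_
    have h2 := h1 _ (Subgroup.commutator_mem_commutator (Subgroup.mem_top a) (Subgroup.mem_top b))
    exact commutatorElement_eq_one_iff_mul_comm.mp h2
  let χ₀ : IrrCharacter G := ⟨fun g => (β : G ⧸ N → ℂ) (QuotientGroup.mk' N g),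
    IsIrr.comp_surjective _ (QuotientGroup.mk'_surjective N) β.2⟩
  have hd₀ : charDegree (χ₀ : G → ℂ) = charDegree (β : G ⧸ N → ℂ) := charDegree_eq_of_apply_one (by
    rw [cast_irrDegree]
    show (β : G ⧸ N → ℂ) (QuotientGroup.mk' N 1) = (β : G ⧸ N → ℂ) 1
    rw [map_one])
  have hβp : p ∣ charDegree (β : G ⧸ N → ℂ) := by
    have hd := charDegree_dvd_card β
    rw [hcardQ, Nat.dvd_prime_pow hp] at hd
    obtain ⟨i, -, hi⟩ := hd
    rw [hi] at hβ ⊢
    exact dvd_pow_self p fun h => hβ (by rw [h, pow_zero])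
  have hβlt : charDegree (β : G ⧸ N → ℂ) ^ 2 < Nat.card (G ⧸ N) := by
    have h := CfsgLib.Char.sum_sq_degree (G := G ⧸ N)
    have htne : β ≠ trivChar (G ⧸ N) := fun e => hβ (by
      rw [e]; exact charDegree_eq_of_apply_one (by simp [trivChar_apply]))
    have hle : charDegree (β : G ⧸ N → ℂ) ^ 2 + 1 ≤ Nat.card (G ⧸ N) := by
      have hsum : ∑ χ : IrrCharacter (G ⧸ N), charDegree (χ : G ⧸ N → ℂ) ^ 2 = Nat.card (G ⧸ N) := by
        apply Nat.cast_injective (R := ℂ)
        rw [← h, Nat.cast_sum]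
        exact Finset.sum_congr rfl fun χ _ => by rw [Nat.cast_pow, cast_irrDegree]
      rw [← hsum]
      refine le_trans ?_ (Finset.sum_le_sum_of_subset (Finset.subset_univ {β, trivChar (G ⧸ N)}))
      rw [Finset.sum_pair htne, charDegree_eq_of_apply_one (χ := (trivChar (G ⧸ N) : G ⧸ N → ℂ)) (n := 1)
        (by simp [trivChar_apply]), one_pow]
    omega
  obtain ⟨hsub, -⟩ := Nat.card_eq_one_iff_unique.mp hone
  have huniq : ∀ χ : IrrCharacter G, p ∣ charDegree (χ : G → ℂ) → χ = χ₀ := fun χ h =>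
    congrArg Subtype.val (hsub.elim ⟨χ, h⟩ ⟨χ₀, hd₀ ▸ hβp⟩)
  have hcopd : ∀ χ : IrrCharacter G, χ ≠ χ₀ → (charDegree (χ : G → ℂ)).Coprime N.index := fun χ h => by
    rw [hk]
    exact (((hp.coprime_iff_not_dvd).mpr fun hd => h (huniq χ hd)).pow_left k).symm
  -- linear characters of the quotient
  have hlin : Nat.card (G ⧸ N →* ℂˣ) * 2 ≤ Nat.card (G ⧸ N) := by
    have : Finite (Abelianization (G ⧸ N)) := Finite.of_surjective _ (QuotientGroup.mk'_surjective (commutator (G ⧸ N)))
    have : NeZero ((Monoid.exponent (Abelianization (G ⧸ N)) : ℕ) : ℂ) :=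
      ⟨Nat.cast_ne_zero.mpr Monoid.exponent_ne_zero_of_finite⟩
    rw [Nat.card_congr Abelianization.lift, CommGroup.card_monoidHom_of_hasEnoughRootsOfUnity]
    show Nat.card ((G ⧸ N) ⧸ commutator (G ⧸ N)) * 2 ≤ _
    rw [(commutator (G ⧸ N)).card_eq_card_quotient_mul_card_subgroup]
    refine Nat.mul_le_mul_left _ ?_
    rcases Nat.lt_or_ge (Nat.card (commutator (G ⧸ N))) 2 with h | h
    · refine absurd ?_ hab
      have h1 : commutator (G ⧸ N) = ⊥ := Subgroup.card_eq_one.mp (by
        have := Nat.card_pos (α := commutator (G ⧸ N))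
        omega)
      refine commutatorElement_eq_one_iff_mul_comm.mp ?_
      have h2 : ⁅a, b⁆ ∈ commutator (G ⧸ N) :=
        Subgroup.commutator_mem_commutator (Subgroup.mem_top a) (Subgroup.mem_top b)
      rwa [h1, Subgroup.mem_bot] at h2
    · exact h
  -- the count
  let res : IrrCharacter G → IrrCharacter N := fun χ =>
    if h : IsIrrCharacter N (fun n : N => (χ : G → ℂ) n) then ⟨_, h⟩ else trivChar N
  have hres : ∀ χ : IrrCharacter G, χ ≠ χ₀ → ∀ n : N, (res χ : N → ℂ) n = (χ : G → ℂ) n := fun χ h n => by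
    have hr := CfsgLib.CharExt.isIrr_restrict_of_coprime (K := N) χ (hcopd χ h)
    simp only [res, dif_pos hr]
  have hbound : ∑ χ ∈ Finset.univ.erase χ₀, charDegree (χ : G → ℂ) ^ 2 ≤
      Nat.card (G ⧸ N →* ℂˣ) * Nat.card N := by
    have hN2 : ∑ θ : IrrCharacter N, charDegree (θ : N → ℂ) ^ 2 = Nat.card N := by
      apply Nat.cast_injective (R := ℂ)
      rw [← CfsgLib.Char.sum_sq_degree (G := N), Nat.cast_sum]
      exact Finset.sum_congr rfl fun χ _ => by rw [Nat.cast_pow, cast_irrDegree]
    rw [← hN2, Finset.mul_sum, ← Finset.sum_fiberwise (Finset.univ.erase χ₀) res]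
    refine Finset.sum_le_sum fun θ _ => ?_
    set S := (Finset.univ.erase χ₀).filter fun χ => res χ = θ
    rw [Finset.sum_congr rfl (g := fun _ => charDegree (θ : N → ℂ) ^ 2) fun χ hχ => by
      obtain ⟨h1, rfl⟩ := Finset.mem_filter.mp hχ
      congr 1
      refine charDegree_eq_of_apply_one ?_
      rw [cast_irrDegree, hres χ (Finset.ne_of_mem_erase h1), Subgroup.coe_one],
      Finset.sum_const, smul_eq_mul]
    refine Nat.mul_le_mul_right _ ?_
    rcases S.eq_empty_or_nonempty with h | ⟨χ₁, hχ₁⟩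
    · simp [h]
    obtain ⟨h1, hθ1⟩ := Finset.mem_filter.mp hχ₁
    have hr₁ : IsIrrCharacter N (fun n : N => (χ₁ : G → ℂ) n) :=
      CfsgLib.CharExt.isIrr_restrict_of_coprime (K := N) χ₁ (hcopd χ₁ (Finset.ne_of_mem_erase h1))
    have hex : ∀ χ : S, ∃ l : G ⧸ N →* ℂˣ, ∀ g, (χ.1 : G → ℂ) g =
        (l (QuotientGroup.mk' N g) : ℂ) * (χ₁ : G → ℂ) g := by
      rintro ⟨χ, hχ⟩
      obtain ⟨h2, hθ2⟩ := Finset.mem_filter.mp hχ
      have he : ∀ n : N, (χ : G → ℂ) n = (χ₁ : G → ℂ) n := fun n => by
        rw [← hres χ (Finset.ne_of_mem_erase h2), ← hres χ₁ (Finset.ne_of_mem_erase h1), hθ1, hθ2]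
      obtain ⟨γ, hγ⟩ := exists_eq_twistBy (IsIrr.isCharacter χ₁.2) hr₁ χ (by
        rw [funext he]
        exact ne_of_eq_of_ne (classInner_irr_self ⟨_, hr₁⟩) one_ne_zero)
      have hγ1 : (γ : G ⧸ N → ℂ) 1 = 1 := by
        have h := congrFun hγ ((1 : N) : G)
        rw [twistBy_apply_coe, he] at h
        exact (mul_eq_right₀ (IsIrr.apply_one_ne_zero hr₁)).mp h.symm
      obtain ⟨l, hl⟩ := exists_linear_of_degree_one (IsIrr.isCharacter γ.2) hγ1
      exact ⟨l, fun g => by rw [show (χ : G → ℂ) g = _ from congrFun hγ g, twistBy_apply, hl]⟩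
    choose l hl using hex
    rw [← Fintype.card_coe, ← Nat.card_eq_fintype_card]
    refine Nat.card_le_card_of_injective l fun x y h => Subtype.ext (irr_ext fun g => ?_)
    rw [hl, hl, h]
  have htot : ∑ χ : IrrCharacter G, charDegree (χ : G → ℂ) ^ 2 = Nat.card G := by
    apply Nat.cast_injective (R := ℂ)
    rw [← CfsgLib.Char.sum_sq_degree (G := G), Nat.cast_sum]
    exact Finset.sum_congr rfl fun χ _ => by rw [Nat.cast_pow, cast_irrDegree]
  rw [← Finset.add_sum_erase _ _ (Finset.mem_univ χ₀), hd₀,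
    N.card_eq_card_quotient_mul_card_subgroup] at htot
  have hN1 : Nat.card N = 1 := by
    have hpos := Nat.card_pos (α := N)
    by_contra hne
    have h2 : 2 ≤ Nat.card N := by omega
    have h3 := Nat.mul_le_mul_right (Nat.card N) hlin
    have h4 := Nat.mul_le_mul_left (Nat.card (G ⧸ N)) h2
    nlinarith
  refine hnil (IsPGroup.isNilpotent (p := p) (IsPGroup.of_card (n := k) ?_))
  rw [← hcardQ, N.card_eq_card_quotient_mul_card_subgroup, hN1, mul_one]

/-- Invariant elements in sets stable under a coprime `p`-group. -/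
theorem exists_fixed {p : ℕ} [Fact p.Prime] {P : Subgroup G} (hP : IsPGroup p P) {S : Set G}
    (hS : ∀ a ∈ P, ∀ x ∈ S, a * x * a⁻¹ ∈ S) (hcard : ¬ p ∣ Nat.card S) :
    ∃ x ∈ S, ∀ a ∈ P, a * x = x * a := by
  letI : MulAction P S :=
    { smul := fun a x => ⟨(a : G) * x * (a : G)⁻¹, hS a a.2 x x.2⟩
      one_smul := fun x => Subtype.ext (by show (1 : G) * x * (1 : G)⁻¹ = x; simp)
      mul_smul := fun a b x => Subtype.ext (by
        show (a : G) * b * x * ((a : G) * b)⁻¹ = a * (b * x * (b : G)⁻¹) * (a : G)⁻¹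
        group) }
  obtain ⟨x, hx⟩ := hP.nonempty_fixed_point_of_prime_not_dvd_card S hcard
  exact ⟨x, x.2, fun a ha => mul_inv_eq_iff_eq_mul.mp (congrArg Subtype.val (hx ⟨a, ha⟩))⟩

/-- Let p be a prime and G a finite group that is not nilpotent and has a normal p-complement (a normal subgroup of order prime to p and index a power of p). If G has exactly one irreducible complex character of degree divisible by p, then G has exactly one conjugacy class whose size is divisible by p. -/
theorem result {G : Type*} [Group G] [Finite G] (p : ℕ) [Fact p.Prime] (hnil : ¬ Group.IsNilpotent G) (N : Subgroup G) [N.Normal] (hN : (Nat.card N).Coprime p) (hidx : ∃ k : ℕ, N.index = p ^ k) (hone : Nat.card {χ : Cfsg.IrrCharacter G // p ∣ Cfsg.charDegree (χ : G → ℂ)} = 1) : Nat.card {C : ConjClasses G // p ∣ Nat.card C.carrier} = 1 := by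
  classical
  have hp := (Fact.out : p.Prime)
  obtain ⟨k, hk⟩ := hidx
  have hcomm := quotient_comm p N hN hk hnil hone
  have := Fintype.ofFinite G
  obtain ⟨P⟩ := (inferInstance : Nonempty (Sylow p G))
  have hNp : ¬ p ∣ Nat.card N := fun h => hp.one_lt.ne' (Nat.dvd_one.mp (hN ▸ Nat.dvd_gcd h dvd_rfl))
  have hcop : (Nat.card N).Coprime N.index := hk ▸ hN.pow_right k
  have hinf : N ⊓ (P : Subgroup G) = ⊥ := by
    obtain ⟨i, hi⟩ := IsPGroup.iff_card.mp P.isPGroup'
    exact Subgroup.inf_eq_bot_of_coprime (hi ▸ hN.pow_right i)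
  have hsup : N ⊔ (P : Subgroup G) = ⊤ := by
    refine Subgroup.index_eq_one.mp (Nat.eq_one_of_dvd_coprimes ?_
      (Subgroup.index_dvd_of_le (le_sup_left (b := (P : Subgroup G))))
      (Subgroup.index_dvd_of_le (le_sup_right (a := N))))
    rw [hk]
    exact (((hp.coprime_iff_not_dvd).mpr (Sylow.not_dvd_index P)).pow_left k)
  obtain ⟨eP⟩ := CfsgLib.CharExt.nonempty_equiv_quotient N (P : Subgroup G) hinf hsup
  have hPc : ∀ a ∈ (P : Subgroup G), ∀ b ∈ (P : Subgroup G), a * b = b * a := fun a ha b hb =>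
    congrArg Subtype.val (eP.injective (show eP (⟨a, ha⟩ * ⟨b, hb⟩) = eP (⟨b, hb⟩ * ⟨a, ha⟩) by
      rw [map_mul, map_mul, hcomm]))
  -- the invariant characters of `N`
  set C : Subgroup N := (Subgroup.centralizer ((P : Subgroup G) : Set G)).subgroupOf N with hCdef
  letI := CfsgLib.Semiregular.conjAct N (P : Subgroup G)
  have := Fintype.ofFinite N
  have := Fintype.ofFinite C
  have hfix : ∀ x : N, x ∈ C.subtype.range ↔ ∀ a : (P : Subgroup G), a • x = x := by
    intro x
    rw [Subgroup.range_subtype, hCdef, Subgroup.mem_subgroupOf, Subgroup.mem_centralizer_iff]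
    refine ⟨fun h a => Subtype.ext ?_, fun h a ha => ?_⟩
    · show (a : G) * x * (a : G)⁻¹ = x
      rw [h a a.2, mul_inv_cancel_right]
    · have := congrArg Subtype.val (h ⟨a, ha⟩)
      exact mul_inv_eq_iff_eq_mul.mp this
  have hPp : IsPGroup p (P : Subgroup G) := P.isPGroup'
  set Inv := {θ : IrrCharacter N // ∀ g : G, CfsgLib.Clifford.conjFn ‹N.Normal› (θ : N → ℂ) g = θ}
  have hInv : ∀ θ : IrrCharacter N,
      (∀ g : G, CfsgLib.Clifford.conjFn ‹N.Normal› (θ : N → ℂ) g = θ) ↔
        CfsgLib.CharAction.IsInv (P : Subgroup G) (θ : N → ℂ) := by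
    intro θ
    refine ⟨fun h a x => ?_, fun h g => ?_⟩
    · exact (congrFun (h (a : G)) x)
    · funext x
      obtain ⟨n, hn, a, ha, rfl⟩ := Subgroup.mem_sup_of_normal_left.mp
        (hsup.symm ▸ Subgroup.mem_top g : g ∈ N ⊔ (P : Subgroup G))
      show (θ : N → ℂ) ⟨n * a * x * (n * a)⁻¹, _⟩ = _
      rw [← h ⟨a, ha⟩ x]
      refine Eq.trans ?_ (IsIrr.isClassFunction θ.2 _ ⟨n, hn⟩)
      refine congrArg _ (Subtype.ext ?_)
      show n * a * x * (n * a)⁻¹ = n * (a * x * a⁻¹) * n⁻¹
      group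
  have hcount : Nat.card Inv = Nat.card (ConjClasses C) := by
    rw [← card_irrCharacter]
    have hco : ∀ θ : Inv, ∃ β : IrrCharacter C, ¬ p ∣ CfsgLib.CharAction.mult C.subtype θ.1 β := fun θ => by
      obtain ⟨β, -, hβ⟩ := CfsgLib.CharAction.exists_correspondent hPp C.subtype C.subtype_injective hfix hNp
        ((hInv θ.1).mp θ.2)
      refine ⟨β, fun h => ?_⟩
      have h' : ((CfsgLib.CharAction.mult C.subtype θ.1 β : ℤ)) ≡ 0 [ZMOD p] :=
        Int.modEq_zero_iff_dvd.mpr (Int.natCast_dvd_natCast.mpr h)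
      rcases hβ with hβ | hβ
      · have := (Int.modEq_iff_dvd.mp (h'.symm.trans hβ))
        simp at this
        exact hp.not_dvd_one (by exact_mod_cast this)
      · have := (Int.modEq_iff_dvd.mp (h'.symm.trans hβ))
        simp at this
        exact hp.not_dvd_one (by exact_mod_cast this)
    choose f hf using hco
    refine Nat.card_eq_of_bijective f ⟨fun a b h => Subtype.ext ?_, fun β => ?_⟩
    · exact CfsgLib.CharAction.correspondent_injective hPp C.subtype C.subtype_injective hfix hNp
        ((hInv a.1).mp a.2) ((hInv b.1).mp b.2) (hf a) (h ▸ hf b)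
    · obtain ⟨η, hη, hηβ⟩ := CfsgLib.CharAction.correspondent_surjective hPp C.subtype C.subtype_injective hfix hNp β
      exact ⟨⟨η, (hInv η).mpr hη⟩, CfsgLib.CharAction.correspondent_unique hPp C.subtype C.subtype_injective
        hfix hNp hη (hf ⟨η, (hInv η).mpr hη⟩) hηβ⟩
  -- the characters
  have hlin : Nat.card (G ⧸ N →* ℂˣ) = Nat.card (P : Subgroup G) := by
    let : CommGroup (G ⧸ N) := { (inferInstance : Group (G ⧸ N)) with mul_comm := hcomm }
    have : NeZero ((Monoid.exponent (G ⧸ N) : ℕ) : ℂ) :=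
      ⟨Nat.cast_ne_zero.mpr Monoid.exponent_ne_zero_of_finite⟩
    rw [CommGroup.card_monoidHom_of_hasEnoughRootsOfUnity]
    exact Nat.card_congr eP.symm.toEquiv
  have hk0 : k ≠ 0 := by
    intro h0
    obtain ⟨-, ⟨⟨χ, hχ⟩⟩⟩ := Nat.card_eq_one_iff_unique.mp hone
    refine hNp (hχ.trans ?_)
    have h1 := N.card_mul_index
    rw [hk, h0, pow_zero, mul_one] at h1
    exact h1 ▸ charDegree_dvd_card χ
  have hiffd : ∀ d : ℕ, d.Coprime N.index ↔ ¬ p ∣ d := fun d => by
    rw [hk, Nat.coprime_pow_right_iff (Nat.pos_of_ne_zero hk0), Nat.coprime_comm, hp.coprime_iff_not_dvd]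
  have hchar : Nat.card (ConjClasses G) = Nat.card (P : Subgroup G) * Nat.card (ConjClasses C) + 1 := by
    have h1 := CfsgLib.CharExt.card_coprime_degree N hcop
    rw [hlin, show Nat.card {θ : IrrCharacter N // ∀ g : G, CfsgLib.Clifford.conjFn ‹N.Normal› (θ : N → ℂ) g = θ}
      = Nat.card (ConjClasses C) from hcount,
      Nat.card_congr (Equiv.subtypeEquivRight fun χ : IrrCharacter G => hiffd (charDegree (χ : G → ℂ)))] at h1
    have h2 : Nat.card (IrrCharacter G) = Nat.card {χ : IrrCharacter G // p ∣ charDegree (χ : G → ℂ)} +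
        Nat.card {χ : IrrCharacter G // ¬ p ∣ charDegree (χ : G → ℂ)} := by
      rw [← Nat.card_sum]
      exact (Nat.card_congr (Equiv.sumCompl fun χ : IrrCharacter G => p ∣ charDegree (χ : G → ℂ))).symm
    rw [card_irrCharacter, hone, h1] at h2
    omega
  -- the classes of size prime to `p`
  let Φ : ↥(P : Subgroup G) × ConjClasses C → {K : ConjClasses G // ¬ p ∣ Nat.card K.carrier} := fun z =>
    ⟨ConjClasses.mk ((z.1 : G) * ((Quotient.out z.2 : C) : N)), by
      rw [card_carrier_eq_index]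
      refine fun hd => Sylow.not_dvd_index P (hd.trans (Subgroup.index_dvd_of_le fun a ha => ?_))
      rw [Subgroup.mem_centralizer_singleton_iff]
      have h1 : a * ((Quotient.out z.2 : C) : N) = (((Quotient.out z.2 : C) : N) : G) * a :=
        Subgroup.mem_centralizer_iff.mp (Subgroup.mem_subgroupOf.mp (Quotient.out z.2 : C).2) a ha
      rw [← mul_assoc, hPc a ha _ z.1.2, mul_assoc, h1, mul_assoc]⟩
  have hΦ : Function.Bijective Φ := by
    constructor
    · rintro ⟨x, A⟩ ⟨x', B⟩ h
      obtain ⟨g, hg⟩ := isConj_iff.mp (ConjClasses.mk_eq_mk_iff_isConj.mp (congrArg Subtype.val h))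
      set c := Quotient.out A with hc
      set c' := Quotient.out B with hc'
      have hxx : x = x' := by
        have h1 := congrArg (QuotientGroup.mk' N) hg
        simp only [map_mul, map_inv, QuotientGroup.mk'_apply, (QuotientGroup.eq_one_iff ((c : N) : G)).mpr (c : N).2,
          (QuotientGroup.eq_one_iff ((c' : N) : G)).mpr (c' : N).2, mul_one] at h1
        rw [hcomm (g : G ⧸ N), mul_inv_cancel_right] at h1
        have hval : ((x : G) : G ⧸ N) = ((x' : G) : G ⧸ N) := h1
        refine Subtype.ext ?_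
        have h2 : (x : G)⁻¹ * x' ∈ N ⊓ (P : Subgroup G) :=
          ⟨QuotientGroup.eq.mp hval, (P : Subgroup G).mul_mem ((P : Subgroup G).inv_mem x.2) x'.2⟩
        rw [hinf, Subgroup.mem_bot, inv_mul_eq_one] at h2
        exact h2
      subst hxx
      obtain ⟨n, hn, y, hy, rfl⟩ := Subgroup.mem_sup_of_normal_left.mp
        (hsup.symm ▸ Subgroup.mem_top g : g ∈ N ⊔ (P : Subgroup G))
      have hcy : y * ((c : N) : G) = ((c : N) : G) * y :=
        Subgroup.mem_centralizer_iff.mp (Subgroup.mem_subgroupOf.mp c.2) y hy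
      have h2 : n * ((x : G) * (c : N)) * n⁻¹ = (x : G) * (c' : N) := by
        rw [← hg]
        have : y * ((x : G) * (c : N)) * y⁻¹ = (x : G) * (c : N) := by
          rw [← mul_assoc, hPc y hy _ x.2, mul_assoc (x : G), hcy, ← mul_assoc, mul_inv_cancel_right]
        calc _ = n * (y * ((x : G) * (c : N)) * y⁻¹) * n⁻¹ := by rw [this]
          _ = _ := by group
      -- a fixed conjugating element
      have hS : ¬ p ∣ Nat.card {m : G | m ∈ N ∧ m * ((x : G) * (c : N)) * m⁻¹ = (x : G) * (c' : N)} := by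
        set H := (Subgroup.centralizer ({(x : G) * (c : N)} : Set G)).subgroupOf N
        let e : H ≃ {m : G | m ∈ N ∧ m * ((x : G) * (c : N)) * m⁻¹ = (x : G) * (c' : N)} :=
            { toFun := fun z => ⟨n * ((z : N) : G), N.mul_mem hn z.1.2, by
                have hz : ((z : N) : G) * ((x : G) * (c : N)) = (x : G) * (c : N) * ((z : N) : G) :=
                  Subgroup.mem_centralizer_singleton_iff.mp z.2
                calc n * ((z : N) : G) * ((x : G) * (c : N)) * (n * ((z : N) : G))⁻¹
                    = n * (((z : N) : G) * ((x : G) * (c : N))) * ((z : N) : G)⁻¹ * n⁻¹ := by group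
                  _ = n * ((x : G) * (c : N)) * n⁻¹ := by rw [hz]; group
                  _ = _ := h2⟩
              invFun := fun m => ⟨⟨n⁻¹ * (m : G), N.mul_mem (N.inv_mem hn) m.2.1⟩,
                Subgroup.mem_centralizer_singleton_iff.mpr (by
                  show n⁻¹ * (m : G) * _ = _ * (n⁻¹ * (m : G))
                  calc n⁻¹ * (m : G) * ((x : G) * (c : N))
                      = n⁻¹ * ((m : G) * ((x : G) * (c : N)) * (m : G)⁻¹) * (m : G) := by group
                    _ = n⁻¹ * (n * ((x : G) * (c : N)) * n⁻¹) * (m : G) :=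
                      congrArg (fun w => n⁻¹ * w * (m : G)) (m.2.2.trans h2.symm)
                    _ = _ := by group)⟩
              left_inv := fun z => Subtype.ext (Subtype.ext (inv_mul_cancel_left _ _))
              right_inv := fun m => Subtype.ext (mul_inv_cancel_left _ _) }
        rw [← Nat.card_congr e]
        exact fun hd => hNp (hd.trans (Subgroup.card_subgroup_dvd_card H))
      obtain ⟨m, ⟨hmN, hm⟩, hmP⟩ := exists_fixed hPp (fun a ha m hm => by
        refine ⟨‹N.Normal›.conj_mem m hm.1 a, ?_⟩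
        have e1 : ∀ d : C, a * ((x : G) * ((d : N) : G)) = (x : G) * (d : N) * a := fun d => by
          rw [← mul_assoc, hPc a ha _ x.2, mul_assoc,
            Subgroup.mem_centralizer_iff.mp (Subgroup.mem_subgroupOf.mp d.2) a ha, mul_assoc]
        calc a * m * a⁻¹ * ((x : G) * (c : N)) * (a * m * a⁻¹)⁻¹
            = a * m * (a⁻¹ * ((x : G) * (c : N)) * a) * m⁻¹ * a⁻¹ := by group
          _ = a * m * ((x : G) * (c : N)) * m⁻¹ * a⁻¹ := by
            rw [mul_assoc a⁻¹, ← e1, inv_mul_cancel_left]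
          _ = a * (m * ((x : G) * (c : N)) * m⁻¹) * a⁻¹ := by group
          _ = _ := by rw [hm.2, e1, mul_inv_cancel_right]) hS
      have hmC : (⟨m, hmN⟩ : N) ∈ C := Subgroup.mem_subgroupOf.mpr
        (Subgroup.mem_centralizer_iff.mpr fun a ha => hmP a ha)
      refine Prod.ext rfl ?_
      rw [← Quotient.out_eq A, ← Quotient.out_eq B]
      refine ConjClasses.mk_eq_mk_iff_isConj.mpr (isConj_iff.mpr ⟨⟨_, hmC⟩, Subtype.ext (Subtype.ext ?_)⟩)
      show m * ((c : N) : G) * m⁻¹ = (c' : N)
      refine mul_left_cancel (a := (x : G)) ?_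
      rw [← hm]
      calc (x : G) * (m * (c : N) * m⁻¹) = ((x : G) * m) * (c : N) * m⁻¹ := by group
        _ = _ := by rw [hmP _ x.2]; group
    · rintro ⟨K, hK⟩
      induction K using Quotient.inductionOn with
      | _ g =>
      change ¬ p ∣ Nat.card (ConjClasses.mk g).carrier at hK
      rw [card_carrier_eq_index] at hK
      obtain ⟨S⟩ := (inferInstance : Nonempty (Sylow p (Subgroup.centralizer ({g} : Set G))))
      obtain ⟨S', hS'⟩ := (S.isPGroup'.map (Subgroup.centralizer ({g} : Set G)).subtype).exists_le_sylow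
      have hle : (S' : Subgroup G) ≤ Subgroup.centralizer ({g} : Set G) := by
        rw [← Subgroup.eq_of_le_of_card_ge hS' (by
          rw [← Nat.card_congr (Subgroup.equivMapOfInjective (S : Subgroup _) _
            (Subgroup.centralizer ({g} : Set G)).subtype_injective).toEquiv,
            Sylow.card_eq_multiplicity, Sylow.card_eq_multiplicity,
            ← (Subgroup.centralizer ({g} : Set G)).card_mul_index,
            Nat.factorization_mul Nat.card_pos.ne' Subgroup.index_ne_zero_of_finite]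
          simp [Nat.factorization_eq_zero_of_not_dvd hK])]
        exact Subgroup.map_subtype_le _
      obtain ⟨t, ht⟩ := MulAction.exists_smul_eq G S' P
      set g' := t * g * t⁻¹
      have hg' : ∀ a ∈ (P : Subgroup G), a * g' = g' * a := by
        intro a ha
        rw [← ht] at ha
        obtain ⟨b, hb, rfl⟩ := Subgroup.mem_pointwise_smul_iff_inv_smul_mem.mp ha |>
          fun h => (⟨_, h, smul_inv_smul (MulAut.conj t) a⟩ : ∃ b ∈ (S' : Subgroup G), MulAut.conj t • b = a)
        show t * b * t⁻¹ * g' = g' * (t * b * t⁻¹)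
        have := Subgroup.mem_centralizer_singleton_iff.mp (hle hb)
        calc t * b * t⁻¹ * g' = t * (b * g) * t⁻¹ := by simp only [g']; group
          _ = _ := by rw [this]; simp only [g']; group
      obtain ⟨n, hn, y, hy, hny⟩ := Subgroup.mem_sup_of_normal_left.mp
        (hsup.symm ▸ Subgroup.mem_top g' : g' ∈ N ⊔ (P : Subgroup G))
      have hnC : (⟨n, hn⟩ : N) ∈ C := Subgroup.mem_subgroupOf.mpr
        (Subgroup.mem_centralizer_iff.mpr fun a ha => by
          have := hg' a ha
          rw [← hny] at this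
          refine mul_right_cancel (b := y) ?_
          calc a * n * y = a * (n * y) := by group
            _ = n * y * a := this
            _ = _ := by rw [mul_assoc, hPc y hy a ha, mul_assoc])
      refine ⟨⟨⟨y, hy⟩, ConjClasses.mk ⟨_, hnC⟩⟩, Subtype.ext ?_⟩
      refine ConjClasses.mk_eq_mk_iff_isConj.mpr ?_
      obtain ⟨d, hd⟩ := isConj_iff.mp (ConjClasses.mk_eq_mk_iff_isConj.mp
        (Quotient.out_eq (ConjClasses.mk (⟨_, hnC⟩ : C))).symm)
      refine IsConj.trans ?_ ((isConj_iff.mpr ⟨t, rfl⟩ : IsConj g g').symm)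
      refine (isConj_iff.mpr ⟨((d : N) : G), ?_⟩ : IsConj g' _).symm
      have hd' : ((d : N) : G) * n * ((d : N) : G)⁻¹ = _ := congrArg (fun z : C => ((z : N) : G)) hd
      have hdy : y * ((d : N) : G) = ((d : N) : G) * y :=
        Subgroup.mem_centralizer_iff.mp (Subgroup.mem_subgroupOf.mp d.2) y hy
      have hny' : n * y = y * n := by
        have := hg' y hy
        rw [← hny] at this
        refine (mul_right_cancel (b := y) ?_).symm
        rw [mul_assoc]; exact this
      rw [← hd', ← hny, hny']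
      calc ((d : N) : G) * (y * n) * ((d : N) : G)⁻¹ = (((d : N) : G) * y) * n * ((d : N) : G)⁻¹ := by group
        _ = _ := by rw [← hdy]; group
  have := Fintype.ofFinite (ConjClasses G)
  have h2 : Nat.card (ConjClasses G) = Nat.card {K : ConjClasses G // p ∣ Nat.card K.carrier} +
      Nat.card {K : ConjClasses G // ¬ p ∣ Nat.card K.carrier} := by
    rw [← Nat.card_sum]
    exact (Nat.card_congr (Equiv.sumCompl fun K : ConjClasses G => p ∣ Nat.card K.carrier)).symm
  have h3 := Nat.card_eq_of_bijective Φ hΦ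
  rw [Nat.card_prod] at h3
  omega

end Cfsg.Agent.S4763
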