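import Cfsg.Statements.S4765
import Cfsg.Agent.Lib.Known.SL2Char.PSLDegrees

set_option autoImplicit false
open Cfsg

namespace Cfsg.Agent.S4765

/-- Let F be a finite field of characteristic p with at least 4 elements. Then PSL(2,F) has exactly one irreducible complex character of degree divisible by p, and its degree is the order of F. -/
theorem result (p : ℕ) [Fact p.Prime] (F : Type*) [Field F] [Fintype F] [CharP F p] (hF : 4 ≤ Fintype.card F) : Nat.card {χ : Cfsg.IrrCharacter (Matrix.ProjectiveSpecialLinearGroup (Fin 2) F) // p ∣ Cfsg.charDegree (χ : Matrix.ProjectiveSpecialLinearGroup (Fin 2) F → ℂ)} = 1 ∧ ∀ χ : Cfsg.IrrCharacter (Matrix.ProjectiveSpecialLinearGroup (Fin 2) F), p ∣ Cfsg.charDegree (χ : Matrix.ProjectiveSpecialLinearGroup (Fin 2) F → ℂ) → Cfsg.charDegree (χ : Matrix.ProjectiveSpecialLinearGroup (Fin 2) F → ℂ) = Fintype.card F := by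
  classical
  have := Fintype.ofFinite (Matrix.SpecialLinearGroup (Fin 2) F)
  have hp : p.Prime := Fact.out
  have hpq : p ∣ Fintype.card F := by
    obtain ⟨n, -, hn⟩ := FiniteField.card F p
    exact hn ▸ dvd_pow_self p n.ne_zero
  have key : ∀ χ : Cfsg.IrrCharacter (Matrix.ProjectiveSpecialLinearGroup (Fin 2) F),
      p ∣ Cfsg.charDegree (χ : Matrix.ProjectiveSpecialLinearGroup (Fin 2) F → ℂ) →
      (fun g => (χ : Matrix.ProjectiveSpecialLinearGroup (Fin 2) F → ℂ) (QuotientGroup.mk' _ g)) =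
          CfsgLib.SL2Char.stSL ∧
        Cfsg.charDegree (χ : Matrix.ProjectiveSpecialLinearGroup (Fin 2) F → ℂ) = Fintype.card F := by
    intro χ hd
    obtain ⟨d, hd1, hc⟩ := CfsgLib.SL2Char.degree_cases
      (CfsgLib.Char.IsIrr.comp_surjective (QuotientGroup.mk' (Subgroup.center
        (Matrix.SpecialLinearGroup (Fin 2) F))) (QuotientGroup.mk'_surjective _) χ.2)
    have e : Cfsg.charDegree (χ : Matrix.ProjectiveSpecialLinearGroup (Fin 2) F → ℂ) = d :=
      CfsgLib.SL2Char.charDegree_natCast (by simp only [map_one] at hd1; exact hd1)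
    rw [e] at hd ⊢
    rcases hc with h | h | h
    · exact h
    · exact absurd ((Nat.dvd_add_right hpq).1 (hd.trans h)) hp.not_dvd_one
    · have h2 := Nat.dvd_sub hpq (hd.trans h)
      rw [Nat.sub_sub_self (show 1 ≤ Fintype.card F by omega)] at h2
      exact absurd h2 hp.not_dvd_one
  obtain ⟨χ₀, h₀⟩ := CfsgLib.SL2Char.exists_psl_stSL (F := F)
  refine ⟨?_, fun χ hd => (key χ hd).2⟩
  rw [Nat.card_eq_one_iff_unique]
  refine ⟨⟨fun a b => ?_⟩, ⟨⟨χ₀, ?_⟩⟩⟩
  · obtain ⟨a, ha⟩ := a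
    obtain ⟨b, hb⟩ := b
    refine Subtype.ext (Subtype.ext (funext fun x => ?_))
    obtain ⟨g, rfl⟩ := QuotientGroup.mk'_surjective _ x
    exact (congrFun (key a ha).1 g).trans (congrFun (key b hb).1 g).symm
  · rw [CfsgLib.SL2Char.charDegree_natCast ((h₀ 1).trans CfsgLib.SL2Char.stSL_one)]
    exact hpq

end Cfsg.Agent.S4765
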