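import Cfsg.Statements.S4768
import Cfsg.Agent.Lib.CharDegree.ItoMichler
import Cfsg.Agent.Lib.CharDegree.Twist
import Cfsg.Agent.Lib.Char.CliffordCorr
import Cfsg.Agent.Lib.Blocks.Covering
import Cfsg.Agent.Lib.PLocal.PSolvable
import Cfsg.Agent.Lib.Core.Misc
import Cfsg.Agent.Lib.Core.Cores

set_option autoImplicit false
open Cfsg

namespace Cfsg.Agent.S4768

open CfsgLib.CharDegree CfsgLib.Char

/-- One step in the derived length, across a map with abelian kernel. -/
theorem derivedSeries_step {A B : Type*} [Group A] [Group B] (f : A →* B)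
    (hk : ∀ a ∈ f.ker, ∀ b ∈ f.ker, a * b = b * a) (k : ℕ) (hB : derivedSeries B k = ⊥) :
    derivedSeries A (k + 1) = ⊥ := by
  have hle : derivedSeries A k ≤ f.ker := fun a ha => MonoidHom.mem_ker.2 (Subgroup.mem_bot.1
    (hB ▸ map_derivedSeries_le_derivedSeries f k (Subgroup.mem_map_of_mem f ha)))
  rw [derivedSeries_succ]
  exact eq_bot_iff.2 (Subgroup.commutator_le.2 fun a ha b hb =>
    Subgroup.mem_bot.2 (commutatorElement_eq_one_iff_mul_comm.2 (hk a (hle ha) b (hle hb))))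

theorem derivedSeries_one_of_comm {A : Type*} [Group A] (h : ∀ a b : A, a * b = b * a) :
    derivedSeries A 1 = ⊥ :=
  derivedSeries_step (1 : A →* Unit) (fun a _ b _ => h a b) 0
    (eq_bot_iff.2 fun _ _ => Subgroup.mem_bot.2 rfl)

/-- If all characters that are nontrivial on an abelian normal `p`-subgroup have `p'`-degree, some
subgroup containing it has `p'`-index and only characters of `p'`-degree above it. -/
theorem exists_inertia {G : Type*} [Group G] [Finite G] {p : ℕ} [Fact p.Prime]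
    (L : Subgroup G) [L.Normal] (hLp : IsPGroup p L) (hLc : ∀ a b : L, a * b = b * a) (hL : L ≠ ⊥)
    (hall : ∀ χ : Cfsg.IrrCharacter G, p ∣ Cfsg.charDegree (χ : G → ℂ) →
      ∀ l ∈ L, (χ : G → ℂ) l = (χ : G → ℂ) 1) :
    ∃ T : Subgroup G, L ≤ T ∧ ¬ p ∣ T.index ∧
      ∀ β : Cfsg.IrrCharacter (T ⧸ L.subgroupOf T), ¬ p ∣ Cfsg.charDegree (β : T ⧸ L.subgroupOf T → ℂ) := by
  classical
  have := Fintype.ofFinite G
  have := Fintype.ofFinite L
  have hp : p.Prime := Fact.out
  obtain ⟨lam, hlam⟩ : ∃ lam : Cfsg.IrrCharacter L, lam ≠ trivChar L := by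
    by_contra hno
    push Not at hno
    obtain ⟨x, hx, hx1⟩ := (Subgroup.bot_or_exists_ne_one L).resolve_left hL
    have h1 : IsConj (⟨x, hx⟩ : L) 1 := isConj_of_forall_irr fun χ => by
      rw [hno χ, trivChar_apply, trivChar_apply]
    exact hx1 (congrArg Subtype.val (isConj_one_left.1 h1))
  have hlin : Cfsg.charDegree (lam : L → ℂ) = 1 := charDegree_of_comm hLc lam
  obtain ⟨l₀, hl₀⟩ := exists_hom_of_degree_one lam hlin
  have hLn : L.Normal := inferInstance
  set T := CfsgLib.Clifford.inertia hLn (lam : L → ℂ)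
  have hle : L ≤ T := CfsgLib.Clifford.le_inertia hLn (IsIrr.isClassFunction lam.2)
  have := Fintype.ofFinite T
  have hT : ∀ g, g ∈ T ↔ CfsgLib.Clifford.conjFn hLn (lam : L → ℂ) g = (lam : L → ℂ) := fun g => CfsgLib.Clifford.mem_inertia
  -- characters over `lam` have `p'`-degree
  have hover : ∀ ψ : Cfsg.IrrCharacter T,
      Cfsg.classInner (CfsgLib.Clifford.resTo hle (ψ : T → ℂ)) (lam : L → ℂ) ≠ 0 →
      ¬ p ∣ T.index ∧ ¬ p ∣ Cfsg.charDegree (ψ : T → ℂ) := by
    intro ψ hψ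
    let χ : Cfsg.IrrCharacter G := ⟨_, CfsgLib.Clifford.isIrr_indFun_of_over hLn lam.2 hT hle ψ.2 hψ⟩
    have hd : Cfsg.charDegree (χ : G → ℂ) = T.index * Cfsg.charDegree (ψ : T → ℂ) :=
      charDegree_eq_of_apply_one (by
        show Cfsg.indFun T (ψ : T → ℂ) 1 = _
        rw [indFun_apply_one, ← cast_irrDegree, Nat.cast_mul])
    have hres : Cfsg.classInner (fun n : L => (χ : G → ℂ) n) (lam : L → ℂ) ≠ 0 := by
      show Cfsg.classInner (fun n : L => Cfsg.indFun T (ψ : T → ℂ) n) (lam : L → ℂ) ≠ 0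
      rwa [CfsgLib.Clifford.classInner_restrict_indFun hLn lam.2 hT hle ψ.2 hψ]
    have hnd : ¬ p ∣ Cfsg.charDegree (χ : G → ℂ) := fun hd' => hres (by
      rw [show (fun n : L => (χ : G → ℂ) n) = (χ : G → ℂ) 1 • (trivChar L : L → ℂ) from
        funext fun n => by rw [hall χ hd' n n.2, Pi.smul_apply, trivChar_apply, smul_eq_mul, mul_one],
        classInner_smul_left, classInner_irr_of_ne (fun h => hlam h.symm), mul_zero])
    rw [hd, hp.dvd_mul, not_or] at hnd
    exact hnd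
  -- a character over `lam`
  obtain ⟨ψ, hψ⟩ : ∃ ψ : Cfsg.IrrCharacter T,
      Cfsg.classInner (CfsgLib.Clifford.resTo hle (ψ : T → ℂ)) (lam : L → ℂ) ≠ 0 := by
    obtain ⟨χ, hχ⟩ := CfsgLib.Blocks.exists_irr_over L lam
    obtain ⟨ψ, h1, h2, -⟩ := CfsgLib.Clifford.exists_over_inertia hLn lam.2 hT hle χ hχ
    exact ⟨⟨ψ, h1⟩, h2⟩
  obtain ⟨hidx, hψd⟩ := hover ψ hψ
  refine ⟨T, hle, hidx, fun β => ?_⟩
  -- `lam` extends to `T`
  obtain ⟨d, ρ, hρ, hρψ, hd⟩ := exists_rep ψ
  have hscal : ∀ n : L, ρ ⟨n, hle n.2⟩ = (l₀ n : ℂ) • LinearMap.id := by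
    intro n
    have h1 := CfsgLib.Clifford.resTo_eq_smul hLn hle lam.2 (fun t ht => (hT t).1 ht) ψ.2 hψ
    set e := Cfsg.classInner (CfsgLib.Clifford.resTo hle (ψ : T → ℂ)) (lam : L → ℂ)
    have h2 := congrFun h1 n
    have h3 := congrFun h1 1
    simp only [Pi.smul_apply, smul_eq_mul, hl₀] at h2 h3
    rw [map_one, Units.val_one, mul_one] at h3
    have he : e = (d : ℂ) := by
      rw [← h3, hd, cast_irrDegree]; rfl
    have hval : ρ.character ⟨n, hle n.2⟩ = (d : ℂ) * (l₀ n : ℂ) := by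
      rw [hρψ, ← he]; exact h2
    obtain ⟨ω, hω⟩ := CfsgLib.CharIntegral.exists_scalar_of_norm_character_eq ρ ⟨n, hle n.2⟩ (by
      rw [hval, norm_mul, norm_hom_units, mul_one, Complex.norm_natCast, Module.finrank_fin_fun])
    have h4 : ρ.character ⟨n, hle n.2⟩ = ω * (d : ℂ) := by
      show LinearMap.trace ℂ _ (ρ ⟨n, hle n.2⟩) = _
      rw [hω, map_smul, LinearMap.trace_id, Module.finrank_fin_fun, smul_eq_mul]
    have hd0 : (d : ℂ) ≠ 0 := Nat.cast_ne_zero.2 (hd ▸ (charDegree_pos ψ).ne')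
    rw [hω, mul_right_cancel₀ hd0 (h4.symm.trans (hval.trans (mul_comm _ _)))]
  let δ : T →* ℂˣ := ((LinearMap.det : Module.End ℂ (Fin d → ℂ) →* ℂ).comp ρ).toHomUnits
  obtain ⟨k, hk⟩ := hLp.exists_card_eq
  have hdcop : d.Coprime (p ^ k) :=
    ((hp.coprime_iff_not_dvd.2 (hd ▸ hψd)).pow_left k).symm
  obtain ⟨m, hm⟩ : ∃ m : ℕ, d * m ≡ 1 [MOD p ^ k] := by
    rcases eq_or_ne k 0 with rfl | hk0
    · exact ⟨1, by simp [Nat.modEq_one]⟩
    · obtain ⟨m, -, hm⟩ := Nat.exists_mul_mod_eq_one_of_coprime hdcop (Nat.one_lt_pow hk0 hp.one_lt)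
      exact ⟨m, by rwa [Nat.ModEq, Nat.one_mod_eq_one.2 (Nat.one_lt_pow hk0 hp.one_lt).ne']⟩
  have hext : ∀ n : L, ((δ ^ m) ⟨n, hle n.2⟩ : ℂ) = (l₀ n : ℂ) := fun n => by
    show ((δ ⟨n, hle n.2⟩) ^ m : ℂˣ).val = _
    rw [Units.val_pow_eq_pow_val]
    show (LinearMap.det (ρ ⟨n, hle n.2⟩)) ^ m = _
    rw [hscal, LinearMap.det_smul, LinearMap.det_id, mul_one, Module.finrank_fin_fun, ← pow_mul,
      ← Units.val_pow_eq_pow_val, ← map_pow]
    have h5 : n ^ (d * m) = n ^ 1 := pow_eq_pow_iff_modEq.2 (hm.of_dvd (hk ▸ orderOf_dvd_natCard n))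
    rw [h5, pow_one]
  set θ := twist (infl (L.subgroupOf T) β) (δ ^ m) with hθ
  have hθd : Cfsg.charDegree (θ : T → ℂ) = Cfsg.charDegree (β : T ⧸ L.subgroupOf T → ℂ) := by
    rw [hθ, charDegree_twist, charDegree_infl]
  have hθo : Cfsg.classInner (CfsgLib.Clifford.resTo hle (θ : T → ℂ)) (lam : L → ℂ) ≠ 0 := by
    rw [show CfsgLib.Clifford.resTo hle (θ : T → ℂ) = (β : T ⧸ L.subgroupOf T → ℂ) 1 • (lam : L → ℂ) from
      funext fun n => by
        show (θ : T → ℂ) ⟨n, hle n.2⟩ = _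
        have h6 : ((⟨n, hle n.2⟩ : T) : T ⧸ L.subgroupOf T) = 1 :=
          (QuotientGroup.eq_one_iff _).2 n.2
        rw [hθ, twist_apply, infl_apply, hext, Pi.smul_apply, smul_eq_mul, hl₀, h6],
      classInner_smul_left, classInner_irr_self, mul_one]
    exact IsIrr.apply_one_ne_zero β.2
  exact hθd ▸ (hover θ hθo).2

universe u in
theorem bound {p : ℕ} [Fact p.Prime] (c : ℕ) : ∀ (G : Type u) [Group G] [Finite G],
    Nat.card G = c → Cfsg.IsPSolvable p G → ∀ P : Sylow p G,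
    derivedSeries ↥(P : Subgroup G)
      (Nat.card {χ : Cfsg.IrrCharacter G // p ∣ Cfsg.charDegree (χ : G → ℂ)} + 1) = ⊥ := by
  induction c using Nat.strong_induction_on with
  | _ c ih =>
  intro G _ _ hc hsol P
  classical
  have hp : p.Prime := Fact.out
  set n := Nat.card {χ : Cfsg.IrrCharacter G // p ∣ Cfsg.charDegree (χ : G → ℂ)} with hn
  have := Fintype.ofFinite G
  rcases Nat.eq_zero_or_pos n with h0 | hpos
  · rw [h0]
    obtain ⟨-, hab⟩ := (itoMichler (Or.inl hsol) P).2 fun χ hd => by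
      have : IsEmpty {χ : Cfsg.IrrCharacter G // p ∣ Cfsg.charDegree (χ : G → ℂ)} :=
        (Finite.card_eq_zero_iff.1 h0)
      exact this.false ⟨χ, hd⟩
    exact derivedSeries_one_of_comm hab.is_comm.comm
  -- quotients
  have hquot : ∀ (L : Subgroup G) [L.Normal], L ≠ ⊥ →
      derivedSeries ↥((P.mapSurjective (QuotientGroup.mk'_surjective L) : Sylow p (G ⧸ L)) : Subgroup (G ⧸ L))
        (Nat.card {χ : Cfsg.IrrCharacter (G ⧸ L) // p ∣ Cfsg.charDegree (χ : G ⧸ L → ℂ)} + 1) = ⊥ := by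
    intro L _ hL
    refine ih _ ?_ (G ⧸ L) rfl (CfsgLib.PLocal.isPSolvable_quotient hsol L) _
    rw [← hc, L.card_eq_card_quotient_mul_card_subgroup]
    exact lt_mul_of_one_lt_right Nat.card_pos ((Subgroup.one_lt_card_iff_ne_bot L).2 hL)
  let fL : ∀ (L : Subgroup G) [L.Normal], ↥(P : Subgroup G) →*
      ↥((P.mapSurjective (QuotientGroup.mk'_surjective L) : Sylow p (G ⧸ L)) : Subgroup (G ⧸ L)) :=
    fun L _ => ((QuotientGroup.mk' L).comp (P : Subgroup G).subtype).codRestrict _ fun x =>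
      Subgroup.mem_map_of_mem (QuotientGroup.mk' L) x.2
  have hfker : ∀ (L : Subgroup G) [L.Normal] (x : ↥(P : Subgroup G)), x ∈ (fL L).ker → (x : G) ∈ L :=
    fun L _ x hx => (QuotientGroup.eq_one_iff _).1 (congrArg Subtype.val (MonoidHom.mem_ker.1 hx))
  let inc : ∀ (L : Subgroup G) [L.Normal],
      {χ : Cfsg.IrrCharacter (G ⧸ L) // p ∣ Cfsg.charDegree (χ : G ⧸ L → ℂ)} →
      {χ : Cfsg.IrrCharacter G // p ∣ Cfsg.charDegree (χ : G → ℂ)} :=
    fun L _ χ => ⟨infl L χ.1, by rw [charDegree_infl]; exact χ.2⟩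
  have hinc : ∀ (L : Subgroup G) [L.Normal], Function.Injective (inc L) := fun L _ a b h =>
    Subtype.ext (infl_injective L (congrArg Subtype.val h))
  by_cases hO : Cfsg.pPrimeCore p G = ⊥
  case neg =>
    set L := Cfsg.pPrimeCore p G
    have hinj : Function.Injective (fL L) := by
      rw [← MonoidHom.ker_eq_bot_iff, eq_bot_iff]
      intro x hx
      have h1 : orderOf (x : G) ∣ Nat.card L := Subgroup.orderOf_dvd_natCard L (hfker L x hx)
      obtain ⟨j, hj⟩ := (IsPGroup.iff_orderOf.1 P.2) x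
      rw [Subgroup.orderOf_coe, hj] at h1
      have h2 := Nat.eq_one_of_dvd_coprimes
        ((CfsgLib.Core.coprime_card_pPrimeCore p G).symm.pow_left j) dvd_rfl h1
      exact Subgroup.mem_bot.2 (orderOf_eq_one_iff.1 (hj.trans h2))
    have h3 := hquot L hO
    have hle : Nat.card {χ : Cfsg.IrrCharacter (G ⧸ L) // p ∣ Cfsg.charDegree (χ : G ⧸ L → ℂ)} ≤ n :=
      Nat.card_le_card_of_injective _ (hinc L)
    have h4 := eq_bot_iff.2 ((derivedSeries_antitone _ (Nat.add_le_add_right hle 1)).trans h3.le)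
    refine (Subgroup.map_eq_bot_iff_of_injective _ hinj).1
      (le_bot_iff.1 ((map_derivedSeries_le_derivedSeries (fL L) (n + 1)).trans h4.le))
  -- an abelian normal `p`-subgroup
  set L := (Subgroup.center (Cfsg.pCore p G)).map (Cfsg.pCore p G).subtype
  have := CfsgLib.Core.normal_pCore p G
  have : L.Normal := inferInstance
  have hLc : ∀ a ∈ L, ∀ b ∈ L, a * b = b * a := by
    rintro _ ⟨a, ha, rfl⟩ _ ⟨b, hb, rfl⟩
    exact congrArg Subtype.val (Subgroup.mem_center_iff.1 hb a)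
  have hLp : IsPGroup p L :=
    ((CfsgLib.Core.isPGroup_pCore p G).to_subgroup _).map _
  by_cases hLb : L = ⊥
  · -- then `G` is trivial
    have hbot : Cfsg.pCore p G = ⊥ := by
      by_contra hne
      have : Nontrivial (Cfsg.pCore p G) := (Subgroup.nontrivial_iff_ne_bot _).2 hne
      have := (CfsgLib.Core.isPGroup_pCore p G).center_nontrivial
      exact (Subgroup.nontrivial_iff_ne_bot _).1 this
        ((Subgroup.map_eq_bot_iff_of_injective _ (Subgroup.subtype_injective _)).1 hLb)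
    have h1 := CfsgLib.PLocal.centralizer_pCore_le hsol hO
    rw [hbot] at h1
    refine eq_bot_iff.2 fun x _ => Subgroup.mem_bot.2 (Subtype.ext (Subgroup.mem_bot.1 (h1 ?_)))
    exact Subgroup.mem_centralizer_iff.2 fun z hz => by
      rw [Subgroup.mem_bot.1 hz, one_mul, mul_one]
  by_cases hall : ∀ χ : Cfsg.IrrCharacter G, p ∣ Cfsg.charDegree (χ : G → ℂ) →
      ∀ l ∈ L, (χ : G → ℂ) l = (χ : G → ℂ) 1
  · -- every character not trivial on `L` has `p'`-degree
    obtain ⟨T, hLT, hidx, hdeg⟩ := exists_inertia L hLp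
      (fun a b => Subtype.ext (hLc a a.2 b b.2)) hLb hall
    obtain ⟨R⟩ : Nonempty (Sylow p T) := inferInstance
    set N := L.subgroupOf T
    have hsol' : Cfsg.IsPSolvable p (T ⧸ N) :=
      CfsgLib.PLocal.isPSolvable_quotient (CfsgLib.PLocal.isPSolvable_subgroup hsol T) N
    obtain ⟨-, hab⟩ := (itoMichler (Or.inl hsol') (R.mapSurjective (QuotientGroup.mk'_surjective N))).2 hdeg
    let g : ↥(R : Subgroup T) →* ↥((R.mapSurjective (QuotientGroup.mk'_surjective N) : Sylow p (T ⧸ N)) : Subgroup (T ⧸ N)) :=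
      ((QuotientGroup.mk' N).comp (R : Subgroup T).subtype).codRestrict _ fun x =>
        Subgroup.mem_map_of_mem (QuotientGroup.mk' N) x.2
    have h2 : derivedSeries ↥(R : Subgroup T) 2 = ⊥ := derivedSeries_step g (fun a ha b hb => by
      have ha' : ((a : T) : G) ∈ L :=
        (QuotientGroup.eq_one_iff (a : T)).1 (congrArg Subtype.val (MonoidHom.mem_ker.1 ha))
      have hb' : ((b : T) : G) ∈ L :=
        (QuotientGroup.eq_one_iff (b : T)).1 (congrArg Subtype.val (MonoidHom.mem_ker.1 hb))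
      exact Subtype.ext (Subtype.ext (hLc _ ha' _ hb'))) 1 (derivedSeries_one_of_comm hab.is_comm.comm)
    obtain ⟨P', hP'⟩ := ((R.2).map T.subtype).exists_le_sylow
    have hR : (R : Subgroup T).map T.subtype = (P' : Subgroup G) := by
      refine Subgroup.eq_of_le_of_card_ge hP' ?_
      rw [Subgroup.card_map_of_injective T.subtype_injective, P'.card_eq_multiplicity,
        R.card_eq_multiplicity, ← T.card_mul_index, Nat.factorization_mul Nat.card_pos.ne'
          Subgroup.index_ne_zero_of_finite, Finsupp.add_apply,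
        Nat.factorization_eq_zero_of_not_dvd hidx, add_zero]
    let e : ↥(R : Subgroup T) ≃* ↥(P : Subgroup G) :=
      (((R : Subgroup T).equivMapOfInjective T.subtype T.subtype_injective).trans
        (MulEquiv.subgroupCongr hR)).trans (P'.equiv P)
    have h3 : derivedSeries ↥(P : Subgroup G) 2 = ⊥ := by
      rw [← map_derivedSeries_eq (f := e.toMonoidHom) e.surjective 2, h2, Subgroup.map_bot]
    exact eq_bot_iff.2 ((derivedSeries_antitone _ (show 2 ≤ n + 1 by omega)).trans h3.le)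
  · push Not at hall
    obtain ⟨χ, hχ, l, hl, hne⟩ := hall
    have hlt : Nat.card {θ : Cfsg.IrrCharacter (G ⧸ L) // p ∣ Cfsg.charDegree (θ : G ⧸ L → ℂ)} < n := by
      have := Fintype.ofFinite {θ : Cfsg.IrrCharacter (G ⧸ L) // p ∣ Cfsg.charDegree (θ : G ⧸ L → ℂ)}
      have := Fintype.ofFinite {θ : Cfsg.IrrCharacter G // p ∣ Cfsg.charDegree (θ : G → ℂ)}
      rw [hn, Nat.card_eq_fintype_card, Nat.card_eq_fintype_card]
      refine Fintype.card_lt_of_injective_of_notMem _ (hinc L) (b := ⟨χ, hχ⟩) ?_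
      rintro ⟨θ, hθ⟩
      refine hne ?_
      have e : infl L θ = χ := congrArg Subtype.val hθ
      exact e ▸ infl_ker L θ hl
    exact derivedSeries_step (fL L) (fun a ha b hb => Subtype.ext (hLc _ (hfker L a ha) _ (hfker L b hb)))
      n (eq_bot_iff.2 ((derivedSeries_antitone _ (Nat.succ_le_iff.2 hlt)).trans (hquot L hLb).le))

/-- Let p be a prime, G a finite p-solvable group and P a Sylow p-subgroup of G. If n is the number of irreducible complex characters of G whose degree is divisible by p, then the (n+1)-st term of the derived series of P is trivial. (The p-solvable case has a direct inductive proof.) -/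
theorem result {G : Type*} [Group G] [Finite G] (p : ℕ) [Fact p.Prime] (hG : Cfsg.IsPSolvable p G) (P : Sylow p G) : derivedSeries ↥(P : Subgroup G) (Nat.card {χ : Cfsg.IrrCharacter G // p ∣ Cfsg.charDegree (χ : G → ℂ)} + 1) = ⊥ := bound _ G rfl hG P

end Cfsg.Agent.S4768
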