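import Cfsg.Statements.S4775
import Cfsg.Agent.Lib.Lie.Suzuki.Degrees

set_option autoImplicit false
open Cfsg
open CfsgLib.Lie.Suzuki

namespace Cfsg.Agent.S4775

/-- Let F be a finite field with q = 2^(2m+1) ≥ 8 elements and let S be isomorphic to the Suzuki group over F. Then the vertices of the character degree graph of S are 2 and the primes dividing (q − 1)(q² + 1); the primes dividing (q − 1)(q² + 1) are pairwise adjacent, and 2 is adjacent exactly to the primes dividing q − 1. -/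
theorem result (F : Type*) [Field F] [Fintype F] (m : ℕ) (hm : 1 ≤ m) (q : ℕ) (hq : Fintype.card F = q) (hqm : q = 2 ^ (2 * m + 1)) {S : Type*} [Group S] [Finite S] (hS : Nonempty (S ≃* ↥(Cfsg.Lie.Sz F (2 ^ (m + 1))))) : Cfsg.degreePrimes S = {r : ℕ | r.Prime ∧ (r = 2 ∨ r ∣ (q - 1) * (q ^ 2 + 1))} ∧ ∀ r s : ℕ, (Cfsg.degreeGraph S).Adj r s ↔ (r ≠ s ∧ r.Prime ∧ s.Prime ∧ ((r ∣ (q - 1) * (q ^ 2 + 1) ∧ s ∣ (q - 1) * (q ^ 2 + 1)) ∨ (r = 2 ∧ s ∣ q - 1) ∨ (s = 2 ∧ r ∣ q - 1))) := by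
  haveI := CfsgLib.Lie.Suzuki.charTwo_of_card (hq.trans hqm)
  have hF : Fintype.card F = 2 ^ (2 * m + 1) := hq.trans hqm
  obtain ⟨e₀⟩ := hS
  let e : S ≃* Cfsg.Sz F m := e₀.trans (equivLie hm hF).symm
  obtain ⟨k, k', hkk, hall, hex⟩ := degrees hF hm
  rw [hq] at hkk hall hex
  have hdegs : Cfsg.charDegrees S =
      ({1, q ^ 2, q ^ 2 + 1, (q - 1) * k, (q - 1) * k', (q - 1) * 2 ^ m} : Set ℕ) := by
    have h1 : ∀ χ : Cfsg.IrrCharacter (Cfsg.Sz F m), Cfsg.charDegree (χ : Cfsg.Sz F m → ℂ) ∈ Cfsg.charDegrees S :=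
      fun χ => ⟨⟨_, CfsgLib.Char.IsIrr.comp_surjective e.toMonoidHom e.surjective χ.2⟩, by
        show Cfsg.charDegree ((χ : Cfsg.Sz F m → ℂ) ∘ e) = _
        simp [Cfsg.charDegree]⟩
    refine Set.Subset.antisymm ?_ fun d hd => ?_
    · rintro d ⟨χ, rfl⟩
      have h := hall ⟨_, CfsgLib.Char.IsIrr.comp_surjective e.symm.toMonoidHom e.symm.surjective χ.2⟩
      simpa [Cfsg.charDegree] using h
    · rcases hd with hd | hd
      · subst hd
        convert h1 (CfsgLib.Char.trivChar _)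
        simp [Cfsg.charDegree, CfsgLib.Char.trivChar_apply]
      · obtain ⟨χ, hχ⟩ := hex d hd
        exact hχ ▸ h1 χ
  have hq8 : 8 ≤ q := hq ▸ card_ge_eight hF hm
  have hodd1 : ¬ 2 ∣ q - 1 := by
    have : 2 ∣ q := hqm ▸ dvd_pow_self 2 (by omega)
    omega
  have hodd2 : ¬ 2 ∣ q ^ 2 + 1 := by
    have : 2 ∣ q ^ 2 := dvd_pow (hqm ▸ dvd_pow_self 2 (by omega)) two_ne_zero
    omega
  have hcop : (q ^ 2 + 1).Coprime (q - 1) := by
    have := coprime_sub_one hF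
    rw [hq] at this
    exact this.coprime_dvd_left (dvd_mul_left _ _)
  have hk : k ∣ q ^ 2 + 1 := ⟨k', hkk.symm⟩
  have hk' : k' ∣ q ^ 2 + 1 := ⟨k, by rw [← hkk, mul_comm]⟩
  have h2q : ∀ r : ℕ, r.Prime → r ∣ q ^ 2 → r = 2 := fun r hr h =>
    (Nat.prime_dvd_prime_iff_eq hr Nat.prime_two).1 (hr.dvd_of_dvd_pow (hqm ▸ hr.dvd_of_dvd_pow h))
  have hmem : ∀ d, d ∈ Cfsg.charDegrees S ↔ d = 1 ∨ d = q ^ 2 ∨ d = q ^ 2 + 1 ∨ d = (q - 1) * k ∨
      d = (q - 1) * k' ∨ d = (q - 1) * 2 ^ m := fun d => by rw [hdegs]; rfl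
  have hbad : ∀ d ∈ Cfsg.charDegrees S, ∀ r : ℕ, r.Prime → r ∣ d → r = 2 ∨ r ∣ (q - 1) * (q ^ 2 + 1) := by
    intro d hd r hr hrd
    rcases (hmem d).1 hd with rfl | rfl | rfl | rfl | rfl | rfl
    · exact absurd hrd hr.not_dvd_one
    · exact Or.inl (h2q r hr hrd)
    · exact Or.inr (dvd_mul_of_dvd_right hrd _)
    · exact Or.inr (hrd.trans (Nat.mul_dvd_mul_left _ hk))
    · exact Or.inr (hrd.trans (Nat.mul_dvd_mul_left _ hk'))
    · rcases (Nat.Prime.dvd_mul hr).1 hrd with h | h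
      · exact Or.inr (dvd_mul_of_dvd_left h _)
      · exact Or.inl ((Nat.prime_dvd_prime_iff_eq hr Nat.prime_two).1 (hr.dvd_of_dvd_pow h))
  refine ⟨Set.ext fun r => ⟨fun ⟨hr, d, hd, hrd⟩ => ⟨hr, hbad d hd r hr hrd⟩, ?_⟩, fun r s => ⟨?_, ?_⟩⟩
  · rintro ⟨hr, hr2⟩
    rcases hr2 with rfl | h
    · exact ⟨hr, q ^ 2, (hmem _).2 (by simp), dvd_pow (hqm ▸ dvd_pow_self 2 (by omega)) two_ne_zero⟩
    · rcases (Nat.Prime.dvd_mul hr).1 h with h | h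
      · exact ⟨hr, _, (hmem ((q - 1) * k)).2 (by simp), dvd_mul_of_dvd_left h _⟩
      · exact ⟨hr, _, (hmem (q ^ 2 + 1)).2 (by simp), h⟩
  · rintro ⟨hne, hr, hs, d, hd, hdvd⟩
    refine ⟨hne, hr, hs, ?_⟩
    have h2 : ∀ t : ℕ, t.Prime → t ≠ 2 → 2 * t ∣ d → t ∣ q - 1 := by
      intro t ht ht2 h
      have hte : 2 ∣ d := (dvd_mul_right _ _).trans h
      have htd : t ∣ d := (dvd_mul_left _ _).trans h
      rcases (hmem d).1 hd with rfl | rfl | rfl | rfl | rfl | rfl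
      · omega
      · exact absurd (h2q t ht htd) ht2
      · exact absurd hte hodd2
      · rcases (Nat.Prime.dvd_mul Nat.prime_two).1 hte with h | h
        · exact absurd h hodd1
        · exact absurd (h.trans hk) hodd2
      · rcases (Nat.Prime.dvd_mul Nat.prime_two).1 hte with h | h
        · exact absurd h hodd1
        · exact absurd (h.trans hk') hodd2
      · exact ((Nat.Prime.dvd_mul ht).1 htd).resolve_right fun h =>
          ht2 ((Nat.prime_dvd_prime_iff_eq ht Nat.prime_two).1 (ht.dvd_of_dvd_pow h))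
    rcases hbad d hd r hr ((dvd_mul_right _ _).trans hdvd) with rfl | h1
    · exact Or.inr (Or.inl ⟨rfl, h2 s hs (Ne.symm hne) hdvd⟩)
    rcases hbad d hd s hs ((dvd_mul_left _ _).trans hdvd) with rfl | h3
    · exact Or.inr (Or.inr ⟨rfl, h2 r hr hne (by rwa [mul_comm])⟩)
    · exact Or.inl ⟨h1, h3⟩
  · rintro ⟨hne, hr, hs, h⟩
    refine ⟨hne, hr, hs, ?_⟩
    have hrs : Nat.Coprime r s := (Nat.coprime_primes hr hs).2 hne
    rcases h with ⟨h1, h2⟩ | ⟨rfl, h2⟩ | ⟨rfl, h2⟩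
    · rcases (Nat.Prime.dvd_mul hr).1 h1 with h1 | h1 <;> rcases (Nat.Prime.dvd_mul hs).1 h2 with h2 | h2
      · exact ⟨_, (hmem ((q - 1) * k)).2 (by simp), dvd_mul_of_dvd_left (hrs.mul_dvd_of_dvd_of_dvd h1 h2) _⟩
      · rcases (Nat.Prime.dvd_mul hs).1 (hkk ▸ h2) with h | h
        · exact ⟨_, (hmem ((q - 1) * k)).2 (by simp), Nat.mul_dvd_mul h1 h⟩
        · exact ⟨_, (hmem ((q - 1) * k')).2 (by simp), Nat.mul_dvd_mul h1 h⟩
      · rcases (Nat.Prime.dvd_mul hr).1 (hkk ▸ h1) with h | h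
        · exact ⟨_, (hmem ((q - 1) * k)).2 (by simp), mul_comm r s ▸ Nat.mul_dvd_mul h2 h⟩
        · exact ⟨_, (hmem ((q - 1) * k')).2 (by simp), mul_comm r s ▸ Nat.mul_dvd_mul h2 h⟩
      · exact ⟨_, (hmem (q ^ 2 + 1)).2 (by simp), hrs.mul_dvd_of_dvd_of_dvd h1 h2⟩
    · exact ⟨_, (hmem ((q - 1) * 2 ^ m)).2 (by simp),
        mul_comm s 2 ▸ Nat.mul_dvd_mul h2 (dvd_pow_self 2 (by omega))⟩
    · exact ⟨_, (hmem ((q - 1) * 2 ^ m)).2 (by simp), Nat.mul_dvd_mul h2 (dvd_pow_self 2 (by omega))⟩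

end Cfsg.Agent.S4775
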