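import Cfsg.Statements.S4776
import Cfsg.Agent.Lib.CharDegree.RelGraph.Components
-- import your own Cfsg.Agent.* helpers here

set_option autoImplicit false
open Cfsg

namespace Cfsg.Agent.S4776

/-- Let N be a normal subgroup of the finite group G that is not perfect and is contained in the derived subgroup of G. Consider the common-divisor graph on the relative degree set cd(G|N) (the degrees of the irreducible complex characters of G whose kernel does not contain N; two distinct degrees adjacent when they have a common divisor greater than one). Then this graph has at most two connected components; and if a, b ∈ cd(G|N) lie in different components, then one of a, b is coprime to the index m of the derived subgroup of N in N while the other is divisible by every prime divisor of m. -/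
theorem result {G : Type*} [Group G] [Finite G] (N : Subgroup G) [N.Normal] (hN : ⁅N, N⁆ < N) (hNG : N ≤ commutator G) : Nat.card (Cfsg.commonDivisorGraph.induce (Cfsg.relCharDegrees N)).ConnectedComponent ≤ 2 ∧ ∀ (a b : ℕ) (ha : a ∈ Cfsg.relCharDegrees N) (hb : b ∈ Cfsg.relCharDegrees N), ¬ (Cfsg.commonDivisorGraph.induce (Cfsg.relCharDegrees N)).Reachable ⟨a, ha⟩ ⟨b, hb⟩ → (Nat.Coprime a (⁅N, N⁆.relIndex N) ∧ ∀ r : ℕ, r.Prime → r ∣ ⁅N, N⁆.relIndex N → r ∣ b) ∨ (Nat.Coprime b (⁅N, N⁆.relIndex N) ∧ ∀ r : ℕ, r.Prime → r ∣ ⁅N, N⁆.relIndex N → r ∣ a) := by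
  classical
  haveI := Fintype.ofFinite G
  haveI := Fintype.ofFinite N
  set Γ := Cfsg.commonDivisorGraph.induce (Cfsg.relCharDegrees N)
  have hm : ⁅N, N⁆.relIndex N = (commutator N).index := by
    rw [← Subgroup.map_subtype_commutator, Subgroup.relIndex, Subgroup.subgroupOf,
      Subgroup.comap_map_eq_self_of_injective N.subtype_injective]
  rw [hm]
  have hm1 : (commutator N).index ≠ 1 := by
    rw [← hm]
    intro h
    exact hN.not_ge (Subgroup.relIndex_eq_one.1 h)
  refine ⟨?_, fun a b ha hb hab => ?_⟩
  · obtain ⟨r, hr, hrd⟩ := Nat.exists_prime_and_dvd hm1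
    haveI := Fact.mk hr
    have hrep : ∀ C : Γ.ConnectedComponent, ∃ v, Γ.connectedComponentMk v = C := fun C => C.nonempty_supp
    choose v hv using hrep
    let f : Γ.ConnectedComponent → Bool := fun C => decide (r ∣ (v C : ℕ))
    have hf : Function.Injective f := by
      intro C D h
      rw [← hv C, ← hv D]
      refine SimpleGraph.ConnectedComponent.eq.2 ?_
      simp only [f, decide_eq_decide] at h
      exact CfsgLib.RelGraph.reachable_same_side hNG hrd h
    exact (Nat.card_le_card_of_injective f hf).trans (by simp)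
  have hside : ∀ r : ℕ, r.Prime → r ∣ (commutator N).index → (r ∣ a ↔ ¬ r ∣ b) := by
    intro r hr hrd
    haveI := Fact.mk hr
    by_contra h
    exact hab (CfsgLib.RelGraph.reachable_same_side hNG hrd (a := ⟨a, ha⟩) (b := ⟨b, hb⟩)
      (show r ∣ a ↔ r ∣ b by tauto))
  by_cases hca : a.Coprime (commutator N).index
  · refine Or.inl ⟨hca, fun r hr hrd => ?_⟩
    by_contra hb'
    exact hr.ne_one (Nat.eq_one_of_dvd_coprimes hca ((hside r hr hrd).2 hb') hrd)
  obtain ⟨r, hr, hra, hrd⟩ := Nat.Prime.not_coprime_iff_dvd.1 hca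
  have hcb : b.Coprime (commutator N).index := by
    by_contra hcb
    obtain ⟨s, hs, hsb, hsd⟩ := Nat.Prime.not_coprime_iff_dvd.1 hcb
    haveI := Fact.mk hr
    haveI := Fact.mk hs
    have hsa : ¬ s ∣ a := fun h => (hside s hs hsd).1 h hsb
    exact hab (CfsgLib.RelGraph.reachable_cross hNG hrd hsd (fun e => hsa (e ▸ hra))
      (a := ⟨a, ha⟩) (b := ⟨b, hb⟩) hsa ((hside r hr hrd).1 hra))
  refine Or.inr ⟨hcb, fun s hs hsd => (hside s hs hsd).2 fun hsb => ?_⟩
  exact hs.ne_one (Nat.eq_one_of_dvd_coprimes hcb hsb hsd)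

end Cfsg.Agent.S4776
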