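import Cfsg.Statements.S4781
import Cfsg.Agent.Lib.CharDegree.NoDiv.Main

set_option autoImplicit false
open Cfsg

namespace Cfsg.Agent.S4781

/-- Let G be a finite solvable group in which no irreducible complex character degree a with 1 < a divides a larger irreducible character degree, and suppose the character degree graph of G (primes dividing some degree, distinct primes adjacent when their product divides a degree) has exactly two connected components. Then G has exactly three distinct irreducible character degrees. -/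
theorem result {G : Type*} [Group G] [Finite G] [Group.IsSolvable G] (hnd : ∀ a ∈ Cfsg.charDegrees G, ∀ b ∈ Cfsg.charDegrees G, 1 < a → a < b → ¬ a ∣ b) (htwo : Nat.card ((Cfsg.degreeGraph G).induce (Cfsg.degreePrimes G)).ConnectedComponent = 2) : Nat.card ↥(Cfsg.charDegrees G) = 3 := by
  classical
  haveI := Fintype.ofFinite G
  set Γ := (Cfsg.degreeGraph G).induce (Cfsg.degreePrimes G)
  -- no vertex is linked to all the others
  have hone : ∀ v0 : ↥(Cfsg.degreePrimes G), (∀ v, Γ.Reachable v v0) → False := fun v0 hv => by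
    haveI : Subsingleton Γ.ConnectedComponent := ⟨fun C D => by
      induction C using SimpleGraph.ConnectedComponent.ind with
      | h a => induction D using SimpleGraph.ConnectedComponent.ind with
        | h b => exact SimpleGraph.ConnectedComponent.eq.2 ((hv a).trans (hv b).symm)⟩
    have h := Finite.card_le_one_iff_subsingleton.2 ‹Subsingleton Γ.ConnectedComponent›
    omega
  have hreach : ∀ {r s : ↥(Cfsg.degreePrimes G)} (d : ℕ), d ∈ Cfsg.charDegrees G → (r : ℕ) ∣ d →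
      (s : ℕ) ∣ d → Γ.Reachable r s := fun {r s} d hd hrd hsd => by
    by_cases hrs : r = s
    · exact hrs ▸ SimpleGraph.Reachable.rfl
    · have hne : (r : ℕ) ≠ s := fun h => hrs (Subtype.ext h)
      exact SimpleGraph.Adj.reachable (show (Cfsg.degreeGraph G).Adj (r : ℕ) (s : ℕ) from
        ⟨hne, r.2.1, s.2.1, d, hd, ((Nat.coprime_primes r.2.1 s.2.1).2 hne).mul_dvd_of_dvd_of_dvd hrd hsd⟩)
  have hna : ∃ x y : G, x * y ≠ y * x := by
    by_contra! hc
    haveI : IsEmpty Γ.ConnectedComponent := ⟨fun C => by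
      induction C using SimpleGraph.ConnectedComponent.ind with
      | h v =>
        obtain ⟨hr, d, ⟨χ, hχ⟩, hd⟩ := v.2
        rw [← hχ, CfsgLib.CharDegree.charDegree_of_comm hc χ] at hd
        exact hr.ne_one (Nat.dvd_one.1 hd)⟩
    simp at htwo
  rcases CfsgLib.NoDiv.dichotomy hna with ⟨K, p, hKn, hp, hidx, x₀, y₀, hxy⟩ |
    ⟨M, L, q, hM, hL, hq, hLM, hexp, hne, hab, habA, hfpf, hMtop⟩
  · -- a `p`-group quotient
    exfalso
    haveI := hKn
    obtain ⟨β, hβ⟩ := CfsgLib.NoDiv.exists_nonlinear (H := G ⧸ K) ⟨(x₀ : G ⧸ K), (y₀ : G ⧸ K), fun h =>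
      hxy ((QuotientGroup.eq_one_iff _).1 (by
        simp only [QuotientGroup.mk_mul, QuotientGroup.mk_inv]
        rw [mul_inv_eq_one, mul_inv_eq_iff_eq_mul]
        exact h))⟩
    obtain ⟨r₁, hr₁, hr₁d⟩ := Nat.exists_prime_and_dvd hβ
    have hpβ : p ∣ Cfsg.charDegree (β : G ⧸ K → ℂ) := by
      rwa [← hidx r₁ hr₁ (by
        rw [Subgroup.index_eq_card]; exact hr₁d.trans (CfsgLib.CharDegree.charDegree_dvd_card β))]
    have hpmem : p ∈ Cfsg.degreePrimes G :=
      ⟨hp, _, ⟨CfsgLib.CharDegree.infl K β, CfsgLib.CharDegree.charDegree_infl K β⟩, hpβ⟩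
    refine hone ⟨p, hpmem⟩ fun v => ?_
    obtain ⟨hr, d, ⟨χ, hχ⟩, hrd⟩ := v.2
    subst hχ
    by_cases hpχ : p ∣ Cfsg.charDegree (χ : G → ℂ)
    · exact hreach _ ⟨χ, rfl⟩ hrd hpχ
    · haveI := Fintype.ofFinite K
      have hcop : (Cfsg.charDegree (χ : G → ℂ)).Coprime K.index :=
        Nat.coprime_of_dvd fun r hr h1 h2 => hpχ (hidx r hr h2 ▸ h1)
      have hirr := CfsgLib.Gallagher.isIrr_twistBy (CfsgLib.Char.IsIrr.isCharacter χ.2)
        (CfsgLib.CharExt.isIrr_restrict_of_coprime χ hcop) β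
      have hd : Cfsg.charDegree (CfsgLib.Gallagher.twistBy (χ : G → ℂ) (β : G ⧸ K → ℂ)) =
          Cfsg.charDegree (β : G ⧸ K → ℂ) * Cfsg.charDegree (χ : G → ℂ) := by
        refine CfsgLib.CharDegree.charDegree_eq_of_apply_one ?_
        rw [CfsgLib.Gallagher.twistBy_apply, map_one, Nat.cast_mul, CfsgLib.CharDegree.cast_irrDegree,
          CfsgLib.CharDegree.cast_irrDegree]
      exact hreach _ ⟨⟨_, hirr⟩, hd⟩ (hrd.mul_left _) (hpβ.mul_right _)
  -- a Frobenius quotient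
  haveI := hM
  haveI := hL
  haveI := Fact.mk hq
  haveI := Fintype.ofFinite M
  set f := M.index with hf
  have hf1 : 1 < f := by
    have h1 : M.index ≠ 1 := fun h => hMtop (Subgroup.index_eq_one.1 h)
    have h2 : M.index ≠ 0 := Subgroup.index_ne_zero_of_finite
    omega
  have hindd : ∀ ψ : Cfsg.IrrCharacter M, ¬ q ∣ Cfsg.charDegree (ψ : M → ℂ) →
      f * Cfsg.charDegree (ψ : M → ℂ) ∈ Cfsg.charDegrees G := fun ψ hψ => by
    obtain ⟨χ, hχ⟩ := CfsgLib.DegreeGraph.exists_induced_degree hLM hexp hne hab hfpf ψ hψ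
    exact ⟨χ, hχ⟩
  have hfmem : f ∈ Cfsg.charDegrees G := by
    have h1 : Cfsg.charDegree ((CfsgLib.Char.trivChar M : Cfsg.IrrCharacter M) : M → ℂ) = 1 :=
      CfsgLib.CharDegree.charDegree_one
    have h := hindd (CfsgLib.Char.trivChar M) (by rw [h1]; exact hq.not_dvd_one)
    rwa [h1, mul_one] at h
  have hqM : ∀ ψ : Cfsg.IrrCharacter M, Cfsg.charDegree (ψ : M → ℂ) ≠ 1 →
      q ∣ Cfsg.charDegree (ψ : M → ℂ) := fun ψ hψ => by
    by_contra hqψ
    have h := CfsgLib.NoDiv.NonDiv.eq_of_dvd hnd hfmem (hindd ψ hqψ) hf1 (dvd_mul_right _ _)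
    exact hψ ((Nat.mul_eq_left (by omega)).1 h.symm)
  have hconst : ∀ χ : Cfsg.IrrCharacter G, ∃ ψ : Cfsg.IrrCharacter M,
      Cfsg.classInner (fun n : M => (χ : G → ℂ) n) (ψ : M → ℂ) ≠ 0 := fun χ =>
    CfsgLib.Clifford.exists_constituent
      (CfsgLib.Char.IsChar.isClassFunction (CfsgLib.Char.IsChar.restrict M (CfsgLib.Char.IsIrr.isCharacter χ.2)))
      fun h => CfsgLib.Char.IsIrr.apply_one_ne_zero χ.2 (by simpa using congrFun h 1)
  have hdeg : ∀ d ∈ Cfsg.charDegrees G, d = 1 ∨ d = f ∨ q ∣ d := by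
    rintro d ⟨χ, rfl⟩
    obtain ⟨ψ, hψ⟩ := hconst χ
    obtain ⟨h1, h2⟩ := CfsgLib.ThreeDegrees.degree_dvd_of_over M χ ψ hψ
    by_cases hψ1 : Cfsg.charDegree (ψ : M → ℂ) = 1
    · rw [hψ1, Nat.div_one] at h2
      by_cases hd1 : Cfsg.charDegree (χ : G → ℂ) = 1
      · exact Or.inl hd1
      · have := CfsgLib.CharDegree.charDegree_pos χ
        exact Or.inr (Or.inl (CfsgLib.NoDiv.NonDiv.eq_of_dvd hnd ⟨χ, rfl⟩ hfmem (by omega) h2))
    · exact Or.inr (Or.inr ((hqM ψ hψ1).trans h1))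
  obtain ⟨r0, hr0, hr0f⟩ := Nat.exists_prime_and_dvd (show f ≠ 1 by omega)
  let v0 : ↥(Cfsg.degreePrimes G) := ⟨r0, hr0, f, hfmem, hr0f⟩
  have hother : ∃ b ∈ Cfsg.charDegrees G, b ≠ 1 ∧ b ≠ f := by
    by_contra! hall
    refine hone v0 fun v => ?_
    obtain ⟨hr, d, hd, hrd⟩ := v.2
    have hd1 : d ≠ 1 := fun h => hr.ne_one (Nat.dvd_one.1 (h ▸ hrd))
    exact hreach f hfmem (hall d hd hd1 ▸ hrd) hr0f
  obtain ⟨b, hb, hb1, hbf⟩ := hother
  have hqb : q ∣ b := ((hdeg b hb).resolve_left hb1).resolve_left hbf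
  let vq : ↥(Cfsg.degreePrimes G) := ⟨q, hq, b, hb, hqb⟩
  have hcop : ∀ d ∈ Cfsg.charDegrees G, d ≠ f → d.Coprime f := by
    intro d hd hdf
    by_cases hd1 : d = 1
    · rw [hd1]; exact Nat.coprime_one_left f
    refine Nat.coprime_of_dvd fun t ht htd htf => hone vq fun v => ?_
    have hqd : q ∣ d := ((hdeg d hd).resolve_left hd1).resolve_left hdf
    let vt : ↥(Cfsg.degreePrimes G) := ⟨t, ht, d, hd, htd⟩
    obtain ⟨hr, e, he, hre⟩ := v.2
    rcases hdeg e he with h | h | h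
    · exact absurd (Nat.dvd_one.1 (h ▸ hre)) hr.ne_one
    · exact (hreach (s := vt) f hfmem (h ▸ hre) htf).trans (hreach d hd htd hqd)
    · exact hreach e he hre h
  have hbcop := hcop b hb hbf
  -- the characters of the kernel
  have hover : ∀ ψ : Cfsg.IrrCharacter M, Cfsg.charDegree (ψ : M → ℂ) ≠ 1 →
      ∃ χ : Cfsg.IrrCharacter G, Cfsg.charDegree (χ : G → ℂ) = Cfsg.charDegree (ψ : M → ℂ) ∧
        (fun n : M => (χ : G → ℂ) n) = (ψ : M → ℂ) ∧ Cfsg.charDegree (χ : G → ℂ) ≠ f := fun ψ hψ => by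
    obtain ⟨χ, hχ⟩ := CfsgLib.ThreeDegrees.exists_over M ψ
    obtain ⟨h1, -⟩ := CfsgLib.ThreeDegrees.degree_dvd_of_over M χ ψ hχ
    have hne : Cfsg.charDegree (χ : G → ℂ) ≠ f := fun h => by
      have hqf : q ∣ f := ((hqM ψ hψ).trans h1).trans (dvd_of_eq h)
      exact hq.not_dvd_one (hbcop ▸ Nat.dvd_gcd hqb hqf)
    have hirr := CfsgLib.CharExt.isIrr_restrict_of_coprime (K := M) χ (hcop _ ⟨χ, rfl⟩ hne)
    have he : (fun n : M => (χ : G → ℂ) n) = (ψ : M → ℂ) := by
      by_contra hne'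
      exact hχ (CfsgLib.Char.classInner_irr_of_ne (χ := ⟨_, hirr⟩) (ψ := ψ) fun e =>
        hne' (congrArg Subtype.val e))
    refine ⟨χ, CfsgLib.CharDegree.charDegree_eq_of_apply_one ?_, he, hne⟩
    rw [CfsgLib.CharDegree.cast_irrDegree, ← he]
    rfl
  have hMdeg : ∀ d ∈ Cfsg.charDegrees M, d ∈ Cfsg.charDegrees G ∧ (d ≠ 1 → d.Coprime f) := by
    rintro d ⟨ψ, rfl⟩
    by_cases hψ : Cfsg.charDegree (ψ : M → ℂ) = 1
    · exact ⟨⟨CfsgLib.Char.trivChar G, CfsgLib.CharDegree.charDegree_one.trans hψ.symm⟩, fun h => absurd hψ h⟩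
    · obtain ⟨χ, hχ, -, hne⟩ := hover ψ hψ
      exact ⟨⟨χ, hχ⟩, fun _ => hχ ▸ hcop _ ⟨χ, rfl⟩ hne⟩
  have hndM : CfsgLib.NoDiv.NonDiv M := fun a ha c hc => hnd a (hMdeg a ha).1 c (hMdeg c hc).1
  -- an element of prime power order outside the kernel
  obtain ⟨s, hs, hsf⟩ : ∃ s, s.Prime ∧ s ∣ Nat.card (G ⧸ M) :=
    ⟨r0, hr0, by rw [← Subgroup.index_eq_card]; exact hr0f⟩
  haveI := Fact.mk hs
  obtain ⟨gb, hgb⟩ := exists_prime_orderOf_dvd_card' s hsf
  obtain ⟨y₁, rfl⟩ := QuotientGroup.mk_surjective gb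
  obtain ⟨e, m, hm, hem⟩ := Nat.exists_eq_pow_mul_and_not_dvd (orderOf_pos y₁).ne' s hs.ne_one
  set y := y₁ ^ m with hy
  have hyM : y ∉ M := fun h => hm (hgb ▸ orderOf_dvd_of_pow_eq_one (by
    rw [← QuotientGroup.mk_pow, QuotientGroup.eq_one_iff]; exact h))
  have hys : y ^ s ∈ M := by
    rw [← QuotientGroup.eq_one_iff, QuotientGroup.mk_pow, hy, QuotientGroup.mk_pow, ← pow_mul, mul_comm,
      pow_mul, ← hgb, pow_orderOf_eq_one, one_pow]
  have hye : y ^ s ^ e = 1 := by rw [hy, ← pow_mul, mul_comm, ← hem, pow_orderOf_eq_one]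
  have hiter : ∀ (i : ℕ) (x : M), (((MulAut.conjNormal y : MulAut M) : M → M)^[i] x : G) =
      y ^ i * x * (y ^ i)⁻¹ := fun i x => by
    induction i with
    | zero => simp
    | succ k ih =>
      rw [Function.iterate_succ_apply', MulAut.conjNormal_apply, ih]
      group
  let S : CfsgLib.NoDiv.Setup M :=
    { σ := MulAut.conjNormal y
      K := L.subgroupOf M
      normalK := hL.subgroupOf M
      habK := fun a c => Subgroup.mem_subgroupOf.2 (by simpa using hab a a.2 c c.2)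
      hKtop := fun h => hne (Subgroup.subgroupOf_eq_top.1 h)
      hσK := fun x => by
        rw [Subgroup.mem_subgroupOf, Subgroup.mem_subgroupOf, MulAut.conjNormal_apply]
        refine ⟨fun h => ?_, fun h => hL.conj_mem _ h y⟩
        have := hL.conj_mem _ h y⁻¹
        simpa [mul_assoc] using this
      fpf := fun x h => Subgroup.mem_subgroupOf.2 (hfpf y hyM x x.2 (by
        simpa using Subgroup.mem_subgroupOf.1 h))
      s := s
      hs := hs
      z := ⟨y ^ s, hys⟩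
      hz := ⟨e, Subtype.ext (by
        show (y ^ s) ^ s ^ e = 1
        rw [← pow_mul, mul_comm, pow_mul, hye, one_pow])⟩
      hσs := fun x => Subtype.ext (by rw [hiter]; rfl)
      hsdeg := fun d hd hd1 h => hs.not_dvd_one (((hMdeg d hd).2 hd1) ▸
        Nat.dvd_gcd h (by rw [hf, Subgroup.index_eq_card]; exact hsf))
      nondiv := hndM
      hinv := fun ψ hψ x => by
        obtain ⟨χ, -, he, -⟩ := hover ψ hψ
        rw [← he]
        show (χ : G → ℂ) (MulAut.conjNormal y x : M) = (χ : G → ℂ) x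
        rw [MulAut.conjNormal_apply]
        exact CfsgLib.Char.IsIrr.isClassFunction χ.2 x y }
  have heq := S.degrees_eq hq hqM
  -- so there are just three degrees
  have hall : ∀ d ∈ Cfsg.charDegrees G, d = 1 ∨ d = f ∨ d = b := by
    have key : ∀ d ∈ Cfsg.charDegrees G, d ≠ 1 → d ≠ f → d ∈ Cfsg.charDegrees M := by
      rintro d ⟨χ, rfl⟩ - hdf
      exact ⟨⟨_, CfsgLib.CharExt.isIrr_restrict_of_coprime (K := M) χ (hcop _ ⟨χ, rfl⟩ hdf)⟩,
        CfsgLib.CharDegree.charDegree_eq_of_apply_one (by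
          rw [CfsgLib.CharDegree.cast_irrDegree]; rfl)⟩
    intro d hd
    by_cases h1 : d = 1
    · exact Or.inl h1
    by_cases h2 : d = f
    · exact Or.inr (Or.inl h2)
    exact Or.inr (Or.inr (heq d (key d hd h1 h2) b (key b hb hb1 hbf) h1 hb1))
  have hset : Cfsg.charDegrees G = {1, f, b} := by
    ext d
    simp only [Set.mem_insert_iff, Set.mem_singleton_iff]
    refine ⟨hall d, ?_⟩
    rintro (rfl | rfl | rfl)
    · exact ⟨CfsgLib.Char.trivChar G, CfsgLib.CharDegree.charDegree_one⟩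
    · exact hfmem
    · exact hb
  rw [Nat.card_coe_set_eq, hset, Set.ncard_eq_three]
  exact ⟨1, f, b, by omega, fun h => hb1 h.symm, fun h => hbf h.symm, rfl⟩

end Cfsg.Agent.S4781
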