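import Cfsg.Statements.S4784
import Cfsg.Agent.Lib.CharDegree.IndicatorVal
import Mathlib.GroupTheory.Perm.Cycle.Type

set_option autoImplicit false
open Cfsg CfsgLib.CharDegree CfsgLib.Char

namespace Cfsg.Agent.S4784

open scoped ComplexConjugate Pointwise

/-- Let H be a subgroup of the finite group G and consider the permutation character of G on the cosets of H (the function induced from the principal character of H). Then exactly one irreducible constituent of it is real-valued with Frobenius–Schur indicator +1 (namely the principal character) if and only if the normal core of H has odd index in G. -/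
theorem result {G : Type*} [Group G] [Fintype G] (H : Subgroup G) : Nat.card {χ : Cfsg.IrrCharacter G // Cfsg.classInner (Cfsg.indFun H (fun _ : H => (1 : ℂ))) (χ : G → ℂ) ≠ 0 ∧ (∀ g : G, (starRingEnd ℂ) ((χ : G → ℂ) g) = (χ : G → ℂ) g) ∧ (Nat.card G : ℂ)⁻¹ * ∑ g : G, (χ : G → ℂ) (g * g) = 1} = 1 ↔ Odd H.normalCore.index := by
  classical
  have := Fintype.ofFinite (Cfsg.IrrCharacter G)
  have := Fintype.ofFinite H
  have := Fact.mk Nat.prime_two
  set m : Cfsg.IrrCharacter G → ℂ :=
    fun χ => Cfsg.classInner (Cfsg.indFun H (fun _ : H => (1 : ℂ))) (χ : G → ℂ) with hm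
  have hmnat : ∀ χ, ∃ k : ℕ, m χ = k := fun χ =>
    IsChar.classInner_eq_natCast (isCharacter_indFun H isCharacter_one) (IsIrr.isCharacter χ.2)
  have hmsum : ∀ χ : Cfsg.IrrCharacter G, ∑ h : H, (χ : G → ℂ) h = (Nat.card H : ℂ) * m χ := by
    intro χ
    obtain ⟨k, hk⟩ := hmnat χ
    have h1 : m χ = (Nat.card H : ℂ)⁻¹ * ∑ h : H, conj ((χ : G → ℂ) h) := by
      show Cfsg.classInner (Cfsg.indFun H (fun _ : H => (1 : ℂ))) (χ : G → ℂ) = _
      rw [frobenius_reciprocity H _ (IsIrr.isClassFunction χ.2)]
      simp only [Cfsg.classInner, one_mul]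
    have h2 := congrArg (starRingEnd ℂ) h1
    rw [hk, map_natCast, ← hk] at h2
    simp only [map_mul, map_inv₀, map_natCast, map_sum, Complex.conj_conj] at h2
    rw [h2, ← mul_assoc, mul_inv_cancel₀ (Nat.cast_ne_zero.mpr Nat.card_pos.ne'), one_mul]
  have hmtriv : m (trivChar G) = 1 := by
    have h := hmsum (trivChar G)
    simp only [trivChar_apply, Finset.sum_const, Finset.card_univ, nsmul_one,
      ← Nat.card_eq_fintype_card] at h
    exact (mul_eq_left₀ (Nat.cast_ne_zero.mpr Nat.card_pos.ne')).mp h.symm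
  set P : Cfsg.IrrCharacter G → Prop := fun χ =>
    Cfsg.classInner (Cfsg.indFun H (fun _ : H => (1 : ℂ))) (χ : G → ℂ) ≠ 0 ∧
      (∀ g : G, (starRingEnd ℂ) ((χ : G → ℂ) g) = (χ : G → ℂ) g) ∧
      (Nat.card G : ℂ)⁻¹ * ∑ g : G, (χ : G → ℂ) (g * g) = 1 with hP
  have hPtriv : P (trivChar G) := by
    refine ⟨?_, fun g => by simp, fsInd_trivChar⟩
    show m (trivChar G) ≠ 0
    rw [hmtriv]
    exact one_ne_zero
  show Nat.card {χ // P χ} = 1 ↔ _
  constructor
  · intro hone
    by_contra hodd
    rw [Nat.not_odd_iff_even, even_iff_two_dvd, Subgroup.index_eq_card] at hodd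
    obtain ⟨q, hq⟩ := exists_prime_orderOf_dvd_card' 2 hodd
    obtain ⟨t, rfl⟩ := QuotientGroup.mk_surjective q
    have ht : t ∉ H.normalCore := fun h => by
      rw [(QuotientGroup.eq_one_iff t).mpr h, orderOf_one] at hq
      norm_num at hq
    have ht2 : t * t ∈ H.normalCore := by
      rw [← QuotientGroup.eq_one_iff, QuotientGroup.mk_mul, ← sq, ← hq, pow_orderOf_eq_one]
    obtain ⟨g, hg⟩ : ∃ g : G, g * t * g⁻¹ ∉ H := by
      by_contra h
      push Not at h
      exact ht h
    have hs2 : g * t * g⁻¹ * (g * t * g⁻¹) ∈ H := by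
      rw [show g * t * g⁻¹ * (g * t * g⁻¹) = g * (t * t) * g⁻¹ by group]
      exact H.normalCore_le (H.normalCore_normal.conj_mem _ ht2 g)
    -- the number of square roots of elements of `H` exceeds `|H|`
    have hN : Nat.card H < Nat.card {s : G // s * s ∈ H} := by
      rw [Nat.card_eq_fintype_card, Nat.card_eq_fintype_card]
      refine Fintype.card_lt_of_injective_of_notMem
        (fun h : H => (⟨h.1, H.mul_mem h.2 h.2⟩ : {s : G // s * s ∈ H}))
        (fun a b h => Subtype.ext (congrArg (fun s : {s : G // s * s ∈ H} => s.1) h))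
        (b := ⟨_, hs2⟩) ?_
      rintro ⟨h, hh⟩
      have he : (h : G) = g * t * g⁻¹ := congrArg Subtype.val hh
      exact hg (he ▸ h.2)
    have hsum : ∑ χ : Cfsg.IrrCharacter G, fsInd (χ : G → ℂ) * ((Nat.card H : ℂ) * m χ) =
        (Nat.card {s : G // s * s ∈ H} : ℂ) := by
      calc ∑ χ : Cfsg.IrrCharacter G, fsInd (χ : G → ℂ) * ((Nat.card H : ℂ) * m χ)
          = ∑ h : H, (Nat.card {s : G // s * s = (h : G)} : ℂ) := by
            simp only [← hmsum, Finset.mul_sum, card_sqrt_eq_sum]
            exact Finset.sum_comm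
        _ = _ := by
            rw [← Nat.cast_sum, Nat.cast_inj, ← Nat.card_sigma]
            exact Nat.card_congr
              { toFun := fun a => ⟨a.2.1, by rw [a.2.2]; exact a.1.2⟩
                invFun := fun s => ⟨⟨_, s.2⟩, ⟨s.1, rfl⟩⟩
                left_inv := fun ⟨⟨h, hh⟩, ⟨s, hs⟩⟩ => by
                  simp only at hs
                  subst hs
                  rfl
                right_inv := fun s => rfl }
    have hre := congrArg Complex.re hsum
    rw [← Finset.add_sum_erase _ _ (Finset.mem_univ (trivChar G)), fsInd_trivChar, hmtriv,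
      Complex.add_re, Complex.re_sum] at hre
    simp only [mul_one, one_mul, Complex.natCast_re] at hre
    have hN' : (Nat.card H : ℝ) < Nat.card {s : G // s * s ∈ H} := by exact_mod_cast hN
    obtain ⟨χ, hχ, hχpos⟩ : ∃ χ ∈ Finset.univ.erase (trivChar G),
        0 < (fsInd (χ : G → ℂ) * ((Nat.card H : ℂ) * m χ)).re := by
      by_contra h
      push Not at h
      linarith [Finset.sum_nonpos h]
    obtain ⟨k, hk⟩ := hmnat χ
    rw [hk, ← Nat.cast_mul] at hχpos
    have hν : fsInd (χ : G → ℂ) = 1 := by
      rcases fsInd_cases χ with h | h | h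
      · simp [h] at hχpos
      · exact h
      · rw [h, neg_one_mul, Complex.neg_re, Complex.natCast_re] at hχpos
        have : (0 : ℝ) ≤ ((Nat.card H * k : ℕ) : ℝ) := Nat.cast_nonneg _
        linarith
    have hPχ : P χ := by
      refine ⟨?_, fun g' => Complex.conj_eq_iff_im.mpr
        (im_eq_zero_of_fsInd_ne_zero χ (by rw [hν]; exact one_ne_zero) g'), hν⟩
      show m χ ≠ 0
      rw [hk, Nat.cast_ne_zero]
      rintro rfl
      simp at hχpos
    have := (Nat.card_eq_one_iff_unique.mp hone).1
    exact Finset.ne_of_mem_erase hχ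
      (congrArg Subtype.val (Subsingleton.elim (⟨χ, hPχ⟩ : {χ // P χ}) ⟨_, hPtriv⟩))
  · intro hodd
    rw [Nat.card_eq_one_iff_unique]
    refine ⟨⟨?_⟩, ⟨⟨_, hPtriv⟩⟩⟩
    suffices h : ∀ χ, P χ → χ = trivChar G from
      fun a b => Subtype.ext ((h _ a.2).trans (h _ b.2).symm)
    rintro χ ⟨hne, hreal, -⟩
    obtain ⟨n, ρ, hρ, hρχ, -⟩ := exists_rep χ
    have hker : ∀ x ∈ H.normalCore, (χ : G → ℂ) x = (χ : G → ℂ) 1 := by
      by_contra h
      push Not at h
      obtain ⟨x, hx, hxne⟩ := h
      refine hne ?_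
      show m χ = 0
      have h1 := hmsum χ
      have h2 : ∑ h : H, (χ : G → ℂ) h = 0 := by
        set S : Module.End ℂ (Fin n → ℂ) := ∑ n : H.normalCore, ρ (n : G) with hS
        have hcomm : ∀ y : G, S * ρ y = ρ y * S := fun y => by
          rw [hS, Finset.sum_mul, Finset.mul_sum]
          refine Fintype.sum_equiv (MulAut.conjNormal y⁻¹).toEquiv _ _ fun n => ?_
          rw [← map_mul, ← map_mul]
          congr 1
          simp [MulAut.conjNormal_apply, mul_assoc]
        obtain ⟨c, hc⟩ := CfsgLib.CharIntegral.exists_scalar_of_commute ρ S hcomm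
        have hc0 : c = 0 := by
          by_contra hc0
          refine hxne ?_
          rw [← hρχ, Representation.char_one, CfsgLib.CharIntegral.character_eq_finrank_iff]
          have h1 : ρ x * S = S := by
            rw [hS, Finset.mul_sum]
            refine Fintype.sum_equiv (Equiv.mulLeft ⟨x, hx⟩) _ _ fun n => ?_
            rw [← map_mul]
            rfl
          rw [hc] at h1
          refine LinearMap.ext fun v => ?_
          have h2 := LinearMap.congr_fun h1 (c⁻¹ • v)
          simp only [Module.End.mul_apply, LinearMap.smul_apply, LinearMap.id_coe, id_eq,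
            smul_inv_smul₀ hc0] at h2
          exact h2
        have h0 : ∀ g : G, ∑ n : H.normalCore, (χ : G → ℂ) ((n : G) * g) = 0 := fun g => by
          rw [← hρχ]
          simp only [Representation.character, map_mul, ← map_sum, ← Finset.sum_mul]
          rw [← hS, hc, hc0, zero_smul, zero_mul, map_zero]
        have h3 : ∑ h : H, ∑ n : H.normalCore, (χ : G → ℂ) ((n : G) * h) = 0 :=
          Finset.sum_eq_zero fun h _ => h0 h
        rw [Finset.sum_comm, Finset.sum_congr rfl fun (n : H.normalCore) _ =>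
          Fintype.sum_equiv (Equiv.mulLeft (⟨(n : G), H.normalCore_le n.2⟩ : H))
            (fun h : H => (χ : G → ℂ) ((n : G) * h)) (fun h : H => (χ : G → ℂ) h)
            (fun h => rfl), Finset.sum_const, nsmul_eq_mul, Finset.card_univ] at h3
        exact (mul_eq_zero.mp h3).resolve_left (Nat.cast_ne_zero.mpr Fintype.card_ne_zero)
      rw [h2] at h1
      exact (mul_eq_zero.mp h1.symm).resolve_left (Nat.cast_ne_zero.mpr Nat.card_pos.ne')
    obtain ⟨ψ, rfl⟩ := exists_infl H.normalCore χ hker
    have hψ : ψ = trivChar (G ⧸ H.normalCore) := real_irr_eq_one_of_odd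
      (by rwa [← Subgroup.index_eq_card]) ψ fun q => by
        obtain ⟨g, rfl⟩ := QuotientGroup.mk_surjective q
        exact Complex.conj_eq_iff_im.mp (hreal g)
    exact irr_ext fun g => by rw [infl_apply, hψ, trivChar_apply, trivChar_apply]

end Cfsg.Agent.S4784
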