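import Cfsg.Statements.S4796
import Cfsg.Agent.Lib.CharDegree.PrimeCodegree
import Cfsg.Agent.Lib.Char.Frobenius
import Mathlib.GroupTheory.SchurZassenhaus

set_option autoImplicit false
open Cfsg CfsgLib.CharDegree

namespace Cfsg.Agent.S4796

open scoped Pointwise

/-- Let G be a finite group with a faithful irreducible complex character χ whose codegree #G / χ(1) is a prime p (for a faithful character the kernel is trivial, so the codegree is #G / χ(1)). Then either G is cyclic of order p, or G is a Frobenius group whose Frobenius kernel has order p: some proper non-trivial subgroup H satisfies H ∩ gHg⁻¹ = 1 for every element g outside H, and the set of elements lying in no conjugate of H, together with the identity, has exactly p elements. -/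
theorem result {G : Type*} [Group G] [Finite G] (χ : Cfsg.IrrCharacter G) (hfaith : ∀ g : G, (χ : G → ℂ) g = (χ : G → ℂ) 1 → g = 1) (p : ℕ) (hp : p.Prime) (hcod : Nat.card G = p * Cfsg.charDegree (χ : G → ℂ)) : (IsCyclic G ∧ Nat.card G = p) ∨ ∃ H : Subgroup G, Cfsg.IsFrobeniusComplement H ∧ Nat.card ↥(Cfsg.frobeniusKernel H) = p := by
  classical
  have := Fintype.ofFinite G
  obtain ⟨P, hPn, hPcard, hPC, hnd⟩ := exists_selfcentralizing_of_card_eq χ hp hcod
  set d := Cfsg.charDegree (χ : G → ℂ) with hd
  have hindex : P.index = d := by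
    have h := P.card_mul_index
    rw [hPcard, hcod] at h
    exact Nat.eq_of_mul_eq_mul_left hp.pos h
  by_cases hd1 : d = 1
  · left
    have hcard : Nat.card G = p := by rw [hcod, hd1, mul_one]
    have := Fact.mk hp
    exact ⟨isCyclic_of_prime_card hcard, hcard⟩
  right
  obtain ⟨H, hH⟩ := Subgroup.exists_right_complement'_of_coprime (N := P) (by
    rw [hPcard, hindex]
    exact hp.coprime_iff_not_dvd.mpr hnd)
  have hHcard : Nat.card H = d := by
    rw [← hindex]
    exact hH.symm.index_eq_card.symm
  have hHindex : H.index = p := by rw [hH.index_eq_card, hPcard]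
  have hdisj : ∀ x, x ∈ P → x ∈ H → x = 1 := fun x hxP hxH => by
    have := hH.disjoint
    exact Subgroup.disjoint_def.mp this hxP hxH
  have hFC : Cfsg.IsFrobeniusComplement H := by
    refine ⟨fun h => hd1 ?_, fun h => hp.one_lt.ne' ?_, fun g hg => ?_⟩
    · rw [← hHcard, h, Subgroup.card_bot]
    · rw [← hHindex, h, Subgroup.index_top]
    rw [Subgroup.eq_bot_iff_forall]
    intro x hx
    obtain ⟨hxH, hxg⟩ := Subgroup.mem_inf.mp hx
    obtain ⟨y, hyH, hyx⟩ := Subgroup.mem_smul_pointwise_iff_exists x _ H |>.mp hxg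
    obtain ⟨⟨u, h⟩, huh, -⟩ := hH.existsUnique g
    simp only at huh
    have hu : (u : G) ≠ 1 := fun h1 => hg (by rw [← huh, h1, one_mul]; exact h.2)
    set z := (h : G) * y * (h : G)⁻¹ with hz
    have hzH : z ∈ H := H.mul_mem (H.mul_mem h.2 hyH) (H.inv_mem h.2)
    have hxz : x = (u : G) * z * (u : G)⁻¹ := by
      rw [← hyx, MulAut.smul_def, MulAut.conj_apply, ← huh, hz]
      group
    have hcomm : x * z⁻¹ = 1 := by
      refine hdisj _ ?_ (H.mul_mem hxH (H.inv_mem hzH))
      have e : x * z⁻¹ = (u : G) * (z * (u : G)⁻¹ * z⁻¹) := by rw [hxz]; group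
      rw [e]
      exact P.mul_mem u.2 (hPn.conj_mem _ (P.inv_mem u.2) z)
    have hxzeq : x = z := mul_inv_eq_one.mp hcomm
    have hxu : x * (u : G) = (u : G) * x := by
      conv_lhs => rw [hxz]
      rw [← hxzeq]
      group
    refine hdisj x ?_ hxH
    rw [← hPC, Subgroup.mem_centralizer_iff]
    intro w hw
    have := Fact.mk hp
    have hgen : (⟨w, hw⟩ : P) ∈ Subgroup.zpowers (u : P) :=
      mem_zpowers_of_prime_card hPcard (fun h1 => hu (congrArg Subtype.val h1))
    obtain ⟨k, hk⟩ := Subgroup.mem_zpowers_iff.mp hgen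
    have hk' : (u : G) ^ k = w := congrArg Subtype.val hk
    rw [← hk']
    exact ((Commute.zpow_right (show Commute x (u : G) from hxu) k).eq).symm
  exact ⟨H, hFC, by rw [CfsgLib.Frobenius.card_frobeniusKernel (hH := hFC), hHindex]⟩

end Cfsg.Agent.S4796
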