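import Cfsg.Statements.S4797
import Cfsg.Agent.Lib.CharDegree.PrimeCodegree
import Mathlib.Order.Atoms.Finite

set_option autoImplicit false
open Cfsg CfsgLib.CharDegree CfsgLib.Char

namespace Cfsg.Agent.S4797

open scoped commutatorElement

/-- The codegree of an irreducible complex character χ of a finite group G is [G : ker χ] / χ(1), where ker χ is the set of elements at which χ takes the value χ(1). A non-trivial finite group is perfect if and only if no irreducible complex character of it has prime codegree. -/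
theorem result {G : Type*} [Group G] [Finite G] [Nontrivial G] : commutator G = ⊤ ↔ ∀ χ : Cfsg.IrrCharacter G, ¬ ((Nat.card G / (Nat.card {g : G // (χ : G → ℂ) g = (χ : G → ℂ) 1} * Cfsg.charDegree (χ : G → ℂ)))).Prime := by
  classical
  simp only [codegree_eq]
  refine ⟨fun hperf χ hprime => ?_, fun h => ?_⟩
  · set K := kerSubgroup χ with hK
    have hKn : K.Normal := kerSubgroup_normal χ
    obtain ⟨ψ, hψ⟩ := exists_infl K χ fun g hg => mem_kerSubgroup.mp hg
    set p := K.index / Cfsg.charDegree (χ : G → ℂ) with hp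
    have hdeg : Cfsg.charDegree (ψ : G ⧸ K → ℂ) = Cfsg.charDegree (χ : G → ℂ) := by
      rw [← charDegree_infl, hψ]
    have hcard : Nat.card (G ⧸ K) = p * Cfsg.charDegree (ψ : G ⧸ K → ℂ) := by
      rw [hdeg, hp, Nat.div_mul_cancel (charDegree_dvd_index χ), Subgroup.index_eq_card]
    obtain ⟨P, hPn, hPcard, hPC, -⟩ := exists_selfcentralizing_of_card_eq ψ hprime hcard
    have hperfQ : commutator (G ⧸ K) = ⊤ := by
      have h1 := Subgroup.map_commutator (⊤ : Subgroup G) ⊤ (QuotientGroup.mk' K)
      rw [← commutator_def, hperf,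
        Subgroup.map_top_of_surjective _ (QuotientGroup.mk'_surjective K), ← commutator_def] at h1
      exact h1.symm
    have hle : commutator (G ⧸ K) ≤ Subgroup.centralizer (P : Set (G ⧸ K)) := by
      rw [commutator_def, Subgroup.commutator_le]
      intro a _ b _
      rw [Subgroup.mem_centralizer_iff]
      intro w hw
      have := Fact.mk hprime
      have hab : ∀ v ∈ P, a * b * v * (a * b)⁻¹ = b * a * v * (b * a)⁻¹ := fun v hv => by
        by_cases hv1 : v = 1
        · simp [hv1]
        have hpow : ∀ x : G ⧸ K, ∃ k : ℤ, x * v * x⁻¹ = v ^ k := fun x => by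
          have hgen : (⟨x * v * x⁻¹, hPn.conj_mem v hv x⟩ : P) ∈
              Subgroup.zpowers (⟨v, hv⟩ : P) :=
            mem_zpowers_of_prime_card hPcard (fun h1 => hv1 (congrArg Subtype.val h1))
          obtain ⟨k, hk⟩ := Subgroup.mem_zpowers_iff.mp hgen
          exact ⟨k, (congrArg Subtype.val hk).symm⟩
        obtain ⟨i, hi⟩ := hpow a
        obtain ⟨j, hj⟩ := hpow b
        calc a * b * v * (a * b)⁻¹ = a * (b * v * b⁻¹) * a⁻¹ := by group
          _ = (a * v * a⁻¹) ^ j := by rw [hj, conj_zpow]
          _ = v ^ (i * j) := by rw [hi, ← zpow_mul]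
          _ = (b * v * b⁻¹) ^ i := by rw [hj, ← zpow_mul, mul_comm i j]
          _ = b * (a * v * a⁻¹) * b⁻¹ := by rw [hi, conj_zpow]
          _ = b * a * v * (b * a)⁻¹ := by group
      have hv : (b * a)⁻¹ * w * (b * a) ∈ P := by simpa using hPn.conj_mem w hw (b * a)⁻¹
      have h2 : ⁅a, b⁆ * w * ⁅a, b⁆⁻¹ = w :=
        calc ⁅a, b⁆ * w * ⁅a, b⁆⁻¹
            = a * b * ((b * a)⁻¹ * w * (b * a)) * (a * b)⁻¹ := by
              rw [commutatorElement_def]; group
          _ = b * a * ((b * a)⁻¹ * w * (b * a)) * (b * a)⁻¹ := hab _ hv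
          _ = w := by group
      calc w * ⁅a, b⁆ = ⁅a, b⁆ * w * ⁅a, b⁆⁻¹ * ⁅a, b⁆ := by rw [h2]
        _ = ⁅a, b⁆ * w := by group
    rw [hperfQ, hPC, top_le_iff] at hle
    have hcomm : ∀ x y : G ⧸ K, x * y = y * x := fun x y => by
      have hx : x ∈ Subgroup.centralizer (P : Set (G ⧸ K)) := by
        rw [hPC, hle]; exact Subgroup.mem_top x
      exact (Subgroup.mem_centralizer_iff.mp hx y (by rw [hle]; exact Set.mem_univ y)).symm
    have hbot : commutator (G ⧸ K) = ⊥ := by
      rw [commutator_def, Subgroup.commutator_eq_bot_iff_le_centralizer]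
      intro x _
      rw [Subgroup.mem_centralizer_iff]
      exact fun y _ => hcomm y x
    rw [hperfQ] at hbot
    rw [hle, Subgroup.card_top] at hPcard
    have h1 : Nat.card (G ⧸ K) = 1 := by
      rw [← Subgroup.card_top, hbot, Subgroup.card_bot]
    exact hprime.one_lt.ne' (hPcard.symm.trans h1)
  · by_contra hne
    obtain ⟨M, hM, hle⟩ := (eq_top_or_exists_le_coatom (commutator G)).resolve_left hne
    have hMn : M.Normal := Subgroup.Normal.of_commutator_le G hle
    have hnt : Nontrivial (G ⧸ M) := by
      rw [← Finite.one_lt_card_iff_nontrivial, ← Subgroup.index_eq_card]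
      have h0 := Subgroup.index_ne_zero_of_finite (H := M)
      have h1 : M.index ≠ 1 := fun h1 => hM.1 (Subgroup.index_eq_one.mp h1)
      omega
    have htriv : ∀ L : Subgroup (G ⧸ M), L = ⊥ ∨ L = ⊤ := fun L => by
      have hML : M ≤ L.comap (QuotientGroup.mk' M) := fun g hg => by
        simp [(QuotientGroup.eq_one_iff g).mpr hg]
      rcases hM.le_iff.mp hML with h1 | h1
      · right
        refine Subgroup.comap_injective (QuotientGroup.mk'_surjective M) ?_
        rw [h1, Subgroup.comap_top]
      · left
        refine Subgroup.comap_injective (QuotientGroup.mk'_surjective M) ?_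
        rw [h1, MonoidHom.comap_bot, QuotientGroup.ker_mk']
    have hQcomm : ∀ a b : G ⧸ M, a * b = b * a := by
      intro a b
      induction a using QuotientGroup.induction_on with
      | H a =>
      induction b using QuotientGroup.induction_on with
      | H b =>
      rw [← QuotientGroup.mk_mul, ← QuotientGroup.mk_mul, QuotientGroup.eq]
      apply hle
      rw [show (a * b)⁻¹ * (b * a) = ⁅b⁻¹, a⁻¹⁆ by rw [commutatorElement_def]; group]
      exact Subgroup.commutator_mem_commutator (Subgroup.mem_top _) (Subgroup.mem_top _)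
    obtain ⟨q, hq, hqd⟩ := Nat.exists_prime_and_dvd (Finite.one_lt_card (α := G ⧸ M)).ne'
    have := Fact.mk hq
    obtain ⟨x, hx⟩ := exists_prime_orderOf_dvd_card' q hqd
    have hzx : Subgroup.zpowers x = ⊤ := by
      refine (htriv _).resolve_left fun h1 => ?_
      rw [Subgroup.zpowers_eq_bot] at h1
      rw [h1, orderOf_one] at hx
      exact hq.one_lt.ne hx
    have hcard : Nat.card (G ⧸ M) = q := by
      rw [← Subgroup.card_top, ← hzx, Nat.card_zpowers, hx]
    have hncomm : commutator (G ⧸ M) ≠ ⊤ := by
      have hb : commutator (G ⧸ M) = ⊥ := by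
        rw [commutator_def, Subgroup.commutator_eq_bot_iff_le_centralizer]
        intro x _
        rw [Subgroup.mem_centralizer_iff]
        exact fun y _ => hQcomm y x
      rw [hb]
      exact bot_ne_top
    obtain ⟨ψ, hψ1, hψne⟩ := exists_linear_ne_one hncomm
    refine h (infl M ψ) ?_
    rw [index_kerSubgroup_infl, charDegree_infl, hψ1, Nat.div_one]
    rcases htriv (kerSubgroup ψ) with h1 | h1
    · rw [h1, Subgroup.index_bot, hcard]
      exact hq
    · refine absurd (funext fun y => ?_) hψne
      have hy : y ∈ kerSubgroup ψ := by rw [h1]; exact Subgroup.mem_top y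
      rw [mem_kerSubgroup.mp hy]
      exact (charDegree_eq_one_iff ψ).mp hψ1

end Cfsg.Agent.S4797
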