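import Cfsg.Statements.S4798
import Cfsg.Agent.Lib.CharDegree.Basic

set_option autoImplicit false
open Cfsg CfsgLib.Char CfsgLib.CharDegree

namespace Cfsg.Agent.S4798

/-- Let p be a prime and χ a faithful irreducible complex character of the finite group G (χ(g) = χ(1) only for g = 1), so that its codegree is #G / χ(1). Then #G / χ(1) is a power of p if and only if χ is induced from a character of a Sylow p-subgroup of G. -/
theorem result {G : Type*} [Group G] [Fintype G] (p : ℕ) [Fact p.Prime] (χ : Cfsg.IrrCharacter G) (hfaith : ∀ g : G, (χ : G → ℂ) g = (χ : G → ℂ) 1 → g = 1) : (∃ k : ℕ, Nat.card G = p ^ k * Cfsg.charDegree (χ : G → ℂ)) ↔ ∃ (P : Sylow p G) (θ : ↥(P : Subgroup G) → ℂ), Cfsg.IsCharacter ↥(P : Subgroup G) θ ∧ (χ : G → ℂ) = Cfsg.indFun (P : Subgroup G) θ := by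
  have hp := Fact.out (p := p.Prime)
  constructor
  · rintro ⟨k, hk⟩
    classical
    obtain ⟨P⟩ := (inferInstance : Nonempty (Sylow p G))
    have := Fintype.ofFinite ↥(P : Subgroup G)
    have := Fintype.ofFinite (Cfsg.IrrCharacter ↥(P : Subgroup G))
    let χP : ↥(P : Subgroup G) → ℂ := fun h => (χ : G → ℂ) h
    obtain ⟨m, hm⟩ := IsChar.exists_sum (χ := χP) (IsChar.restrict _ (IsIrr.isCharacter χ.2))
    set d := Cfsg.charDegree (χ : G → ℂ) with hd
    have hd0 : d ≠ 0 := (charDegree_pos χ).ne'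
    obtain ⟨n, hn⟩ := IsPGroup.iff_card.mp P.isPGroup'
    have hidx : ¬ p ∣ (P : Subgroup G).index := P.not_dvd_index
    -- the degree is `|G : P| * p ^ j`
    have hG : p ^ k * d = p ^ n * (P : Subgroup G).index := by
      rw [← hk, ← hn, Subgroup.card_mul_index]
    have hkn : k ≤ n := by
      by_contra h
      have : p ^ (n + 1) ∣ p ^ n * (P : Subgroup G).index :=
        hG ▸ (pow_dvd_pow p (by omega)).trans (dvd_mul_right _ _)
      rw [pow_succ] at this
      exact hidx ((Nat.mul_dvd_mul_iff_left (pow_pos hp.pos n)).mp this)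
    have hdeq : d = (P : Subgroup G).index * p ^ (n - k) := by
      have h := hG
      rw [show p ^ n = p ^ k * p ^ (n - k) by rw [← pow_add, Nat.add_sub_cancel' hkn],
        mul_assoc] at h
      rw [mul_comm ((P : Subgroup G).index)]
      exact Nat.eq_of_mul_eq_mul_left (pow_pos hp.pos k) h
    -- some constituent has degree at most `p ^ (n - k)`
    obtain ⟨θ, hθm, hθd⟩ : ∃ θ : Cfsg.IrrCharacter ↥(P : Subgroup G),
        m θ ≠ 0 ∧ Cfsg.charDegree (θ : ↥(P : Subgroup G) → ℂ) ≤ p ^ (n - k) := by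
      by_contra hno
      push Not at hno
      have hsum : d = ∑ θ, m θ * Cfsg.charDegree (θ : ↥(P : Subgroup G) → ℂ) := by
        rw [← Nat.cast_inj (R := ℂ), Nat.cast_sum, cast_irrDegree]
        simp only [Nat.cast_mul, cast_irrDegree]
        simpa [χP] using congrFun hm 1
      have : p ^ (n - k + 1) ∣ d := by
        rw [hsum]
        refine Finset.dvd_sum fun θ _ => ?_
        by_cases h0 : m θ = 0
        · simp [h0]
        · refine dvd_mul_of_dvd_right ?_ _
          obtain ⟨j, -, hj⟩ := (Nat.dvd_prime_pow hp).mp (hn ▸ charDegree_dvd_card θ)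
          rw [hj] at ⊢
          have hlt := hno θ h0
          rw [hj] at hlt
          exact pow_dvd_pow p ((Nat.pow_lt_pow_iff_right hp.one_lt).mp hlt)
      rw [hdeq, pow_succ, mul_comm ((P : Subgroup G).index)] at this
      exact hidx ((Nat.mul_dvd_mul_iff_left (pow_pos hp.pos _)).mp this)
    refine ⟨P, (θ : ↥(P : Subgroup G) → ℂ), IsIrr.isCharacter θ.2, ?_⟩
    have := Fintype.ofFinite (Cfsg.IrrCharacter G)
    obtain ⟨a, ha⟩ := IsChar.exists_sum (isCharacter_indFun (P : Subgroup G) (IsIrr.isCharacter θ.2))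
    have haχ : (a χ : ℂ) = (m θ : ℂ) := by
      have h1 := frobenius_reciprocity (P : Subgroup G) (θ : ↥(P : Subgroup G) → ℂ)
        (IsIrr.isClassFunction χ.2)
      rw [ha, classInner_sum_irr] at h1
      rw [h1, ← classInner_conj_symm]
      change (starRingEnd ℂ) (Cfsg.classInner χP _) = _
      rw [hm, classInner_sum_irr, map_natCast]
    have hdeg : ∑ ψ, a ψ * Cfsg.charDegree (ψ : G → ℂ) =
        (P : Subgroup G).index * Cfsg.charDegree (θ : ↥(P : Subgroup G) → ℂ) := by
      rw [← Nat.cast_inj (R := ℂ), Nat.cast_sum]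
      simp only [Nat.cast_mul, cast_irrDegree]
      rw [← indFun_apply_one, ha]
      simp
    rw [← Finset.add_sum_erase _ _ (Finset.mem_univ χ)] at hdeg
    have hle : (P : Subgroup G).index * Cfsg.charDegree (θ : ↥(P : Subgroup G) → ℂ) ≤ d := by
      rw [hdeq]; exact Nat.mul_le_mul_left _ hθd
    have hpos : 1 ≤ a χ := by
      rcases Nat.eq_zero_or_pos (a χ) with h | h
      · rw [h, Nat.cast_zero, eq_comm, Nat.cast_eq_zero] at haχ
        exact absurd haχ hθm
      · exact h
    have hmul : d ≤ a χ * d := Nat.le_mul_of_pos_left _ hpos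
    have h1 : a χ = 1 := by
      refine le_antisymm (Nat.le_of_mul_le_mul_right ?_ (Nat.pos_of_ne_zero hd0)) hpos
      rw [← hd] at hdeg
      omega
    have h0 : ∀ ψ, ψ ≠ χ → a ψ = 0 := by
      intro ψ hψ
      rw [h1, one_mul, ← hd] at hdeg
      have hzero : ∑ x ∈ Finset.univ.erase χ, a x * Cfsg.charDegree (x : G → ℂ) = 0 := by omega
      exact (mul_eq_zero.mp (Finset.sum_eq_zero_iff.mp hzero ψ
        (Finset.mem_erase.mpr ⟨hψ, Finset.mem_univ _⟩))).resolve_right (charDegree_pos ψ).ne'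
    rw [ha, Finset.sum_eq_single χ (fun ψ _ hψ => by simp [h0 ψ hψ]) (by simp)]
    simp [h1]
  · rintro ⟨P, θ, hθ, hχ⟩
    obtain ⟨n, hn⟩ := IsPGroup.iff_card.mp P.isPGroup'
    have hdeg : Cfsg.charDegree (χ : G → ℂ) =
        (P : Subgroup G).index * Cfsg.charDegree θ := by
      rw [← Nat.cast_inj (R := ℂ), cast_irrDegree, Nat.cast_mul, cast_charDegree hθ, hχ,
        indFun_apply_one]
    have hdvd := charDegree_dvd_card χ
    rw [hdeg, ← (P : Subgroup G).card_mul_index, hn, mul_comm (p ^ n)] at hdvd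
    obtain ⟨j, hjn, hj⟩ := (Nat.dvd_prime_pow hp).mp
      ((Nat.mul_dvd_mul_iff_left (Nat.pos_of_ne_zero Subgroup.index_ne_zero_of_finite)).mp hdvd)
    refine ⟨n - j, ?_⟩
    rw [hdeg, hj, ← (P : Subgroup G).card_mul_index, hn,
      show p ^ n = p ^ (n - j) * p ^ j by rw [← pow_add, Nat.sub_add_cancel hjn]]
    ring

end Cfsg.Agent.S4798
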