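import Cfsg.Statements.S4801
import Cfsg.Agent.Lib.CharDegree.Basic

set_option autoImplicit false
open Cfsg CfsgLib.Char CfsgLib.CharDegree

namespace Cfsg.Agent.S4801

/-- The codegree of an irreducible complex character χ of a finite group G is [G : ker χ] / χ(1), where ker χ is the set of elements at which χ takes the value χ(1). Let S be a finite simple group and G a finite group such that every codegree of an irreducible character of S is a codegree of an irreducible character of G. Then the order of S divides the order of G. -/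
theorem result {S : Type*} [Group S] [Finite S] (hS : IsSimpleGroup S) {G : Type*} [Group G] [Finite G] (hsub : ∀ χ : Cfsg.IrrCharacter S, ∃ ψ : Cfsg.IrrCharacter G, (Nat.card S / (Nat.card {g : S // (χ : S → ℂ) g = (χ : S → ℂ) 1} * Cfsg.charDegree (χ : S → ℂ))) = (Nat.card G / (Nat.card {g : G // (ψ : G → ℂ) g = (ψ : G → ℂ) 1} * Cfsg.charDegree (ψ : G → ℂ)))) : Nat.card S ∣ Nat.card G := by
  rw [Nat.dvd_iff_prime_pow_dvd_dvd]
  intro p k hp hpk
  rcases Nat.eq_zero_or_pos k with rfl | hk
  · simp
  have hpS : p ∣ Nat.card S := (dvd_pow_self p hk.ne').trans hpk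
  obtain ⟨χ, hker, hdeg⟩ := exists_not_dvd_not_le_ker (⊤ : Subgroup S) hpS
    (by rw [Subgroup.index_top]; exact hp.not_dvd_one)
  have hbot : kerSubgroup χ = ⊥ :=
    ((hS.eq_bot_or_eq_top_of_normal _ (kerSubgroup_normal χ)).resolve_right
      fun h => hker (le_of_eq h.symm))
  obtain ⟨ψ, hψ⟩ := hsub χ
  rw [codegree_eq, hbot, Subgroup.index_bot] at hψ
  refine dvd_trans ?_ (codegree_dvd_card ψ)
  rw [← hψ]
  have hcop : Nat.Coprime (p ^ k) (Cfsg.charDegree (χ : S → ℂ)) :=
    Nat.Coprime.pow_left _ ((Nat.Prime.coprime_iff_not_dvd hp).mpr hdeg)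
  obtain ⟨c, hc⟩ := charDegree_dvd_card χ
  rw [hc, Nat.mul_div_cancel_left _ (charDegree_pos χ)]
  exact hcop.dvd_of_dvd_mul_left (hc ▸ hpk)

end Cfsg.Agent.S4801
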