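import Cfsg.Statements.S4802
import Cfsg.Agent.Lib.CharDegree.Restriction
import Cfsg.Agent.Lib.CharDegree.Counting

set_option autoImplicit false
open Cfsg CfsgLib.Char CfsgLib.CharDegree
open scoped ComplexConjugate

namespace Cfsg.Agent.S4802

/-- Let N < M be normal subgroups of the finite group G and g ∈ M ∖ N. Then the conjugacy class of g is exactly M ∖ N if and only if every irreducible complex character of G whose kernel contains N takes the same value at all elements of M ∖ N, and every irreducible complex character of G whose kernel does not contain N vanishes at g. -/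
theorem result {G : Type*} [Group G] [Finite G] (N M : Subgroup G) [N.Normal] [M.Normal] (hNM : N < M) (g : G) (hgM : g ∈ M) (hgN : g ∉ N) : {h : G | IsConj g h} = (M : Set G) \ (N : Set G) ↔ ((∀ χ : Cfsg.IrrCharacter G, (∀ x ∈ N, (χ : G → ℂ) x = (χ : G → ℂ) 1) → ∀ x ∈ M, x ∉ N → ∀ y ∈ M, y ∉ N → (χ : G → ℂ) x = (χ : G → ℂ) y) ∧ (∀ χ : Cfsg.IrrCharacter G, (∃ x ∈ N, (χ : G → ℂ) x ≠ (χ : G → ℂ) 1) → (χ : G → ℂ) g = 0)) := by
  classical
  have := Fintype.ofFinite G
  have := Fintype.ofFinite N
  have := Fintype.ofFinite (Cfsg.IrrCharacter G)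
  constructor
  · intro hcl
    have hmem : ∀ x ∈ M, x ∉ N → IsConj g x := fun x hx hxN =>
      (Set.ext_iff.mp hcl x).mpr ⟨hx, hxN⟩
    refine ⟨fun χ _ x hx hxN y hy hyN => ?_, fun χ hχ => ?_⟩
    · rw [← apply_eq_of_isConj χ (hmem x hx hxN), ← apply_eq_of_isConj χ (hmem y hy hyN)]
    · have h := sum_coset_eq_zero χ N hχ g
      rw [Finset.sum_congr rfl fun (n : N) _ => (apply_eq_of_isConj χ (hmem ((n : G) * g)
        (M.mul_mem (hNM.le n.2) hgM)
        fun hh => hgN (by simpa using N.mul_mem (N.inv_mem n.2) hh))).symm,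
        Finset.sum_const, nsmul_eq_mul, mul_eq_zero] at h
      exact h.resolve_left (Nat.cast_ne_zero.mpr (Finset.card_ne_zero_of_mem (Finset.mem_univ (1 : N))))
  · rintro ⟨h1, h2⟩
    ext h
    constructor
    · intro hgh
      obtain ⟨c, rfl⟩ := isConj_iff.mp (show IsConj g h from hgh)
      refine ⟨(inferInstance : M.Normal).conj_mem g hgM c, fun hh => hgN ?_⟩
      simpa [mul_assoc] using (inferInstance : N.Normal).conj_mem _ hh c⁻¹
    · rintro ⟨hhM, hhN⟩
      show IsConj g h
      by_contra hc
      have ho := column_orthogonality g h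
      rw [if_neg hc] at ho
      have hterm : ∀ χ : Cfsg.IrrCharacter G, (χ : G → ℂ) g * conj ((χ : G → ℂ) h) =
          ((if ∀ x ∈ N, (χ : G → ℂ) x = (χ : G → ℂ) 1 then Complex.normSq ((χ : G → ℂ) g)
            else 0 : ℝ) : ℂ) := by
        intro χ
        split_ifs with hN'
        · rw [← h1 χ hN' g hgM hgN h hhM hhN, Complex.mul_conj]
        · push Not at hN'
          rw [h2 χ hN', zero_mul, Complex.ofReal_zero]
      rw [Finset.sum_congr rfl fun χ _ => hterm χ, ← Complex.ofReal_sum, Complex.ofReal_eq_zero,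
        Finset.sum_eq_zero_iff_of_nonneg (fun χ _ => by
          split_ifs <;> simp [Complex.normSq_nonneg])] at ho
      simpa using ho (trivChar G) (Finset.mem_univ _)

end Cfsg.Agent.S4802
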