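import Cfsg.Statements.S4808
import Cfsg.Agent.Lib.CharDegree.Basic

set_option autoImplicit false
open Cfsg CfsgLib.Char CfsgLib.CharDegree

namespace Cfsg.Agent.S4808

/-- The codegree of an irreducible complex character χ of a finite group G is [G : ker χ] / χ(1), where ker χ is the set of elements at which χ takes the value χ(1). A prime divides the order of G if and only if it divides the codegree of some irreducible complex character of G. -/
theorem result {G : Type*} [Group G] [Finite G] (p : ℕ) (hp : p.Prime) : p ∣ Nat.card G ↔ ∃ χ : Cfsg.IrrCharacter G, p ∣ (Nat.card G / (Nat.card {g : G // (χ : G → ℂ) g = (χ : G → ℂ) 1} * Cfsg.charDegree (χ : G → ℂ))) := by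
  constructor
  · intro hpG
    -- maximal normal subgroup whose index is divisible by `p`
    obtain ⟨M, ⟨hMn, hpM⟩, hmax⟩ := (wellFounded_gt (α := Subgroup G)).has_min
      {M : Subgroup G | M.Normal ∧ p ∣ M.index} ⟨⊥, inferInstance, by rwa [Subgroup.index_bot]⟩
    have hK : ∀ K : Subgroup (G ⧸ M), K.Normal → K ≠ ⊥ → ¬ p ∣ K.index := by
      intro K hK hK0 hpK
      refine hmax (K.comap (QuotientGroup.mk' M)) ⟨inferInstance, ?_⟩ ?_
      · rwa [Subgroup.index_comap_of_surjective _ (QuotientGroup.mk'_surjective M)]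
      · refine lt_of_le_of_ne (QuotientGroup.le_comap_mk' M K) fun h => hK0 ?_
        rw [← Subgroup.map_comap_eq_self_of_surjective (QuotientGroup.mk'_surjective M) K, ← h,
          QuotientGroup.map_mk'_self]
    have hpQ : p ∣ Nat.card (G ⧸ M) := by rwa [← Subgroup.index_eq_card]
    have : Nontrivial (G ⧸ M) := Finite.one_lt_card_iff_nontrivial.mp
      (hp.one_lt.trans_le (Nat.le_of_dvd Nat.card_pos hpQ))
    obtain ⟨K₀, ⟨hK₀n, hK₀0⟩, hmin⟩ := (wellFounded_lt (α := Subgroup (G ⧸ M))).has_min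
      {K : Subgroup (G ⧸ M) | K.Normal ∧ K ≠ ⊥} ⟨⊤, inferInstance, top_ne_bot⟩
    obtain ⟨ψ, hker, hdeg⟩ := exists_not_dvd_not_le_ker K₀ hpQ (hK K₀ hK₀n hK₀0)
    have hn := kerSubgroup_normal ψ
    have hinf : kerSubgroup ψ ⊓ K₀ = ⊥ := by
      by_contra h0
      exact hmin _ ⟨inferInstance, h0⟩ (lt_of_le_of_ne inf_le_right fun h => hker (inf_eq_right.mp h))
    have hidx : p ∣ (kerSubgroup ψ).index := by
      by_contra h
      have hrel : (kerSubgroup ψ ⊓ K₀).index =
          (kerSubgroup ψ).relIndex K₀ * K₀.index := by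
        rw [← Subgroup.inf_relIndex_right, Subgroup.relIndex_mul_index inf_le_right]
      rw [hinf, Subgroup.index_bot] at hrel
      rw [hrel] at hpQ
      rcases hp.dvd_mul.mp hpQ with h1 | h1
      · exact h (h1.trans (Subgroup.relIndex_dvd_index_of_normal _ _))
      · exact hK K₀ hK₀n hK₀0 h1
    refine ⟨infl M ψ, ?_⟩
    rw [codegree_eq, index_kerSubgroup_infl, charDegree_infl]
    obtain ⟨c, hc⟩ := charDegree_dvd_index ψ
    rw [hc, Nat.mul_div_cancel_left _ (charDegree_pos ψ)]
    exact ((hp.dvd_mul).mp (hc ▸ hidx)).resolve_left hdeg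
  · rintro ⟨χ, hχ⟩
    exact hχ.trans (codegree_dvd_card χ)

end Cfsg.Agent.S4808
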