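import Cfsg.Statements.S4811
import Cfsg.Agent.Lib.CharDegree.DegreeGraph.MaximalQuotient

set_option autoImplicit false
open Cfsg

namespace Cfsg.Agent.S4811

/-- For every finite solvable group G the character degree graph of G (vertices: the primes dividing some irreducible complex character degree; edges: distinct primes whose product divides some degree) has at most two connected components. -/
theorem result {G : Type*} [Group G] [Finite G] [Group.IsSolvable G] : Nat.card ((Cfsg.degreeGraph G).induce (Cfsg.degreePrimes G)).ConnectedComponent ≤ 2 := by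
  classical
  set Γ := (Cfsg.degreeGraph G).induce (Cfsg.degreePrimes G)
  by_cases hna : ∃ x y : G, x * y ≠ y * x
  swap
  · push Not at hna
    have : IsEmpty Γ.ConnectedComponent := ⟨fun C => by
      induction C using SimpleGraph.ConnectedComponent.ind with
      | h v =>
        obtain ⟨hr, d, ⟨χ, hχ⟩, hd⟩ := v.2
        rw [← hχ, CfsgLib.CharDegree.charDegree_of_comm hna χ] at hd
        exact hr.ne_one (Nat.dvd_one.1 hd)⟩
    simp
  obtain ⟨s, t, hst⟩ := CfsgLib.DegreeGraph.exists_covering hna
  -- two vertices near the same prime are connected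
  have hnear : ∀ s : ℕ, ∀ v w : ↥(Cfsg.degreePrimes G),
      ((v : ℕ) = s ∨ (Cfsg.degreeGraph G).Adj v s) → ((w : ℕ) = s ∨ (Cfsg.degreeGraph G).Adj w s) →
      Γ.Reachable v w := by
    intro s v w hv hw
    obtain ⟨u, hu⟩ : ∃ u : ↥(Cfsg.degreePrimes G), (u : ℕ) = s := by
      rcases hv with h | ⟨-, -, hs, d, hd, hdd⟩
      · exact ⟨v, h⟩
      · exact ⟨⟨s, hs, d, hd, dvd_of_mul_left_dvd hdd⟩, rfl⟩
    have hr : ∀ x : ↥(Cfsg.degreePrimes G), ((x : ℕ) = s ∨ (Cfsg.degreeGraph G).Adj x s) →
        Γ.Reachable x u := fun x hx => by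
      rcases hx with h | h
      · rw [Subtype.ext (h.trans hu.symm)]
      · exact SimpleGraph.Adj.reachable (show (Cfsg.degreeGraph G).Adj (x : ℕ) (u : ℕ) from hu.symm ▸ h)
    exact (hr v hv).trans (hr w hw).symm
  have hrep : ∀ C : Γ.ConnectedComponent, ∃ v, Γ.connectedComponentMk v = C := fun C => C.nonempty_supp
  choose v hv using hrep
  let f : Γ.ConnectedComponent → Bool := fun C =>
    decide ((v C : ℕ) = s ∨ (Cfsg.degreeGraph G).Adj (v C : ℕ) s)
  have hf : Function.Injective f := by
    intro C D h
    rw [← hv C, ← hv D]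
    refine SimpleGraph.ConnectedComponent.eq.2 ?_
    simp only [f, decide_eq_decide] at h
    by_cases hC : (v C : ℕ) = s ∨ (Cfsg.degreeGraph G).Adj (v C : ℕ) s
    · exact hnear s _ _ hC (h.1 hC)
    · exact hnear t _ _ ((hst _ (v C).2).resolve_left hC) ((hst _ (v D).2).resolve_left fun hD => hC (h.2 hD))
  exact (Nat.card_le_card_of_injective f hf).trans (by simp)

end Cfsg.Agent.S4811
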