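import Cfsg.Statements.S4813
import Cfsg.Agent.Lib.CharDegree.PrimeDegrees
import Cfsg.Agent.S4466

set_option autoImplicit false
open Cfsg

namespace Cfsg.Agent.S4813

/-- If every irreducible complex character of the finite group G of degree greater than one has prime degree, then G has at most three distinct irreducible character degrees. -/
theorem result {G : Type*} [Group G] [Finite G] (hprime : ∀ d ∈ Cfsg.charDegrees G, d = 1 ∨ d.Prime) : Nat.card ↥(Cfsg.charDegrees G) ≤ 3 := by
  haveI := Fintype.ofFinite G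
  have h : ∀ χ : Cfsg.IrrCharacter G, Cfsg.charDegree (χ : G → ℂ) ≠ 1 →
      (Cfsg.charDegree (χ : G → ℂ)).Prime := fun χ h1 =>
    (hprime _ ⟨χ, rfl⟩).resolve_left h1
  haveI : Group.IsSolvable G := Cfsg.Agent.S4466.result h
  have hfin : (Cfsg.charDegrees G).Finite :=
    Set.Finite.subset (Set.finite_range fun χ : Cfsg.IrrCharacter G => Cfsg.charDegree (χ : G → ℂ))
      fun d ⟨χ, hχ⟩ => ⟨χ, hχ⟩
  by_contra hcard
  rw [Nat.card_coe_set_eq, not_le] at hcard
  have hex : ∀ s : Finset ℕ, s.card ≤ 3 → ∃ d ∈ Cfsg.charDegrees G, d ∉ s := fun s hs => by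
    by_contra hno
    push Not at hno
    have := Set.ncard_le_ncard (t := (s : Set ℕ)) hno s.finite_toSet
    rw [Set.ncard_coe_finset] at this
    omega
  obtain ⟨p, hpm, hp1⟩ := hex {1} (by simp)
  obtain ⟨q, hqm, hq1⟩ := hex {1, p} (le_trans Finset.card_le_two (by omega))
  obtain ⟨r, hrm, hr1⟩ := hex {1, p, q} Finset.card_le_three
  simp only [Finset.mem_insert, Finset.mem_singleton, not_or] at hp1 hq1 hr1
  exact CfsgLib.PrimeDegrees.no_third h ((hprime p hpm).resolve_left hp1)
    ((hprime q hqm).resolve_left hq1.1) (Ne.symm hq1.2) hpm hqm ((hprime r hrm).resolve_left hr1.1)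
    (Ne.symm hr1.2.1) (Ne.symm hr1.2.2) hrm

end Cfsg.Agent.S4813
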