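import Cfsg.Statements.S4814
import Cfsg.Agent.Lib.CharDegree.Counting

set_option autoImplicit false
open Cfsg CfsgLib.Char CfsgLib.CharDegree

namespace Cfsg.Agent.S4814

/-- Let G be a finite group such that the sum, over the irreducible complex characters χ of G, of 1/χ(1)² is less than 2. Then every element of G is a product of two commutators. -/
theorem result {G : Type*} [Group G] [Finite G]
    (h : ∑ᶠ χ : Cfsg.IrrCharacter G, 1 / ‖(χ : G → ℂ) 1‖ ^ 2 < (2 : ℝ)) (g : G) :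
    ∃ a b c d : G, (a * b * a⁻¹ * b⁻¹) * (c * d * c⁻¹ * d⁻¹) = g := by
  classical
  have := Fintype.ofFinite G
  have := Fintype.ofFinite (Cfsg.IrrCharacter G)
  rw [finsum_eq_sum_of_fintype] at h
  by_contra hne
  push Not at hne
  let F : G → ℂ := fun z => ∑ χ : Cfsg.IrrCharacter G, (χ : G → ℂ) z / (χ : G → ℂ) 1
  have hN : (Nat.card G : ℂ) ≠ 0 := Nat.cast_ne_zero.mpr Nat.card_pos.ne'
  -- the convolution square of the commutator count vanishes at `g`
  have hzero : ∀ z : G, F z * F (z⁻¹ * g) = 0 := by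
    intro z
    by_contra h0
    obtain ⟨h1, h2⟩ := mul_ne_zero_iff.mp h0
    have e1 := card_commutator_eq (G := G) z
    have e2 := card_commutator_eq (G := G) (z⁻¹ * g)
    have n1 : Nat.card {p : G × G // p.1 * p.2 * p.1⁻¹ * p.2⁻¹ = z} ≠ 0 := fun e => h1 (by
      rw [e, Nat.cast_zero, eq_comm, mul_eq_zero] at e1
      exact e1.resolve_left hN)
    have n2 : Nat.card {p : G × G // p.1 * p.2 * p.1⁻¹ * p.2⁻¹ = z⁻¹ * g} ≠ 0 := fun e => h2 (by
      rw [e, Nat.cast_zero, eq_comm, mul_eq_zero] at e2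
      exact e2.resolve_left hN)
    obtain ⟨⟨⟨a, b⟩, hab⟩⟩ := (Nat.card_ne_zero.mp n1).1
    obtain ⟨⟨⟨c, d⟩, hcd⟩⟩ := (Nat.card_ne_zero.mp n2).1
    dsimp only at hab hcd
    exact hne a b c d (by rw [hab, hcd, mul_inv_cancel_left])
  have hsum : (∑ z : G, F z * F (z⁻¹ * g)) =
      (Nat.card G : ℂ) * ∑ χ : Cfsg.IrrCharacter G, (χ : G → ℂ) g / (χ : G → ℂ) 1 ^ 3 := by
    simp only [F, Finset.sum_mul, Finset.mul_sum, div_mul_div_comm]
    rw [Finset.sum_comm]
    refine Finset.sum_congr rfl fun χ _ => ?_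
    rw [Finset.sum_comm]
    simp only [← Finset.sum_div, sum_mul_mul_inv, classInner_irr, mul_ite, mul_one, mul_zero,
      ite_mul, zero_mul, ite_div, zero_div, Finset.sum_ite_eq, Finset.mem_univ, if_true]
    have := IsIrr.apply_one_ne_zero χ.2
    rw [Finset.sum_ite_eq' Finset.univ χ, if_pos (Finset.mem_univ χ)]
    field_simp
  rw [Finset.sum_eq_zero fun z _ => hzero z, eq_comm] at hsum
  replace hsum := (mul_eq_zero.mp hsum).resolve_left hN
  rw [← Finset.add_sum_erase _ _ (Finset.mem_univ (trivChar G))] at hsum h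
  simp only [trivChar_apply, one_pow, div_one, norm_one] at hsum h
  rw [add_eq_zero_iff_eq_neg'] at hsum
  have hnorm := congrArg norm hsum
  rw [norm_neg, norm_one] at hnorm
  have hbd : ∀ χ : Cfsg.IrrCharacter G,
      ‖(χ : G → ℂ) g / (χ : G → ℂ) 1 ^ 3‖ ≤ 1 / ‖(χ : G → ℂ) 1‖ ^ 2 := by
    intro χ
    have hpos : (0 : ℝ) < ‖(χ : G → ℂ) 1‖ := norm_pos_iff.mpr (IsIrr.apply_one_ne_zero χ.2)
    rw [norm_div, norm_pow, div_le_div_iff₀ (by positivity) (by positivity)]
    have := IsChar.norm_le (IsIrr.isCharacter χ.2) g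
    calc ‖(χ : G → ℂ) g‖ * ‖(χ : G → ℂ) 1‖ ^ 2 ≤ ‖(χ : G → ℂ) 1‖ * ‖(χ : G → ℂ) 1‖ ^ 2 := by
          gcongr
      _ = _ := by ring
  have := (norm_sum_le _ _).trans
    (Finset.sum_le_sum (s := Finset.univ.erase (trivChar G)) fun χ _ => hbd χ)
  rw [hnorm] at this
  linarith

end Cfsg.Agent.S4814
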