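import Cfsg.Statements.S4825
import Cfsg.Agent.Lib.Blocks.Orthogonality
import Cfsg.Agent.Lib.Blocks.Union
import Cfsg.Agent.Lib.CharAction.Galois
import Cfsg.Agent.Lib.Char.CliffordCorr

set_option autoImplicit false
open Cfsg

namespace Cfsg.Agent.S4825

/-- Let p be a prime, G a finite group with Sylow p-subgroup P, M a maximal ideal of the algebraic integers containing p, and B a p-block of G with defect group P. Let N be a normal subgroup of G not containing P and θ an irreducible character of N. Then the number of irreducible characters in B of degree prime to p lying over θ (having θ as a constituent on restriction to N) is either 0 or at least 2, and when p ≤ 3 it is divisible by p. -/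
theorem result {G : Type*} [Group G] [Fintype G] (p : ℕ) [Fact p.Prime] (P : Sylow p G) (M : Ideal Cfsg.AlgInt) (hM : Cfsg.IsPModular p M) (B : Set (Cfsg.IrrCharacter G)) (hB : Cfsg.IsPBlock M B) (hBP : Cfsg.IsDefectGroup p M B P) (N : Subgroup G) [N.Normal] [Fintype N] (hPN : ¬ (P : Subgroup G) ≤ N) (θ : Cfsg.IrrCharacter N) :
    (Nat.card {χ : Cfsg.IrrCharacter G // χ ∈ B ∧ ¬ p ∣ Cfsg.charDegree (χ : G → ℂ) ∧ Cfsg.classInner (fun n : N => (χ : G → ℂ) n) (θ : N → ℂ) ≠ 0} = 0 ∨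
      2 ≤ Nat.card {χ : Cfsg.IrrCharacter G // χ ∈ B ∧ ¬ p ∣ Cfsg.charDegree (χ : G → ℂ) ∧ Cfsg.classInner (fun n : N => (χ : G → ℂ) n) (θ : N → ℂ) ≠ 0}) ∧
    (p ≤ 3 → p ∣ Nat.card {χ : Cfsg.IrrCharacter G // χ ∈ B ∧ ¬ p ∣ Cfsg.charDegree (χ : G → ℂ) ∧ Cfsg.classInner (fun n : N => (χ : G → ℂ) n) (θ : N → ℂ) ≠ 0}) := by
  classical
  have hp : p.Prime := Fact.out
  have : M.IsPrime := hM.2.1.isPrime
  have : Fintype (Cfsg.IrrCharacter G) := Fintype.ofFinite _
  have hN : N.Normal := inferInstance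
  obtain ⟨x, hxP, hxN⟩ := SetLike.not_le_iff_exists.1 hPN
  choose a ha using fun χ : Cfsg.IrrCharacter G => CfsgLib.Char.IsChar.classInner_eq_natCast
    (CfsgLib.Char.IsChar.restrict N (CfsgLib.Char.IsIrr.isCharacter χ.2))
    (CfsgLib.Char.IsIrr.isCharacter θ.2)
  set S := Finset.univ.filter fun χ : Cfsg.IrrCharacter G =>
    χ ∈ B ∧ ¬ p ∣ Cfsg.charDegree (χ : G → ℂ) ∧ a χ ≠ 0 with hS
  have hcard : Nat.card {χ : Cfsg.IrrCharacter G // χ ∈ B ∧ ¬ p ∣ Cfsg.charDegree (χ : G → ℂ) ∧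
      Cfsg.classInner (fun n : N => (χ : G → ℂ) n) (θ : N → ℂ) ≠ 0} = S.card := by
    rw [Nat.card_eq_fintype_card, Fintype.card_subtype, hS]
    simp only [ha, Nat.cast_ne_zero]
  rw [hcard]
  let c : Cfsg.IrrCharacter G → ℕ := fun χ => if χ ∈ B then a χ else 0
  let Ψ : G → ℂ := ∑ χ, (c χ : ℂ) • (χ : G → ℂ)
  have hΨx : Ψ x = 0 := by
    have h0 : blockPart B (Cfsg.indFun N (θ : N → ℂ)) x = 0 := by
      obtain ⟨k, hk⟩ : ∃ k, orderOf x = p ^ k := by
        obtain ⟨k, hk⟩ := IsPGroup.iff_orderOf.1 P.2 ⟨x, hxP⟩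
        exact ⟨k, by rw [← hk, ← Subgroup.orderOf_coe]⟩
      have hpx : Cfsg.IsPPart p x x :=
        ⟨1, mul_one x, Commute.one_right x, ⟨k, hk⟩, by simp [hp.ne_one]⟩
      refine CfsgLib.Blocks.blockPart_eq_zero_of_section hM hB (x := x) (fun u z hu hxz => ?_)
        hpx (IsConj.refl x)
      refine CfsgLib.Clifford.indFun_eq_zero_off_normal hN _ fun huN => hxN ?_
      obtain ⟨y, rfl, hc, ⟨j, hj⟩, hy⟩ := hu
      obtain ⟨g, rfl⟩ := isConj_iff.1 hxz
      have hz : g * x * g⁻¹ ∈ N := by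
        obtain ⟨d, hd1, hd2⟩ := Nat.chineseRemainder
          ((hp.coprime_iff_not_dvd.2 hy).pow_left j) 1 0
        have : (g * x * g⁻¹ * y) ^ d = g * x * g⁻¹ := by
          rw [hc.mul_pow, (orderOf_dvd_iff_pow_eq_one).1 (Nat.modEq_zero_iff_dvd.1 hd2), mul_one]
          conv_rhs => rw [← pow_one (g * x * g⁻¹)]
          exact pow_eq_pow_iff_modEq.2 (by rw [hj]; exact hd1)
        exact this ▸ pow_mem huN d
      simpa [mul_assoc] using hN.conj_mem _ hz g⁻¹
    rw [CfsgLib.Blocks.blockPart_eq, finsum_mem_eq_finite_toFinset_sum _ (Set.toFinite B)] at h0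
    simp only [CfsgLib.Char.frobenius_reciprocity N _
      (CfsgLib.Char.IsIrr.isClassFunction (Subtype.prop _))] at h0
    have hsym : ∀ χ : Cfsg.IrrCharacter G,
        Cfsg.classInner (θ : N → ℂ) (fun n : N => (χ : G → ℂ) n) = (a χ : ℂ) := fun χ => by
      rw [← CfsgLib.Char.classInner_conj_symm, ha, map_natCast]
    simp only [hsym] at h0
    simp only [Ψ, c, Finset.sum_apply, Pi.smul_apply, smul_eq_mul, Nat.cast_ite, Nat.cast_zero,
      ite_mul, zero_mul, ← Finset.sum_filter]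
    rw [← h0]
    exact Finset.sum_congr (by ext; simp) fun _ _ => rfl
  have hdvd : p ∣ ∑ χ ∈ S, a χ * Cfsg.charDegree (χ : G → ℂ) := by
    obtain ⟨k, hk⟩ := IsPGroup.iff_orderOf.1 P.2 ⟨x, hxP⟩
    rw [← Subgroup.orderOf_coe] at hk
    have h := CfsgLib.CharAction.congMod_char_pow (p := p)
      (CfsgLib.Char.isCharacter_natCast_sum c) x k
    change CfsgLib.CharAction.CongMod p (Ψ x ^ p ^ k) (Ψ (x ^ p ^ k)) at h
    rw [hΨx, zero_pow (pow_ne_zero _ hp.ne_zero), ← hk, pow_orderOf_eq_one] at h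
    have hΨ1 : Ψ 1 = ((∑ χ, c χ * Cfsg.charDegree (χ : G → ℂ) : ℕ) : ℂ) := by
      simp only [Ψ, Finset.sum_apply, Pi.smul_apply, smul_eq_mul,
        CfsgLib.Blocks.apply_one_eq_charDegree, Nat.cast_sum, Nat.cast_mul]
    rw [hΨ1] at h
    have h' := CfsgLib.CharAction.CongMod.dvd_of_natCast hp.ne_zero h.symm
    rw [← Finset.sum_add_sum_compl S] at h'
    rw [Nat.dvd_add_left (Finset.dvd_sum fun χ hχ => ?_)] at h'
    · convert h' using 1
      refine Finset.sum_congr rfl fun χ hχ => ?_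
      simp only [hS, Finset.mem_filter] at hχ
      simp only [c, if_pos hχ.2.1]
    · simp only [hS, Finset.mem_compl, Finset.mem_filter, Finset.mem_univ, true_and, not_and,
        not_not] at hχ
      by_cases hB' : χ ∈ B
      · by_cases hd : p ∣ Cfsg.charDegree (χ : G → ℂ)
        · exact hd.mul_left _
        · simp only [c, if_pos hB', hχ hB' hd, zero_mul, dvd_zero]
      · simp only [c, if_neg hB', zero_mul, dvd_zero]
  -- Clifford
  set o := (CfsgLib.Clifford.inertia hN (θ : N → ℂ)).index with ho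
  have hdeg : ∀ χ ∈ S, Cfsg.charDegree (χ : G → ℂ) =
      a χ * o * Cfsg.charDegree (θ : N → ℂ) := fun χ hχ => by
    simp only [hS, Finset.mem_filter] at hχ
    have h := CfsgLib.Clifford.degree_eq hN θ.2 χ.2 (by rw [ha]; exact_mod_cast hχ.2.2.2)
    rw [ha, CfsgLib.Blocks.apply_one_eq_charDegree, CfsgLib.Blocks.apply_one_eq_charDegree] at h
    exact_mod_cast h
  have hnd : ∀ χ ∈ S, ¬ p ∣ Cfsg.charDegree (χ : G → ℂ) := fun χ hχ =>
    (Finset.mem_filter.1 hχ).2.2.1
  refine ⟨?_, fun hp3 => ?_⟩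
  · by_contra! h
    obtain ⟨χ, hχ⟩ : ∃ χ, S = {χ} := Finset.card_eq_one.1 (by omega)
    rw [hχ, Finset.sum_singleton] at hdvd
    have hmem : χ ∈ S := hχ ▸ Finset.mem_singleton_self χ
    rcases hp.dvd_mul.1 hdvd with h1 | h1
    · exact hnd χ hmem (hdeg χ hmem ▸ (h1.mul_right _).mul_right _)
    · exact hnd χ hmem h1
  · have hsq : p ∣ ∑ χ ∈ S, Cfsg.charDegree (χ : G → ℂ) ^ 2 := by
      rw [Finset.sum_congr rfl fun (χ : Cfsg.IrrCharacter G) hχ =>
        show Cfsg.charDegree (χ : G → ℂ) ^ 2 =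
        a χ * Cfsg.charDegree (χ : G → ℂ) * (o * Cfsg.charDegree (θ : N → ℂ)) by
          conv_lhs => rw [sq]; arg 1; rw [hdeg χ hχ]
          ring, ← Finset.sum_mul]
      exact hdvd.mul_right _
    have hone : ∀ χ ∈ S, ((Cfsg.charDegree (χ : G → ℂ) : ZMod p)) ^ 2 = 1 := fun χ hχ => by
      have h0 : (Cfsg.charDegree (χ : G → ℂ) : ZMod p) ≠ 0 := fun h =>
        hnd χ hχ ((ZMod.natCast_eq_zero_iff _ _).1 h)
      rcases (show p = 2 ∨ p = 3 by have := hp.two_le; omega) with rfl | rfl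
      · revert h0; generalize (Cfsg.charDegree (χ : G → ℂ) : ZMod 2) = z
        revert z; decide +revert
      · revert h0; generalize (Cfsg.charDegree (χ : G → ℂ) : ZMod 3) = z
        revert z; decide +revert
    rw [← ZMod.natCast_eq_zero_iff] at hsq ⊢
    rw [Nat.cast_sum, Finset.sum_congr rfl (g := fun _ => (1 : ZMod p))
      (fun χ hχ => by rw [Nat.cast_pow]; exact hone χ hχ), Finset.sum_const, nsmul_eq_mul,
      mul_one] at hsq
    exact hsq

end Cfsg.Agent.S4825
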