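import Cfsg.Statements.S4828
import Cfsg.Agent.Lib.Pairs.MaximalCriterion
import Cfsg.Agent.Lib.Fusion.SylowIn

set_option autoImplicit false
open Cfsg
open scoped CfsgLib.Pairs

namespace Cfsg.Agent.S4828

/-- Let p be a prime, M a maximal ideal of the algebraic integers containing p, and (Q, e) a Brauer pair of the finite group G (Q a p-subgroup, e a block of C_G(Q)). Then (Q, e) is a maximal Brauer pair of some block of G if and only if e contains an irreducible character θ such that θ takes the value θ(1) at every element of Z(Q) = Q ∩ C_G(Q), the p-part of θ(1) times the p-part of the order of Z(Q) equals the p-part of the order of C_G(Q) (θ has defect zero as a character of C_G(Q)/Z(Q)), and every element of N_G(Q) of p-power order that stabilizes e lies in Q·C_G(Q) (the stabilizer of e in N_G(Q) has index prime to p over Q·C_G(Q)). -/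
theorem result {G : Type*} [Group G] [Finite G] (p : ℕ) [Fact p.Prime] (M : Ideal Cfsg.AlgInt) (hM : Cfsg.IsPModular p M) (Q : Subgroup G) (e : Set (Cfsg.IrrCharacter (Subgroup.centralizer (Q : Set G)))) (he : Cfsg.IsBrauerPair p M Q e) :
    (∃ B : Set (Cfsg.IrrCharacter G), Cfsg.IsMaximalBrauerPair p M B Q e) ↔
      ∃ θ ∈ e, (∀ z : Subgroup.centralizer (Q : Set G), (z : G) ∈ Q → (θ : Subgroup.centralizer (Q : Set G) → ℂ) z = (θ : Subgroup.centralizer (Q : Set G) → ℂ) 1) ∧
        (Cfsg.charDegree (θ : Subgroup.centralizer (Q : Set G) → ℂ)).factorization p + (Nat.card ↥(Q ⊓ Subgroup.centralizer (Q : Set G))).factorization p = (Nat.card (Subgroup.centralizer (Q : Set G))).factorization p ∧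
        (∀ g : G, g ∈ Subgroup.normalizer (Q : Set G) → Cfsg.StabilizesBlock (Subgroup.centralizer (Q : Set G)) e g → (∃ k : ℕ, orderOf g = p ^ k) → g ∈ Q ⊔ Subgroup.centralizer (Q : Set G)) := by
  classical
  have := Fintype.ofFinite G
  have : M.IsPrime := hM.2.1.isPrime
  have := CfsgLib.Blocks.charP_residueField hM
  have hp : p.Prime := Fact.out
  set W : Subgroup (Subgroup.centralizer (Q : Set G)) := Q.subgroupOf (Subgroup.centralizer (Q : Set G)) with hW
  have hWp : IsPGroup p W := he.1.comap_of_injective _ (Subgroup.subtype_injective _)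
  have hWZ : W ≤ Subgroup.center (Subgroup.centralizer (Q : Set G)) := CfsgLib.Pairs.subgroupOf_le_center hM he
  have hWn : W.Normal := ⟨fun n hn g => by
    rw [Subgroup.mem_center_iff.1 (hWZ hn) g, mul_inv_cancel_right]; exact hn⟩
  have hcardW : Nat.card ↥(Q ⊓ (Subgroup.centralizer (Q : Set G))) = Nat.card W :=
    Nat.card_congr ((Subgroup.subgroupOfEquivOfLe inf_le_right).symm.toEquiv.trans
      (Equiv.subtypeEquivRight fun z => by
        simp [hW, Subgroup.mem_subgroupOf]))
  constructor
  · rintro ⟨B, hmax⟩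
    have hdef := CfsgLib.Pairs.isDefectGroup_center_of_maximal hM he hmax
    have hidx : (Subgroup.centralizer (W : Set (Subgroup.centralizer (Q : Set G)))).index = p ^ 0 := by
      rw [pow_zero, Subgroup.index_eq_one, eq_top_iff]
      exact fun x _ => Subgroup.mem_centralizer_iff.2 fun w hw =>
        (Subgroup.mem_center_iff.1 (hWZ hw) x).symm
    obtain ⟨η, hη⟩ := CfsgLib.Blocks.exists_inflate_mem hM W hWp hidx he.2
    refine ⟨_, hη, fun z hz => CfsgLib.Blocks.inflate_apply_of_mem W η (Subgroup.mem_subgroupOf.2 hz),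
      ?_, fun g hg hst hord => CfsgLib.Pairs.mem_sup_of_maximal hM he hmax hg hst hord⟩
    obtain ⟨c, hc, hcle, hcs⟩ := CfsgLib.Blocks.isDefectGroup_iff.1 hdef
    have h1 := CfsgLib.Blocks.IsDefectClass.index_le hM hc hη
    have h2 := CfsgLib.Blocks.factorization_card_eq_index_add hM
      (Subgroup.centralizer ({c} : Set (Subgroup.centralizer (Q : Set G))))
    have h3 := CfsgLib.Blocks.factorization_card_eq_index_add hM W
    have h4 := (CfsgLib.Fusion.isSylowIn_iff_card hcle).1 hcs
    have h5 : (Cfsg.charDegree (CfsgLib.Blocks.inflate W η : (Subgroup.centralizer (Q : Set G)) → ℂ)).factorization p ≤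
        W.index.factorization p := by
      refine (Nat.factorization_le_iff_dvd (CfsgLib.Blocks.charDegree_pos _).ne'
        Subgroup.index_ne_zero_of_finite).2 ?_ p
      rw [W.index_eq_card]
      have e1 : Cfsg.charDegree (CfsgLib.Blocks.inflate W η : (Subgroup.centralizer (Q : Set G)) → ℂ) =
          Cfsg.charDegree (η : (Subgroup.centralizer (Q : Set G)) ⧸ W → ℂ) := rfl
      rw [e1]
      exact CfsgLib.Blocks.charDegree_dvd_card η
    have h6 : (Nat.card W).factorization p =
        (Nat.card (Subgroup.centralizer ({c} : Set (Subgroup.centralizer (Q : Set G))))).factorization p := by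
      rw [h4, hp.factorization_pow, Finsupp.single_eq_same]
    rw [hcardW]
    omega
  · rintro ⟨θ, hθ, -, hdeg, hstab⟩
    obtain ⟨B, hB, -⟩ := CfsgLib.Pairs.existsUnique_block hM he
    refine ⟨B, hB, fun R g hRg hle => ?_⟩
    by_contra hne
    have hQR : Q ≤ R := CfsgLib.Pairs.le_of_subpairLE hle
    have hRp : IsPGroup p R := hRg.1.1
    -- the defect group of `e`
    have hθdeg : (Cfsg.charDegree (θ : (Subgroup.centralizer (Q : Set G)) → ℂ)).factorization p = W.index.factorization p := by
      have h3 := CfsgLib.Blocks.factorization_card_eq_index_add hM W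
      rw [hcardW] at hdeg
      omega
    have hdef : Cfsg.IsDefectGroup p M e W := by
      rw [CfsgLib.Blocks.IsPBlock.eq_blockOf he.2 hθ]
      exact CfsgLib.Blocks.isDefectGroup_of_central_defect hWp hWZ hθdeg hM
    set R' : Subgroup G := R ⊓ Subgroup.normalizer (Q : Set G) with hR'
    have hQR' : Q ≤ R' := le_inf hQR Subgroup.le_normalizer
    have hR'p : IsPGroup p R' := hRp.to_le inf_le_left
    obtain ⟨f', ⟨hf', hle'⟩, -⟩ :=
      CfsgLib.Pairs.existsUnique_below hM hRg.1 (inf_le_left : R' ≤ R)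
    obtain ⟨f, hf, -⟩ := CfsgLib.Pairs.existsUnique_normalSubpair hM ⟨hR'p, hf'⟩ hQR'
      (inf_le_right : R' ≤ _)
    have hrel : Cfsg.NormalSubpairRel p M ⟨Q, f⟩ ⟨R', f'⟩ := hf
    have hfe : f = e := (CfsgLib.Pairs.existsUnique_below hM hRg.1 hQR).unique
      ⟨hf.1.2, Relation.ReflTransGen.head hrel hle'⟩ ⟨he.2, hle⟩
    subst hfe
    obtain ⟨-, -, -, -, hst, hval⟩ := CfsgLib.Pairs.isNormalSubpair_iff.1 hf
    obtain ⟨ξ, hξ⟩ := CfsgLib.Blocks.IsPBlock.nonempty hf'
    have hv := hval ξ hξ
    obtain ⟨c, hc⟩ : ∃ c : Subgroup.centralizer (R' : Set G),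
        (CfsgLib.Pairs.resC R' (CfsgLib.Pairs.subIdem M (Subgroup.centralizer (Q : Set G)) f)).coeff c ≠ 0 := by
      by_contra h
      push Not at h
      have h0 : CfsgLib.Pairs.resC R' (CfsgLib.Pairs.subIdem M (Subgroup.centralizer (Q : Set G)) f) = 0 :=
        MonoidAlgebra.ext (Finsupp.ext h)
      rw [CfsgLib.Pairs.pairVal, h0, CfsgLib.Blocks.omegaBar_zero] at hv
      exact zero_ne_one hv
    have hcC : (c : G) ∈ (Subgroup.centralizer (Q : Set G)) := CfsgLib.Pairs.centralizer_le_of_le hQR' c.2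
    rw [CfsgLib.Pairs.coeff_resC, CfsgLib.Pairs.subIdem,
      CfsgLib.Pairs.coeff_inclElt (Subgroup.centralizer (Q : Set G)) _ ⟨(c : G), hcC⟩] at hc
    have hdl := CfsgLib.Blocks.IsDefectGroup.defLE_of_coeff_ne_zero hM he.2 hdef hc
    have hinf : ∀ r : G, r ∈ R' → r ∈ (Subgroup.centralizer (Q : Set G)) → r ∈ Q := by
      intro r hr hrC
      obtain ⟨x, hx⟩ := hdl (R'.subgroupOf (Subgroup.centralizer (Q : Set G)))
        (hR'p.comap_of_injective _ (Subgroup.subtype_injective _)) (fun y hy =>
          CfsgLib.Blocks.mem_centralizer_singleton.2 (Subtype.ext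
            (Subgroup.mem_centralizer_iff.1 c.2 _ (Subgroup.mem_subgroupOf.1 hy))))
      have h := hx ⟨r, hrC⟩ (Subgroup.mem_subgroupOf.2 hr)
      have h2 := hWn.conj_mem _ h x⁻¹
      rw [inv_inv, show x⁻¹ * (x * ⟨r, hrC⟩ * x⁻¹) * x = (⟨r, hrC⟩ : (Subgroup.centralizer (Q : Set G))) by group] at h2
      exact Subgroup.mem_subgroupOf.1 h2
    have hR'Q : R' ≤ Q := by
      intro x hx
      obtain ⟨k, hk⟩ := IsPGroup.iff_orderOf.1 hR'p ⟨x, hx⟩
      rw [Subgroup.orderOf_mk] at hk
      have hmem := hstab x hx.2 (hst x hx) ⟨k, hk⟩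
      rw [← SetLike.mem_coe, Subgroup.coe_mul_of_left_le_normalizer_right _ _
        (Subgroup.le_normalizer.trans (CfsgLib.Pairs.normalizer_le_normalizer_centralizer Q))] at hmem
      obtain ⟨q, hq, h, hh, rfl⟩ := Set.mem_mul.1 hmem
      exact mul_mem hq (hinf h (by simpa using mul_mem (inv_mem (hQR' hq)) hx) hh)
    -- normalizers grow in `p`-groups
    have := hRp.isNilpotent
    have hlt : Q.subgroupOf R < ⊤ := by
      rw [lt_top_iff_ne_top, Ne, Subgroup.subgroupOf_eq_top]
      exact fun h => hne (le_antisymm h hQR)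
    obtain ⟨x, hxn, hxQ⟩ :=
      Set.exists_of_ssubset (Group.normalizerCondition_of_isNilpotent _ hlt)
    refine hxQ (Subgroup.mem_subgroupOf.2 (hR'Q ⟨x.2, Subgroup.mem_normalizer_iff.2 fun h => ?_⟩))
    constructor
    · intro hh
      exact Subgroup.mem_subgroupOf.1
        ((Subgroup.mem_normalizer_iff.1 hxn ⟨h, hQR hh⟩).1 (Subgroup.mem_subgroupOf.2 hh))
    · intro hh
      have hmemR : h ∈ R := by
        have := R.mul_mem (R.mul_mem (R.inv_mem x.2) (hQR hh)) x.2
        simpa [mul_assoc] using this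
      exact Subgroup.mem_subgroupOf.1
        ((Subgroup.mem_normalizer_iff.1 hxn ⟨h, hmemR⟩).2 (Subgroup.mem_subgroupOf.2 hh))

end Cfsg.Agent.S4828
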