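import Cfsg.Statements.S4837
import Cfsg.Agent.Lib.CharDegree.TwoClass

set_option autoImplicit false
open Cfsg CfsgLib.Char CfsgLib.CharDegree
open CfsgLib.CharDegree.TwoClass (support)
open scoped ComplexConjugate

namespace Cfsg.Agent.S4837

/-- Let G be a finite group of order greater than 2 with an irreducible character χ nonzero on exactly two conjugacy classes, and let N be the set of elements where χ is nonzero, given as a nontrivial normal p-subgroup of G for the prime p. Then for every nonidentity x in N the centralizer C_G(x) is a Sylow p-subgroup of G, and for every irreducible character λ ≠ 1 of N the stabilizer of λ in G (its inertia group) is a Sylow p-subgroup of G. -/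
theorem result {G : Type*} [Group G] [Finite G] (hG : 2 < Nat.card G) (χ : Cfsg.IrrCharacter G) (hχ : Nat.card {C : ConjClasses G // ∃ g ∈ C.carrier, (χ : G → ℂ) g ≠ 0} = 2) (p : ℕ) [Fact p.Prime] (N : Subgroup G) [N.Normal] (hN : ∀ g : G, g ∈ N ↔ (χ : G → ℂ) g ≠ 0) (hNp : IsPGroup p N) (hN1 : N ≠ ⊥) :
    (∀ x ∈ N, x ≠ 1 → ∃ P : Sylow p G, Subgroup.centralizer ({x} : Set G) = P) ∧
      (∀ μ : Cfsg.IrrCharacter N, (μ : N → ℂ) ≠ (fun _ => (1 : ℂ)) → ∃ P : Sylow p G, ∀ g : G, g ∈ (P : Subgroup G) ↔ ∀ n n' : N, (n' : G) = g * n * g⁻¹ → (μ : N → ℂ) n' = (μ : N → ℂ) n) := by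
  classical
  have hNs := TwoClass.eq_support hG χ hχ hN
  subst hNs
  refine ⟨fun x hx hx1 => ?_, fun μ hμ => ?_⟩
  · obtain ⟨h1, h2⟩ := TwoClass.centralizer_conditions hG χ hχ hNp hx hx1
    exact ⟨h1.toSylow h2, (IsPGroup.toSylow_coe h1 h2).symm⟩
  obtain ⟨-, -, hcomm, -⟩ := TwoClass.exists_prime_elementary hG χ hχ
  have hab : ∀ a b : support χ, a * b = b * a := fun a b => hcomm.is_comm.comm a b
  have hμ1 : (μ : support χ → ℂ) 1 = 1 :=
    (charDegree_eq_one_iff μ).mp (charDegree_of_comm hab μ)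
  -- conjugation action on the characters of the support
  let c : G → support χ →* support χ := fun g => (MulAut.conjNormal g).toMonoidHom
  let act : G → Cfsg.IrrCharacter (support χ) → Cfsg.IrrCharacter (support χ) := fun g ν =>
    ⟨fun n => (ν : support χ → ℂ) (c g⁻¹ n),
      IsIrr.comp_surjective (c g⁻¹) (MulAut.conjNormal g⁻¹).surjective ν.2⟩
  let _ : MulAction G (Cfsg.IrrCharacter (support χ)) :=
    { smul := act
      one_smul := fun ν => irr_ext fun n => by
        show (ν : support χ → ℂ) (c (1 : G)⁻¹ n) = _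
        simp [c]
      mul_smul := fun g h ν => irr_ext fun n => by
        show (ν : support χ → ℂ) (c (g * h)⁻¹ n) = (ν : support χ → ℂ) (c h⁻¹ (c g⁻¹ n))
        simp [c, MulEquiv.coe_toMonoidHom, map_mul] }
  have hsmul : ∀ (g : G) (ν : Cfsg.IrrCharacter (support χ)) (n : support χ),
      ((g • ν : Cfsg.IrrCharacter (support χ)) : support χ → ℂ) n =
        (ν : support χ → ℂ) (MulAut.conjNormal g⁻¹ n) := fun g ν n => rfl
  have hstab : ∀ g : G, g ∈ MulAction.stabilizer G μ ↔
      ∀ n n' : support χ, (n' : G) = g * n * g⁻¹ →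
        (μ : support χ → ℂ) n' = (μ : support χ → ℂ) n := by
    intro g
    rw [MulAction.mem_stabilizer_iff]
    constructor
    · intro h n n' hn'
      have := congrFun (congrArg Subtype.val h) n'
      rw [hsmul] at this
      rw [← this]
      exact congrArg _ (Subtype.ext (by rw [MulAut.conjNormal_apply, hn']; group))
    · intro h
      refine irr_ext fun n => ?_
      rw [hsmul]
      exact (h _ n (by rw [MulAut.conjNormal_apply]; group)).symm
  -- the orbit consists of all nontrivial characters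
  have := Fintype.ofFinite (support χ)
  have := Fintype.ofFinite (MulAction.orbit G μ)
  let O := MulAction.orbit G μ
  let f : support χ → ℂ := fun n => ∑ ν : O, ((ν : Cfsg.IrrCharacter (support χ)) : support χ → ℂ) n
  have hν1 : ∀ ν : O, ((ν : Cfsg.IrrCharacter (support χ)) : support χ → ℂ) 1 = 1 := fun ν => by
    obtain ⟨g, hg⟩ := ν.2
    rw [← hg, hsmul, map_one, hμ1]
  have hνne : ∀ ν : O, (ν : Cfsg.IrrCharacter (support χ)) ≠ trivChar (support χ) := fun ν h => by
    obtain ⟨g, hg⟩ := ν.2
    refine hμ (funext fun n => ?_)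
    have := congrFun (congrArg Subtype.val (hg.trans h)) (MulAut.conjNormal g n)
    simpa [hsmul] using this
  let k : support χ := ⟨TwoClass.rep χ hχ, TwoClass.rep_mem_support hG χ hχ⟩
  have hfk : ∀ n : support χ, n ≠ 1 → f n = f k := by
    intro n hn
    have hk1 : (k : G) ≠ 1 := TwoClass.rep_ne_one χ hχ
    obtain ⟨g, hg⟩ := isConj_iff.mp (TwoClass.isConj_of_mem_support hG χ hχ k.2 n.2 hk1
      (fun h => hn (Subtype.ext h)))
    have hn' : n = MulAut.conjNormal g k :=
      Subtype.ext (by rw [MulAut.conjNormal_apply, hg])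
    rw [hn']
    refine Fintype.sum_equiv (MulAction.toPerm g⁻¹ : Equiv.Perm O) _ _ fun ν => ?_
    show _ = ((g⁻¹ • (ν : Cfsg.IrrCharacter (support χ)) : Cfsg.IrrCharacter (support χ)) :
      support χ → ℂ) k
    rw [hsmul, inv_inv]
  have hsum : ∀ F : support χ → ℂ, (∀ n, n ≠ 1 → F n = F k) →
      ∑ n, F n = F 1 + ((Nat.card (support χ) - 1 : ℕ) : ℂ) * F k := by
    intro F hF
    rw [← Finset.add_sum_erase _ _ (Finset.mem_univ (1 : support χ)),
      Finset.sum_congr rfl fun n hn => hF n (Finset.mem_erase.mp hn).1, Finset.sum_const,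
      nsmul_eq_mul, Finset.card_erase_of_mem (Finset.mem_univ _), Finset.card_univ,
      Nat.card_eq_fintype_card]
  have h0 : ∑ n, f n = 0 := by
    rw [Finset.sum_comm]
    refine Finset.sum_eq_zero fun ν _ => ?_
    have h := classInner_irr_of_ne (hνne ν)
    simpa [Cfsg.classInner, trivChar_apply, Nat.card_pos.ne'] using h
  have h2 : ∑ n, f n * conj (f n) = (Nat.card (support χ) : ℂ) * (Fintype.card O : ℂ) := by
    simp only [f, map_sum, Finset.sum_mul, Finset.mul_sum]
    rw [Finset.sum_comm, Finset.sum_congr rfl fun ν _ => Finset.sum_comm]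
    have : ∀ ν ν' : O, ∑ n, ((ν : Cfsg.IrrCharacter (support χ)) : support χ → ℂ) n *
        conj (((ν' : Cfsg.IrrCharacter (support χ)) : support χ → ℂ) n) =
        if ν = ν' then (Nat.card (support χ) : ℂ) else 0 := by
      intro ν ν'
      have h := classInner_irr (ν : Cfsg.IrrCharacter (support χ)) ν'
      rw [Cfsg.classInner, inv_mul_eq_iff_eq_mul₀ (Nat.cast_ne_zero.mpr Nat.card_pos.ne'),
        mul_ite, mul_one, mul_zero] at h
      simpa [Subtype.ext_iff] using h
    simp [this, mul_comm]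
  rw [hsum f hfk] at h0
  rw [hsum (fun n => f n * conj (f n)) (fun n hn => by simp only [hfk n hn])] at h2
  have hq := TwoClass.card_support hG χ hχ
  set m := (Subgroup.centralizer ({TwoClass.rep χ hχ} : Set G)).index with hm
  have hf1 : f 1 = (Fintype.card O : ℂ) := by simp [f, hν1]
  rw [hf1, hq, Nat.add_sub_cancel] at h0 h2
  rw [map_natCast, Nat.cast_add, Nat.cast_one] at h2
  have h0' := congrArg (starRingEnd ℂ) h0
  rw [map_add, map_mul, map_natCast, map_natCast, map_zero] at h0'
  have hO : Fintype.card O = m := by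
    have hne : (Fintype.card O : ℂ) ≠ 0 :=
      Nat.cast_ne_zero.mpr (Fintype.card_pos_iff.mpr ⟨⟨μ, MulAction.mem_orbit_self μ⟩⟩).ne'
    have hm0 : ((m : ℂ) + 1) ≠ 0 := by exact_mod_cast Nat.succ_ne_zero m
    have : (Fintype.card O : ℂ) * ((m : ℂ) + 1) * ((Fintype.card O : ℂ) - m) = 0 := by
      linear_combination (m : ℂ) * h2 -
        (m : ℂ) * conj (f k) * h0 + (Fintype.card O : ℂ) * h0'
    exact_mod_cast sub_eq_zero.mp ((mul_eq_zero.mp this).resolve_left (mul_ne_zero hne hm0))
  have hidx : (MulAction.stabilizer G μ).index = m := by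
    rw [MulAction.index_stabilizer, ← Nat.card_coe_set_eq, ← hO, Nat.card_eq_fintype_card]
  obtain ⟨hC, hCi⟩ := TwoClass.centralizer_conditions hG χ hχ hNp
    (TwoClass.rep_mem_support hG χ hχ) (TwoClass.rep_ne_one χ hχ)
  obtain ⟨j, hj⟩ := IsPGroup.iff_card.mp hC
  have hcard : Nat.card (MulAction.stabilizer G μ) = p ^ j := by
    refine Nat.eq_of_mul_eq_mul_right (Nat.pos_of_ne_zero
      (Subgroup.index_ne_zero_of_finite (H := MulAction.stabilizer G μ))) ?_
    rw [Subgroup.card_mul_index, hidx, ← hj, hm, Subgroup.card_mul_index]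
  exact ⟨(IsPGroup.of_card hcard).toSylow (hidx ▸ hCi), fun g => hstab g⟩

end Cfsg.Agent.S4837
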