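import Cfsg.Statements.S4838
import Cfsg.Agent.Lib.CharDegree.TwoClass

set_option autoImplicit false
open Cfsg CfsgLib.Char CfsgLib.CharDegree
open CfsgLib.CharDegree.TwoClass (support)
open scoped ComplexConjugate

namespace Cfsg.Agent.S4838

/-- Let G be a finite group of order greater than 2 with an irreducible character χ nonzero on exactly two conjugacy classes, N the normal p-subgroup of elements where χ is nonzero, and P a Sylow p-subgroup of G. Then (a) for every x outside N the centralizer of x in G has the same order as the centralizer of xN in G/N; (b) the centre of P lies in N, and equals N exactly when P is normal in G; (c) N, viewed inside P, is a term of the upper central series of P. -/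
theorem result {G : Type*} [Group G] [Finite G] (hG : 2 < Nat.card G) (χ : Cfsg.IrrCharacter G) (hχ : Nat.card {C : ConjClasses G // ∃ g ∈ C.carrier, (χ : G → ℂ) g ≠ 0} = 2) (p : ℕ) [Fact p.Prime] (N : Subgroup G) [N.Normal] (hN : ∀ g : G, g ∈ N ↔ (χ : G → ℂ) g ≠ 0) (hNp : IsPGroup p N) (hN1 : N ≠ ⊥) (P : Sylow p G) :
    (∀ x : G, x ∉ N → Nat.card (Subgroup.centralizer ({x} : Set G)) = Nat.card (Subgroup.centralizer ({(x : G ⧸ N)} : Set (G ⧸ N)))) ∧
      ((Subgroup.center ↥(P : Subgroup G)).map (P : Subgroup G).subtype ≤ N ∧
        ((Subgroup.center ↥(P : Subgroup G)).map (P : Subgroup G).subtype = N ↔ (P : Subgroup G).Normal)) ∧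
      (∃ i : ℕ, Subgroup.upperCentralSeries ↥(P : Subgroup G) i = N.subgroupOf (P : Subgroup G)) := by
  classical
  have hNs := TwoClass.eq_support hG χ hχ hN
  subst hNs
  have hpp := Fact.out (p := p.Prime)
  have hsupP : support χ ≤ P := hNp.le_sylow_of_normal P
  have hcent : ∀ x : G, x ∉ support χ →
      Nat.card (Subgroup.centralizer ({x} : Set G)) =
        Nat.card (Subgroup.centralizer ({(x : G ⧸ support χ)} : Set (G ⧸ support χ))) :=
    fun x hx => TwoClass.card_centralizer_eq hG χ hχ hx
  obtain ⟨n, hn⟩ := IsPGroup.iff_card.mp hNp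
  obtain ⟨a, ha⟩ := IsPGroup.iff_card.mp P.isPGroup'
  -- outside the support, centralizers in the Sylow subgroup are small
  have hsmall : ∀ x : ↥(P : Subgroup G), (x : G) ∉ support χ →
      Nat.card (support χ) ≤ (Subgroup.centralizer ({x} : Set ↥(P : Subgroup G))).index := by
    intro x hx
    have h1 : Nat.card (Subgroup.centralizer ({x} : Set ↥(P : Subgroup G))) ∣
        (support χ).index := by
      refine dvd_trans ?_ ((hcent x hx).symm ▸ (Subgroup.index_eq_card (support χ)).symm ▸
        Subgroup.card_subgroup_dvd_card _)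
      rw [← Subgroup.card_map_of_injective (f := (P : Subgroup G).subtype)
        Subtype.val_injective]
      refine Subgroup.card_dvd_of_le ?_
      rintro _ ⟨y, hy, rfl⟩
      rw [Subgroup.mem_centralizer_singleton_iff]
      exact congrArg Subtype.val (Subgroup.mem_centralizer_singleton_iff.mp hy)
    obtain ⟨b, hb, hbc⟩ := (Nat.dvd_prime_pow hpp).mp
      (ha ▸ Subgroup.card_subgroup_dvd_card
        (Subgroup.centralizer ({x} : Set ↥(P : Subgroup G))))
    have h2 : p ^ (n + b) ∣ Nat.card G := by
      rw [pow_add, ← hn, ← hbc, ← (support χ).card_mul_index]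
      exact mul_dvd_mul_left _ h1
    have h3 : n + b ≤ a := by
      rw [Nat.Prime.pow_dvd_iff_le_factorization hpp Nat.card_pos.ne'] at h2
      have := P.card_eq_multiplicity
      rw [ha] at this
      exact (Nat.pow_right_injective hpp.two_le this).symm ▸ h2
    have h4 := Subgroup.card_mul_index (Subgroup.centralizer ({x} : Set ↥(P : Subgroup G)))
    rw [hbc, ha] at h4
    rw [hn]
    refine Nat.le_of_mul_le_mul_left ?_ (pow_pos hpp.pos b)
    rw [h4, ← pow_add]
    exact Nat.pow_le_pow_right hpp.pos (by omega)
  have hq2 : 1 < Nat.card (support χ) :=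
    (Subgroup.one_lt_card_iff_ne_bot _).mpr hN1
  -- the centre lies in the support
  have hZle : (Subgroup.center ↥(P : Subgroup G)).map (P : Subgroup G).subtype ≤ support χ := by
    rintro _ ⟨z, hz, rfl⟩
    by_contra hzN
    have h := hsmall z hzN
    rw [show Subgroup.centralizer ({z} : Set ↥(P : Subgroup G)) = ⊤ from
      (Subgroup.eq_top_iff' _).mpr fun y =>
        Subgroup.mem_centralizer_singleton_iff.mpr (Subgroup.mem_center_iff.mp hz y),
      Subgroup.index_top] at h
    omega
  refine ⟨hcent, ⟨hZle, ?_, ?_⟩, ?_⟩
  · intro hZ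
    obtain ⟨hC, hCi⟩ := TwoClass.centralizer_conditions hG χ hχ hNp
      (TwoClass.rep_mem_support hG χ hχ) (TwoClass.rep_ne_one χ hχ)
    -- `P` is the centralizer of every nontrivial element of the support
    have hPC : ∀ x ∈ support χ, x ≠ 1 →
        Subgroup.centralizer ({x} : Set G) = (P : Subgroup G) := by
      intro x hx hx1
      obtain ⟨hC, -⟩ := TwoClass.centralizer_conditions hG χ hχ hNp hx hx1
      refine P.is_maximal' hC fun y hy => ?_
      rw [← hZ] at hx
      obtain ⟨z, hz, rfl⟩ := hx
      exact Subgroup.mem_centralizer_singleton_iff.mpr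
        (congrArg Subtype.val (Subgroup.mem_center_iff.mp hz ⟨y, hy⟩))
    refine ⟨fun y hy g => ?_⟩
    have hk := TwoClass.rep_mem_support hG χ hχ
    have hk1 := TwoClass.rep_ne_one χ hχ
    have hgk : g * TwoClass.rep χ hχ * g⁻¹ ∈ support χ := by
      exact (TwoClass.support_normal χ).conj_mem _ hk g
    rw [← hPC _ hgk (by simpa using hk1)]
    rw [← hPC _ hk hk1] at hy
    rw [Subgroup.mem_centralizer_singleton_iff] at hy ⊢
    rw [conj_mul, conj_mul, hy]
  · intro hPn
    refine le_antisymm hZle (TwoClass.support_le hG χ hχ inferInstance ?_)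
    have : Nontrivial ↥(P : Subgroup G) := (Subgroup.nontrivial_iff_ne_bot _).mpr fun h =>
      hN1 (le_bot_iff.mp (h ▸ hsupP))
    intro h
    have hZ := P.isPGroup'.center_nontrivial
    rw [← Subgroup.map_bot (P : Subgroup G).subtype] at h
    exact (Subgroup.nontrivial_iff_ne_bot _).mp hZ
      (Subgroup.map_injective Subtype.val_injective h)
  · have hnil := P.isPGroup'.isNilpotent
    let N' := (support χ).subgroupOf (P : Subgroup G)
    have key : ∀ j, (∀ i < j, ¬ N' ≤ Subgroup.upperCentralSeries ↥(P : Subgroup G) i) →
        Subgroup.upperCentralSeries ↥(P : Subgroup G) j ≤ N' := by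
      intro j
      induction j with
      | zero => intro; simp
      | succ j ih =>
          intro hlt
          have h := ih fun i hi => hlt i (hi.trans (Nat.lt_succ_self j))
          have hN' := hlt j (Nat.lt_succ_self j)
          intro x hx
          by_contra hxN
          rw [Subgroup.mem_upperCentralSeries_succ_iff] at hx
          let F : ↥(P : Subgroup G) ⧸ Subgroup.centralizer ({x} : Set ↥(P : Subgroup G)) →
              Subgroup.upperCentralSeries ↥(P : Subgroup G) j :=
            Quotient.lift (fun y => ⟨x * y * x⁻¹ * y⁻¹, hx y⟩) (by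
              intro y y' hyy'
              have h' : y⁻¹ * y' ∈ Subgroup.centralizer ({x} : Set ↥(P : Subgroup G)) :=
                QuotientGroup.leftRel_apply.mp hyy'
              rw [Subgroup.mem_centralizer_singleton_iff] at h'
              apply Subtype.ext
              show x * y * x⁻¹ * y⁻¹ = x * y' * x⁻¹ * y'⁻¹
              have : x * y' * x⁻¹ * y'⁻¹ = x * y * ((y⁻¹ * y') * x⁻¹) * y'⁻¹ := by group
              rw [this, show (y⁻¹ * y') * x⁻¹ = x⁻¹ * (y⁻¹ * y') from
                (Commute.inv_right h').eq]
              group)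
          have hinj : Function.Injective F := by
            intro a b
            induction a using Quotient.inductionOn with
            | h y =>
            induction b using Quotient.inductionOn with
            | h y' =>
            intro hab
            have hab' : x * y * x⁻¹ * y⁻¹ = x * y' * x⁻¹ * y'⁻¹ := congrArg Subtype.val hab
            refine Quotient.sound (QuotientGroup.leftRel_apply.mpr ?_)
            rw [Subgroup.mem_centralizer_singleton_iff]
            have h5 : y * x⁻¹ * y⁻¹ = y' * x⁻¹ * y'⁻¹ := by
              apply mul_left_cancel (a := x)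
              simpa [mul_assoc] using hab'
            have h6 := congrArg (fun t => y⁻¹ * t⁻¹ * y') h5
            simp only [mul_inv_rev, inv_inv] at h6
            calc y⁻¹ * y' * x = y⁻¹ * (y' * (x * y'⁻¹)) * y' := by group
              _ = y⁻¹ * (y * (x * y⁻¹)) * y' := by rw [← h6]
              _ = x * (y⁻¹ * y') := by group
          have h7 := Nat.card_le_card_of_injective F hinj
          rw [← Subgroup.index_eq_card] at h7
          have h8 := (hsmall x hxN).trans h7
          rw [← Nat.card_congr (Subgroup.subgroupOfEquivOfLe hsupP).toEquiv] at h8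
          exact hN' (le_of_eq (Subgroup.eq_of_le_of_card_ge h h8).symm)
    obtain ⟨N0, hN0⟩ := Group.IsNilpotent.nilpotent ↥(P : Subgroup G)
    have hex : ∃ j, N' ≤ Subgroup.upperCentralSeries ↥(P : Subgroup G) j :=
      ⟨N0, hN0 ▸ le_top⟩
    refine ⟨Nat.find hex, le_antisymm ?_ (Nat.find_spec hex)⟩
    exact key _ fun i hi => Nat.find_min hex hi

end Cfsg.Agent.S4838
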