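import Cfsg.Statements.S4839
import Cfsg.Agent.Lib.CharDegree.TwoClass
import Cfsg.Agent.Lib.Core.Cores
import Cfsg.Agent.Lib.LocalEvenB.BaerSuzuki
import Cfsg.Agent.Lib.Char.Frobenius
import Mathlib.GroupTheory.SchurZassenhaus
-- import your own Cfsg.Agent.* helpers here

set_option autoImplicit false
open Cfsg

namespace Cfsg.Agent.S4839

open CfsgLib.CharDegree CfsgLib.Char
open CfsgLib.CharDegree.TwoClass (support support_normal)
open scoped Pointwise

variable {G : Type*} [Group G] [Finite G] {χ : Cfsg.IrrCharacter G} {p : ℕ} [Fact p.Prime]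

/-- All elements of a coset of the support are conjugate. -/
theorem isConj_mul_of_mem (hG : 2 < Nat.card G)
    (hχ : Nat.card {C : ConjClasses G // ∃ g ∈ C.carrier, (χ : G → ℂ) g ≠ 0} = 2)
    {g n : G} (hg : g ∉ support χ) (hn : n ∈ support χ) : IsConj g (g * n) := by
  have := support_normal χ
  have := Fintype.ofFinite G
  have := Fintype.ofFinite (G ⧸ support χ)
  have h0 : ∀ {x : G}, x ∉ support χ → (χ : G → ℂ) x = 0 := fun {x} hx => by
    by_contra h
    exact hx ((TwoClass.mem_support hG χ hχ).mpr h)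
  refine isConj_of_forall_eq fun ψ => ?_
  by_cases hψ : ψ = χ
  · rw [hψ, h0 hg, h0 fun h => hg ((Subgroup.mul_mem_cancel_right _ hn).mp h)]
  · obtain ⟨η, rfl⟩ := exists_infl (support χ) ψ fun x hx =>
      (TwoClass.ne_zero_iff_forall hG χ hχ).mp ((TwoClass.mem_support hG χ hχ).mp hx) ψ hψ
    simp only [infl_apply]
    rw [QuotientGroup.mk_mul, (QuotientGroup.eq_one_iff n).mpr hn, mul_one]

section

variable {N : Subgroup G} [N.Normal] (hab : ∀ a ∈ N, ∀ b ∈ N, a * b = b * a)
  (hcen : Subgroup.centralizer (N : Set G) ≤ N)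
  (hconj : ∀ g ∉ N, ∀ n ∈ N, IsConj g (g * n))
  (hpel : ∀ x ∈ N, x ≠ 1 → IsPGroup p (Subgroup.centralizer ({x} : Set G)))

include hab hcen hconj hpel in
theorem even_case (hexp : ∀ x ∈ N, x * x = 1) (hp : p = 2) (hN : N = Cfsg.pCore p G) {g : G}
    (hg : g ∉ N) (hg2 : g * g ∈ N) : False := by
  subst hp
  have hmk : (g : G ⧸ N) * g = 1 := by rw [← QuotientGroup.mk_mul, QuotientGroup.eq_one_iff]; exact hg2
  have hcore : Cfsg.pCore 2 (G ⧸ N) = ⊥ := by subst hN; exact CfsgLib.Core.pCore_quotient_pCore 2 G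
  obtain ⟨r, hr1, hrodd, hrinv⟩ := CfsgLib.LocalEvenB.exists_odd_inverted hmk (by
    rw [hcore, Subgroup.mem_bot, QuotientGroup.eq_one_iff]; exact hg)
  obtain ⟨z, rfl⟩ := QuotientGroup.mk_surjective r
  set g' := z * g * z⁻¹ with hg'
  have hfix : ∀ v ∈ N, g * v = v * g → g' * v = v * g' → v = 1 := by
    intro v hv h1 h2
    by_contra hv1
    have hy : g' * g ∈ Subgroup.centralizer ({v} : Set G) := Subgroup.mem_centralizer_singleton_iff.mpr (by
      rw [mul_assoc, h1, ← mul_assoc, h2, mul_assoc])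
    obtain ⟨k, hk⟩ := hpel v hv hv1 ⟨_, hy⟩
    have hk' : (g' * g) ^ 2 ^ k = 1 := congrArg Subtype.val hk
    have he : ((g' * g : G) : G ⧸ N) = (z : G ⧸ N) ^ 2 := by
      simp only [hg', QuotientGroup.mk_mul, QuotientGroup.mk_inv]
      have hi : (g : G ⧸ N)⁻¹ = g := inv_eq_of_mul_eq_one_right hmk
      have h3 := congrArg (fun w => w⁻¹) hrinv
      simp only [mul_inv_rev, inv_inv, hi] at h3
      calc (z : G ⧸ N) * g * (z : G ⧸ N)⁻¹ * g = z * ((g : G ⧸ N) * ((z : G ⧸ N)⁻¹ * g)) := by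
            group
        _ = _ := by rw [h3, pow_two]
    have hz2 : (z : G ⧸ N) ^ 2 ^ (k + 1) = 1 := by
      rw [pow_succ', pow_mul, ← he, ← QuotientGroup.mk_pow, hk', QuotientGroup.mk_one]
    obtain ⟨i, -, hi⟩ := (Nat.dvd_prime_pow Nat.prime_two).mp (orderOf_dvd_of_pow_eq_one hz2)
    rw [hi] at hrodd
    rcases i with _ | i
    · exact hr1 (orderOf_eq_one_iff.mp (by rw [hi, pow_zero]))
    · exact Nat.not_even_iff_odd.mpr hrodd (by simp [pow_succ])
  let f : N →* N :=
    { toFun := fun v => ⟨v * (g * (v : G)⁻¹ * g⁻¹), mul_mem v.2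
        (Subgroup.Normal.conj_mem inferInstance _ (inv_mem v.2) g)⟩
      map_one' := Subtype.ext (by simp)
      map_mul' := fun a b => Subtype.ext (by
        have e1 := hab _ b.2 _ (Subgroup.Normal.conj_mem inferInstance _ (inv_mem a.2) g)
        have e2 := hab _ (Subgroup.Normal.conj_mem inferInstance _ (inv_mem a.2) g) _
          (Subgroup.Normal.conj_mem inferInstance _ (inv_mem b.2) g)
        simp only [Subgroup.coe_mul, mul_inv_rev]
        calc (a : G) * b * (g * ((b : G)⁻¹ * (a : G)⁻¹) * g⁻¹)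
            = a * b * ((g * (b : G)⁻¹ * g⁻¹) * (g * (a : G)⁻¹ * g⁻¹)) := by group
          _ = a * (b * (g * (a : G)⁻¹ * g⁻¹)) * (g * (b : G)⁻¹ * g⁻¹) := by rw [← e2]; group
          _ = _ := by rw [e1]; group) }
  have hsq : ∀ v : N, g * g * v * (g * g)⁻¹ = (v : G) := fun v => by
    rw [hab _ hg2 _ v.2, mul_inv_cancel_right]
  have hker : ∀ v : N, v ∈ f.ker ↔ g * v = v * g := fun v => by
    rw [MonoidHom.mem_ker, Subtype.ext_iff, Subgroup.coe_one]
    show (v : G) * (g * (v : G)⁻¹ * g⁻¹) = 1 ↔ _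
    rw [mul_eq_one_iff_eq_inv]
    constructor
    · intro h
      calc g * v = (g * (v : G)⁻¹ * g⁻¹)⁻¹ * g := by group
        _ = _ := by rw [← h]
    · intro h
      calc (v : G) = v * g * g⁻¹ := by group
        _ = _ := by rw [← h]; group
  have hle : f.range ≤ f.ker := by
    rintro _ ⟨v, rfl⟩
    rw [hker]
    show g * ((v : G) * (g * (v : G)⁻¹ * g⁻¹)) = (v : G) * (g * (v : G)⁻¹ * g⁻¹) * g
    have e : g * ((v : G) * (g * (v : G)⁻¹ * g⁻¹)) * g⁻¹ = (v : G) * (g * (v : G)⁻¹ * g⁻¹) := by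
      calc g * ((v : G) * (g * (v : G)⁻¹ * g⁻¹)) * g⁻¹
          = (g * v * g⁻¹) * (g * g * v * (g * g)⁻¹)⁻¹ := by group
        _ = (g * (v : G)⁻¹ * g⁻¹) * v := by
            rw [hsq, inv_eq_of_mul_eq_one_right (hexp _ v.2)]
        _ = _ := (hab _ v.2 _ (Subgroup.Normal.conj_mem inferInstance _ (inv_mem v.2) g)).symm
    exact mul_inv_eq_iff_eq_mul.mp e
  have hsqle : Nat.card f.ker * Nat.card f.ker ≤ Nat.card N := by
    rw [← Nat.card_prod]
    refine Nat.card_le_card_of_injective (fun w : f.ker × f.ker =>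
      (w.1 : N) * ⟨z * ((w.2 : N) : G) * z⁻¹, Subgroup.Normal.conj_mem inferInstance _ (w.2 : N).2 z⟩) ?_
    rintro ⟨a, b⟩ ⟨a', b'⟩ e
    have e' : ((a : N) : G) * (z * ((b : N) : G) * z⁻¹) = (a' : N) * (z * ((b' : N) : G) * z⁻¹) :=
      congrArg Subtype.val e
    have e'' : ((a' : N) : G)⁻¹ * (a : N) = z * (((b' : N) : G) * ((b : N) : G)⁻¹) * z⁻¹ := by
      calc ((a' : N) : G)⁻¹ * (a : N) = ((a' : N) : G)⁻¹ * (((a : N) : G) * (z * ((b : N) : G) * z⁻¹)) *
            (z * ((b : N) : G) * z⁻¹)⁻¹ := by group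
        _ = _ := by rw [e']; group
    have h1 := hfix _ (mul_mem (inv_mem (a' : N).2) (a : N).2)
      ((hker ((a' : N)⁻¹ * (a : N))).mp (f.ker.mul_mem (f.ker.inv_mem a'.2) a.2)) (by
        rw [e'']
        have h2 : g * (((b' : N) : G) * ((b : N) : G)⁻¹) = ((b' : N) : G) * ((b : N) : G)⁻¹ * g :=
          (hker ((b' : N) * (b : N)⁻¹)).mp (f.ker.mul_mem b'.2 (f.ker.inv_mem b.2))
        calc g' * (z * (((b' : N) : G) * ((b : N) : G)⁻¹) * z⁻¹)
            = z * (g * (((b' : N) : G) * ((b : N) : G)⁻¹)) * z⁻¹ := by rw [hg']; group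
          _ = _ := by rw [h2, hg']; group)
    have ha : a = a' := Subtype.ext (Subtype.ext (inv_mul_eq_one.mp h1).symm)
    subst ha
    have hb : ((b : N) : G) = (b' : N) := by simpa using e'
    rw [Subtype.ext (Subtype.ext hb)]
  have hrange : f.range = f.ker := by
    refine Subgroup.eq_of_le_of_card_ge hle ?_
    have h := f.ker.card_mul_index
    rw [Subgroup.index_ker] at h
    by_contra hlt
    push Not at hlt
    have := Nat.mul_lt_mul_of_pos_left hlt (Nat.card_pos (α := f.ker))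
    omega
  obtain ⟨v, hv⟩ : (⟨g * g, hg2⟩ : N) ∈ f.range := by
    rw [hrange, hker]; exact (mul_assoc _ _ _).symm
  have hv' : (v : G) * (g * (v : G)⁻¹ * g⁻¹) = g * g := congrArg Subtype.val hv
  have hg1 : (v : G) * g ∉ N := fun h => hg ((Subgroup.mul_mem_cancel_left _ v.2).mp h)
  have hg11 : (v : G) * g * (v * g) = 1 := by
    have hvv := (eq_inv_of_mul_eq_one_left (hexp _ v.2)).symm
    rw [hvv] at hv'
    calc (v : G) * g * (v * g) = v * (g * v * g⁻¹) * (g * g) := by group
      _ = v * (g * v * g⁻¹) * (v * (g * v * g⁻¹)) := by rw [hv']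
      _ = _ := hexp _ (mul_mem v.2 (Subgroup.Normal.conj_mem inferInstance _ v.2 g))
  refine hg1 (hcen (Subgroup.mem_centralizer_iff.mpr fun w hw => ?_))
  obtain ⟨c, hc⟩ := isConj_iff.mp (hconj _ hg1 w hw)
  have h : (v : G) * g * w * ((v : G) * g * w) = 1 := by
    rw [← hc]
    calc c * (v * g) * c⁻¹ * (c * (v * g) * c⁻¹) = c * ((v : G) * g * (v * g)) * c⁻¹ := by group
      _ = 1 := by rw [hg11]; group
  have e := eq_inv_of_mul_eq_one_left h
  rw [mul_inv_rev, inv_eq_of_mul_eq_one_right (hexp w hw), inv_eq_of_mul_eq_one_right hg11] at e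
  exact e.symm

include hab hcen hconj hpel in
theorem odd_case (hexp : ∀ x ∈ N, x ^ p = 1) (hpN : IsPGroup p N) (hNb : N ≠ ⊥) (hp : p ≠ 2)
    {t : G} (ht : t * t = 1) (ht1 : t ≠ 1) {g : G} (hg : g ∉ N) (hgp : g ^ p ∈ N) : False := by
  have hodd : Odd p := (Fact.out : p.Prime).odd_of_ne_two hp
  have hfix : ∀ x ∈ N, t * x = x * t → x = 1 := fun x hx h => by
    by_contra hx1
    obtain ⟨k, hk⟩ := hpel x hx hx1 ⟨t, Subgroup.mem_centralizer_singleton_iff.mpr h⟩
    have hk' : t ^ p ^ k = 1 := congrArg Subtype.val hk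
    obtain ⟨j, hj⟩ := (hodd.pow (n := k))
    rw [hj, pow_add, pow_mul, pow_two, ht, one_pow, one_mul, pow_one] at hk'
    exact ht1 hk'
  have hinv : ∀ x ∈ N, t * x * t⁻¹ = x⁻¹ := fun x hx => by
    have hy : t * x * t⁻¹ ∈ N := Subgroup.Normal.conj_mem inferInstance _ hx t
    have h := hfix (x * (t * x * t⁻¹)) (mul_mem hx hy) (by
      have ht' : t⁻¹ = t := inv_eq_of_mul_eq_one_right ht
      calc t * (x * (t * x * t⁻¹)) = t * x * t⁻¹ * x * t := by rw [ht']; simp [mul_assoc]
        _ = _ := by rw [hab _ hy x hx])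
    exact (inv_eq_of_mul_eq_one_right h).symm
  -- every coset meets the centralizer of `t`
  have hlift : ∀ h : G, ∃ v ∈ N, t * (v * h) = v * h * t := by
    intro h
    have hw : h * t * h⁻¹ * t⁻¹ ∈ N := hcen (Subgroup.mem_centralizer_iff.mpr fun x hx => by
      have h1 : h⁻¹ * x * h ∈ N := by
        simpa using Subgroup.Normal.conj_mem (inferInstance : N.Normal) x hx h⁻¹
      have e2 : t⁻¹ * x * t = x⁻¹ := by
        have := hinv x hx
        rw [inv_eq_of_mul_eq_one_right ht] at this ⊢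
        exact this
      have h4 : h⁻¹ * x⁻¹ * h ∈ N := by
        simpa using Subgroup.Normal.conj_mem (inferInstance : N.Normal) _ (inv_mem hx) h⁻¹
      have e : h * t * h⁻¹ * t⁻¹ * x * (h * t * h⁻¹ * t⁻¹)⁻¹ = x :=
        calc h * t * h⁻¹ * t⁻¹ * x * (h * t * h⁻¹ * t⁻¹)⁻¹
            = h * (t * (h⁻¹ * (t⁻¹ * x * t) * h) * t⁻¹) * h⁻¹ := by group
          _ = x := by rw [e2, hinv _ h4]; group
      exact (mul_inv_eq_iff_eq_mul.mp e).symm)
    obtain ⟨j, hj⟩ := hodd
    set w := h * t * h⁻¹ * t⁻¹ with hwdef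
    refine ⟨w ^ j, pow_mem hw j, ?_⟩
    have h3 : w ^ j * h * t * (w ^ j * h)⁻¹ = t := by
      calc w ^ j * h * t * (w ^ j * h)⁻¹ = w ^ j * w * (t * (w ^ j)⁻¹ * t⁻¹) * t := by
            rw [hwdef]; group
        _ = t := by
          rw [hinv _ (inv_mem (pow_mem hw j)), inv_inv, ← pow_succ, ← pow_add,
            show j + 1 + j = p by omega, hexp w hw, one_mul]
    exact (mul_inv_eq_iff_eq_mul.mp h3).symm
  obtain ⟨v, hv, hvg⟩ := hlift g
  set g1 := v * g with hg1def
  have hg1 : g1 ∉ N := fun h => hg ((Subgroup.mul_mem_cancel_left _ hv).mp h)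
  have hg1p : g1 ^ p = 1 := by
    refine hfix _ ?_ ((Commute.pow_right hvg p))
    rw [← QuotientGroup.eq_one_iff, QuotientGroup.mk_pow, hg1def, QuotientGroup.mk_mul,
      (QuotientGroup.eq_one_iff v).mpr hv, one_mul, ← QuotientGroup.mk_pow, QuotientGroup.eq_one_iff]
    exact hgp
  -- conjugation inside the coset comes from `N`
  let F : N → N := fun u => ⟨g1⁻¹ * u⁻¹ * g1 * u, mul_mem (by
    simpa using Subgroup.Normal.conj_mem (inferInstance : N.Normal) _ (inv_mem u.2) g1⁻¹) u.2⟩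
  have hF : Function.Surjective F := by
    rintro ⟨w, hw⟩
    obtain ⟨c, hc⟩ := isConj_iff.mp (hconj g1 hg1 w hw)
    obtain ⟨u, hu, huc⟩ := hlift c
    refine ⟨⟨u, hu⟩, Subtype.ext ?_⟩
    show g1⁻¹ * u⁻¹ * g1 * u = w
    have hk : u * c * g1 * (u * c)⁻¹ = g1 := by
      refine (inv_mul_eq_one.mp (hfix (g1⁻¹ * (u * c * g1 * (u * c)⁻¹)) ?_ ?_)).symm
      · rw [show g1⁻¹ * (u * c * g1 * (u * c)⁻¹) = g1⁻¹ * u * (c * g1 * c⁻¹) * u⁻¹ by group, hc,
          show g1⁻¹ * u * (g1 * w) * u⁻¹ = g1⁻¹ * u * g1⁻¹⁻¹ * w * u⁻¹ by group]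
        exact mul_mem (mul_mem (Subgroup.Normal.conj_mem inferInstance _ hu _) hw) (inv_mem hu)
      · exact (Commute.mul_right (Commute.inv_right hvg)
          (Commute.mul_right (Commute.mul_right huc hvg) (Commute.inv_right huc))).eq
    calc g1⁻¹ * u⁻¹ * g1 * u = g1⁻¹ * u⁻¹ * (u * c * g1 * (u * c)⁻¹) * u := by rw [hk]
      _ = g1⁻¹ * (c * g1 * c⁻¹) := by group
      _ = w := by rw [hc, inv_mul_cancel_left]
  have hP : IsPGroup p (Subgroup.zpowers g1) := IsPGroup.of_card (n := 1) (by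
    rw [Nat.card_zpowers, pow_one, orderOf_eq_prime hg1p fun e => hg1 (e ▸ one_mem N)])
  letI : MulAction (Subgroup.zpowers g1) N :=
    MulAction.compHom N ((MulAut.conjNormal (H := N)).comp (Subgroup.zpowers g1).subtype)
  have hdvd : p ∣ Nat.card N := by
    obtain ⟨n, hn⟩ := IsPGroup.iff_card.mp hpN
    rw [hn]
    refine dvd_pow_self p fun e => hNb (Subgroup.eq_bot_of_card_eq _ ?_)
    rw [hn, e, pow_zero]
  obtain ⟨⟨u, hu⟩, hfixu, hu1⟩ := hP.exists_fixed_point_of_prime_dvd_card_of_fixed_point N hdvd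
    (a := (1 : N)) (fun k => map_one (MulAut.conjNormal (H := N) (k : G)))
  have e : g1 * u * g1⁻¹ = u := congrArg Subtype.val (hfixu ⟨g1, Subgroup.mem_zpowers g1⟩)
  have e1 := (Finite.injective_iff_surjective.mpr hF) (a₁ := ⟨u, hu⟩) (a₂ := 1) (Subtype.ext (by
    show g1⁻¹ * u⁻¹ * g1 * u = g1⁻¹ * (1 : G)⁻¹ * g1 * 1
    calc g1⁻¹ * u⁻¹ * g1 * u = g1⁻¹ * (g1 * u * g1⁻¹)⁻¹ * g1 * u := by rw [e]
      _ = _ := by group))
  exact hu1 e1.symm

end

/-- Let G be a finite group of order greater than 2 with an irreducible character χ nonzero on exactly two conjugacy classes, and let N be the normal p-subgroup of elements where χ is nonzero. Then N is the whole p-core O_p(G) if and only if G is a doubly transitive Frobenius group with kernel N: G has a Frobenius complement H whose Frobenius kernel is N and whose order is one less than that of N. -/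
theorem result {G : Type*} [Group G] [Finite G] (hG : 2 < Nat.card G) (χ : Cfsg.IrrCharacter G) (hχ : Nat.card {C : ConjClasses G // ∃ g ∈ C.carrier, (χ : G → ℂ) g ≠ 0} = 2) (p : ℕ) [Fact p.Prime] (N : Subgroup G) [N.Normal] (hN : ∀ g : G, g ∈ N ↔ (χ : G → ℂ) g ≠ 0) (hNp : IsPGroup p N) (hN1 : N ≠ ⊥) :
    N = Cfsg.pCore p G ↔ ∃ H : Subgroup G, Cfsg.IsFrobeniusComplement H ∧ Cfsg.frobeniusKernel H = (N : Set G) ∧ Nat.card H + 1 = Nat.card N := by
  classical
  have := Fintype.ofFinite G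
  have hpp := (Fact.out : p.Prime)
  obtain rfl := TwoClass.eq_support hG χ hχ hN
  set n := Nat.card (support χ) with hn
  have hcard := TwoClass.card_support hG χ hχ
  rw [← hn] at hcard
  obtain ⟨k, hk⟩ := IsPGroup.iff_card.mp hNp
  rw [← hn] at hk
  constructor
  · intro hcore
    obtain ⟨q, hq, hel⟩ := TwoClass.exists_prime_elementary hG χ hχ
    obtain rfl : q = p := by
      obtain ⟨x, hx, hx1⟩ := (Subgroup.ne_bot_iff_exists_ne_one.mp hN1).imp fun x h => And.intro x.2 h
      have ho : orderOf (x : G) = q := by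
        have := Fact.mk hq
        exact orderOf_eq_prime (hel.2 _ hx) fun e => hx1 (Subtype.ext e)
      obtain ⟨i, hi⟩ := hNp x
      have h1 : orderOf (x : G) ∣ p ^ i := orderOf_dvd_of_pow_eq_one (congrArg Subtype.val hi)
      rw [ho] at h1
      exact (Nat.prime_dvd_prime_iff_eq hq hpp).mp (hq.dvd_of_dvd_pow h1)
    have hab : ∀ a ∈ support χ, ∀ b ∈ support χ, a * b = b * a := fun a ha b hb =>
      congrArg Subtype.val (hel.1.is_comm.comm (⟨a, ha⟩ : support χ) ⟨b, hb⟩)
    have hpel : ∀ x ∈ support χ, x ≠ 1 → IsPGroup q (Subgroup.centralizer ({x} : Set G)) :=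
      fun x hx hx1 => (TwoClass.centralizer_conditions hG χ hχ hNp hx hx1).1
    have hcen : Subgroup.centralizer (support χ : Set G) ≤ support χ := by
      obtain ⟨x, hx1⟩ := Subgroup.ne_bot_iff_exists_ne_one.mp hN1
      have hle : Subgroup.centralizer (support χ : Set G) ≤ Subgroup.centralizer ({(x : G)} : Set G) :=
        Subgroup.centralizer_le (Set.singleton_subset_iff.mpr x.2)
      refine le_trans ?_ hcore.ge
      exact le_sSup ⟨inferInstance, (hpel x x.2 fun e => hx1 (Subtype.ext e)).to_le hle⟩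
    have hconj : ∀ g ∉ support χ, ∀ m ∈ support χ, IsConj g (g * m) :=
      fun g hg m hm => isConj_mul_of_mem hG hχ hg hm
    have hidx : ¬ q ∣ (support χ).index := by
      intro hd
      rw [Subgroup.index_eq_card] at hd
      obtain ⟨r, hr⟩ := exists_prime_orderOf_dvd_card' (G := G ⧸ support χ) q hd
      obtain ⟨g, rfl⟩ := QuotientGroup.mk_surjective r
      have hg : g ∉ support χ := fun h => by
        rw [(QuotientGroup.eq_one_iff g).mpr h, orderOf_one] at hr
        exact hpp.one_lt.ne hr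
      have hgp : g ^ q ∈ support χ := by
        rw [← QuotientGroup.eq_one_iff, QuotientGroup.mk_pow, ← hr, pow_orderOf_eq_one]
      by_cases hp2 : q = 2
      · refine even_case hab hcen hconj hpel (fun x hx => ?_) hp2 hcore hg ?_
        · rw [← pow_two, ← hp2]; exact hel.2 x hx
        · rw [← pow_two, ← hp2]; exact hgp
      · obtain ⟨x, hx1⟩ := Subgroup.ne_bot_iff_exists_ne_one.mp hN1
        have hx1' : (x : G) ≠ 1 := fun e => hx1 (Subtype.ext e)
        have hxi : (x : G)⁻¹ ≠ x := fun e => by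
          have h2 : (x : G) ^ 2 = 1 := by rw [pow_two]; nth_rw 1 [← e]; exact inv_mul_cancel _
          have := orderOf_eq_prime h2 hx1'
          rw [orderOf_eq_prime (hel.2 x x.2) hx1'] at this
          exact hp2 this
        obtain ⟨c, hc⟩ := isConj_iff.mp (TwoClass.isConj_of_mem_support hG χ hχ x.2 (inv_mem x.2)
          hx1' (inv_ne_one.mpr hx1'))
        have hev : 2 ∣ orderOf c := by
          by_contra hodd
          rw [Nat.two_dvd_ne_zero, ← Nat.odd_iff] at hodd
          obtain ⟨j, hj⟩ := hodd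
          have hc2 : Commute (c ^ 2) (x : G) := by
            refine (commute_iff_eq _ _).mpr (mul_inv_eq_iff_eq_mul.mp ?_)
            calc c ^ 2 * x * (c ^ 2)⁻¹ = c * (c * x * c⁻¹) * c⁻¹ := by rw [pow_two]; group
              _ = c * (x : G)⁻¹ * c⁻¹ := by rw [hc]
              _ = (c * x * c⁻¹)⁻¹ := by group
              _ = x := by rw [hc, inv_inv]
          have hcc : c = (c ^ 2) ^ (j + 1) := by
            rw [← pow_mul, show 2 * (j + 1) = (2 * j + 1) + 1 by ring, ← hj, pow_succ,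
              pow_orderOf_eq_one, one_mul]
          apply hxi
          rw [← hc]
          exact mul_inv_eq_iff_eq_mul.mpr (hcc ▸ (hc2.pow_left (j + 1)).eq)
        obtain ⟨t, ht⟩ := exists_prime_orderOf_dvd_card' (G := G) 2 (hev.trans (orderOf_dvd_natCard c))
        refine odd_case hab hcen hconj hpel (fun y hy => hel.2 y hy) hNp hN1 hp2 (t := t) ?_ ?_ hg hgp
        · rw [← pow_two, ← ht, pow_orderOf_eq_one]
        · intro e; rw [e, orderOf_one] at ht; omega
    have hcop : Nat.Coprime n (support χ).index := by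
      rw [hk]
      exact ((hpp.coprime_iff_not_dvd).mpr hidx).pow_left k
    obtain ⟨H, hH⟩ := Subgroup.exists_right_complement'_of_coprime hcop
    have hHidx : Nat.card H = (support χ).index := by rw [hH.symm.index_eq_card]
    have hCx : ∀ x ∈ support χ, x ≠ 1 → Subgroup.centralizer ({x} : Set G) = support χ := by
      intro x hx hx1
      refine le_antisymm (fun c hc => ?_) fun c hc =>
        Subgroup.mem_centralizer_singleton_iff.mpr (hab c hc x hx)
      obtain ⟨i, hi⟩ := hpel x hx hx1 ⟨c, hc⟩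
      have hi' : c ^ q ^ i = 1 := congrArg Subtype.val hi
      rw [← QuotientGroup.eq_one_iff, ← orderOf_eq_one_iff]
      refine Nat.eq_one_of_dvd_coprimes ((hpp.coprime_iff_not_dvd.mpr hidx).pow_left i)
        (orderOf_dvd_of_pow_eq_one (by rw [← QuotientGroup.mk_pow, hi', QuotientGroup.mk_one])) ?_
      rw [Subgroup.index_eq_card]
      exact orderOf_dvd_natCard _
    have hindex : (support χ).index + 1 = n := by
      rw [hcard, hCx _ (TwoClass.rep_mem_support hG χ hχ) (TwoClass.rep_ne_one χ hχ)]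
    have hfpf : ∀ h ∈ H, h ≠ 1 → ∀ x ∈ support χ, h * x = x * h → x = 1 := by
      intro h hh hh1 x hx he
      by_contra hx1
      have hmem : h ∈ support χ := by
        rw [← hCx x hx hx1]; exact Subgroup.mem_centralizer_singleton_iff.mpr he
      exact hh1 (Subgroup.disjoint_def.mp hH.disjoint hmem hh)
    have hFC : Cfsg.IsFrobeniusComplement H := by
      refine ⟨fun e => ?_, fun e => ?_, fun g hg => ?_⟩
      · rw [e, Subgroup.card_bot] at hHidx
        have h2 := (support χ).card_mul_index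
        rw [← hn, ← hHidx] at h2
        omega
      · have h1 : Nat.card H = Nat.card G := by rw [e, Subgroup.card_top]
        have h2 := (support χ).card_mul_index
        rw [← hn, ← hHidx, h1] at h2
        nlinarith
      · rw [Subgroup.eq_bot_iff_forall]
        intro h hmem
        rw [Subgroup.mem_inf, CfsgLib.Frobenius.mem_conj_smul] at hmem
        obtain ⟨hh, hhg⟩ := hmem
        by_contra hh1
        obtain ⟨⟨⟨u, hu⟩, ⟨b, hb⟩⟩, hub : u * b = g⟩ := hH.2 g
        have hub' : u⁻¹ * h * u ∈ H := by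
          have : b * (g⁻¹ * h * g) * b⁻¹ ∈ H := mul_mem (mul_mem hb hhg) (inv_mem hb)
          rw [← hub] at this
          convert this using 1
          group
        have hcomm : u⁻¹ * h * u * h⁻¹ ∈ support χ := by
          rw [show u⁻¹ * h * u * h⁻¹ = u⁻¹ * (h * u * h⁻¹) by group]
          exact mul_mem (inv_mem hu) (Subgroup.Normal.conj_mem (support_normal χ) _ hu h)
        have h0 := Subgroup.disjoint_def.mp hH.disjoint hcomm (mul_mem hub' (inv_mem hh))
        have hu1 := hfpf h hh hh1 u hu (by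
          calc h * u = u * (u⁻¹ * h * u * h⁻¹) * h := by group
            _ = u * h := by rw [h0, mul_one])
        exact hg (by rw [← hub, hu1, one_mul]; exact hb)
    refine ⟨H, hFC, ?_, by rw [hHidx, hindex, hn]⟩
    symm
    refine Set.eq_of_subset_of_ncard_le ?_ ?_ (Set.toFinite _)
    · intro x hx
      by_cases hx1 : x = 1
      · exact Or.inl hx1
      refine Or.inr fun g hg => ?_
      rw [CfsgLib.Frobenius.mem_conj_smul] at hg
      have h2 : g⁻¹ * x * g ∈ support χ := by
        simpa using Subgroup.Normal.conj_mem (support_normal χ) x hx g⁻¹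
      have h3 := Subgroup.disjoint_def.mp hH.disjoint h2 hg
      exact hx1 (by rwa [mul_assoc, inv_mul_eq_one, right_eq_mul] at h3)
    · rw [← Nat.card_coe_set_eq, ← Nat.card_coe_set_eq, CfsgLib.Frobenius.card_frobeniusKernel hFC,
        hH.index_eq_card]
      exact le_rfl
  · rintro ⟨H, hFC, hker, hH⟩
    have hi : H.index = n := by
      rw [← CfsgLib.Frobenius.card_frobeniusKernel hFC, hker, hn]; rfl
    refine Subgroup.eq_of_le_of_card_ge (le_sSup ⟨inferInstance, hNp⟩) ?_
    obtain ⟨i, hi'⟩ := IsPGroup.iff_card.mp (CfsgLib.Core.isPGroup_pCore (G := G) p)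
    have hG' := H.card_mul_index
    rw [hi] at hG'
    have hdvd := Subgroup.card_subgroup_dvd_card (Cfsg.pCore p G)
    rw [← hG', hi'] at hdvd
    have hcop : Nat.Coprime (p ^ i) (Nat.card H) := by
      refine Nat.Coprime.pow_left _ (hpp.coprime_iff_not_dvd.mpr fun hd => ?_)
      have hk0 : k ≠ 0 := fun e => hN1 (Subgroup.eq_bot_of_card_eq _ (by rw [← hn, hk, e, pow_zero]))
      have : p ∣ Nat.card H + 1 := by rw [hH, hk]; exact dvd_pow_self p hk0
      exact hpp.not_dvd_one ((Nat.dvd_add_right hd).mp this)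
    rw [hi', ← hn]
    exact Nat.le_of_dvd (by omega) (hcop.dvd_of_dvd_mul_left hdvd)

end Cfsg.Agent.S4839
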