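import Cfsg.Statements.S4840
import Cfsg.Agent.Lib.CharDegree.TwoClass
import Cfsg.Agent.Lib.CharDegree.TransitiveSolvable
-- import your own Cfsg.Agent.* helpers here

set_option autoImplicit false
open Cfsg

namespace Cfsg.Agent.S4840

/-- Let G be a finite solvable group of order greater than 2 with an irreducible character nonzero on exactly two conjugacy classes. Then there is exactly one prime p with O_p(G) ≠ 1, and the quotient G/O_p(G) has a normal p-complement and commutative Sylow p-subgroups. -/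
theorem result {G : Type*} [Group G] [Finite G] [hs : Group.IsSolvable G] (hG : 2 < Nat.card G) (χ : Cfsg.IrrCharacter G) (hχ : Nat.card {C : ConjClasses G // ∃ g ∈ C.carrier, (χ : G → ℂ) g ≠ 0} = 2) :
    ∃ p : ℕ, p.Prime ∧ (∀ q : ℕ, q.Prime → (Cfsg.pCore q G ≠ ⊥ ↔ q = p)) ∧
      Cfsg.HasNormalPComplement p (G ⧸ Cfsg.pCore p G) ∧ ∀ Q : Sylow p (G ⧸ Cfsg.pCore p G), IsMulCommutative (Q : Subgroup (G ⧸ Cfsg.pCore p G)) := by
  classical
  have := CfsgLib.CharDegree.TwoClass.support_normal χ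
  set S := CfsgLib.CharDegree.TwoClass.support χ with hS
  obtain ⟨p, hp, hab, hexp⟩ := CfsgLib.CharDegree.TwoClass.exists_prime_elementary hG χ hχ
  have := Fact.mk hp
  have hSp : IsPGroup p S := fun a => ⟨1, Subtype.ext (by rw [pow_one, Subgroup.coe_pow]; exact hexp a a.2)⟩
  have hSb := CfsgLib.CharDegree.TwoClass.support_ne_bot hG χ hχ
  have hnt : Nontrivial S := (Subgroup.nontrivial_iff_ne_bot _).mpr hSb
  have hle : S ≤ Cfsg.pCore p G := CfsgLib.Core.le_pCore hSp
  have hne : Cfsg.pCore p G ≠ ⊥ := fun h => hSb (le_bot_iff.mp (h ▸ hle))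
  refine ⟨p, hp, fun q hq => ⟨fun h => ?_, fun h => h ▸ hne⟩, ?_⟩
  · have := Fact.mk hq
    have h1 : S ≤ Cfsg.pCore q G := CfsgLib.CharDegree.TwoClass.support_le hG χ hχ inferInstance h
    obtain ⟨x, hx⟩ := exists_ne (1 : S)
    obtain ⟨i, hi⟩ := IsPGroup.iff_orderOf.mp (CfsgLib.Core.isPGroup_pCore (G := G) q) ⟨x, h1 x.2⟩
    rw [Subgroup.orderOf_mk] at hi
    have h2 : orderOf (x : G) = p := orderOf_eq_prime (hexp x x.2) fun e => hx (Subtype.ext e)
    exact ((Nat.prime_dvd_prime_iff_eq hp hq).mp (hp.dvd_of_dvd_pow (dvd_of_eq (h2.symm.trans hi)))).symm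
  let cg : CommGroup S := { (inferInstance : Group S) with mul_comm := hab.is_comm.comm }
  have hcent : ∀ v : S, v ≠ 1 → IsPGroup p (Subgroup.centralizer ({(v : G)} : Set G)) := fun v hv =>
    (CfsgLib.CharDegree.TwoClass.centralizer_conditions hG χ hχ hSp v.2 fun e => hv (Subtype.ext e)).1
  have htrans : ∀ v w : S, v ≠ 1 → w ≠ 1 → ∃ g : G, g * v * g⁻¹ = w := fun v w hv hw =>
    isConj_iff.mp (CfsgLib.CharDegree.TwoClass.isConj_of_mem_support hG χ hχ v.2 w.2
      (fun e => hv (Subtype.ext e)) (fun e => hw (Subtype.ext e)))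
  set C := Cfsg.pCore p G with hC
  have hCp : IsPGroup p C := CfsgLib.Core.isPGroup_pCore (G := G) p
  have hfixall : ∀ c ∈ C, ∀ w : S, c * w = w * c := by
    letI : MulAction C S :=
      { smul := fun c v => ⟨(c : G) * v * (c : G)⁻¹, (CfsgLib.CharDegree.TwoClass.support_normal χ).conj_mem v v.2 c⟩
        one_smul := fun v => Subtype.ext (by show (1 : G) * v * (1 : G)⁻¹ = v; simp)
        mul_smul := fun a b v => Subtype.ext (by
          show (a : G) * b * v * ((a : G) * b)⁻¹ = a * (b * v * (b : G)⁻¹) * (a : G)⁻¹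
          group) }
    have hd : p ∣ Nat.card S := by
      obtain ⟨x, hx⟩ := exists_ne (1 : S)
      have h2 : orderOf (x : G) = p := orderOf_eq_prime (hexp x x.2) fun e => hx (Subtype.ext e)
      rw [← h2, Subgroup.orderOf_coe]
      exact orderOf_dvd_natCard x
    obtain ⟨v, hv, hv1⟩ := hCp.exists_fixed_point_of_prime_dvd_card_of_fixed_point S hd (a := (1 : S))
      fun c => Subtype.ext (by show (c : G) * 1 * (c : G)⁻¹ = 1; simp)
    intro c hc w
    by_cases hw : w = 1
    · simp [hw]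
    obtain ⟨g, hg⟩ := htrans v w hv1.symm hw
    have hc' : g⁻¹ * c * g ∈ C := by
      simpa using (CfsgLib.Core.normal_pCore p G).conj_mem c hc g⁻¹
    have h := congrArg Subtype.val (hv ⟨_, hc'⟩)
    change g⁻¹ * c * g * v * (g⁻¹ * c * g)⁻¹ = v at h
    rw [← hg]
    calc c * (g * v * g⁻¹) = g * (g⁻¹ * c * g * v * (g⁻¹ * c * g)⁻¹) * g⁻¹ * c := by group
      _ = _ := by rw [h]
  let φ : G →* MulAut S := MulAut.conjNormal
  have hker : C ≤ φ.ker := fun c hc => by
    rw [MonoidHom.mem_ker]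
    refine MulEquiv.ext fun w => Subtype.ext ?_
    show c * w * c⁻¹ = w
    rw [hfixall c hc w, mul_inv_cancel_right]
  have hkerle : φ.ker ≤ C := by
    obtain ⟨x, hx⟩ := exists_ne (1 : S)
    refine CfsgLib.Core.le_pCore ((hcent x hx).to_le fun g hg => Subgroup.mem_centralizer_singleton_iff.mpr ?_)
    exact mul_inv_eq_iff_eq_mul.mp (congrArg Subtype.val (DFunLike.congr_fun (MonoidHom.mem_ker.mp hg) x))
  let ψ := QuotientGroup.lift C φ hker
  have D : CfsgLib.CharDegree.TransSolv.Data p ψ := by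
    refine ⟨?_, fun v w hv hw => ?_, fun v hv x hx => ?_, fun v => Subtype.ext ?_, hnt⟩
    · rw [injective_iff_map_eq_one]
      intro x hx
      obtain ⟨g, rfl⟩ := QuotientGroup.mk_surjective x
      exact (QuotientGroup.eq_one_iff g).mpr (hkerle (MonoidHom.mem_ker.mpr hx))
    · obtain ⟨g, hg⟩ := htrans v w hv hw
      exact ⟨(g : G ⧸ C), Subtype.ext hg⟩
    · obtain ⟨g, rfl⟩ := QuotientGroup.mk_surjective x
      have hg : g ∈ Subgroup.centralizer ({(v : G)} : Set G) := Subgroup.mem_centralizer_singleton_iff.mpr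
        (mul_inv_eq_iff_eq_mul.mp (congrArg Subtype.val hx))
      obtain ⟨k, hk⟩ := IsPGroup.iff_orderOf.mp (hcent v hv) ⟨g, hg⟩
      rw [Subgroup.orderOf_mk] at hk
      obtain ⟨j, -, hj⟩ := (Nat.dvd_prime_pow hp).mp (hk ▸ orderOf_map_dvd (QuotientGroup.mk' C) g)
      exact ⟨j, hj⟩
    · exact hexp v v.2
  have : Group.IsSolvable (G ⧸ C) := inferInstance
  exact CfsgLib.CharDegree.TransSolv.main D (CfsgLib.Core.pCore_quotient_pCore p G)

end Cfsg.Agent.S4840
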