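import Cfsg.Statements.S4843
import Cfsg.Agent.Lib.CharDegree.SameDegreeGalois
import Cfsg.Agent.Lib.CharDegree.Galois
import Cfsg.Agent.Lib.Char.CliffordCorr
import Cfsg.Agent.Lib.Char.PowerTwist
import Cfsg.Agent.Lib.Char.Brauer
import Cfsg.Agent.Lib.Blocks.FongInvariant
import Cfsg.Agent.Lib.Blocks.Covering
import Cfsg.Agent.Lib.PGroups.PolyMap
import Cfsg.Agent.Lib.Core.Cores

set_option autoImplicit false
open Cfsg

namespace Cfsg.Agent.S4843

open CfsgLib.CharDegree CfsgLib.CharDegree.SameDegree CfsgLib.Char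
open scoped ComplexConjugate commutatorElement

variable {G : Type*} [Group G] [Fintype G]

omit [Fintype G] in
/-- An exponent inverting a coprime power. -/
theorem exists_inverse_exponent [Finite G] {k : ℕ} (hk : k.Coprime (Nat.card G)) :
    ∃ r : ℕ, (∀ g : G, (g ^ k) ^ r = g) ∧ r.Coprime (Nat.card G) := by
  rcases eq_or_ne (Nat.card G) 1 with h1 | h1
  · have := (Nat.card_eq_one_iff_unique.1 h1).1
    exact ⟨1, fun g => Subsingleton.elim _ _, Nat.coprime_one_left _⟩
  obtain ⟨r, -, hr⟩ := Nat.exists_mul_mod_eq_one_of_coprime hk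
    (by have := Nat.card_pos (α := G); omega)
  have hmod : k * r ≡ 1 [MOD Nat.card G] := by
    rw [Nat.ModEq, hr, Nat.one_mod_eq_one.2 h1]
  refine ⟨r, fun g => ?_, ?_⟩
  · rw [← pow_mul]
    exact (pow_eq_pow_iff_modEq.2 (hmod.of_dvd (orderOf_dvd_natCard g))).trans (pow_one g)
  · exact Nat.Coprime.symm (Nat.coprime_of_dvd fun q hq hqc hqd => by
      have := (hmod.of_dvd hqc)
      rw [Nat.ModEq, Nat.mod_eq_zero_of_dvd (dvd_mul_of_dvd_right hqd k)] at this
      exact hq.one_lt.ne' (Nat.eq_one_of_dvd_one (Nat.dvd_of_mod_eq_zero this.symm)))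

/-- Inner products as sums of products of multiplicities. -/
theorem classInner_eq_sum_natCast [Fintype (Cfsg.IrrCharacter G)] {Φ Ψ : G → ℂ}
    {a b : Cfsg.IrrCharacter G → ℕ} (hΦ : Cfsg.IsClassFunction G Φ)
    (ha : ∀ μ : Cfsg.IrrCharacter G, Cfsg.classInner Φ (μ : G → ℂ) = a μ)
    (hb : ∀ μ : Cfsg.IrrCharacter G, Cfsg.classInner Ψ (μ : G → ℂ) = b μ) :
    Cfsg.classInner Φ Ψ = ((∑ μ, a μ * b μ : ℕ) : ℂ) := by
  conv_lhs => rw [classFunction_eq_sum hΦ]
  rw [classInner_sum_left, Nat.cast_sum]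
  refine Finset.sum_congr rfl fun μ _ => ?_
  rw [classInner_smul_left, ha, Nat.cast_mul, ← classInner_conj_symm, hb, Complex.conj_natCast]

/-- A character with this product property is not induced. -/
theorem eq_top_of_indFun (χ : Cfsg.IrrCharacter G) (k : ℕ) (hk : k.Coprime (Nat.card G))
    (hnorm : Cfsg.classInner ((χ : G → ℂ) * fun g => conj ((χ : G → ℂ) g))
      (fun g => (χ : G → ℂ) (g ^ k) * conj ((χ : G → ℂ) (g ^ k))) = 1)
    (T : Subgroup G) [Fintype T] {ψ : T → ℂ} (hψ : Cfsg.IsCharacter T ψ)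
    (hind : Cfsg.indFun T ψ = (χ : G → ℂ)) : T = ⊤ := by
  classical
  have := Fintype.ofFinite (Cfsg.IrrCharacter G)
  have := Fintype.ofFinite (Cfsg.IrrCharacter T)
  by_contra hT
  set θ : T → ℂ := ψ * fun t : T => conj ((χ : G → ℂ) t) with hθ
  have hθc : Cfsg.IsCharacter T θ :=
    IsChar.mul hψ (IsChar.conj (IsChar.restrict T (IsIrr.isCharacter χ.2)))
  set one : Cfsg.IrrCharacter T := trivChar T
  have hθ1 : Cfsg.classInner θ (one : T → ℂ) = 1 := by
    have h := frobenius_reciprocity T ψ (IsIrr.isClassFunction χ.2)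
    rw [hind, classInner_irr_self] at h
    rw [h, Cfsg.classInner, Cfsg.classInner]
    simp [hθ, one, trivChar_apply]
  set π : G → ℂ := Cfsg.indFun T (one : T → ℂ)
  set Δ : G → ℂ := (χ : G → ℂ) * fun g => conj ((χ : G → ℂ) g)
  have hΔ : Δ = Cfsg.indFun T θ := by
    have h := CfsgLib.Brauer.indFun_mul T ψ (χ := fun g => conj ((χ : G → ℂ) g))
      (IsIrr.isClassFunction (IsIrr.conj χ.2))
    rw [hind] at h
    exact h
  have hπc : Cfsg.IsCharacter G π := isCharacter_indFun T (IsIrr.isCharacter one.2)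
  have hπ : ∀ μ : Cfsg.IrrCharacter G, ∃ c : ℕ, Cfsg.classInner π (μ : G → ℂ) = c := fun μ =>
    IsChar.classInner_eq_natCast hπc (IsIrr.isCharacter μ.2)
  choose c hc using hπ
  -- the multiplicities in `Δ` dominate those in `π`
  have hΔc : Cfsg.IsCharacter G Δ :=
    IsChar.mul (IsIrr.isCharacter χ.2) (IsChar.conj (IsIrr.isCharacter χ.2))
  have ha : ∀ μ : Cfsg.IrrCharacter G, ∃ a : ℕ,
      Cfsg.classInner Δ (μ : G → ℂ) = a ∧ c μ ≤ a := fun μ => by
    obtain ⟨a, ha⟩ := IsChar.classInner_eq_natCast hΔc (IsIrr.isCharacter μ.2)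
    refine ⟨a, ha, ?_⟩
    have hm : ∀ ν : Cfsg.IrrCharacter T, ∃ m n : ℕ, Cfsg.classInner θ (ν : T → ℂ) = m ∧
        Cfsg.classInner (ν : T → ℂ) (fun t : T => (μ : G → ℂ) t) = n := fun ν => by
      obtain ⟨m, hm⟩ := IsChar.classInner_eq_natCast hθc (IsIrr.isCharacter ν.2)
      obtain ⟨n, hn⟩ := IsChar.classInner_eq_natCast (IsIrr.isCharacter ν.2)
        (IsChar.restrict T (IsIrr.isCharacter μ.2))
      exact ⟨m, n, hm, hn⟩
    choose m n hm hn using hm
    have h1 : (a : ℂ) = ((∑ ν, m ν * n ν : ℕ) : ℂ) := by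
      rw [← ha, hΔ, frobenius_reciprocity T θ (IsIrr.isClassFunction μ.2)]
      exact classInner_eq_sum_natCast (IsChar.isClassFunction hθc) hm
        (fun ν => by rw [← classInner_conj_symm, hn, Complex.conj_natCast])
    have h2 : (c μ : ℂ) = (n one : ℂ) := by
      rw [← hc, ← hn one]
      exact frobenius_reciprocity T _ (IsIrr.isClassFunction μ.2)
    rw [Nat.cast_inj] at h1 h2
    have h3 : m one = 1 := Nat.cast_eq_one.1 ((hm one).symm.trans hθ1)
    rw [h1, h2]
    refine le_trans (le_of_eq ?_) (Finset.single_le_sum (f := fun ν => m ν * n ν)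
      (fun _ _ => Nat.zero_le _) (Finset.mem_univ one))
    simp [h3]
  choose a ha hca using ha
  set Δk : G → ℂ := fun g => Δ (g ^ k)
  have hΔkc : Cfsg.IsCharacter G Δk := isCharacter_pow hΔc hk
  have hπk : ∀ g, π (g ^ k) = π g := fun g => by
    simp only [π, Cfsg.indFun]
    congr 1
    refine Finset.sum_congr rfl fun x _ => ?_
    have he : x⁻¹ * g ^ k * x = (x⁻¹ * g * x) ^ k := by
      have := conj_pow (a := x⁻¹) (b := g) (i := k)
      rw [inv_inv] at this
      exact this.symm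
    rw [he]
    by_cases hx : x⁻¹ * g * x ∈ T
    · rw [extendByZero_of_mem T _ hx, extendByZero_of_mem T _ (T.pow_mem hx k)]
      simp [one, trivChar_apply]
    · rw [extendByZero_of_notMem T _ hx,
        extendByZero_of_notMem T _ fun h => hx ((pow_mem_iff T hk.symm).1 h)]
  have hb : ∀ μ : Cfsg.IrrCharacter G, ∃ b : ℕ,
      Cfsg.classInner Δk (μ : G → ℂ) = b ∧ c μ ≤ b := fun μ => by
    obtain ⟨b, hb⟩ := IsChar.classInner_eq_natCast hΔkc (IsIrr.isCharacter μ.2)
    refine ⟨b, hb, ?_⟩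
    -- transport along the Galois conjugation
    obtain ⟨r, hr, hrc⟩ := exists_inverse_exponent (G := G) hk
    let μ' : Cfsg.IrrCharacter G := ⟨fun g => (μ : G → ℂ) (g ^ r), isIrrCharacter_pow μ.2 hrc⟩
    have h1 : ∀ f : G → ℂ, Cfsg.classInner (fun g => f (g ^ k)) (μ : G → ℂ) =
        Cfsg.classInner f (μ' : G → ℂ) := fun f => by
      simp only [Cfsg.classInner]
      congr 1
      refine Fintype.sum_equiv (powCoprime hk.symm) _ _ fun g => ?_
      show _ = f (g ^ k) * conj ((μ : G → ℂ) ((g ^ k) ^ r))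
      rw [hr]
    have h2 : b = a μ' := Nat.cast_injective (R := ℂ) (by rw [← hb, ← ha μ', ← h1])
    have h3 : c μ = c μ' := Nat.cast_injective (R := ℂ) (by
      rw [← hc, ← hc μ', ← h1]
      simp only [hπk])
    rw [h2, h3]
    exact hca μ'
  choose b hb hcb using hb
  have h1 : ∑ μ, a μ * b μ = 1 := by
    have h := classInner_eq_sum_natCast (IsChar.isClassFunction hΔc) ha hb
    have e : Δk = fun g => (χ : G → ℂ) (g ^ k) * conj ((χ : G → ℂ) (g ^ k)) := rfl
    rw [e, hnorm] at h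
    exact_mod_cast h.symm
  have hc1 : c (trivChar G) = 1 := by
    apply Nat.cast_injective (R := ℂ)
    rw [← hc, frobenius_reciprocity T _ (IsIrr.isClassFunction (trivChar G).2), Nat.cast_one]
    exact classInner_irr_self one
  obtain ⟨μ, hμ, hμc⟩ : ∃ μ, μ ≠ trivChar G ∧ c μ ≠ 0 := by
    by_contra hno
    push Not at hno
    have h := congrFun (classFunction_eq_sum (IsChar.isClassFunction hπc)) 1
    rw [Finset.sum_apply, Finset.sum_eq_single (trivChar G) (fun μ _ hμ => by
      rw [Pi.smul_apply, hc, hno μ hμ, Nat.cast_zero, zero_smul])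
      (fun h => absurd (Finset.mem_univ _) h), Pi.smul_apply, hc, hc1] at h
    simp only [π] at h
    rw [indFun_apply_one] at h
    simp only [one, trivChar_apply, mul_one, Nat.cast_one, one_smul, Nat.cast_eq_one] at h
    exact hT (Subgroup.index_eq_one.1 h)
  have h2 : a (trivChar G) * b (trivChar G) + a μ * b μ ≤ ∑ ν, a ν * b ν := by
    rw [← Finset.sum_pair (f := fun ν => a ν * b ν) hμ.symm]
    exact Finset.sum_le_sum_of_subset (Finset.subset_univ _)
  have h3 : ∀ ν, c ν * c ν ≤ a ν * b ν := fun ν => Nat.mul_le_mul (hca ν) (hcb ν)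
  have h4 := h3 (trivChar G)
  have h5 := h3 μ
  have h6 : 1 ≤ c μ * c μ := Nat.one_le_iff_ne_zero.2 (mul_ne_zero hμc hμc)
  rw [hc1] at h4
  omega

/-- Normal abelian subgroups are central. -/
theorem le_center_of_comm (χ : Cfsg.IrrCharacter G)
    (hfaith : ∀ g : G, (χ : G → ℂ) g = (χ : G → ℂ) 1 → g = 1)
    (hprim : ∀ (T : Subgroup G) [Fintype T] (ψ : T → ℂ), Cfsg.IsCharacter T ψ →
      Cfsg.indFun T ψ = (χ : G → ℂ) → T = ⊤)
    (A : Subgroup G) [A.Normal] (hA : ∀ a b : A, a * b = b * a) : A ≤ Subgroup.center G := by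
  classical
  have := Fintype.ofFinite A
  have hAn : A.Normal := inferInstance
  obtain ⟨lam, hlam⟩ := CfsgLib.Blocks.exists_constituent A χ
  set T := CfsgLib.Clifford.inertia hAn (lam : A → ℂ)
  have := Fintype.ofFinite T
  have hle : A ≤ T := CfsgLib.Clifford.le_inertia hAn (IsIrr.isClassFunction lam.2)
  obtain ⟨ψ, hψ, -, -, hind⟩ := CfsgLib.Clifford.exists_over_inertia hAn lam.2
    (fun g => CfsgLib.Clifford.mem_inertia) hle χ hlam
  have hT := hprim T ψ (IsIrr.isCharacter hψ) hind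
  have hinv : ∀ g : G, CfsgLib.Blocks.conjIrr A g lam = lam := fun g =>
    Subtype.ext (funext fun n => by
      have h1 : CfsgLib.Clifford.conjFn hAn (lam : A → ℂ) g = (lam : A → ℂ) :=
        CfsgLib.Clifford.mem_inertia.1 (hT.symm ▸ Subgroup.mem_top g : g ∈ T)
      have h2 := congrFun h1 n
      rw [CfsgLib.Clifford.conjFn_apply] at h2
      rw [CfsgLib.Blocks.conjIrr_apply]
      exact h2)
  obtain ⟨l, hl⟩ := exists_hom_of_degree_one lam (charDegree_of_comm hA lam)
  intro x hx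
  rw [Subgroup.mem_center_iff]
  intro g
  have hres := CfsgLib.FongInvariant.restrict_eq_smul A hinv hlam
  have h1 : g * x * g⁻¹ * x⁻¹ = 1 := hfaith _ (by
    have hmem : g * x * g⁻¹ * x⁻¹ ∈ A := mul_mem (hAn.conj_mem x hx g) (inv_mem hx)
    have e1 := congrFun hres ⟨_, hmem⟩
    have e2 := congrFun hres 1
    simp only [Pi.smul_apply, OneMemClass.coe_one] at e1 e2
    rw [e1, e2]
    congr 1
    rw [show (⟨g * x * g⁻¹ * x⁻¹, hmem⟩ : A) = ⟨g * x * g⁻¹, hAn.conj_mem x hx g⟩ * ⟨x, hx⟩⁻¹ from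
      Subtype.ext rfl, hl]
    simp only [map_mul, map_inv, map_one, Units.val_one, Units.val_mul]
    have h3 := congrFun (congrArg Subtype.val (hinv g)) ⟨x, hx⟩
    rw [CfsgLib.Blocks.conjIrr_apply, hl] at h3
    simp only at h3
    rw [h3, ← Units.val_mul, mul_inv_cancel, Units.val_one])
  exact mul_inv_eq_iff_eq_mul.1 (mul_inv_eq_one.1 h1)

/-- The Fitting subgroup has central commutators. -/
theorem commutator_mem_center (χ : Cfsg.IrrCharacter G)
    (hfaith : ∀ g : G, (χ : G → ℂ) g = (χ : G → ℂ) 1 → g = 1)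
    (hprim : ∀ (T : Subgroup G) [Fintype T] (ψ : T → ℂ), Cfsg.IsCharacter T ψ →
      Cfsg.indFun T ψ = (χ : G → ℂ) → T = ⊤)
    (F : Subgroup G) [F.Normal] (hnil : Group.IsNilpotent F) :
    ∀ x ∈ F, ∀ y ∈ F, ⁅x, y⁆ ∈ Subgroup.center G := by
  obtain ⟨n, hn⟩ := Subgroup.nilpotent_iff_lowerCentralSeries.1 hnil
  set L := fun i => (⊤ : Subgroup F).lowerCentralSeries i
  have hP : ∀ j i, 1 ≤ i → n ≤ i + j → (L i).map F.subtype ≤ Subgroup.center G := by
    intro j
    induction j with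
    | zero =>
      intro i _ hi
      have h0 : L i = ⊥ := eq_bot_iff.2 (le_trans (Subgroup.lowerCentralSeries_antitone _ hi) hn.le)
      rw [h0, Subgroup.map_bot]
      exact bot_le
    | succ j ihj =>
      intro i h1 hi
      have hnext := ihj (i + 1) (by omega) (by omega)
      have : ((L i).map F.subtype).Normal := inferInstance
      refine le_center_of_comm χ hfaith hprim _ fun a b => ?_
      obtain ⟨a', ha', ha⟩ := a.2
      obtain ⟨b', hb', hb⟩ := b.2
      refine Subtype.ext ?_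
      show (a : G) * b = b * a
      rw [← ha, ← hb, ← map_mul, ← map_mul]
      congr 1
      rw [← commutatorElement_eq_one_iff_mul_comm, ← Subgroup.mem_bot]
      have h2 : ⁅L i, L i⁆ ≤ ⁅L (i + 1), (⊤ : Subgroup F)⁆ := by
        refine le_trans (CfsgLib.PGroups.lowerCentralSeries_commutator_le i i) ?_
        rw [← Subgroup.lowerCentralSeries_succ]
        exact Subgroup.lowerCentralSeries_antitone _ (by omega)
      have h3 : ⁅L (i + 1), (⊤ : Subgroup F)⁆ = ⊥ := eq_bot_iff.2 (Subgroup.commutator_le.2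
        fun u hu w _ => Subgroup.mem_bot.2 (commutatorElement_eq_one_iff_mul_comm.2 (Subtype.ext
          (Subgroup.mem_center_iff.1 (hnext (Subgroup.mem_map_of_mem _ hu)) (w : G)).symm)))
      rw [← h3]
      exact h2 (Subgroup.commutator_mem_commutator ha' hb')
  intro x hx y hy
  refine hP n 1 le_rfl (by omega) ⟨⁅(⟨x, hx⟩ : F), ⟨y, hy⟩⁆, ?_, by simp [map_commutatorElement]⟩
  show _ ∈ L 1
  simp only [L, Subgroup.lowerCentralSeries_succ, Subgroup.lowerCentralSeries_zero]
  exact Subgroup.commutator_mem_commutator (Subgroup.mem_top _) (Subgroup.mem_top _)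

/-- On a coset of the Fitting subgroup the nonvanishing elements are conjugate up to scalars. -/
theorem coset_support (χ : Cfsg.IrrCharacter G)
    (hfaith : ∀ g : G, (χ : G → ℂ) g = (χ : G → ℂ) 1 → g = 1)
    (F : Subgroup G) [F.Normal] (hcl : ∀ x ∈ F, ∀ y ∈ F, ⁅x, y⁆ ∈ Subgroup.center G)
    (hZF : Subgroup.center G ≤ F) (hZ : ∀ x ∈ F, (∀ y ∈ F, x * y = y * x) → x ∈ Subgroup.center G)
    (h : G) (hh : (χ : G → ℂ) h ≠ 0) (x : G) (hx : x ∈ F) (hhx : (χ : G → ℂ) (h * x) ≠ 0) :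
    ∃ y : G, ∃ z ∈ Subgroup.center G, h * x = y * h * y⁻¹ * z := by
  classical
  set Z := Subgroup.center G with hZdef
  have hker : kerSubgroup χ = ⊥ := (Subgroup.eq_bot_iff_forall _).2 fun g hg => hfaith g (mem_kerSubgroup.1 hg)
  have hvan : ∀ g y : G, (χ : G → ℂ) g ≠ 0 → ⁅g, y⁆ ∈ Z → g * y = y * g := fun g y hg hgy => by
    rw [← commutatorElement_eq_one_iff_mul_comm]
    by_contra hne
    exact hg (apply_eq_zero χ y (center_le_zMod _ hgy) (by rwa [hker, Subgroup.mem_bot]))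
  have hconj : ∀ y : G, y ∈ F → ⁅h⁻¹, y⁆ ∈ F := fun y hy => by
    rw [commutatorElement_def]
    exact mul_mem ((inferInstance : F.Normal).conj_mem y hy h⁻¹) (inv_mem hy)
  let C : Subgroup F := (Subgroup.centralizer ({h} : Set G)).subgroupOf F
  have hC : ∀ y : F, y ∈ C ↔ h * (y : G) = y * h := fun y => by
    rw [Subgroup.mem_subgroupOf, Subgroup.mem_centralizer_singleton_iff]
    exact eq_comm
  have hCn : C.Normal := ⟨fun c hc g => by
    rw [hC] at hc ⊢
    have hz : ⁅(g : G), (c : G)⁆ ∈ Z := hcl g g.2 c c.2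
    have e : ((g * c * g⁻¹ : F) : G) = ⁅(g : G), (c : G)⁆ * c := by
      simp [commutatorElement_def]
    rw [e, ← mul_assoc, Subgroup.mem_center_iff.1 hz h, mul_assoc, hc, ← mul_assoc]⟩
  have := Fintype.ofFinite F
  -- the conjugates
  let Γ : (F ⧸ C) × Z → G := fun q => ⁅h⁻¹, ((q.1.out : F) : G)⁆ * q.2
  have hout : ∀ q : F ⧸ C, ((q.out : F) : F ⧸ C) = q := fun q => QuotientGroup.out_eq' q
  have hΓ : Function.Injective Γ := by
    rintro ⟨q, z⟩ ⟨q', z'⟩ he
    set y := ((q.out : F) : G)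
    set y' := ((q'.out : F) : G)
    have he' : ⁅h⁻¹, y⁆ * (z : G) = ⁅h⁻¹, y'⁆ * z' := he
    have hy : y⁻¹ * y' ∈ Subgroup.centralizer ({h} : Set G) := by
      rw [Subgroup.mem_centralizer_singleton_iff]
      refine (hvan h (y⁻¹ * y') hh ?_).symm
      have e1 : h⁻¹ * y * h * y⁻¹ * (z : G) = h⁻¹ * y' * h * y'⁻¹ * z' := by
        simpa [commutatorElement_def, inv_inv] using he'
      have e2 : ⁅h, y⁻¹ * y'⁆ = h * y⁻¹ * (y' * h⁻¹ * y'⁻¹ * h) * h⁻¹ * y * (y⁻¹ * h * y) * (y⁻¹ * h⁻¹ * y) := by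
        simp only [commutatorElement_def]; group
      have e3 : y' * h⁻¹ * y'⁻¹ * h = (z' : G) * (z : G)⁻¹ * (y * h⁻¹ * y⁻¹ * h) := by
        have hz : ∀ w : G, w * (z : G) = z * w := Subgroup.mem_center_iff.1 z.2
        have hz' : ∀ w : G, w * (z' : G) = z' * w := Subgroup.mem_center_iff.1 z'.2
        rw [hz (h⁻¹ * y * h * y⁻¹), hz' (h⁻¹ * y' * h * y'⁻¹)] at e1
        have e4 := congrArg (fun t => t⁻¹) e1
        simp only [mul_inv_rev, inv_inv] at e4
        have hz2 : ∀ w : G, w * (z : G)⁻¹ = (z : G)⁻¹ * w := Subgroup.mem_center_iff.1 (inv_mem z.2)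
        have hz2' : ∀ w : G, w * (z' : G)⁻¹ = (z' : G)⁻¹ * w := Subgroup.mem_center_iff.1 (inv_mem z'.2)
        rw [hz2, hz2', ← eq_inv_mul_iff_mul_eq.symm] at e4
        rw [← mul_assoc] at e4
        simp only [mul_assoc, inv_inv] at e4 ⊢
        exact e4.symm
      rw [e2, e3]
      have hzz : ∀ w : G, w * ((z' : G) * (z : G)⁻¹) = ((z' : G) * (z : G)⁻¹) * w :=
        Subgroup.mem_center_iff.1 (mul_mem z'.2 (inv_mem z.2))
      have e5 : h * y⁻¹ * ((z' : G) * (z : G)⁻¹ * (y * h⁻¹ * y⁻¹ * h)) * h⁻¹ * y * (y⁻¹ * h * y) * (y⁻¹ * h⁻¹ * y)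
          = (z' : G) * (z : G)⁻¹ := by
        rw [← mul_assoc (h * y⁻¹), hzz (h * y⁻¹)]
        group
      rw [e5]
      exact mul_mem z'.2 (inv_mem z.2)
    have hq : q = q' := by
      rw [← hout q, ← hout q', QuotientGroup.eq, Subgroup.mem_subgroupOf]
      simpa [y, y'] using hy
    subst hq
    exact Prod.ext rfl (Subtype.ext (mul_left_cancel he'))
  set E := Finset.univ.filter fun w : G => w ∈ F ∧ ∀ c : F, c ∈ C → w * c = c * w with hE
  have := Fintype.ofFinite (F ⧸ C)
  have := Fintype.ofFinite Z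
  have hΓE : (Finset.univ.image Γ) ⊆ E := by
    intro w hw
    obtain ⟨⟨q, z⟩, -, rfl⟩ := Finset.mem_image.1 hw
    refine Finset.mem_filter.2 ⟨Finset.mem_univ _, mul_mem (hconj _ (q.out).2) (hZF z.2), fun c hc => ?_⟩
    have hch : Commute (c : G) h := ((hC c).1 hc).symm
    set y := ((q.out : F) : G)
    have hz1 : ⁅(c : G), y⁆ ∈ Z := hcl c c.2 y (q.out).2
    have e : (c : G) * y = ⁅(c : G), y⁆ * (y * c) := by rw [commutatorElement_def]; group
    have h1 : Commute (c : G) ⁅h⁻¹, y⁆ := by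
      have e2 : (c : G) * ⁅h⁻¹, y⁆ * (c : G)⁻¹ = ⁅h⁻¹, (c : G) * y * (c : G)⁻¹⁆ := by
        rw [conjugate_commutatorElement]
        congr 1
        rw [hch.inv_right.eq, mul_inv_cancel_right]
      have e3 : (c : G) * y * (c : G)⁻¹ = ⁅(c : G), y⁆ * y := by rw [commutatorElement_def]; group
      have e4 : ⁅h⁻¹, ⁅(c : G), y⁆ * y⁆ = ⁅h⁻¹, y⁆ := by
        have hz2 := Subgroup.mem_center_iff.1 hz1
        rw [commutatorElement_def, commutatorElement_def h⁻¹ y, mul_inv_rev, ← mul_assoc h⁻¹,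
          hz2 h⁻¹]
        rw [show ⁅(c : G), y⁆ * h⁻¹ * y * (h⁻¹)⁻¹ * (y⁻¹ * ⁅(c : G), y⁆⁻¹) =
          ⁅(c : G), y⁆ * (h⁻¹ * y * (h⁻¹)⁻¹ * y⁻¹) * ⁅(c : G), y⁆⁻¹ by group, ← hz2,
          mul_inv_cancel_right]
      rw [e3, e4] at e2
      exact mul_inv_eq_iff_eq_mul.1 e2
    exact (h1.mul_right (Subgroup.mem_center_iff.1 z.2 c)).eq.symm
  -- pairing with the linear characters
  have hEcard : E.card ≤ (Finset.univ.image Γ).card := by
    rw [Finset.card_image_of_injective _ hΓ, Finset.card_univ, Fintype.card_prod]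
    have := Fintype.ofFinite (Cfsg.IrrCharacter (F ⧸ C))
    obtain ⟨n, ρ, hρ, hρχ, -⟩ := exists_rep χ
    choose f hf1 _ hf3 using fun z : Z => exists_scalar χ (center_le_zMod (kerSubgroup χ) z.2)
    have hne := IsIrr.apply_one_ne_zero χ.2
    have hfmul : ∀ u w : Z, f (u * w) = f u * f w := fun u w => mul_right_cancel₀ hne (by
      rw [← hf1, mul_assoc (f u), ← hf1 w, ← hf1 u]; simp [mul_assoc])
    have hfone : f 1 = 1 := (hf3 1).2 (by simp)
    let lam : Z →* ℂ := { toFun := f, map_one' := hfone, map_mul' := hfmul }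
    have hlin : ∀ w ∈ E, ∃ μ : Cfsg.IrrCharacter (F ⧸ C), ∀ y : F,
        (μ : F ⧸ C → ℂ) y = if hw : ⁅w, (y : G)⁆ ∈ Z then f ⟨_, hw⟩ else 0 := by
      intro w hw
      obtain ⟨-, hwF, hwC⟩ := Finset.mem_filter.1 hw
      let pr : F →* Z :=
        { toFun := fun y => ⟨⁅w, (y : G)⁆, hcl w hwF y y.2⟩
          map_one' := Subtype.ext (by simp)
          map_mul' := fun y y' => Subtype.ext (by
            show ⁅w, (y : G) * y'⁆ = ⁅w, (y : G)⁆ * ⁅w, (y' : G)⁆
            rw [show ⁅w, (y : G) * y'⁆ = ⁅w, (y : G)⁆ * ((y : G) * ⁅w, (y' : G)⁆ * (y : G)⁻¹) by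
              simp only [commutatorElement_def]; group,
              Subgroup.mem_center_iff.1 (hcl w hwF y' y'.2) (y : G), mul_inv_cancel_right]) }
      have hle : C ≤ (lam.toHomUnits.comp pr).ker := fun c hc => MonoidHom.mem_ker.2 (Units.ext (by
        show f (pr c) = 1
        rw [show pr c = 1 from Subtype.ext (commutatorElement_eq_one_iff_mul_comm.2 (hwC c hc))]
        exact hfone))
      refine ⟨⟨_, isIrrCharacter_linear (QuotientGroup.lift C (lam.toHomUnits.comp pr) hle)⟩,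
        fun y => ?_⟩
      rw [dif_pos (hcl w hwF y y.2)]
      rfl
    choose μ hμ using hlin
    let e : {w // w ∈ E} → Cfsg.IrrCharacter (F ⧸ C) := fun w => μ w.1 w.2
    have hfib : ∀ ν ∈ Finset.univ.image e, (Finset.univ.filter fun w => e w = ν).card ≤ Fintype.card Z := by
      intro ν hν
      obtain ⟨w₀, -, rfl⟩ := Finset.mem_image.1 hν
      obtain ⟨-, h0F, -⟩ := Finset.mem_filter.1 w₀.2
      have hkey : ∀ w : {w // w ∈ E}, e w = e w₀ → (w₀ : G)⁻¹ * (w : G) ∈ Z := fun w hw => by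
        obtain ⟨-, hwF, -⟩ := Finset.mem_filter.1 w.2
        refine hZ _ (mul_mem (inv_mem h0F) hwF) fun y hy => ?_
        have e1 := hμ w.1 w.2 ⟨y, hy⟩
        have e2 := hμ w₀.1 w₀.2 ⟨y, hy⟩
        rw [show μ w.1 w.2 = μ w₀.1 w₀.2 from hw, e2, dif_pos (hcl _ h0F y hy),
          dif_pos (hcl _ hwF y hy)] at e1
        have e3 : ⁅(w₀ : G), y⁆ = ⁅(w : G), y⁆ := by
          have h4 : f ((⟨_, hcl _ h0F y hy⟩ : Z)⁻¹ * ⟨_, hcl _ hwF y hy⟩) = 1 := by
            rw [hfmul]
            show _ * f ⟨⁅(w : G), y⁆, _⟩ = 1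
            rw [← e1, ← hfmul, inv_mul_cancel, hfone]
          have h5 := (hf3 _).1 h4
          rw [hker, Subgroup.mem_bot] at h5
          exact inv_mul_eq_one.1 h5
        have e4 : (w₀ : G)⁻¹ * (w : G) * y = (w₀ : G)⁻¹ * (⁅(w : G), y⁆ * (y * w)) := by
          rw [commutatorElement_def]; group
        rw [e4, ← e3, commutatorElement_def]
        group
      refine le_trans (Finset.card_le_card_of_injOn (fun w => if hw : (w₀ : G)⁻¹ * (w : G) ∈ Z then
        (⟨_, hw⟩ : Z) else 1) (fun _ _ => Finset.mem_univ _) fun a ha b hb hab => ?_) (le_of_eq Finset.card_univ)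
      simp only [Finset.coe_filter, Finset.mem_univ, true_and, Set.mem_setOf_eq] at ha hb
      simp only [dif_pos (hkey a ha), dif_pos (hkey b hb), Subtype.mk.injEq, mul_right_inj] at hab
      exact Subtype.ext hab
    have h1 := Finset.card_le_mul_card_image Finset.univ (Fintype.card Z) hfib
    rw [Finset.card_univ, Fintype.card_coe] at h1
    refine h1.trans ?_
    rw [mul_comm]
    refine Nat.mul_le_mul_right _ ((Finset.card_le_univ _).trans ?_)
    rw [← Nat.card_eq_fintype_card, card_irrCharacter, ← Nat.card_eq_fintype_card]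
    exact Nat.card_le_card_of_surjective ConjClasses.mk ConjClasses.mk_surjective
  -- conclusion
  have hxE : x ∈ E := Finset.mem_filter.2 ⟨Finset.mem_univ _, hx, fun c hc => by
    have hch : h * (c : G) = c * h := (hC c).1 hc
    have hz1 : ⁅x, (c : G)⁆ ∈ Z := hcl x hx c c.2
    have e : ⁅h * x, (c : G)⁆ = h * ⁅x, (c : G)⁆ * h⁻¹ * ⁅h, (c : G)⁆ := by
      simp only [commutatorElement_def]; group
    have h1 : h * x * c = c * (h * x) := hvan _ _ hhx (by
      rw [e, commutatorElement_eq_one_iff_mul_comm.2 hch, mul_one]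
      exact (inferInstance : Z.Normal).conj_mem _ hz1 h)
    refine mul_left_cancel (a := h) ?_
    rw [← mul_assoc, h1, ← mul_assoc, ← hch, mul_assoc]⟩
  obtain ⟨⟨q, z⟩, -, hq⟩ := Finset.mem_image.1
    ((Finset.eq_of_subset_of_card_le hΓE hEcard).symm ▸ hxE)
  refine ⟨((q.out : F) : G), z, z.2, ?_⟩
  rw [← hq]
  simp only [Γ, commutatorElement_def, inv_inv]
  group

/-- Let G be a finite group with a faithful irreducible character χ (taking the value χ(1) only at the identity) and let k be prime to the order of G, so that g ↦ χ(g^k) is a Galois conjugate of χ. If the pointwise product g ↦ χ(g)·χ(g^k) is again an irreducible character, then the Fitting subgroup of G equals its centre. -/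
theorem result {G : Type*} [Group G] [Finite G] (χ : Cfsg.IrrCharacter G) (hfaith : ∀ g : G, (χ : G → ℂ) g = (χ : G → ℂ) 1 → g = 1) (k : ℕ) (hk : Nat.Coprime k (Nat.card G)) (hirr : Cfsg.IsIrrCharacter G (fun g => (χ : G → ℂ) g * (χ : G → ℂ) (g ^ k))) : Cfsg.fittingSubgroup G = Subgroup.center G := by
  classical
  have := Fintype.ofFinite G
  have := Fintype.ofFinite (Cfsg.IrrCharacter G)
  set Δ : G → ℂ := (χ : G → ℂ) * fun g => conj ((χ : G → ℂ) g) with hΔdef
  set Δk : G → ℂ := fun g => (χ : G → ℂ) (g ^ k) * conj ((χ : G → ℂ) (g ^ k)) with hΔkdef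
  have hnorm : Cfsg.classInner Δ Δk = 1 := by
    rw [← classInner_irr_self (⟨_, hirr⟩ : Cfsg.IrrCharacter G), Cfsg.classInner, Cfsg.classInner]
    congr 1
    refine Finset.sum_congr rfl fun g _ => ?_
    simp only [hΔdef, hΔkdef, Pi.mul_apply, map_mul, Complex.conj_conj]
    ring
  have hprim : ∀ (T : Subgroup G) [Fintype T] (ψ : T → ℂ), Cfsg.IsCharacter T ψ →
      Cfsg.indFun T ψ = (χ : G → ℂ) → T = ⊤ := fun T _ ψ hψ h => eq_top_of_indFun χ k hk hnorm T hψ h
  set F := Cfsg.fittingSubgroup G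
  have hFn : F.Normal := CfsgLib.Core.normal_fittingSubgroup G
  have hnil := CfsgLib.Core.isNilpotent_fittingSubgroup G
  have hcl := commutator_mem_center χ hfaith hprim F hnil
  set Z := Subgroup.center G with hZdef
  have hZF : Z ≤ F := CfsgLib.Core.le_fittingSubgroup
    (by letI : CommGroup Z := { (inferInstance : Group Z) with
          mul_comm := fun a b => Subtype.ext (Subgroup.mem_center_iff.1 b.2 a) }
        exact (inferInstance : Group.IsNilpotent Z))
  have hZ : ∀ x ∈ F, (∀ y ∈ F, x * y = y * x) → x ∈ Z := fun x hx hc => by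
    have : ((Subgroup.center F).map F.subtype).Normal := inferInstance
    refine le_center_of_comm χ hfaith hprim ((Subgroup.center F).map F.subtype) (fun a b => ?_)
      ⟨⟨x, hx⟩, Subgroup.mem_center_iff.2 fun y => Subtype.ext (hc y y.2).symm, rfl⟩
    obtain ⟨a', ha', ha⟩ := a.2
    obtain ⟨b', -, hb⟩ := b.2
    refine Subtype.ext ?_
    show (a : G) * b = b * a
    rw [← ha, ← hb, ← map_mul, ← map_mul, Subgroup.mem_center_iff.1 ha' b']
  by_contra hne
  have hlt : Z < F := lt_of_le_of_ne hZF (Ne.symm hne)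
  have := Fintype.ofFinite F
  -- squared norms
  set a : G → ℝ := fun g => ‖(χ : G → ℂ) g‖ ^ 2 with hadef
  set b : G → ℝ := fun g => ‖(χ : G → ℂ) (g ^ k)‖ ^ 2 with hbdef
  have hΔa : ∀ g, Δ g = (a g : ℂ) := fun g => by
    simp [hΔdef, hadef, Complex.mul_conj']
  have hΔb : ∀ g, Δk g = (b g : ℂ) := fun g => by
    simp [hΔkdef, hbdef, Complex.mul_conj']
  have hT : ∑ g : G, a g * b g = Nat.card G := by
    have h := hnorm
    rw [Cfsg.classInner, inv_mul_eq_one₀ (Nat.cast_ne_zero.2 Nat.card_pos.ne')] at h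
    simp only [hΔa, hΔb, Complex.conj_ofReal] at h
    exact_mod_cast h.symm
  set S1 : G → ℝ := fun h => ∑ x : F, a (h * x) with hS1
  set S2 : G → ℝ := fun h => ∑ x : F, b (h * x) with hS2
  set S12 : G → ℝ := fun h => ∑ x : F, a (h * x) * b (h * x) with hS12
  have hker : kerSubgroup χ = ⊥ := (Subgroup.eq_bot_iff_forall _).2 fun g hg => hfaith g (mem_kerSubgroup.1 hg)
  have hsupp : ∀ g, b g = 0 ↔ a g = 0 := fun g => by
    simp only [hadef, hbdef, sq_eq_zero_iff, norm_eq_zero]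
    refine ⟨fun h0 => by_contra fun hne => apply_pow_ne_zero (IsIrr.isCharacter χ.2) hk.symm hne h0,
      fun h0 => ?_⟩
    obtain ⟨r, hr, hrc⟩ := exists_inverse_exponent (G := G) hk
    by_contra hne
    refine apply_pow_ne_zero (IsIrr.isCharacter χ.2) hrc.symm hne ?_
    rw [hr]
    exact h0
  -- one coset
  have hval : ∀ h : G, (χ : G → ℂ) h ≠ 0 → ∀ x : F, a (h * x) ≠ 0 → a (h * x) = a h ∧ b (h * x) = b h := by
    intro h hh x hx
    obtain ⟨y, z, hz, he⟩ := coset_support χ hfaith F hcl hZF hZ h hh x x.2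
      (fun h0 => hx (by simp [hadef, h0]))
    have hscal : ∀ w u, w ∈ Z → ‖(χ : G → ℂ) (u * w)‖ = ‖(χ : G → ℂ) u‖ := fun w u hw => by
      obtain ⟨c, hc, hc1, -⟩ := exists_scalar χ (center_le_zMod (kerSubgroup χ) hw)
      rw [Subgroup.mem_center_iff.1 hw u, hc, norm_mul, hc1, one_mul]
    constructor
    · simp only [hadef, he, hscal z _ hz, IsIrr.isClassFunction χ.2 h y]
    · simp only [hbdef, he]
      rw [((show Commute (y * h * y⁻¹) z from Subgroup.mem_center_iff.1 hz _)).mul_pow, conj_pow,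
        hscal _ _ (pow_mem hz k), IsIrr.isClassFunction χ.2 (h ^ k) y]
  have hcoset : ∀ h : G, S1 h * S2 h ≤ (Fintype.card F : ℝ) * S12 h ∧
      (h = 1 → S1 h * S2 h < (Fintype.card F : ℝ) * S12 h) := by
    have key : ∀ h : G, a h ≠ 0 → ∃ m : ℕ, S1 h = m * a h ∧ S2 h = m * b h ∧
        S12 h = m * (a h * b h) ∧ m ≤ Fintype.card F ∧ 0 < m ∧ (h = 1 → m < Fintype.card F) := by
      intro h hh
      have hh' : (χ : G → ℂ) h ≠ 0 := fun h0 => hh (by simp [hadef, h0])
      set s := Finset.univ.filter fun x : F => a (h * x) ≠ 0 with hs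
      have hout : ∀ x ∉ s, a (h * (x : F)) = 0 ∧ b (h * (x : F)) = 0 := fun x hx => by
        simp only [hs, Finset.mem_filter, Finset.mem_univ, true_and, not_not] at hx
        exact ⟨hx, (hsupp _).2 hx⟩
      refine ⟨s.card, ?_, ?_, ?_, Finset.card_le_univ _,
        Finset.card_pos.2 ⟨1, by simp [hs, hh]⟩, fun h1 => ?_⟩
      · simp only [hS1]
        rw [← Finset.sum_subset (Finset.subset_univ s) fun x _ hx => (hout x hx).1,
          Finset.sum_congr rfl fun x hx => (hval h hh' x (Finset.mem_filter.1 hx).2).1,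
          Finset.sum_const, nsmul_eq_mul]
      · simp only [hS2]
        rw [← Finset.sum_subset (Finset.subset_univ s) fun x _ hx => (hout x hx).2,
          Finset.sum_congr rfl fun x hx => (hval h hh' x (Finset.mem_filter.1 hx).2).2,
          Finset.sum_const, nsmul_eq_mul]
      · simp only [hS12]
        rw [← Finset.sum_subset (Finset.subset_univ s) fun x _ hx => by rw [(hout x hx).1, zero_mul],
          Finset.sum_congr rfl fun x hx => by
            rw [(hval h hh' x (Finset.mem_filter.1 hx).2).1, (hval h hh' x (Finset.mem_filter.1 hx).2).2],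
          Finset.sum_const, nsmul_eq_mul]
      · subst h1
        obtain ⟨x, hxF, hxZ⟩ := SetLike.exists_of_lt hlt
        refine Finset.card_lt_univ_of_notMem (x := (⟨x, hxF⟩ : F)) fun hmem => ?_
        have hmem' := (Finset.mem_filter.1 hmem).2
        rw [one_mul] at hmem'
        refine hxZ (hZ x hxF fun y hy => ?_)
        rw [← commutatorElement_eq_one_iff_mul_comm]
        by_contra hc
        exact hmem' (by simp [hadef, apply_eq_zero χ y (center_le_zMod _ (hcl x hxF y hy))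
          (by rwa [hker, Subgroup.mem_bot])])
    have key2 : ∀ h : G, a h ≠ 0 → S1 h * S2 h ≤ (Fintype.card F : ℝ) * S12 h := fun h hh => by
      obtain ⟨m, e1, e2, e3, hm, -, -⟩ := key h hh
      rw [e1, e2, e3]
      have hm' : (m : ℝ) ≤ Fintype.card F := by exact_mod_cast hm
      calc (m : ℝ) * a h * (m * b h) = (m : ℝ) * (m * (a h * b h)) := by ring
        _ ≤ _ := mul_le_mul_of_nonneg_right hm' (by positivity)
    intro h
    refine ⟨?_, fun h1 => ?_⟩
    · by_cases hall : ∀ x : F, a (h * x) = 0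
      · rw [show S1 h = 0 from Finset.sum_eq_zero fun x _ => hall x,
          show S12 h = 0 from Finset.sum_eq_zero fun x _ => by rw [hall x, zero_mul], zero_mul, mul_zero]
      · push Not at hall
        obtain ⟨x₀, hx₀⟩ := hall
        have hshift : ∀ f : G → ℝ, ∑ x : F, f (h * x₀ * x) = ∑ x : F, f (h * x) := fun f =>
          Fintype.sum_equiv (Equiv.mulLeft x₀) _ _ fun x => by simp [mul_assoc]
        have := key2 (h * x₀) hx₀
        simp only [hS1, hS2, hS12] at this ⊢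
        rwa [hshift a, hshift b, hshift fun g => a g * b g] at this
    · subst h1
      have ha1 : a 1 ≠ 0 := pow_ne_zero _ (norm_ne_zero_iff.2 (IsIrr.apply_one_ne_zero χ.2))
      have hb1 : b 1 ≠ 0 := fun h0 => ha1 ((hsupp 1).1 h0)
      obtain ⟨m, e1, e2, e3, -, hm0, hmlt⟩ := key 1 ha1
      rw [e1, e2, e3]
      have hm' : (m : ℝ) < Fintype.card F := by exact_mod_cast hmlt rfl
      calc (m : ℝ) * a 1 * (m * b 1) = (m : ℝ) * (m * (a 1 * b 1)) := by ring
        _ < _ := mul_lt_mul_of_pos_right hm' (by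
          have h1 : 0 < a 1 := lt_of_le_of_ne (by positivity) (Ne.symm ha1)
          have h2 : 0 < b 1 := lt_of_le_of_ne (by positivity) (Ne.symm hb1)
          positivity)
  -- the sum over all cosets
  have hlt1 : ∑ h : G, S1 h * S2 h < (Fintype.card F : ℝ) * ∑ h : G, S12 h := by
    rw [Finset.mul_sum]
    exact Finset.sum_lt_sum (fun h _ => (hcoset h).1) ⟨1, Finset.mem_univ _, (hcoset 1).2 rfl⟩
  have hS12sum : ∑ h : G, S12 h = (Fintype.card F : ℝ) * Nat.card G := by
    simp only [hS12]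
    rw [Finset.sum_comm]
    refine (Finset.sum_congr rfl (g := fun _ : F => (Nat.card G : ℝ)) fun x _ => ?_).trans ?_
    · rw [← hT]
      exact Fintype.sum_equiv (Equiv.mulRight (x : G)) _ _ fun h => rfl
    · rw [Finset.sum_const, Finset.card_univ, nsmul_eq_mul]
  -- the averages over the cosets
  have hproj : ∀ μ : Cfsg.IrrCharacter G, ∃ c : ℝ, 0 ≤ c ∧ (μ = trivChar G → c = Fintype.card F) ∧
      ∀ h, ∑ x : F, (μ : G → ℂ) (h * x) = (c : ℂ) * (μ : G → ℂ) h := fun μ => by
    obtain ⟨n, ρ, hρ, hρμ, hn⟩ := exists_rep μ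
    have hc : ∀ g, (∑ x : F, ρ x) * ρ g = ρ g * ∑ x : F, ρ x := fun g => by
      rw [Finset.sum_mul, Finset.mul_sum]
      refine Fintype.sum_equiv (MulAut.conjNormal (H := F) g⁻¹).toEquiv _ _ fun x => ?_
      rw [← map_mul, ← map_mul]
      congr 1
      show (x : G) * g = g * ((MulAut.conjNormal g⁻¹ x : F) : G)
      rw [MulAut.conjNormal_apply]
      group
    obtain ⟨c, hc'⟩ := exists_eq_smul_of_commute ρ _ hc
    have hformula : ∀ h, ∑ x : F, (μ : G → ℂ) (h * x) = c * (μ : G → ℂ) h := fun h => by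
      rw [← hρμ]
      show ∑ x : F, LinearMap.trace ℂ _ (ρ (h * x)) = c * LinearMap.trace ℂ _ (ρ h)
      simp only [map_mul, ← map_sum, ← Finset.mul_sum, hc', ← smul_eq_mul c, ← map_smul]
      congr 1
      ext v
      simp
    obtain ⟨t, ht⟩ := IsChar.classInner_eq_natCast (IsChar.restrict F (IsIrr.isCharacter μ.2))
      (IsIrr.isCharacter (trivChar F).2)
    have h1 : c * (μ : G → ℂ) 1 = (Fintype.card F : ℂ) * t := by
      rw [← hformula 1, ← ht, Cfsg.classInner, Nat.card_eq_fintype_card, ← mul_assoc,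
        mul_inv_cancel₀ (Nat.cast_ne_zero.2 Fintype.card_ne_zero), one_mul]
      simp [trivChar_apply]
    refine ⟨(Fintype.card F : ℝ) * t / Cfsg.charDegree (μ : G → ℂ), by positivity, fun h0 => ?_, fun h => ?_⟩
    · subst h0
      have e : t = 1 := Nat.cast_injective (R := ℂ) (by
        rw [← ht, Nat.cast_one]
        exact classInner_irr_self (trivChar F))
      have ed : Cfsg.charDegree ((trivChar G : Cfsg.IrrCharacter G) : G → ℂ) = 1 := by
        simp [Cfsg.charDegree, trivChar_apply]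
      rw [e, ed]
      simp
    · rw [hformula h]
      congr 1
      have hne := IsIrr.apply_one_ne_zero μ.2
      rw [← cast_irrDegree] at hne h1
      push_cast
      rw [eq_div_iff hne, h1]
  choose c hc0 hc1 hcf using hproj
  have hΔc : Cfsg.IsCharacter G Δ :=
    IsChar.mul (IsIrr.isCharacter χ.2) (IsChar.conj (IsIrr.isCharacter χ.2))
  have hΔkc : Cfsg.IsCharacter G Δk := isCharacter_pow hΔc hk
  have hm : ∀ (Φ : G → ℂ), Cfsg.IsCharacter G Φ → ∀ μ : Cfsg.IrrCharacter G,
      ∃ m : ℕ, Cfsg.classInner Φ (μ : G → ℂ) = m := fun Φ hΦ μ =>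
    IsChar.classInner_eq_natCast hΦ (IsIrr.isCharacter μ.2)
  choose α hα using hm Δ hΔc
  choose β hβ using hm Δk hΔkc
  have hexp : ∀ (Φ : G → ℂ) (γ : Cfsg.IrrCharacter G → ℕ), Cfsg.IsCharacter G Φ →
      (∀ μ : Cfsg.IrrCharacter G, Cfsg.classInner Φ (μ : G → ℂ) = γ μ) → ∀ h : G,
      ∑ x : F, Φ (h * x) = ∑ μ : Cfsg.IrrCharacter G, ((γ μ : ℝ) * c μ : ℝ) * (μ : G → ℂ) h := by
    intro Φ γ hΦ hγ h
    have e := classFunction_eq_sum (IsChar.isClassFunction hΦ)
    rw [Finset.sum_congr rfl fun x _ => congrFun e (h * (x : F))]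
    simp only [Finset.sum_apply, Pi.smul_apply, hγ, smul_eq_mul]
    rw [Finset.sum_comm]
    refine Finset.sum_congr rfl fun μ _ => ?_
    rw [← Finset.mul_sum, hcf μ h]
    push_cast
    ring
  have hge : (Fintype.card F : ℝ) ^ 2 * Nat.card G ≤ ∑ h : G, S1 h * S2 h := by
    have e1 : ∀ h, (S1 h : ℂ) = ∑ μ : Cfsg.IrrCharacter G, ((α μ : ℝ) * c μ : ℝ) * (μ : G → ℂ) h := fun h => by
      rw [← hexp Δ α hΔc hα h, hS1]; simp [hΔa]
    have e2 : ∀ h, (S2 h : ℂ) = ∑ μ : Cfsg.IrrCharacter G, ((β μ : ℝ) * c μ : ℝ) * conj ((μ : G → ℂ) h) := fun h => by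
      have e := congrArg conj (hexp Δk β hΔkc hβ h)
      simp only [hΔb, map_sum, Complex.conj_ofReal, map_mul] at e
      rw [← e, hS2]; simp
    have e3 : ((∑ h : G, S1 h * S2 h : ℝ) : ℂ) =
        ((Nat.card G * ∑ μ : Cfsg.IrrCharacter G, (α μ : ℝ) * c μ * ((β μ : ℝ) * c μ) : ℝ) : ℂ) := by
      push_cast
      simp only [e1, e2, Finset.sum_mul_sum]
      rw [Finset.sum_comm, Finset.mul_sum]
      refine Finset.sum_congr rfl fun μ _ => ?_
      rw [Finset.sum_comm, Finset.sum_eq_single μ]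
      · have hn := classInner_irr_self μ
        rw [Cfsg.classInner, inv_mul_eq_one₀ (Nat.cast_ne_zero.2 Nat.card_pos.ne')] at hn
        rw [hn, Finset.sum_mul]
        refine Finset.sum_congr rfl fun h _ => ?_
        push_cast
        ring
      · intro ν _ hν
        have hn := classInner_irr_of_ne (Ne.symm hν)
        rw [Cfsg.classInner, mul_eq_zero] at hn
        have h0 := hn.resolve_left (inv_ne_zero (Nat.cast_ne_zero.2 Nat.card_pos.ne'))
        rw [Finset.sum_congr rfl (g := fun h : G => (((α μ : ℝ) * c μ : ℝ) : ℂ) * (((β ν : ℝ) * c ν : ℝ) : ℂ) *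
          ((μ : G → ℂ) h * conj ((ν : G → ℂ) h))) fun h _ => by ring, ← Finset.mul_sum, h0, mul_zero]
      · simp
    rw [Complex.ofReal_inj.1 e3]
    have hα1 : α (trivChar G) = 1 := by
      apply Nat.cast_injective (R := ℂ)
      rw [← hα, Nat.cast_one, ← classInner_irr_self χ, Cfsg.classInner, Cfsg.classInner]
      simp [hΔdef, trivChar_apply]
    have hβ1 : β (trivChar G) = 1 := by
      apply Nat.cast_injective (R := ℂ)
      rw [← hβ, Nat.cast_one, ← classInner_irr_self χ, Cfsg.classInner, Cfsg.classInner]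
      congr 1
      refine Fintype.sum_equiv (powCoprime hk.symm) _ _ fun g => ?_
      simp [hΔkdef, trivChar_apply]
    rw [mul_comm _ (Nat.card G : ℝ)]
    refine mul_le_mul_of_nonneg_left (le_trans (le_of_eq ?_) (Finset.single_le_sum
      (f := fun μ => (α μ : ℝ) * c μ * ((β μ : ℝ) * c μ))
      (fun μ _ => mul_nonneg (mul_nonneg (Nat.cast_nonneg _) (hc0 μ))
        (mul_nonneg (Nat.cast_nonneg _) (hc0 μ))) (Finset.mem_univ (trivChar G)))) (Nat.cast_nonneg _)
    rw [hα1, hβ1, hc1 _ rfl]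
    ring
  rw [hS12sum] at hlt1
  nlinarith [hge, hlt1]

end Cfsg.Agent.S4843
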