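import Cfsg.Statements.S4845
import Cfsg.Agent.Lib.CharDegree.SameDegreeGalois

set_option autoImplicit false
open Cfsg

namespace Cfsg.Agent.S4845

open CfsgLib.CharDegree CfsgLib.CharDegree.SameDegree
open scoped commutatorElement

/-- The hypothesis of the statement. -/
abbrev SameDeg (P : Type*) [Group P] : Prop :=
  ∀ χ ψ : Cfsg.IrrCharacter P, Cfsg.charDegree (χ : P → ℂ) ≠ 1 →
    Cfsg.charDegree (χ : P → ℂ) = Cfsg.charDegree (ψ : P → ℂ) →
    ∃ k : ℕ, Nat.Coprime k (Nat.card P) ∧ ∀ g : P, (ψ : P → ℂ) g = (χ : P → ℂ) (g ^ k)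

theorem ker_le_commutator {P : Type*} [Group P] [Finite P] (h : SameDeg P) (χ : Cfsg.IrrCharacter P)
    (hχ : Cfsg.charDegree (χ : P → ℂ) ≠ 1) : kerSubgroup χ ≤ commutator P := by
  intro g hg
  by_contra hgc
  obtain ⟨μ, hμ⟩ : ∃ μ : Cfsg.IrrCharacter (P ⧸ commutator P),
      (μ : P ⧸ commutator P → ℂ) (QuotientGroup.mk g) ≠ (μ : P ⧸ commutator P → ℂ) 1 := by
    by_contra hno
    push Not at hno
    exact hgc ((QuotientGroup.eq_one_iff g).1 (isConj_one_left.1 (isConj_of_forall_irr hno)))
  obtain ⟨l, hl⟩ := exists_hom_of_degree_one (infl (commutator P) μ)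
    (by rw [charDegree_infl]; exact charDegree_of_comm quotient_commutator_comm μ)
  have hlg : (l g : ℂ) ≠ 1 := fun h1 => hμ (by
    have e1 := congrFun hl g
    have e2 := congrFun hl 1
    rw [infl_apply] at e1 e2
    rw [QuotientGroup.mk_one] at e2
    rw [e1, e2, h1, map_one, Units.val_one])
  obtain ⟨k, -, hk⟩ := h χ (twist χ l) hχ (charDegree_twist χ l).symm
  have h2 := hk g
  rw [twist_apply, mem_kerSubgroup.1 hg, mem_kerSubgroup.1 (pow_mem hg k)] at h2
  exact hlg (mul_left_cancel₀ (CfsgLib.Char.IsIrr.apply_one_ne_zero χ.2) (by rw [h2, mul_one]))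

theorem ker_le_ker {P : Type*} [Group P] [Finite P] (h : SameDeg P) (χ ψ : Cfsg.IrrCharacter P)
    (hχ : Cfsg.charDegree (χ : P → ℂ) ≠ 1)
    (he : Cfsg.charDegree (χ : P → ℂ) = Cfsg.charDegree (ψ : P → ℂ)) :
    kerSubgroup χ ≤ kerSubgroup ψ := fun g hg => by
  obtain ⟨k, -, hk⟩ := h χ ψ hχ he
  rw [mem_kerSubgroup, hk, hk, mem_kerSubgroup.1 (pow_mem hg k), one_pow]

theorem sameDeg_quotient {P : Type*} [Group P] [Finite P] (h : SameDeg P) (N : Subgroup P)
    [N.Normal] : SameDeg (P ⧸ N) := fun χ ψ hχ he => by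
  obtain ⟨k, hk, hv⟩ := h (infl N χ) (infl N ψ) (by rwa [charDegree_infl])
    (by rwa [charDegree_infl, charDegree_infl])
  refine ⟨k, hk.coprime_dvd_right (Subgroup.card_quotient_dvd_card N), fun q => ?_⟩
  obtain ⟨g, rfl⟩ := QuotientGroup.mk_surjective q
  have := hv g
  rwa [infl_apply, infl_apply, QuotientGroup.mk_pow] at this

theorem exists_nonlinear {P : Type*} [Group P] [Finite P] (hna : ¬ ∀ a b : P, a * b = b * a) :
    ∃ χ : Cfsg.IrrCharacter P, Cfsg.charDegree (χ : P → ℂ) ≠ 1 := by
  by_contra hno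
  push Not at hno
  exact hna (comm_of_forall_linear hno)

universe u in
theorem card_commutator {p : ℕ} [Fact p.Prime] (n : ℕ) : ∀ (P : Type u) [Group P] [Finite P],
    Nat.card P = n → IsPGroup p P → SameDeg P → commutator P ≠ ⊥ → Nat.card (commutator P) = p := by
  induction n using Nat.strong_induction_on with
  | _ n ih =>
  intro P _ _ hn hP h hne
  classical
  have := Fintype.ofFinite P
  have hp : p.Prime := Fact.out
  by_contra hcard
  -- a central subgroup of order `p` in the derived subgroup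
  obtain ⟨z, hz, hzp⟩ : ∃ z ∈ commutator P ⊓ Subgroup.center P, orderOf z = p := by
    have hbot := CfsgLib.PGroups.inf_center_ne_bot hP hne
    have hd : p ∣ Nat.card ↥(commutator P ⊓ Subgroup.center P) := by
      obtain ⟨k, hk⟩ := (hP.to_subgroup (commutator P ⊓ Subgroup.center P)).exists_card_eq
      rw [hk]
      refine dvd_pow_self p fun hk0 => hbot ?_
      rw [hk0, pow_zero] at hk
      exact Subgroup.card_eq_one.1 hk
    obtain ⟨z, hz⟩ := exists_prime_orderOf_dvd_card' p hd
    exact ⟨z, z.2, by rwa [Subgroup.orderOf_coe]⟩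
  set K := Subgroup.zpowers z
  have hKc : K ≤ Subgroup.center P := Subgroup.zpowers_le.2 hz.2
  have hKd : K ≤ commutator P := Subgroup.zpowers_le.2 hz.1
  have hKcard : Nat.card K = p := by rw [Nat.card_zpowers, hzp]
  have : K.Normal := ⟨fun a ha g => by
    rw [Subgroup.mem_center_iff.1 (hKc ha) g, mul_inv_cancel_right]; exact ha⟩
  set D := (commutator P).map (QuotientGroup.mk' K) with hDdef
  have hDc : D = commutator (P ⧸ K) := by
    rw [hDdef, commutator_def, Subgroup.map_commutator, ← MonoidHom.range_eq_map,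
      MonoidHom.range_eq_top.2 (QuotientGroup.mk'_surjective K), commutator_def]
  have hPK : Nat.card P = Nat.card (P ⧸ K) * p := by
    rw [← hKcard]; exact K.card_eq_card_quotient_mul_card_subgroup
  have hmul : Nat.card (commutator P) = p * Nat.card D := by
    have hi : (commutator P).index = D.index := by
      rw [← Subgroup.index_comap_of_surjective D (QuotientGroup.mk'_surjective K), hDdef,
        Subgroup.comap_map_eq_self (by rwa [QuotientGroup.ker_mk'])]
    refine Nat.eq_of_mul_eq_mul_right (Nat.pos_of_ne_zero (Subgroup.index_ne_zero_of_finite (H := D))) ?_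
    rw [mul_assoc, Subgroup.card_mul_index D, ← hi, Subgroup.card_mul_index, hPK, mul_comm]
  have hDne : D ≠ ⊥ := fun h0 => hcard (by rw [hmul, h0, Subgroup.card_bot, mul_one])
  have hD : Nat.card D = p := by
    rw [hDc] at hDne ⊢
    refine ih (Nat.card (P ⧸ K)) ?_ _ rfl (hP.to_quotient K) (sameDeg_quotient h K) hDne
    rw [← hn, hPK]
    exact lt_mul_of_one_lt_right Nat.card_pos hp.one_lt
  rw [hD] at hmul
  have hsmall : ∀ L : Subgroup P, L ≤ commutator P → L ≠ commutator P → Nat.card L ∣ p := by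
    intro L hL hne'
    have hdvd := Subgroup.card_dvd_of_le hL
    rw [hmul, ← sq] at hdvd
    obtain ⟨j, hj, hj'⟩ := (Nat.dvd_prime_pow hp).1 hdvd
    rcases eq_or_ne j 2 with rfl | hj2
    · exact absurd (Subgroup.eq_of_le_of_card_ge hL (by rw [hmul, hj', sq])) hne'
    · rw [hj']; interval_cases j <;> simp_all
  -- characters
  have hDlt : D ≤ Subgroup.center (P ⧸ K) := by
    have : D.Normal := hDc ▸ inferInstance
    exact CfsgLib.PGroups.le_center_of_card_prime (hP.to_quotient K) hD
  obtain ⟨χ₀, hχ₀⟩ := exists_nonlinear (P := P ⧸ K) fun hab => hDne (by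
    rw [hDc]
    exact eq_bot_iff.2 (Subgroup.commutator_le.2 fun a _ b _ =>
      Subgroup.mem_bot.2 (commutatorElement_eq_one_iff_mul_comm.2 (hab a b))))
  set χ := infl K χ₀ with hχdef
  have hχ : Cfsg.charDegree (χ : P → ℂ) ≠ 1 := by rwa [hχdef, charDegree_infl]
  have hnotfull : ∀ θ : Cfsg.IrrCharacter P, Cfsg.charDegree (θ : P → ℂ) ≠ 1 →
      kerSubgroup θ ≠ commutator P := fun θ hθ he => hθ ((charDegree_eq_one_iff_commutator θ).2
        fun g hg => mem_kerSubgroup.1 (he ▸ hg))
  have hkerχ : kerSubgroup χ = K := by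
    have hle : K ≤ kerSubgroup χ := fun g hg => mem_kerSubgroup.2 (infl_ker K χ₀ hg)
    refine (Subgroup.eq_of_le_of_card_ge hle ?_).symm
    rw [hKcard]
    exact Nat.le_of_dvd hp.pos (hsmall _ (ker_le_commutator h χ hχ) (hnotfull χ hχ))
  obtain ⟨ψ, hψz⟩ : ∃ ψ : Cfsg.IrrCharacter P, (ψ : P → ℂ) z ≠ (ψ : P → ℂ) 1 := by
    by_contra hno
    push Not at hno
    have h1 : z = 1 := isConj_one_left.1 (isConj_of_forall_irr hno)
    rw [h1, orderOf_one] at hzp
    exact hp.ne_one hzp.symm
  have hψ : Cfsg.charDegree (ψ : P → ℂ) ≠ 1 := fun h1 => hψz (le_ker_of_degree_one ψ h1 hz.1)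
  have hzψ : z ∉ kerSubgroup ψ := fun h1 => hψz (mem_kerSubgroup.1 h1)
  suffices hde : Cfsg.charDegree (χ : P → ℂ) = Cfsg.charDegree (ψ : P → ℂ) by
    exact hzψ (ker_le_ker h χ ψ hχ hde (hkerχ ▸ Subgroup.mem_zpowers z))
  obtain ⟨N, hN⟩ := hP.exists_card_eq
  obtain ⟨a, -, ha⟩ := (Nat.dvd_prime_pow hp).1 (hN ▸ charDegree_dvd_card χ)
  obtain ⟨b, -, hb⟩ := (Nat.dvd_prime_pow hp).1 (hN ▸ charDegree_dvd_card ψ)
  have hclχ : commutator P ≤ zMod (kerSubgroup χ) := fun g hg => mem_zMod.2 fun x => by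
    rw [hkerχ, ← QuotientGroup.eq_one_iff, ← QuotientGroup.mk'_apply, map_commutatorElement,
      commutatorElement_eq_one_iff_mul_comm]
    exact (Subgroup.mem_center_iff.1 (hDlt (Subgroup.mem_map_of_mem _ hg)) _).symm
  have eqχ := card_eq_sq_mul χ hclχ
  have hkψ : kerSubgroup ψ ≤ Subgroup.center P := by
    rcases (Nat.dvd_prime hp).1 (hsmall _ (ker_le_commutator h ψ hψ) (hnotfull ψ hψ)) with h1 | h1
    · rw [Subgroup.card_eq_one.1 h1]; exact bot_le
    · exact CfsgLib.PGroups.le_center_of_card_prime hP h1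
  have hexp : ∀ (θ : Cfsg.IrrCharacter P), Cfsg.charDegree (θ : P → ℂ) ≠ 1 →
      ∀ k ∈ kerSubgroup θ, k ^ p = 1 := fun θ hθ k hk => by
    have h1 : orderOf k ∣ p := (Subgroup.orderOf_dvd_natCard _ hk).trans
      (hsmall _ (ker_le_commutator h θ hθ) (hnotfull θ hθ))
    exact orderOf_dvd_iff_pow_eq_one.1 h1
  have hZpos : 0 < Nat.card (Subgroup.center P) := Nat.card_pos
  have hZle : ∀ (θ : Cfsg.IrrCharacter P),
      Nat.card (Subgroup.center P) ≤ Nat.card (zMod (kerSubgroup θ)) := fun θ =>
    Subgroup.card_le_of_le (center_le_zMod _)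
  have hub := card_zMod_le χ hp.pos (hkerχ ▸ hKc) (hexp χ hχ)
  -- e² ≤ p d²
  have h1 : Cfsg.charDegree (ψ : P → ℂ) ^ 2 ≤ p * Cfsg.charDegree (χ : P → ℂ) ^ 2 := by
    refine Nat.le_of_mul_le_mul_right ?_ hZpos
    calc _ ≤ Cfsg.charDegree (ψ : P → ℂ) ^ 2 * Nat.card (zMod (kerSubgroup ψ)) :=
          Nat.mul_le_mul_left _ (hZle ψ)
      _ ≤ Nat.card P := sq_mul_card_zMod_le ψ
      _ = _ := eqχ
      _ ≤ Cfsg.charDegree (χ : P → ℂ) ^ 2 * (p * Nat.card (Subgroup.center P)) :=
          Nat.mul_le_mul_left _ hub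
      _ = _ := by ring
  -- d² ≤ p e²
  have h2 : Cfsg.charDegree (χ : P → ℂ) ^ 2 ≤ p * Cfsg.charDegree (ψ : P → ℂ) ^ 2 := by
    by_cases hcen : commutator P ≤ Subgroup.center P
    · have eqψ := card_eq_sq_mul ψ (hcen.trans (center_le_zMod _))
      refine Nat.le_of_mul_le_mul_right ?_ hZpos
      calc _ ≤ Cfsg.charDegree (χ : P → ℂ) ^ 2 * Nat.card (zMod (kerSubgroup χ)) :=
            Nat.mul_le_mul_left _ (hZle χ)
        _ = Nat.card P := eqχ.symm
        _ = _ := eqψ
        _ ≤ Cfsg.charDegree (ψ : P → ℂ) ^ 2 * (p * Nat.card (Subgroup.center P)) :=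
            Nat.mul_le_mul_left _ (card_zMod_le ψ hp.pos hkψ (hexp ψ hψ))
        _ = _ := by ring
    obtain ⟨u, hu, huc⟩ := SetLike.not_le_iff_exists.1 hcen
    -- the derived subgroup is generated by `K` and any element outside it
    have hgen : ∀ (L : Subgroup P), K ≤ L → ∀ s ∈ commutator P, s ∉ K → s ∈ L → commutator P ≤ L := by
      intro L hKL s hs hsK hsL
      have hlt : K ≤ L ⊓ commutator P := le_inf hKL hKd
      by_contra hno
      have hsz := hsmall (L ⊓ commutator P) inf_le_right (fun he => hno (he ▸ inf_le_left))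
      have : K = L ⊓ commutator P :=
        Subgroup.eq_of_le_of_card_ge hlt (by rw [hKcard]; exact Nat.le_of_dvd hp.pos hsz)
      exact hsK (this ▸ ⟨hsL, hs⟩)
    have huK : u ∉ K := fun h1 => huc (hKc h1)
    have hψker : kerSubgroup ψ = ⊥ := by
      by_contra hne'
      rcases (Nat.dvd_prime hp).1 (hsmall _ (ker_le_commutator h ψ hψ) (hnotfull ψ hψ)) with h1 | h1
      · exact hne' (Subgroup.card_eq_one.1 h1)
      · obtain ⟨k, hk, hk1⟩ := (Subgroup.bot_or_exists_ne_one (kerSubgroup ψ)).resolve_left hne'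
        refine huc (hgen (Subgroup.center P) hKc k (ker_le_commutator h ψ hψ hk) (fun hkK => ?_)
          (hkψ hk) hu)
        have heq : K ⊓ kerSubgroup ψ = K := by
          refine Subgroup.eq_of_le_of_card_ge inf_le_left ?_
          rcases (Nat.dvd_prime hp).1 (hKcard ▸ Subgroup.card_dvd_of_le
            (inf_le_left : K ⊓ kerSubgroup ψ ≤ K)) with h2 | h2
          · exact absurd (Subgroup.mem_bot.1 ((Subgroup.card_eq_one.1 h2) ▸
              (⟨hkK, hk⟩ : k ∈ K ⊓ kerSubgroup ψ))) hk1
          · rw [h2, hKcard]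
        exact hzψ ((heq.symm ▸ Subgroup.mem_zpowers z : z ∈ K ⊓ kerSubgroup ψ)).2
    set C := Subgroup.centralizer ({u} : Set P)
    have hKC : K ≤ C := fun k hk => Subgroup.mem_centralizer_singleton_iff.2
      ((Subgroup.mem_center_iff.1 (hKc hk) u).symm)
    have hcomC : ∀ y ∈ C, ∀ s ∈ commutator P, y * s = s * y := fun y hy s hs => by
      refine (Subgroup.mem_centralizer_singleton_iff.1 (hgen (Subgroup.centralizer ({y} : Set P))
        (fun k hk => Subgroup.mem_centralizer_singleton_iff.2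
          ((Subgroup.mem_center_iff.1 (hKc hk) y).symm)) u hu huK
        (Subgroup.mem_centralizer_singleton_iff.2 (Subgroup.mem_centralizer_singleton_iff.1 hy).symm) hs)).symm
    have hdC : commutator P ≤ C :=
      hgen C hKC u hu huK (Subgroup.mem_centralizer_singleton_iff.2 rfl)
    have huK' : ∀ x, ⁅u, x⁆ ∈ K := fun x => hkerχ ▸ mem_zMod.1 (hclχ hu) x
    -- `x ↦ [u, x]`
    let φu : P →* P :=
      { toFun := fun x => ⁅u, x⁆
        map_one' := by simp
        map_mul' := fun x y => by
          rw [show ⁅u, x * y⁆ = ⁅u, x⁆ * (x * ⁅u, y⁆ * x⁻¹) by simp only [commutatorElement_def]; group,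
            Subgroup.mem_center_iff.1 (hKc (huK' y)) x, mul_inv_cancel_right] }
    have hCne : C ≠ ⊤ := fun he => huc (Subgroup.mem_center_iff.2 fun x =>
      Subgroup.mem_centralizer_singleton_iff.1 (le_top.trans_eq he.symm (Subgroup.mem_top x)))
    have hCidx : C.index = p := by
      have hker : φu.ker = C := Subgroup.ext fun x => by
        show ⁅u, x⁆ = 1 ↔ x ∈ C
        rw [commutatorElement_eq_one_iff_mul_comm, Subgroup.mem_centralizer_singleton_iff]
        exact eq_comm
      have hd : C.index ∣ p := by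
        rw [← hker, Subgroup.index_ker]
        exact hKcard ▸ Subgroup.card_dvd_of_le (show φu.range ≤ K by rintro _ ⟨x, rfl⟩; exact huK' x)
      exact ((Nat.dvd_prime hp).1 hd).resolve_left fun h1 => hCne (Subgroup.index_eq_one.1 h1)
    obtain ⟨w, -, hw⟩ := SetLike.exists_of_lt (lt_top_iff_ne_top.2 hCne)
    set E := Subgroup.centralizer (C : Set P)
    -- the support
    have hsupp : ∀ g, (ψ : P → ℂ) g ≠ 0 → g ∈ E := by
      intro g hg
      have hQ : ∀ x, ⁅g, x⁆ ∈ K → ⁅g, x⁆ = 1 := fun x hx => by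
        by_contra hx1
        exact hg (apply_eq_zero ψ x (center_le_zMod _ (hKc hx)) (by rwa [hψker, Subgroup.mem_bot]))
      have hgC : g ∈ C := by
        refine Subgroup.mem_centralizer_singleton_iff.2 (commutatorElement_eq_one_iff_mul_comm.1
          (hQ u ?_))
        rw [← commutatorElement_inv]
        exact inv_mem (huK' g)
      have hgs : ∀ x, ⁅g, x⁆ ∈ commutator P := fun x =>
        Subgroup.commutator_mem_commutator (Subgroup.mem_top _) (Subgroup.mem_top _)
      refine Subgroup.mem_centralizer_iff.2 fun y hy => ?_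
      set H := Subgroup.centralizer ({g} : Set P)
      by_cases hH : H ≤ C
      · let Φ : P →* P ⧸ K :=
          { toFun := fun x => QuotientGroup.mk' K ⁅g, x⁆
            map_one' := by simp
            map_mul' := fun x y => by
              rw [show ⁅g, x * y⁆ = ⁅g, x⁆ * (x * ⁅g, y⁆ * x⁻¹) by simp only [commutatorElement_def]; group,
                map_mul, map_mul, map_mul, map_inv,
                Subgroup.mem_center_iff.1 (hDlt (Subgroup.mem_map_of_mem _ (hgs y))),
                mul_inv_cancel_right] }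
        have hker : Φ.ker = H := Subgroup.ext fun x => by
          show QuotientGroup.mk' K ⁅g, x⁆ = 1 ↔ x ∈ H
          rw [QuotientGroup.mk'_apply, QuotientGroup.eq_one_iff,
            Subgroup.mem_centralizer_singleton_iff]
          refine ⟨fun hx => (commutatorElement_eq_one_iff_mul_comm.1 (hQ x hx)).symm, fun hx => ?_⟩
          rw [commutatorElement_eq_one_iff_mul_comm.2 hx.symm]
          exact one_mem K
        have hHd : H.index ∣ p := by
          rw [← hker, Subgroup.index_ker, ← hD]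
          exact Subgroup.card_dvd_of_le (show Φ.range ≤ D by
            rintro _ ⟨x, rfl⟩; exact Subgroup.mem_map_of_mem _ (hgs x))
        have hHC : C ≤ H := by
          rw [← Subgroup.relIndex_eq_one]
          have hmulI := Subgroup.relIndex_mul_index hH
          rw [hCidx] at hmulI
          exact Nat.dvd_one.1 (Nat.dvd_of_mul_dvd_mul_right hp.pos
            (show H.relIndex C * p ∣ 1 * p by rw [one_mul, hmulI]; exact hHd))
        exact Subgroup.mem_centralizer_singleton_iff.1 (hHC hy)
      · obtain ⟨v, hv, hvC⟩ := SetLike.not_le_iff_exists.1 hH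
        have hgv : g * v = v * g := (Subgroup.mem_centralizer_singleton_iff.1 hv).symm
        have hs : v * ⁅g, y⁆ = ⁅g, y⁆ * v := by
          have hq : ⁅v, y⁆ ∈ commutator P :=
            Subgroup.commutator_mem_commutator (Subgroup.mem_top _) (Subgroup.mem_top _)
          have e1 : v * ⁅g, y⁆ * v⁻¹ = ⁅v * g * v⁻¹, v * y * v⁻¹⁆ := conjugate_commutatorElement g y v
          rw [← hgv, mul_inv_cancel_right, show v * y * v⁻¹ = ⁅v, y⁆ * y by rw [commutatorElement_def]; group,
            show ⁅g, ⁅v, y⁆ * y⁆ = ⁅g, ⁅v, y⁆⁆ * (⁅v, y⁆ * ⁅g, y⁆ * ⁅v, y⁆⁻¹) by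
              simp only [commutatorElement_def]; group,
            commutatorElement_eq_one_iff_mul_comm.2 (hcomC g hgC _ hq), one_mul,
            hcomC _ (hdC hq) _ (hgs y), mul_inv_cancel_right] at e1
          exact mul_inv_eq_iff_eq_mul.1 e1
        by_cases hsK : ⁅g, y⁆ ∈ K
        · exact (commutatorElement_eq_one_iff_mul_comm.1 (hQ y hsK)).symm
        · exact absurd (Subgroup.mem_centralizer_singleton_iff.2
            (Subgroup.mem_centralizer_singleton_iff.1 (hgen (Subgroup.centralizer ({v} : Set P))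
              (fun k hk => Subgroup.mem_centralizer_singleton_iff.2
                ((Subgroup.mem_center_iff.1 (hKc hk) v).symm)) _ (hgs y) hsK
              (Subgroup.mem_centralizer_singleton_iff.2 hs.symm) hu)).symm) hvC
    -- the size of `E`
    let Ψ : E →* P ⧸ K :=
      { toFun := fun d => QuotientGroup.mk' K ⁅(d : P), w⁆
        map_one' := by simp
        map_mul' := fun d e => by
          have hm : ∀ x, QuotientGroup.mk' K ⁅x, w⁆ ∈ Subgroup.center (P ⧸ K) := fun x =>
            hDlt (Subgroup.mem_map_of_mem _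
              (Subgroup.commutator_mem_commutator (Subgroup.mem_top _) (Subgroup.mem_top _)))
          rw [Subgroup.coe_mul, show ⁅(d : P) * e, w⁆ = ((d : P) * ⁅(e : P), w⁆ * (d : P)⁻¹) * ⁅(d : P), w⁆ by
              simp only [commutatorElement_def]; group,
            map_mul, map_mul, map_mul, map_inv, Subgroup.mem_center_iff.1 (hm e),
            mul_inv_cancel_right]
          exact (Subgroup.mem_center_iff.1 (hm e) _).symm }
    have hEcard : Nat.card E ≤ p * Nat.card (zMod (kerSubgroup χ)) := by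
      rw [← Subgroup.card_mul_index Ψ.ker, mul_comm p]
      refine Nat.mul_le_mul (Nat.card_le_card_of_injective
        (fun d : Ψ.ker => (⟨(d : E), ?_⟩ : zMod (kerSubgroup χ))) fun d e hde => ?_) ?_
      · rw [mem_zMod, hkerχ]
        have hd : ⁅((d : E) : P), w⁆ ∈ K := (QuotientGroup.eq_one_iff _).1 d.2
        let T : Subgroup P := (Subgroup.centralizer ({QuotientGroup.mk' K ((d : E) : P)} : Set (P ⧸ K))).comap
          (QuotientGroup.mk' K)
        have hT : ∀ x, x ∈ T ↔ ⁅((d : E) : P), x⁆ ∈ K := fun x => by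
          rw [← QuotientGroup.eq_one_iff (N := K), ← QuotientGroup.mk'_apply, map_commutatorElement,
            commutatorElement_eq_one_iff_mul_comm, Subgroup.mem_comap,
            Subgroup.mem_centralizer_singleton_iff]
          exact eq_comm
        intro x
        rw [← hT]
        suffices T = ⊤ from this ▸ Subgroup.mem_top x
        have hCT : C ≤ T := fun y hy => (hT y).2 (by
          rw [commutatorElement_eq_one_iff_mul_comm.2
            ((Subgroup.mem_centralizer_iff.1 (d : E).2 y hy)).symm]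
          exact one_mem K)
        rcases (Nat.dvd_prime hp).1 (show T.index ∣ p from hCidx ▸ Subgroup.relIndex_mul_index hCT ▸ dvd_mul_left _ _) with h1 | h1
        · exact Subgroup.index_eq_one.1 h1
        · have : C = T := Subgroup.eq_of_le_of_card_ge hCT (le_of_eq (Nat.eq_of_mul_eq_mul_right hp.pos
            (by conv_lhs => rw [← h1, Subgroup.card_mul_index]
                rw [← hCidx, Subgroup.card_mul_index])))
          exact absurd (this ▸ (hT w).2 hd) hw
      · exact Subtype.ext (Subtype.ext (congrArg (fun t : zMod (kerSubgroup χ) => (t : P)) hde))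
      · rw [Subgroup.index_ker, ← hD]
        exact Subgroup.card_le_of_le (show Ψ.range ≤ D by
          rintro _ ⟨x, rfl⟩
          exact Subgroup.mem_map_of_mem _
            (Subgroup.commutator_mem_commutator (Subgroup.mem_top _) (Subgroup.mem_top _)))
    refine Nat.le_of_mul_le_mul_right ?_ (Nat.card_pos (α := zMod (kerSubgroup χ)))
    rw [← eqχ]
    refine (card_le_of_support ψ hsupp).trans ?_
    calc _ ≤ Cfsg.charDegree (ψ : P → ℂ) ^ 2 * (p * Nat.card (zMod (kerSubgroup χ))) :=
          Nat.mul_le_mul_left _ hEcard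
      _ = _ := by ring
  rw [ha, hb] at h1 h2 ⊢
  exact pow_eq_of_sq_le hp h2 h1

/-- Let p be a prime and P a finite non-commutative p-group. Then every two irreducible characters of P of the same degree greater than 1 are Galois conjugate (one is obtained from the other by composing with g ↦ g^k for some k prime to the order of P) if and only if the centre of P is cyclic and the derived subgroup of P has order p. -/
theorem result {P : Type*} [Group P] [Finite P] (p : ℕ) [Fact p.Prime] (hP : IsPGroup p P) (hna : ¬ IsMulCommutative P) :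
    (∀ χ ψ : Cfsg.IrrCharacter P, Cfsg.charDegree (χ : P → ℂ) ≠ 1 → Cfsg.charDegree (χ : P → ℂ) = Cfsg.charDegree (ψ : P → ℂ) → ∃ k : ℕ, Nat.Coprime k (Nat.card P) ∧ ∀ g : P, (ψ : P → ℂ) g = (χ : P → ℂ) (g ^ k)) ↔
      (IsCyclic (Subgroup.center P) ∧ Nat.card (commutator P) = p) := by
  classical
  have := Fintype.ofFinite P
  have hp : p.Prime := Fact.out
  have hne : commutator P ≠ ⊥ := fun h0 => hna ⟨⟨fun a b => commutatorElement_eq_one_iff_mul_comm.1
    (Subgroup.mem_bot.1 (h0 ▸ Subgroup.commutator_mem_commutator (Subgroup.mem_top a) (Subgroup.mem_top b)))⟩⟩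
  constructor
  · intro h
    have hc := card_commutator (p := p) _ P rfl hP h hne
    refine ⟨?_, hc⟩
    obtain ⟨χ, hχ⟩ := exists_nonlinear (P := P) fun hab => hna ⟨⟨hab⟩⟩
    have hk : kerSubgroup χ = ⊥ := by
      have hle := ker_le_commutator h χ hχ
      rcases (Nat.dvd_prime hp).1 (hc ▸ Subgroup.card_dvd_of_le hle) with h1 | h1
      · exact Subgroup.card_eq_one.1 h1
      · exact absurd (Subgroup.eq_of_le_of_card_ge hle (by rw [hc, h1])) fun he =>
          hχ ((charDegree_eq_one_iff_commutator χ).2 fun g hg => mem_kerSubgroup.1 (he ▸ hg))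
    obtain ⟨c, hc', hgen⟩ := exists_generator χ
    rw [zMod_bot hk] at hc' hgen
    refine ⟨⟨c, hc'⟩, fun g => ?_⟩
    obtain ⟨i, hi⟩ := hgen g g.2
    rw [hk, Subgroup.mem_bot, inv_mul_eq_one] at hi
    exact ⟨i, Subtype.ext (by simpa using hi)⟩
  · rintro ⟨hcyc, hc⟩ χ ψ hχ he
    have hcen : commutator P ≤ Subgroup.center P :=
      CfsgLib.PGroups.le_center_of_card_prime hP hc
    have hfaith : ∀ θ : Cfsg.IrrCharacter P, Cfsg.charDegree (θ : P → ℂ) ≠ 1 → kerSubgroup θ = ⊥ := by
      intro θ hθ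
      by_contra hne'
      set A := (kerSubgroup θ ⊓ Subgroup.center P).subgroupOf (Subgroup.center P)
      set m := Nat.card A with hm
      have hpm : p ∣ m := by
        have hbot := CfsgLib.PGroups.inf_center_ne_bot hP hne'
        obtain ⟨k, hk⟩ := (hP.to_subgroup (kerSubgroup θ ⊓ Subgroup.center P)).exists_card_eq
        rw [hm, Nat.card_congr (Subgroup.subgroupOfEquivOfLe inf_le_right).toEquiv, hk]
        refine dvd_pow_self p fun hk0 => hbot ?_
        rw [hk0, pow_zero] at hk
        exact Subgroup.card_eq_one.1 hk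
      have hset : (Finset.univ.filter fun x : Subgroup.center P => x ∈ A) =
          Finset.univ.filter fun x : Subgroup.center P => x ^ m = 1 := by
        refine Finset.eq_of_subset_of_card_le (fun x hx => ?_) ?_
        · simp only [Finset.mem_filter, Finset.mem_univ, true_and] at hx ⊢
          exact orderOf_dvd_iff_pow_eq_one.1 (Subgroup.orderOf_dvd_natCard A hx)
        · rw [← Fintype.card_subtype (fun x => x ∈ A), ← Nat.card_eq_fintype_card]
          exact IsCyclic.card_pow_eq_one_le Nat.card_pos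
      refine hθ ((charDegree_eq_one_iff_commutator θ).2 fun g hg => mem_kerSubgroup.1 ?_)
      have hmem : (⟨g, hcen hg⟩ : Subgroup.center P) ∈ Finset.univ.filter
          fun x : Subgroup.center P => x ^ m = 1 := by
        simp only [Finset.mem_filter, Finset.mem_univ, true_and]
        refine orderOf_dvd_iff_pow_eq_one.1 (dvd_trans ?_ hpm)
        rw [Subgroup.orderOf_mk, ← hc]
        exact Subgroup.orderOf_dvd_natCard _ hg
      rw [← hset] at hmem
      simp only [Finset.mem_filter, Finset.mem_univ, true_and] at hmem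
      exact hmem.1
    have hψ : Cfsg.charDegree (ψ : P → ℂ) ≠ 1 := he ▸ hχ
    have hzero : ∀ θ : Cfsg.IrrCharacter P, Cfsg.charDegree (θ : P → ℂ) ≠ 1 →
        ∀ g ∉ Subgroup.center P, (θ : P → ℂ) g = 0 := fun θ hθ g hg => by
      by_contra h0
      exact hg (zMod_bot (hfaith θ hθ) ▸
        mem_zMod_of_apply_ne_zero θ (hcen.trans (center_le_zMod _)) h0)
    obtain ⟨z0, hz0⟩ := IsCyclic.exists_generator (α := Subgroup.center P)
    have hord : orderOf (z0 : P) = Nat.card (Subgroup.center P) := by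
      rw [Subgroup.orderOf_coe]; exact orderOf_eq_card_of_forall_mem_zpowers hz0
    have hval : ∀ θ : Cfsg.IrrCharacter P, Cfsg.charDegree (θ : P → ℂ) ≠ 1 → ∃ c : ℂ,
        IsPrimitiveRoot c (Nat.card (Subgroup.center P)) ∧
        ∀ j : ℕ, (θ : P → ℂ) ((z0 : P) ^ j) = c ^ j * (θ : P → ℂ) 1 := by
      intro θ hθ
      obtain ⟨c, hc0, -, -⟩ := exists_scalar θ (center_le_zMod _ z0.2)
      have hpow : ∀ j : ℕ, (θ : P → ℂ) ((z0 : P) ^ j) = c ^ j * (θ : P → ℂ) 1 := fun j => by
        induction j with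
        | zero => simp
        | succ j ih => rw [pow_succ', hc0, ih, pow_succ']; ring
      have hne1 := CfsgLib.Char.IsIrr.apply_one_ne_zero θ.2
      refine ⟨c, ⟨?_, fun l hl => ?_⟩, hpow⟩
      · have h1 := hpow (Nat.card (Subgroup.center P))
        rw [← hord, pow_orderOf_eq_one] at h1
        rw [← hord]
        exact mul_right_cancel₀ hne1 (by rw [← h1, one_mul])
      · rw [← hord, orderOf_dvd_iff_pow_eq_one, ← Subgroup.mem_bot, ← hfaith θ hθ, mem_kerSubgroup,
          hpow, hl, one_mul]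
    obtain ⟨c, hcp, hcv⟩ := hval χ hχ
    obtain ⟨d, hdp, hdv⟩ := hval ψ hψ
    obtain ⟨k, -, hkc, hkd⟩ := hcp.isPrimitiveRoot_iff.1 hdp
    have hpZ : p ∣ Nat.card (Subgroup.center P) := hc ▸ Subgroup.card_dvd_of_le hcen
    obtain ⟨N, hN⟩ := hP.exists_card_eq
    have hcop : Nat.Coprime k (Nat.card P) := hN ▸ (hkc.coprime_dvd_right hpZ).pow_right N
    refine ⟨k, hcop, fun g => ?_⟩
    have hdeg : (ψ : P → ℂ) 1 = (χ : P → ℂ) 1 := by rw [← cast_irrDegree, ← cast_irrDegree, he]
    by_cases hg : g ∈ Subgroup.center P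
    · obtain ⟨j, hj⟩ := (mem_powers_iff_mem_zpowers).2 (hz0 ⟨g, hg⟩)
      have hj' : (z0 : P) ^ j = g := by simpa using congrArg Subtype.val hj
      rw [← hj', ← pow_mul, hdv, hcv, hdeg, ← hkd, ← pow_mul, mul_comm k j]
    · rw [hzero ψ hψ g hg, hzero χ hχ _ fun hgk => hg ?_]
      obtain ⟨m, hm⟩ := exists_pow_eq_self_of_coprime
        (x := g) (n := k) (hcop.coprime_dvd_right (orderOf_dvd_natCard g))
      rw [← hm]
      exact pow_mem hgk m

end Cfsg.Agent.S4845
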