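import Cfsg.Statements.S4847
import Cfsg.Agent.Lib.CharDegree.ThreePrimes.Main
-- import your own Cfsg.Agent.* helpers here

set_option autoImplicit false
open Cfsg

namespace Cfsg.Agent.S4847

/-- Let G be a finite solvable group and p, q, r three distinct primes each dividing the degree of some irreducible character of G. Then for some two of them the product divides the degree of some irreducible character of G (the character degree graph of a solvable group has no three pairwise non-adjacent vertices). -/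
theorem result {G : Type*} [Group G] [Finite G] [hs : Group.IsSolvable G] (p q r : ℕ) (hp : p.Prime) (hq : q.Prime) (hr : r.Prime) (hpq : p ≠ q) (hqr : q ≠ r) (hpr : p ≠ r)
    (hpd : ∃ χ : Cfsg.IrrCharacter G, p ∣ Cfsg.charDegree (χ : G → ℂ)) (hqd : ∃ χ : Cfsg.IrrCharacter G, q ∣ Cfsg.charDegree (χ : G → ℂ)) (hrd : ∃ χ : Cfsg.IrrCharacter G, r ∣ Cfsg.charDegree (χ : G → ℂ)) :
    (∃ χ : Cfsg.IrrCharacter G, p * q ∣ Cfsg.charDegree (χ : G → ℂ)) ∨ (∃ χ : Cfsg.IrrCharacter G, q * r ∣ Cfsg.charDegree (χ : G → ℂ)) ∨ (∃ χ : Cfsg.IrrCharacter G, p * r ∣ Cfsg.charDegree (χ : G → ℂ)) := by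
  haveI := hs
  by_contra hno
  push Not at hno
  obtain ⟨h1, h2, h3⟩ := hno
  have sep : ∀ {a b : ℕ}, a.Prime → b.Prime → a ≠ b →
      (∀ χ : Cfsg.IrrCharacter G, ¬ a * b ∣ Cfsg.charDegree (χ : G → ℂ)) →
      CfsgLib.CharDegree.ThreePrimes.Sep a b G := fun ha hb hab h χ hda hdb =>
    h χ (((Nat.coprime_primes ha hb).mpr hab).mul_dvd_of_dvd_of_dvd hda hdb)
  rcases CfsgLib.CharDegree.ThreePrimes.three_primes _ G rfl p q r hp hq hr hpq hqr hpr
      (sep hp hq hpq h1) (sep hq hr hqr h2) (sep hp hr hpr h3) with h | h | h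
  · exact hpd.elim h
  · exact hqd.elim h
  · exact hrd.elim h

end Cfsg.Agent.S4847
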