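import Cfsg.Statements.S4850
import Cfsg.Agent.Lib.CharDegree.VanishingPSingular
import Cfsg.Agent.Lib.Core.Nilpotent

set_option autoImplicit false
open Cfsg
open scoped commutatorElement

namespace Cfsg.Agent.S4850

/-- Let p be a prime and G a finite solvable group whose vanishing elements (elements at which some irreducible character is zero) of order divisible by p all have the same order, with at least one such element. Let P be a Sylow p-subgroup of G. Then the derived subgroup of P is subnormal in G and the image of P in G/O_p(G) is cyclic. -/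
theorem result {G : Type*} [Group G] [Finite G] [hs : Group.IsSolvable G] (p : ℕ) [Fact p.Prime] (b : ℕ) (hvo : {n : ℕ | p ∣ n ∧ ∃ (g : G) (χ : Cfsg.IrrCharacter G), orderOf g = n ∧ (χ : G → ℂ) g = 0} = {b}) (P : Sylow p G) :
    ((commutator ↥(P : Subgroup G)).map (P : Subgroup G).subtype).IsSubnormal ∧ IsCyclic ↥((P : Subgroup G).map (QuotientGroup.mk' (Cfsg.pCore p G))) := by
  have hyp : CfsgLib.CharDegree.VanishHyp p G :=
    CfsgLib.CharDegree.vanishHyp_of_orderOf_eq Fact.out fun x y hx hy hpx hpy =>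
      ((Set.ext_iff.1 hvo _).1 ⟨hpx, x, hx.choose, rfl, hx.choose_spec⟩).trans
        ((Set.ext_iff.1 hvo _).1 ⟨hpy, y, hy.choose, rfl, hy.choose_spec⟩).symm
  obtain ⟨hdvd, -⟩ := CfsgLib.CharDegree.sylow_bound hyp P
  haveI hcyc : IsCyclic ((P : Subgroup G).map (QuotientGroup.mk' (Cfsg.pCore p G))) :=
    isCyclic_of_card_dvd_prime hdvd
  refine ⟨?_, hcyc⟩
  haveI hn : (Cfsg.pCore p G).Normal := CfsgLib.HallGen.pCore_normal' p
  haveI : Group.IsNilpotent (Cfsg.pCore p G) :=
    (CfsgLib.Core.isPGroup_pCore p G).isNilpotent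
  rw [Subgroup.map_subtype_commutator]
  have hle : ⁅(P : Subgroup G), (P : Subgroup G)⁆ ≤ Cfsg.pCore p G := by
    refine Subgroup.commutator_le.2 fun a ha b hb => (QuotientGroup.eq_one_iff _).1 ?_
    show QuotientGroup.mk' (Cfsg.pCore p G) ⁅a, b⁆ = 1
    rw [map_commutatorElement, commutatorElement_eq_one_iff_mul_comm]
    letI := hcyc.commGroup
    exact congrArg Subtype.val (mul_comm
      (⟨_, Subgroup.mem_map_of_mem _ ha⟩ : (P : Subgroup G).map (QuotientGroup.mk' (Cfsg.pCore p G)))
      ⟨_, Subgroup.mem_map_of_mem _ hb⟩)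
  have h := (CfsgLib.Core.isSubnormal_of_isNilpotent
    (⁅(P : Subgroup G), (P : Subgroup G)⁆.subgroupOf (Cfsg.pCore p G))).trans' hn.isSubnormal
  rwa [Subgroup.map_subgroupOf_eq_of_le hle] at h

end Cfsg.Agent.S4850
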