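import Cfsg.Statements.S4859
import Cfsg.Agent.Lib.CharDegree.IndicatorVal
import Mathlib.GroupTheory.Perm.Cycle.Type

set_option autoImplicit false
open Cfsg CfsgLib.CharDegree CfsgLib.Char

namespace Cfsg.Agent.S4859

/-- Let p be an odd prime, G a finite group and x an element of G whose order is a power of p (possibly 1) and whose centralizer has even order. Let y be a 2-element of the centralizer of x whose order is largest among the 2-elements of that centralizer. Then x * y is not a square in G, and some non-principal real-valued irreducible character of G does not vanish at x * y. -/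
theorem result {G : Type*} [Group G] [Finite G] (p : ℕ) [Fact p.Prime] (hp : p ≠ 2) (x : G) (hx : ∃ k : ℕ, orderOf x = p ^ k) (heven : Even (Nat.card (Subgroup.centralizer ({x} : Set G)))) (y : G) (hy : y ∈ Subgroup.centralizer ({x} : Set G)) (hy2 : ∃ k : ℕ, orderOf y = 2 ^ k) (hmax : ∀ z ∈ Subgroup.centralizer ({x} : Set G), (∃ k : ℕ, orderOf z = 2 ^ k) → orderOf z ≤ orderOf y) : (¬ ∃ u : G, u * u = x * y) ∧ ∃ χ : Cfsg.IrrCharacter G, ¬ ((χ : G → ℂ) = fun _ => (1 : ℂ)) ∧ (∀ g : G, ((χ : G → ℂ) g).im = 0) ∧ (χ : G → ℂ) (x * y) ≠ 0 := by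
  classical
  have := Fintype.ofFinite G
  have := Fintype.ofFinite (Cfsg.IrrCharacter G)
  have := Fact.mk Nat.prime_two
  obtain ⟨k, hk⟩ := hx
  obtain ⟨m, hm⟩ := hy2
  obtain ⟨t, ht⟩ := exists_prime_orderOf_dvd_card' 2 (even_iff_two_dvd.mp heven)
  have hm0 : m ≠ 0 := fun h => by
    have h1 := hmax t t.2 ⟨1, by rw [Subgroup.orderOf_coe, ht, pow_one]⟩
    rw [Subgroup.orderOf_coe, ht, hm, h] at h1
    norm_num at h1
  obtain ⟨m', rfl⟩ : ∃ m', m = m' + 1 := ⟨m - 1, by omega⟩
  have hxy : Commute x y := (Subgroup.mem_centralizer_iff.mp hy x rfl)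
  have hcop : Nat.Coprime (p ^ k) (2 ^ (m' + 1)) :=
    Nat.Coprime.pow _ _ ((Nat.coprime_primes Fact.out Nat.prime_two).mpr hp)
  have hord : orderOf (x * y) = p ^ k * 2 ^ (m' + 1) := by
    rw [hxy.orderOf_mul_eq_mul_orderOf_of_coprime (by rw [hk, hm]; exact hcop), hk, hm]
  have hnsq : ¬ ∃ u : G, u * u = x * y := by
    rintro ⟨u, hu⟩
    set a := p ^ k with ha
    have hu2 : u ^ 2 = x * y := by rw [sq, hu]
    have hcx : Commute u x := by
      have h1 : Commute u (x ^ 2 ^ (m' + 1)) := by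
        have : x ^ 2 ^ (m' + 1) = (x * y) ^ 2 ^ (m' + 1) := by
          rw [hxy.mul_pow, ← hm, pow_orderOf_eq_one, mul_one]
        rw [this, ← hu2, ← pow_mul]
        exact Commute.self_pow u _
      obtain ⟨j, hj⟩ := exists_pow_eq_self_of_coprime (x := x) (n := 2 ^ (m' + 1))
        (by rw [hk]; exact hcop.symm)
      rw [← hj]
      exact h1.pow_right j
    have hua : u ^ a ∈ Subgroup.centralizer ({x} : Set G) := by
      rw [Subgroup.mem_centralizer_iff]
      intro z hz
      rw [Set.mem_singleton_iff.mp hz]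
      exact (hcx.pow_left a).eq.symm
    have hord2 : orderOf (u ^ a) = 2 ^ (m' + 2) := by
      refine orderOf_eq_prime_pow (p := 2) (n := m' + 1) ?_ ?_
      · rw [← pow_mul, show a * 2 ^ (m' + 1) = 2 * (a * 2 ^ m') by ring, pow_mul, hu2]
        intro h
        have h1 := orderOf_dvd_of_pow_eq_one h
        rw [hord, show a * 2 ^ (m' + 1) = a * 2 ^ m' * 2 by ring] at h1
        have h2 := Nat.le_of_dvd (Nat.pos_of_ne_zero (by
          rw [ha]; exact Nat.mul_ne_zero (pow_ne_zero _ (Fact.out : p.Prime).ne_zero) (by simp))) h1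
        have h3 : 0 < a * 2 ^ m' := by
          rw [ha]; exact Nat.mul_pos (pow_pos (Fact.out : p.Prime).pos _) (by positivity)
        omega
      · rw [← pow_mul, show a * 2 ^ (m' + 1 + 1) = 2 * (a * 2 ^ (m' + 1)) by ring, pow_mul, hu2,
          ← hord, pow_orderOf_eq_one]
    have h4 := hmax _ hua ⟨m' + 2, hord2⟩
    rw [hord2, hm] at h4
    exact absurd ((Nat.pow_le_pow_iff_right (le_refl 2)).mp h4) (by omega)
  refine ⟨hnsq, ?_⟩
  by_contra hno
  push Not at hno
  have h0 : (Nat.card {s : G // s * s = x * y} : ℂ) = 0 := by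
    have : IsEmpty {s : G // s * s = x * y} := ⟨fun s => hnsq ⟨s.1, s.2⟩⟩
    rw [Nat.card_of_isEmpty, Nat.cast_zero]
  rw [card_sqrt_eq_sum, Finset.sum_eq_single (trivChar G)] at h0
  · rw [fsInd_trivChar, trivChar_apply, one_mul] at h0
    exact one_ne_zero h0
  · intro χ _ hχ
    by_cases h1 : fsInd (χ : G → ℂ) = 0
    · rw [h1, zero_mul]
    · rw [hno χ (fun h => hχ (irr_ext fun g => by rw [h, trivChar_apply]))
        (im_eq_zero_of_fsInd_ne_zero χ h1), mul_zero]
  · simp

end Cfsg.Agent.S4859
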