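import Cfsg.Statements.S4862
import Cfsg.Agent.Lib.CharDegree.RealKernel

set_option autoImplicit false
open Cfsg

namespace Cfsg.Agent.S4862

/-- Let p be an odd prime and G a finite group such that the subgroup generated by the p-elements of G is solvable and every real-valued irreducible complex character of G has degree prime to p. Let K be the subgroup generated by the 2-elements of G and P a Sylow p-subgroup of G. Then every normal subgroup M of G contained in K and in the derived subgroup of P is centralized by K. -/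
theorem result {G : Type*} [Group G] [Finite G] (p : ℕ) [Fact p.Prime] (hp : p ≠ 2) (hsolv : Group.IsSolvable ↥(Subgroup.closure {g : G | ∃ k : ℕ, orderOf g = p ^ k})) (hreal : ∀ χ : Cfsg.IrrCharacter G, (∀ g : G, ((χ : G → ℂ) g).im = 0) → ¬ p ∣ Cfsg.charDegree (χ : G → ℂ)) (P : Sylow p G) (M : Subgroup G) (hM : M.Normal) (hMK : M ≤ (Subgroup.closure {g : G | ∃ k : ℕ, orderOf g = 2 ^ k})) (hMP : M ≤ ⁅(P : Subgroup G), (P : Subgroup G)⁆) : (Subgroup.closure {g : G | ∃ k : ℕ, orderOf g = 2 ^ k}) ≤ Subgroup.centralizer (M : Set G) := by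
  classical
  have := Fintype.ofFinite G
  intro g hg
  refine (Subgroup.closure_le _).mpr (fun g hg => ?_) hg
  obtain ⟨k, hk⟩ := hg
  by_contra hgM
  obtain ⟨x, hx, hx1, hxr⟩ := CfsgLib.CharDegree.RealKernel.exists_inverted M hk hgM
  have hMp : IsPGroup p M := P.2.to_le (hMP.trans (Subgroup.commutator_le_self _))
  have hodd : Odd (Nat.card M) := by
    obtain ⟨a, ha⟩ := IsPGroup.iff_card.mp hMp
    rw [ha]
    exact ((Fact.out : p.Prime).odd_of_ne_two hp).pow
  obtain ⟨χ, hχ, n, hn, hne⟩ := CfsgLib.CharDegree.RealKernel.exists_real_not_trivial M hx hx1 hxr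
    fun y hy => CfsgLib.CharDegree.RealKernel.real_lift_of_odd M hodd y hy
  exact hne (CfsgLib.CharDegree.RealKernel.apply_eq_of_le_commutator P M hMP χ (hreal χ hχ) hn)

end Cfsg.Agent.S4862
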