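import Cfsg.Statements.S4864
import Cfsg.Agent.Lib.CharDegree.RealPPrime
import Cfsg.Agent.Lib.CharDegree.RealFixed

set_option autoImplicit false
open Cfsg

namespace Cfsg.Agent.S4864

/-- Let p be a prime and G a finite group such that the subgroup generated by the p-elements of G is solvable and every real-valued irreducible complex character of G has degree prime to p. Then the normalizer of a Sylow p-subgroup of G contains an element of every real conjugacy class of G: every element conjugate to its inverse is conjugate to an element of that normalizer. -/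
theorem result {G : Type*} [Group G] [Finite G] (p : ℕ) [Fact p.Prime] (hsolv : Group.IsSolvable ↥(Subgroup.closure {g : G | ∃ k : ℕ, orderOf g = p ^ k})) (hreal : ∀ χ : Cfsg.IrrCharacter G, (∀ g : G, ((χ : G → ℂ) g).im = 0) → ¬ p ∣ Cfsg.charDegree (χ : G → ℂ)) (P : Sylow p G) (x : G) (hx : IsConj x x⁻¹) : ∃ y ∈ Subgroup.normalizer ((P : Subgroup G) : Set G), IsConj x y := by
  classical
  haveI : (CfsgLib.CharDegree.RealPPrime.gen 2 G).Normal :=
    CfsgLib.CharDegree.RealPPrime.gen_normal 2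
  set K := CfsgLib.CharDegree.RealPPrime.gen 2 G with hK
  obtain ⟨V, hV, hVK, hVp, hVi⟩ := CfsgLib.CharDegree.RealPPrime.exists_normal_sylow
    (Nat.card G) le_rfl hsolv hreal K inferInstance le_rfl ⟨0, by rw [pow_zero, hK]; exact Subgroup.relIndex_self _⟩
  have hodd : Odd K.index := by
    obtain ⟨S⟩ : Nonempty (Sylow 2 G) := inferInstance
    refine (Nat.not_even_iff_odd.mp fun he => S.not_dvd_index ?_)
    exact he.two_dvd.trans (Subgroup.index_dvd_of_le
      (CfsgLib.CharDegree.RealPPrime.mem_gen_of_isPGroup S.2))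
  -- an inverting element inside `K`
  have hxK : x ∈ K := by
    rw [← QuotientGroup.eq_one_iff]
    refine CfsgLib.Char.eq_one_of_isConj_inv (by rwa [← Subgroup.index_eq_card]) ?_
    have h := (QuotientGroup.mk' K).map_isConj hx
    rwa [map_inv] at h
  obtain ⟨u, hu, hux⟩ : ∃ u ∈ K, u * x * u⁻¹ = x⁻¹ := by
    obtain ⟨u, hu⟩ := isConj_iff.mp hx
    obtain ⟨a, m, hm, he⟩ := Nat.exists_eq_two_pow_mul_odd (orderOf_pos u).ne'
    refine ⟨u ^ m, Subgroup.subset_closure ⟨a, ?_⟩, ?_⟩
    · rw [orderOf_pow' u (by rintro rfl; simp at hm), he, Nat.gcd_mul_left_left,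
        Nat.mul_div_cancel _ hm.pos]
    · obtain ⟨j, rfl⟩ := hm
      have h3 : u * x⁻¹ * u⁻¹ = x := by
        have := congrArg (·⁻¹) hu
        simpa [mul_assoc] using this
      have h2 : ∀ i : ℕ, u ^ (2 * i) * x * (u ^ (2 * i))⁻¹ = x := by
        intro i
        induction i with
        | zero => simp
        | succ i ih =>
          calc u ^ (2 * (i + 1)) * x * (u ^ (2 * (i + 1)))⁻¹
              = u * (u * (u ^ (2 * i) * x * (u ^ (2 * i))⁻¹) * u⁻¹) * u⁻¹ := by
                rw [show 2 * (i + 1) = 2 + 2 * i by ring, pow_add, sq]; group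
            _ = x := by rw [ih, hu, h3]
      calc u ^ (2 * j + 1) * x * (u ^ (2 * j + 1))⁻¹
          = u * (u ^ (2 * j) * x * (u ^ (2 * j))⁻¹) * u⁻¹ := by rw [pow_succ']; group
        _ = x⁻¹ := by rw [h2, hu]
  -- pass to `G ⧸ V`
  set f := QuotientGroup.mk' V with hf
  have hfs : Function.Surjective f := QuotientGroup.mk'_surjective V
  set Pb := P.mapSurjective hfs with hPb
  set Kb := K.map f with hKb
  haveI : Kb.Normal := (inferInstance : K.Normal).map f hfs
  have hbodd : Odd Kb.index := hodd.of_dvd_nat (K.index_map_dvd hfs)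
  have hpKb : ¬ p ∣ Nat.card Kb := by
    have h := Subgroup.relIndex_comap ⊥ f K
    rw [MonoidHom.comap_bot, hf, QuotientGroup.ker_mk', Subgroup.relIndex_bot_left] at h
    rw [hKb, hf, ← h]
    exact hVi
  have hreal' : ∀ χ : Cfsg.IrrCharacter (G ⧸ V), (∀ g : G ⧸ V, ((χ : G ⧸ V → ℂ) g).im = 0) →
      ¬ p ∣ Cfsg.charDegree (χ : G ⧸ V → ℂ) := fun χ hχ => by
    rw [← CfsgLib.CharDegree.charDegree_infl V χ]
    exact hreal _ fun g => by rw [CfsgLib.CharDegree.infl_apply]; exact hχ _
  obtain ⟨yb, hyb, hconj⟩ := CfsgLib.CharDegree.RealFixed.exists_conj_mem_normalizer Pb Kb hbodd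
    hpKb hreal' ⟨f x, Subgroup.mem_map_of_mem f hxK⟩ (isConj_iff.mpr
      ⟨⟨f u, Subgroup.mem_map_of_mem f hu⟩, Subtype.ext (by
        show f u * f x * (f u)⁻¹ = (f x)⁻¹
        rw [← map_inv, ← map_inv, ← map_mul, ← map_mul, hux])⟩)
  obtain ⟨cb, hcb⟩ := isConj_iff.mp hconj
  obtain ⟨c, rfl⟩ := hfs cb
  refine ⟨c * x * c⁻¹, ?_, isConj_iff.mpr ⟨c, rfl⟩⟩
  have hVP : V ≤ (P : Subgroup G) :=
    le_sup_right.trans (P.3 (P.2.to_sup_of_normal_right hVp) le_sup_left).le
  have hmem : f (c * x * c⁻¹) ∈ Subgroup.normalizer ((Pb : Subgroup (G ⧸ V)) : Set (G ⧸ V)) := by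
    rw [map_mul, map_mul, map_inv]
    exact hcb ▸ hyb
  have h := Subgroup.comap_normalizer_eq_of_surjective (Pb : Subgroup (G ⧸ V)) hfs
  have hcomap : (Pb : Subgroup (G ⧸ V)).comap f = (P : Subgroup G) := by
    show ((P : Subgroup G).map f).comap f = _
    rw [Subgroup.comap_map_eq, hf, QuotientGroup.ker_mk', sup_eq_left.mpr hVP]
  rw [hcomap] at h
  rw [← h]
  exact hmem

end Cfsg.Agent.S4864
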