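import Cfsg.Statements.S4866
import Cfsg.Agent.Lib.Char.Real
import Cfsg.Agent.Lib.Char.Exceptional.PermLemma
import Mathlib.GroupTheory.GroupAction.Quotient

set_option autoImplicit false
open Cfsg CfsgLib.Char

namespace Cfsg.Agent.S4866

open scoped ComplexConjugate

variable {G : Type*} [Group G] [Finite G] (K : Subgroup G) [K.Normal]

/-- Conjugation by `a` on `K`. -/
noncomputable def cj (a : G) : K ≃* K := MulAut.conjNormal a

omit [Finite G] in
theorem cj_coe (a : G) (x : K) : (cj K a x : G) = a * x * a⁻¹ := MulAut.conjNormal_apply a x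

omit [Finite G] in
theorem cj_mul (a b : G) (x : K) : cj K (a * b) x = cj K a (cj K b x) := by
  refine Subtype.ext ?_
  simp only [cj_coe]
  group

omit [Finite G] in
theorem cj_one (x : K) : cj K 1 x = x := Subtype.ext (by simp [cj_coe])

omit [Finite G] in
theorem cj_pow (a : G) (x : K) : ∀ n : ℕ, cj K (a ^ n) x = (cj K a)^[n] x
  | 0 => by simp [cj_one]
  | n + 1 => by rw [Function.iterate_succ_apply', ← cj_pow a x n, ← cj_mul, ← pow_succ']

omit [Finite G] in
theorem isConj_cj_of_mem {a : G} (ha : a ∈ K) (x : K) : IsConj (cj K a x) x :=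
  IsConj.symm (isConj_iff.mpr ⟨⟨a, ha⟩, Subtype.ext (by simp [cj_coe])⟩)

omit [Finite G] in
theorem isConj_cj {x y : K} (a : G) (h : IsConj x y) : IsConj (cj K a x) (cj K a y) :=
  (cj K a).toMonoidHom.map_isConj h

omit [Finite G] [K.Normal] in
theorem isConj_inv' {x y : K} (h : IsConj x y) : IsConj x⁻¹ y⁻¹ := by
  obtain ⟨c, hc⟩ := isConj_iff.mp h
  exact isConj_iff.mpr ⟨c, by rw [← hc]; group⟩

omit [Finite G] [K.Normal] in
theorem mk_real {x : K} : (∀ y : K, ConjClasses.mk y = ConjClasses.mk x → IsConj y y⁻¹) ↔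
    IsConj x x⁻¹ := by
  refine ⟨fun h => h x rfl, fun h y hy => ?_⟩
  have hyx := ConjClasses.mk_eq_mk_iff_isConj.mp hy
  exact hyx.trans (h.trans (isConj_inv' K hyx.symm))

/-- Real irreducible characters of `K`. -/
abbrev RIrr := {θ : Cfsg.IrrCharacter K // ∀ k : K, ((θ : K → ℂ) k).im = 0}

/-- Real classes of `K`. -/
abbrev RCl := {C : ConjClasses K // ∀ y : K, ConjClasses.mk y = C → IsConj y y⁻¹}

/-- The action on real characters. -/
noncomputable def irrAction : MulAction G (RIrr K) where
  smul a θ := ⟨⟨fun k => (θ.1 : K → ℂ) (cj K a⁻¹ k),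
    IsIrr.comp_surjective (cj K a⁻¹).toMonoidHom (cj K a⁻¹).surjective θ.1.2⟩, fun _ => θ.2 _⟩
  one_smul θ := Subtype.ext (irr_ext fun k => by
    show (θ.1 : K → ℂ) (cj K (1 : G)⁻¹ k) = _
    rw [inv_one, cj_one])
  mul_smul a b θ := Subtype.ext (irr_ext fun k => by
    show (θ.1 : K → ℂ) (cj K (a * b)⁻¹ k) = (θ.1 : K → ℂ) (cj K b⁻¹ (cj K a⁻¹ k))
    rw [mul_inv_rev, cj_mul])

/-- The action on real classes. -/
noncomputable def classAction : MulAction G (RCl K) where
  smul a C := ⟨ConjClasses.map (cj K a).toMonoidHom C.1, fun y hy => by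
    obtain ⟨x, hx⟩ := ConjClasses.mk_surjective C.1
    have hxr : IsConj x x⁻¹ := C.2 x hx
    have hy' : ConjClasses.mk y = ConjClasses.mk (cj K a x) := by rw [hy, ← hx]; rfl
    refine (mk_real K).mpr ?_ y hy'
    rw [← map_inv]
    exact isConj_cj K a hxr⟩
  one_smul C := Subtype.ext (by
    obtain ⟨x, hx⟩ := ConjClasses.mk_surjective C.1
    show ConjClasses.map (cj K (1 : G)).toMonoidHom C.1 = C.1
    rw [← hx]
    exact congrArg ConjClasses.mk (cj_one K x))
  mul_smul a b C := Subtype.ext (by
    obtain ⟨x, hx⟩ := ConjClasses.mk_surjective C.1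
    show ConjClasses.map (cj K (a * b)).toMonoidHom C.1 =
      ConjClasses.map (cj K a).toMonoidHom (ConjClasses.map (cj K b).toMonoidHom C.1)
    rw [← hx]
    exact congrArg ConjClasses.mk (cj_mul K a b x))

/-- The twisted permutation of classes. -/
noncomputable def twistClass (a : G) : ConjClasses K → ConjClasses K :=
  Quotient.lift (fun x => ConjClasses.mk (cj K a x)⁻¹) fun _ _ h =>
    ConjClasses.mk_eq_mk_iff_isConj.mpr (isConj_inv' K (isConj_cj K a h))

omit [Finite G] in
theorem twistClass_mk (a : G) (x : K) :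
    twistClass K a (ConjClasses.mk x) = ConjClasses.mk (cj K a x)⁻¹ := rfl

theorem card_fixed_eq (hodd : Odd K.index) (a : G) :
    Nat.card {θ : RIrr K // ∀ k, (θ.1 : K → ℂ) (cj K a⁻¹ k) = (θ.1 : K → ℂ) k} =
      Nat.card {C : RCl K // ∀ x, ConjClasses.mk x = C.1 → ConjClasses.mk (cj K a x) = C.1} := by
  classical
  have hm : ∀ x : K, IsConj ((cj K a)^[K.index] x) x := fun x => by
    rw [← cj_pow]
    exact isConj_cj_of_mem K (Subgroup.pow_index_mem K a) x
  let act : Cfsg.IrrCharacter K → Cfsg.IrrCharacter K := fun θ =>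
    ⟨fun k => conj ((θ : K → ℂ) (cj K a⁻¹ k)), IsIrr.conj
      (IsIrr.comp_surjective (cj K a⁻¹).toMonoidHom (cj K a⁻¹).surjective θ.2)⟩
  have hF : Function.Bijective (twistClass K a) := by
    refine (Finite.injective_iff_bijective).mp fun C D h => ?_
    obtain ⟨x, rfl⟩ := ConjClasses.mk_surjective C
    obtain ⟨y, rfl⟩ := ConjClasses.mk_surjective D
    rw [twistClass_mk, twistClass_mk, ConjClasses.mk_eq_mk_iff_isConj] at h
    have h2 := isConj_cj K a⁻¹ (isConj_inv' K h)
    simp only [inv_inv, ← cj_mul, inv_mul_cancel, cj_one] at h2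
    exact ConjClasses.mk_eq_mk_iff_isConj.mpr h2
  have hmain := CfsgLib.Char.Exceptional.card_fixed_irr act (twistClass K a) hF
    (fun θ x x' h => by
      rw [twistClass_mk, ConjClasses.mk_eq_mk_iff_isConj] at h
      show conj ((θ : K → ℂ) (cj K a⁻¹ x')) = (θ : K → ℂ) x
      have h2 := isConj_cj K a⁻¹ h
      rw [map_inv, ← cj_mul, inv_mul_cancel, cj_one] at h2
      rw [isClassFunction_iff_isConj.mp (IsIrr.isClassFunction θ.2) _ _ h2, IsIrr.map_inv θ.2,
        Complex.conj_conj])
  have e1 : {θ : Cfsg.IrrCharacter K // act θ = θ} ≃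
      {θ : RIrr K // ∀ k, (θ.1 : K → ℂ) (cj K a⁻¹ k) = (θ.1 : K → ℂ) k} := by
    refine (Equiv.subtypeEquivRight fun θ => ?_).trans
      (Equiv.subtypeSubtypeEquivSubtypeInter (fun θ : Cfsg.IrrCharacter K => ∀ k,
        ((θ : K → ℂ) k).im = 0)
        (fun θ : Cfsg.IrrCharacter K => ∀ k, (θ : K → ℂ) (cj K a⁻¹ k) = (θ : K → ℂ) k)).symm
    constructor
    · intro h
      have h1 : ∀ k, conj ((θ : K → ℂ) k) = (θ : K → ℂ) (cj K a k) := fun k => by
        have h2 := congrFun (congrArg Subtype.val h) (cj K a k)
        simp only [act, ← cj_mul, inv_mul_cancel, cj_one] at h2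
        exact h2
      have hit : ∀ (n : ℕ) (k : K), (θ : K → ℂ) ((cj K a)^[n] k) =
          if Odd n then conj ((θ : K → ℂ) k) else (θ : K → ℂ) k := by
        intro n
        induction n with
        | zero => simp
        | succ n ih =>
          intro k
          rw [Function.iterate_succ_apply', ← h1, ih]
          rcases Nat.even_or_odd n with hn | hn
          · rw [if_neg (Nat.not_odd_iff_even.mpr hn), if_pos hn.add_one]
          · rw [if_pos hn, if_neg (Nat.not_odd_iff_even.mpr hn.add_one), Complex.conj_conj]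
      have hr : ∀ k, ((θ : K → ℂ) k).im = 0 := fun k => by
        have h3 := hit K.index k
        rw [if_pos hodd, isClassFunction_iff_isConj.mp (IsIrr.isClassFunction θ.2) _ _ (hm k)] at h3
        exact Complex.conj_eq_iff_im.mp h3.symm
      refine ⟨hr, fun k => ?_⟩
      have h2 := congrFun (congrArg Subtype.val h) k
      simp only [act] at h2
      rwa [Complex.conj_eq_iff_im.mpr (hr _)] at h2
    · rintro ⟨hr, hfix⟩
      refine irr_ext fun k => ?_
      show conj ((θ : K → ℂ) (cj K a⁻¹ k)) = _
      rw [Complex.conj_eq_iff_im.mpr (hr _), hfix]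
  have e2 : {C : ConjClasses K // twistClass K a C = C} ≃
      {C : RCl K // ∀ x, ConjClasses.mk x = C.1 → ConjClasses.mk (cj K a x) = C.1} := by
    refine (Equiv.subtypeEquivRight fun C => ?_).trans
      (Equiv.subtypeSubtypeEquivSubtypeInter
        (fun C : ConjClasses K => ∀ y : K, ConjClasses.mk y = C → IsConj y y⁻¹)
        (fun C : ConjClasses K => ∀ x, ConjClasses.mk x = C → ConjClasses.mk (cj K a x) = C)).symm
    constructor
    · intro h
      have h1 : ∀ x, ConjClasses.mk x = C → IsConj (cj K a x) x⁻¹ := fun x hx => by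
        rw [← hx, twistClass_mk, ConjClasses.mk_eq_mk_iff_isConj] at h
        simpa using isConj_inv' K h
      have hit : ∀ (n : ℕ) (x : K), ConjClasses.mk x = C →
          IsConj ((cj K a)^[n] x) (if Odd n then x⁻¹ else x) := by
        intro n
        induction n with
        | zero => intro x _; simpa using IsConj.refl x
        | succ n ih =>
          intro x hx
          rw [Function.iterate_succ_apply']
          have h2 := isConj_cj K a (ih x hx)
          rcases Nat.even_or_odd n with hn | hn
          · rw [if_neg (Nat.not_odd_iff_even.mpr hn)] at h2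
            rw [if_pos hn.add_one]
            exact h2.trans (h1 x hx)
          · rw [if_pos hn, map_inv] at h2
            rw [if_neg (Nat.not_odd_iff_even.mpr hn.add_one)]
            exact h2.trans (by simpa using isConj_inv' K (h1 x hx))
      have hr : ∀ x, ConjClasses.mk x = C → IsConj x x⁻¹ := fun x hx => by
        have h2 := hit K.index x hx
        rw [if_pos hodd] at h2
        exact (hm x).symm.trans h2
      exact ⟨hr, fun x hx => by
        rw [← hx, ConjClasses.mk_eq_mk_iff_isConj]
        exact (h1 x hx).trans (hr x hx).symm⟩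
    · rintro ⟨hr, hfix⟩
      obtain ⟨x, rfl⟩ := ConjClasses.mk_surjective C
      rw [twistClass_mk, ConjClasses.mk_eq_mk_iff_isConj]
      exact (isConj_inv' K (ConjClasses.mk_eq_mk_iff_isConj.mp (hfix x rfl))).trans (hr x rfl).symm
  rw [← Nat.card_congr e1, ← Nat.card_congr e2]
  exact hmain

/-- Let K be a normal subgroup of odd index in the finite group G. Then G has as many orbits on the real-valued irreducible complex characters of K (acting by conjugation) as it has orbits on the conjugacy classes of K that are real in K; equivalently, the number of G-orbits of real-valued irreducible characters of K equals the number of G-conjugacy classes of elements of K that are conjugate in K to their inverses. -/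
theorem result {G : Type*} [Group G] [Finite G] (K : Subgroup G) [K.Normal] (hodd : Odd K.index) : Nat.card (Quot (fun θ η : {θ : Cfsg.IrrCharacter ↥K // (∀ k : ↥K, ((θ : ↥K → ℂ) k).im = 0)} => ∃ g : G, ∀ k k' : ↥K, (k' : G) = g * (k : G) * g⁻¹ → (η.1 : ↥K → ℂ) k' = (θ.1 : ↥K → ℂ) k)) = Nat.card (Quot (fun x y : {x : ↥K // IsConj x x⁻¹} => ∃ g : G, (y.1 : G) = g * x.1 * g⁻¹)) := by
  classical
  have := Fintype.ofFinite G
  letI := irrAction K
  letI := classAction K
  letI := Fintype.ofFinite (MulAction.orbitRel.Quotient G (RIrr K))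
  letI := Fintype.ofFinite (MulAction.orbitRel.Quotient G (RCl K))
  have hburn : ∀ (X : Type _) [MulAction G X] [Finite X],
      Nat.card (MulAction.orbitRel.Quotient G X) * Nat.card G =
        ∑ a : G, Nat.card (MulAction.fixedBy X a) := fun X _ _ => by
    have := Fintype.ofFinite X
    have := Fintype.ofFinite (MulAction.orbitRel.Quotient G X)
    simp only [Nat.card_eq_fintype_card]
    exact (MulAction.sum_card_fixedBy_eq_card_orbits_mul_card_group G X).symm
  have horb : Nat.card (MulAction.orbitRel.Quotient G (RIrr K)) =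
      Nat.card (MulAction.orbitRel.Quotient G (RCl K)) := by
    refine Nat.eq_of_mul_eq_mul_right (Nat.card_pos (α := G)) ?_
    rw [hburn, hburn]
    refine Finset.sum_congr rfl fun a _ => ?_
    rw [← (Nat.card_congr (Equiv.subtypeEquivRight fun θ => ?_) : _ = Nat.card (MulAction.fixedBy (RIrr K) a)),
      card_fixed_eq K hodd a]
    · refine Nat.card_congr (Equiv.subtypeEquivRight fun C => ?_)
      rw [MulAction.mem_fixedBy]
      obtain ⟨x, hx⟩ := ConjClasses.mk_surjective C.1
      constructor
      · intro h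
        refine Subtype.ext ?_
        show ConjClasses.map (cj K a).toMonoidHom C.1 = C.1
        conv_lhs => rw [← hx]
        exact h x hx
      · intro h y hy
        have h2 := congrArg Subtype.val h
        rw [← h2]
        show _ = ConjClasses.map (cj K a).toMonoidHom C.1
        rw [← hy]
        rfl
    · rw [MulAction.mem_fixedBy]
      exact ⟨fun h => Subtype.ext (irr_ext h),
        fun h k => congrFun (congrArg Subtype.val (congrArg Subtype.val h)) k⟩
  refine Eq.trans ?_ (horb.trans ?_)
  · refine Nat.card_congr (Quot.congrRight fun θ η => ?_)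
    rw [MulAction.orbitRel_apply, MulAction.mem_orbit_iff]
    constructor
    · rintro ⟨g, hg⟩
      refine ⟨g⁻¹, Subtype.ext (irr_ext fun k => ?_)⟩
      show (η.1 : K → ℂ) (cj K g⁻¹⁻¹ k) = (θ.1 : K → ℂ) k
      exact hg k _ (by rw [inv_inv, cj_coe])
    · rintro ⟨a, ha⟩
      refine ⟨a⁻¹, fun k k' hk => ?_⟩
      rw [← ha, show k' = cj K a⁻¹ k from Subtype.ext (by rw [hk, cj_coe])]
      rfl
  · symm
    refine Nat.card_eq_of_bijective (Quot.lift (fun x : {x : K // IsConj x x⁻¹} =>
      (Quotient.mk'' (⟨ConjClasses.mk x.1, (mk_real K).mpr x.2⟩ : RCl K) :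
        MulAction.orbitRel.Quotient G (RCl K))) ?_) ⟨?_, ?_⟩
    · rintro x y ⟨g, hg⟩
      refine (Quotient.sound' ?_).symm
      rw [MulAction.orbitRel_apply, MulAction.mem_orbit_iff]
      refine ⟨g, Subtype.ext (congrArg ConjClasses.mk ?_)⟩
      exact Subtype.ext (by rw [hg]; exact cj_coe K g x.1)
    · intro a b
      induction a using Quot.ind with
      | _ x =>
      induction b using Quot.ind with
      | _ y =>
      intro h
      have h1 := Quotient.exact' h
      rw [MulAction.orbitRel_apply, MulAction.mem_orbit_iff] at h1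
      obtain ⟨g, hg⟩ := h1
      have hg' : IsConj (cj K g y.1) x.1 :=
        ConjClasses.mk_eq_mk_iff_isConj.mp (congrArg Subtype.val hg)
      obtain ⟨c, hc⟩ := isConj_iff.mp hg'
      refine (Quot.sound ⟨(c : G) * g, ?_⟩).symm
      rw [← hc]
      simp only [Subgroup.coe_mul, Subgroup.coe_inv, cj_coe]
      group
    · intro q
      induction q using Quotient.inductionOn' with
      | _ C =>
      obtain ⟨x, hx⟩ := ConjClasses.mk_surjective C.1
      exact ⟨Quot.mk _ ⟨x, C.2 x hx⟩, congrArg Quotient.mk'' (Subtype.ext hx)⟩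

end Cfsg.Agent.S4866
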