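import Cfsg.Statements.S4871
import Cfsg.Agent.Lib.Char.RealForm
import Cfsg.Agent.Lib.Char.Indicator
import Cfsg.Agent.Lib.Char.CliffordCorr
import Cfsg.Agent.Lib.CharDegree.Twist
import Cfsg.Agent.Lib.Char.AbelianInertia
-- import your own Cfsg.Agent.* helpers here

set_option autoImplicit false
open Cfsg

namespace Cfsg.Agent.S4871

open CfsgLib.Char
open scoped ComplexConjugate Matrix

/-- A real character containing the trivial character of a subgroup exactly once has indicator `1`. -/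
theorem fsInd_eq_one_of_fixed_mult_one {G : Type*} [Group G] [Fintype G] (χ : Cfsg.IrrCharacter G)
    (hreal : ∀ g, ((χ : G → ℂ) g).im = 0) (P : Subgroup G) [Fintype P]
    (h1 : Cfsg.classInner (fun x : P => (χ : G → ℂ) x) (fun _ => 1) = 1) :
    fsInd (χ : G → ℂ) = 1 := by
  classical
  obtain ⟨n, ρ, hρ, hc⟩ := χ.2
  have := hρ
  rw [← hc] at h1 ⊢
  rw [← hc] at hreal
  obtain ⟨htri, hzero⟩ := fsInd_trichotomy ρ
  rcases htri with h | h | h
  · obtain ⟨s, hs⟩ := hzero.mp h
    exact absurd (hreal s) hs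
  · exact h
  exfalso
  obtain ⟨M, hu, hM⟩ := exists_invariant_form ρ hreal
  have hT : Mᵀ = -M := by rw [invariant_form_transpose ρ hreal M hM, h, neg_one_smul]
  set R := matHom ρ with hR
  set e : Matrix (Fin n) (Fin n) ℂ := (Nat.card P : ℂ)⁻¹ • ∑ x : P, R x with he
  have hcard : (Nat.card P : ℂ) ≠ 0 := Nat.cast_ne_zero.mpr Nat.card_pos.ne'
  have habs : ∀ y : P, R y * e = e := fun y => by
    rw [he, mul_smul_comm, Finset.mul_sum]
    congr 1
    exact Fintype.sum_equiv (Equiv.mulLeft y) _ _ fun x => by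
      rw [← map_mul]; rfl
  have hee : e * e = e := by
    conv_lhs => arg 1; rw [he]
    rw [smul_mul_assoc, Finset.sum_mul, Finset.sum_congr rfl fun x _ => habs x, Finset.sum_const,
      Finset.card_univ, ← Nat.cast_smul_eq_nsmul ℂ, smul_smul, ← Nat.card_eq_fintype_card,
      inv_mul_cancel₀ hcard, one_smul]
  have htr : e.trace = 1 := by
    rw [← h1, he, Matrix.trace_smul, Matrix.trace_sum, Cfsg.classInner, smul_eq_mul]
    congr 1
    exact Finset.sum_congr rfl fun x _ => by rw [hR, trace_matHom, map_one, mul_one]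
  have hadj : eᵀ * M = M * e := by
    rw [he, Matrix.transpose_smul, Matrix.transpose_sum, smul_mul_assoc, mul_smul_comm,
      Finset.sum_mul, Finset.mul_sum]
    congr 1
    refine Fintype.sum_equiv (Equiv.inv P) _ _ fun x => ?_
    show (R x)ᵀ * M = M * R ((x : G)⁻¹)
    conv_rhs => rw [← hM x]
    rw [mul_assoc, hR, ← map_mul, mul_inv_cancel, map_one, mul_one]
  -- the fixed space is a line
  let f : Module.End ℂ (Fin n → ℂ) := Matrix.toLin' e
  have hproj : LinearMap.IsProj (LinearMap.range f) f :=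
    ⟨fun x => LinearMap.mem_range_self f x, fun x ⟨y, hy⟩ => by
      rw [← hy]
      show Matrix.toLin' e (Matrix.toLin' e y) = Matrix.toLin' e y
      rw [← Matrix.toLin'_mul_apply, hee]⟩
  have hrank : Module.finrank ℂ (LinearMap.range f) = 1 := by
    have := hproj.trace
    rw [show LinearMap.trace ℂ _ f = e.trace from Matrix.trace_toLin'_eq e, htr] at this
    exact_mod_cast this.symm
  obtain ⟨u, -, hu'⟩ := finrank_eq_one_iff'.mp hrank
  have halt : ∀ x y : Fin n → ℂ, (e *ᵥ x) ⬝ᵥ (M *ᵥ (e *ᵥ y)) = 0 := fun x y => by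
    obtain ⟨a, ha⟩ := hu' ⟨e *ᵥ x, x, rfl⟩
    obtain ⟨b, hb⟩ := hu' ⟨e *ᵥ y, y, rfl⟩
    have ha' : e *ᵥ x = a • (u : Fin n → ℂ) := (congrArg Subtype.val ha).symm
    have hb' : e *ᵥ y = b • (u : Fin n → ℂ) := (congrArg Subtype.val hb).symm
    have h0 : (u : Fin n → ℂ) ⬝ᵥ (M *ᵥ (u : Fin n → ℂ)) = 0 := by
      have h2 : (u : Fin n → ℂ) ⬝ᵥ (M *ᵥ (u : Fin n → ℂ)) =
          -((u : Fin n → ℂ) ⬝ᵥ (M *ᵥ (u : Fin n → ℂ))) := by
        conv_lhs => rw [Matrix.dotProduct_mulVec, ← Matrix.mulVec_transpose, dotProduct_comm, hT,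
          Matrix.neg_mulVec, dotProduct_neg]
      linear_combination (2⁻¹ : ℂ) * h2
    rw [ha', hb', Matrix.mulVec_smul, smul_dotProduct, dotProduct_smul, h0, smul_zero, smul_zero]
  have hMe : M * e = 0 := by
    have h2 : eᵀ * (M * e) = 0 := by
      ext i j
      have := halt (Pi.single i 1) (Pi.single j 1)
      rw [Matrix.mulVec_mulVec, Matrix.mulVec_single_one, Matrix.mulVec_single_one] at this
      rw [Matrix.mul_apply]
      exact this
    rwa [← mul_assoc, hadj, mul_assoc, hee] at h2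
  let := M.invertibleOfIsUnitDet hu
  have : e = 0 := (Matrix.mul_right_inj_of_invertible M).mp (hMe.trans (Matrix.mul_zero M).symm)
  rw [this, Matrix.trace_zero] at htr
  exact zero_ne_one htr

theorem finsum_inner_eq {G : Type*} [Group G] [Fintype G] (f : G → ℂ) :
    (Nat.card G : ℂ)⁻¹ * ∑ᶠ g : G, f (g * g) = fsInd f := by
  rw [fsInd, finsum_eq_sum_of_fintype]



theorem sign_of_sum {G : Type*} [Group G] [Fintype G] (l : G →* ℂˣ)
    (h : (Nat.card G : ℂ)⁻¹ * ∑ g : G, (l (g * g) : ℂ) = 1) (g : G) :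
    l g * l g = 1 := by
  classical
  let l2 : G →* ℂˣ := l * l
  have hsum : ∑ x : G, (l (x * x) : ℂ) = ∑ x : G, ((Units.coeHom ℂ).comp l2) x :=
    Finset.sum_congr rfl fun x _ => by
      rw [map_mul]
      rfl
  rw [hsum, sum_hom_units] at h
  split_ifs at h with h2
  · have := DFunLike.congr_fun h2 g
    exact Units.ext this
  · simp at h

theorem fibre_le {G : Type*} [Group G] [Fintype G] (P : Subgroup G) [Fintype P]
    (χ : Cfsg.IrrCharacter G) {D : ℕ} (hD : (χ : G → ℂ) 1 = D)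
    (hfix : Cfsg.classInner (fun x : P => (χ : G → ℂ) x) (fun _ => 1) = 1)
    (hext : ∀ l l' : G →* ℂˣ, (∀ x : P, l x = l' x) → l = l')
    (F : Finset (G →* ℂˣ)) (hsign : ∀ l ∈ F, ∀ g, l g * l g = 1) (ψ : G → ℂ)
    (hF : ∀ l ∈ F, (fun g => (χ : G → ℂ) g * (l g : ℂ)) = ψ) : F.card ≤ D := by
  classical
  rcases F.eq_empty_or_nonempty with rfl | ⟨l₀, hl₀⟩
  · simp
  have := Fintype.ofFinite (Cfsg.IrrCharacter P)
  let μ : (G →* ℂˣ) → Cfsg.IrrCharacter P := fun l => ⟨_, isIrrCharacter_linear ((l * l₀).comp P.subtype)⟩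
  have hinj : Set.InjOn μ F := fun a _ b _ h => by
    refine hext a b fun x => ?_
    have h1 : ((a * l₀).comp P.subtype) x = ((b * l₀).comp P.subtype) x :=
      Units.ext (congrFun (congrArg Subtype.val h) x)
    exact mul_right_cancel h1
  choose m hm using fun θ : Cfsg.IrrCharacter P =>
    IsChar.classInner_eq_natCast (IsChar.restrict P (IsIrr.isCharacter χ.2)) (IsIrr.isCharacter θ.2)
  choose d hd0 hd using fun θ : Cfsg.IrrCharacter P => IsIrr.exists_degree θ.2
  have h1 := classFunction_apply_eq_sum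
    (IsChar.isClassFunction (IsChar.restrict P (IsIrr.isCharacter χ.2))) (1 : P)
  simp only [hm, hd, OneMemClass.coe_one, hD] at h1
  have h2 : D = ∑ θ, m θ * d θ := by exact_mod_cast h1
  have hm1 : ∀ l ∈ F, m (μ l) * d (μ l) = 1 := fun l hl => by
    have e1 : (d (μ l) : ℂ) = 1 := by
      rw [← hd]
      show ((((l * l₀).comp P.subtype) 1 : ℂˣ) : ℂ) = 1
      rw [map_one, Units.val_one]
    have e2 : (m (μ l) : ℂ) = 1 := by
      rw [← hm, ← hfix]
      simp only [Cfsg.classInner]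
      congr 1
      refine Finset.sum_congr rfl fun x _ => ?_
      show (χ : G → ℂ) x * conj (((l x * l₀ x : ℂˣ)) : ℂ) = (χ : G → ℂ) x * conj 1
      have ha := hsign l hl x
      have hb := congrFun ((hF l hl).trans (hF l₀ hl₀).symm) (x : G)
      have hcc : conj (((l x * l₀ x : ℂˣ)) : ℂ) = ((l x * l₀ x : ℂˣ) : ℂ) := by
        have h4 : ((l x * l₀ x : ℂˣ) : ℂ) * ((l x * l₀ x : ℂˣ) : ℂ) = 1 := by
          rw [← Units.val_mul, mul_mul_mul_comm, ha, hsign l₀ hl₀, one_mul, Units.val_one]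
        rcases mul_self_eq_one_iff.mp h4 with h5 | h5 <;> rw [h5] <;> simp
      rw [hcc, map_one, mul_one, Units.val_mul, mul_comm (l x : ℂ), ← mul_assoc, ← hb, mul_assoc,
        ← Units.val_mul, ha, Units.val_one, mul_one]
    rw [Nat.cast_eq_one.mp e1, Nat.cast_eq_one.mp e2]
  rw [h2]
  calc F.card = ∑ θ ∈ F.image μ, m θ * d θ := by
        rw [Finset.sum_image hinj, Finset.sum_congr rfl hm1, Finset.card_eq_sum_ones]
    _ ≤ _ := Finset.sum_le_sum_of_subset (Finset.subset_univ _)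

/-- Let G be a finite group that is the semidirect product of a normal elementary abelian subgroup N of odd order by a non-trivial 2-subgroup P, with N the unique minimal normal subgroup of G. Consider the strongly real irreducible complex characters of G (Frobenius–Schur indicator +1) whose degree is 1 or even. Then their average degree is at least 4/3: four times their number is at most three times the sum of their degrees. -/
theorem result {G : Type*} [Group G] [Finite G] (N P : Subgroup G) (hN : N.Normal) (q : ℕ) [Fact q.Prime] (hq : q ≠ 2) (hNel : Cfsg.IsElementaryAbelian q N) (hP : IsPGroup 2 ↥P) (hP1 : P ≠ ⊥) (hdisj : N ⊓ P = ⊥) (hprod : N ⊔ P = ⊤) (hmin : N ≠ ⊥ ∧ ∀ M : Subgroup G, M.Normal → M ≠ ⊥ → N ≤ M) : 4 * Nat.card {χ : Cfsg.IrrCharacter G // (Cfsg.charDegree (χ : G → ℂ) = 1 ∨ 2 ∣ Cfsg.charDegree (χ : G → ℂ)) ∧ (Nat.card G : ℂ)⁻¹ * ∑ᶠ g : G, (χ : G → ℂ) (g * g) = 1} ≤ 3 * (∑ᶠ χ : {χ : Cfsg.IrrCharacter G // (Cfsg.charDegree (χ : G → ℂ) = 1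 ∨ 2 ∣ Cfsg.charDegree (χ : G → ℂ)) ∧ (Nat.card G : ℂ)⁻¹ * ∑ᶠ g : G, (χ : G → ℂ) (g * g) = 1}, Cfsg.charDegree (χ.1 : G → ℂ)) := by
  classical
  have := Fintype.ofFinite G
  have := hN
  have := Fintype.ofFinite N
  have := Fintype.ofFinite P
  have := Fintype.ofFinite (Cfsg.IrrCharacter G)
  have := Fintype.ofFinite (Cfsg.IrrCharacter N)
  obtain ⟨hNcomm, hNexp⟩ := hNel
  obtain ⟨hN1, hNmin⟩ := hmin
  have hodd : ∀ x ∈ N, x * x = 1 → x = 1 := fun x hx h => by
    have h1 := Nat.Coprime.gcd_eq_one ((Nat.coprime_primes Nat.prime_two (Fact.out : q.Prime)).mpr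
      (Ne.symm hq))
    have h2 : x ^ Nat.gcd 2 q = 1 := pow_gcd_eq_one.mpr ⟨by rw [pow_two, h], hNexp x hx⟩
    rwa [h1, pow_one] at h2
  have hdec : ∀ g : G, ∃ n ∈ N, ∃ x ∈ P, g = n * x := fun g => by
    have hg : g ∈ (↑(N ⊔ P) : Set G) := by rw [hprod]; trivial
    rw [Subgroup.normal_mul] at hg
    obtain ⟨n, hn, x, hx, rfl⟩ := hg
    exact ⟨n, hn, x, hx, rfl⟩
  -- a central involution of `P`
  have hPnt : Nontrivial P := (Subgroup.nontrivial_iff_ne_bot P).mpr hP1
  have hZnt : Nontrivial (Subgroup.center P) := hP.center_nontrivial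
  obtain ⟨z', hz'⟩ : ∃ z' : Subgroup.center P, orderOf z' = 2 := by
    refine exists_prime_orderOf_dvd_card' 2 ?_
    obtain ⟨k, hk⟩ := IsPGroup.iff_card.mp (hP.to_subgroup (Subgroup.center P))
    rw [hk]
    refine dvd_pow_self 2 fun hk0 => ?_
    rw [hk0, pow_zero] at hk
    exact (Finite.one_lt_card (α := Subgroup.center P)).ne' hk
  set z : G := ((z' : P) : G) with hz
  have hzP : z ∈ P := (z' : P).2
  have hzo : orderOf z = 2 := by
    rw [hz, Subgroup.orderOf_coe, Subgroup.orderOf_coe, hz']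
  have hzz : z * z = 1 := by rw [← pow_two, ← hzo, pow_orderOf_eq_one]
  have hz1 : z ≠ 1 := fun e => by rw [e, orderOf_one] at hzo; omega
  have hzc : ∀ x ∈ P, x * z = z * x := fun x hx =>
    congrArg Subtype.val (Subgroup.mem_center_iff.mp z'.2 ⟨x, hx⟩)
  let Cz : Subgroup G := N ⊓ Subgroup.centralizer ({z} : Set G)
  have hCn : Cz.Normal := ⟨fun c hc g => by
    obtain ⟨m, hm, x, hx, rfl⟩ := hdec g
    have hc' : z * c = c * z := (Subgroup.mem_centralizer_singleton_iff.mp hc.2).symm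
    have hx1 : x * c * x⁻¹ ∈ N := hN.conj_mem c hc.1 x
    have hx2 : z * (x * c * x⁻¹) = x * c * x⁻¹ * z := by
      have e1 := hzc x hx
      have e2 := hzc x⁻¹ (inv_mem hx)
      calc z * (x * c * x⁻¹) = z * x * c * x⁻¹ := by group
        _ = x * (z * c) * x⁻¹ := by rw [← e1]; group
        _ = x * c * (z * x⁻¹) := by rw [hc']; group
        _ = _ := by rw [← e2]; group
    have e : m * x * c * (m * x)⁻¹ = x * c * x⁻¹ := by
      have h3 : m * (x * c * x⁻¹) = x * c * x⁻¹ * m :=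
        congrArg Subtype.val (hNcomm.is_comm.comm ⟨m, hm⟩ ⟨_, hx1⟩)
      calc m * x * c * (m * x)⁻¹ = m * (x * c * x⁻¹) * m⁻¹ := by group
        _ = _ := by rw [h3, mul_inv_cancel_right]
    rw [e]
    exact ⟨hx1, Subgroup.mem_centralizer_singleton_iff.mpr hx2.symm⟩⟩
  have hC1 : Cz = ⊥ := by
    by_contra h
    have hle : N ≤ Subgroup.centralizer ({z} : Set G) := (hNmin Cz hCn h).trans inf_le_right
    have hcen : z ∈ Subgroup.center G := Subgroup.mem_center_iff.mpr fun g => by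
      obtain ⟨m, hm, x, hx, rfl⟩ := hdec g
      rw [mul_assoc, hzc x hx, ← mul_assoc, Subgroup.mem_centralizer_singleton_iff.mp (hle hm),
        mul_assoc]
    have hzn : (Subgroup.zpowers z).Normal := ⟨fun y hy g => by
      have : y ∈ Subgroup.center G := Subgroup.zpowers_le.mpr hcen hy
      rw [Subgroup.mem_center_iff.mp this g, mul_inv_cancel_right]
      exact hy⟩
    have hNz := hNmin _ hzn fun h => hz1 (Subgroup.zpowers_eq_bot.mp h)
    refine hN1 ((Subgroup.eq_bot_iff_forall _).mpr fun n hn => hodd n hn ?_)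
    obtain ⟨k, rfl⟩ := Subgroup.mem_zpowers_iff.mp (hNz hn)
    show z ^ k * z ^ k = 1
    rw [← (Commute.refl z).mul_zpow, hzz, one_zpow]
  have hinvert : ∀ n ∈ N, z * n * z⁻¹ = n⁻¹ := fun n hn => by
    have hzi : z⁻¹ = z := inv_eq_of_mul_eq_one_right hzz
    have hm : n * (z * n * z⁻¹) ∈ Cz := by
      have hc : n * (z * n * z⁻¹) = z * n * z⁻¹ * n :=
        congrArg Subtype.val (hNcomm.is_comm.comm ⟨n, hn⟩ ⟨_, hN.conj_mem n hn z⟩)
      refine ⟨mul_mem hn (hN.conj_mem n hn z), Subgroup.mem_centralizer_singleton_iff.mpr ?_⟩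
      symm
      calc z * (n * (z * n * z⁻¹)) = (z * n * z⁻¹) * (z * z) * n * z⁻¹ := by group
        _ = (z * n * z⁻¹ * n) * z⁻¹ := by rw [hzz, mul_one]
        _ = (n * (z * n * z⁻¹)) * z := by rw [← hc, hzi]
    rw [hC1, Subgroup.mem_bot] at hm
    exact eq_inv_of_mul_eq_one_right hm
  have hNodd : ∀ (l : G →* ℂˣ), ∀ n ∈ N, l n = 1 := fun l n hn => by
    have h1 : l n = l n⁻¹ := by
      rw [← hinvert n hn, map_mul, map_mul, map_inv, mul_comm (l z), mul_inv_cancel_right]
    have h2 : l n ^ 2 = 1 := by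
      rw [pow_two]
      nth_rw 2 [h1]
      rw [map_inv, mul_inv_cancel]
    have h3 : l n ^ q = 1 := by rw [← map_pow, hNexp n hn, map_one]
    have h4 := pow_gcd_eq_one.mpr ⟨h2, h3⟩
    rwa [((Nat.coprime_primes Nat.prime_two (Fact.out : q.Prime)).mpr (Ne.symm hq)).gcd_eq_one,
      pow_one] at h4
  -- the permutation character
  set π : G → ℂ := Cfsg.indFun P (fun _ => 1) with hπ
  have hπc : Cfsg.IsCharacter G π := isCharacter_indFun P isCharacter_one
  have hcompl : Subgroup.IsComplement' N P :=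
    Subgroup.isComplement'_of_disjoint_and_mul_eq_univ (disjoint_iff.mpr hdisj)
      (Set.eq_univ_of_forall fun g => by
        obtain ⟨n, hn, x, hx, rfl⟩ := hdec g
        exact Set.mul_mem_mul hn hx)
  have hPN : P.index = Nat.card N := hcompl.index_eq_card
  have hres : ∀ n : N, π n = if (n : G) = 1 then (Nat.card N : ℂ) else 0 := fun n => by
    split_ifs with h
    · rw [h, hπ, indFun_apply_one, mul_one, hPN]
    · rw [hπ, Cfsg.indFun, Finset.sum_eq_zero, mul_zero]
      intro x _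
      refine extendByZero_of_notMem P _ fun hx => h ?_
      have h2 : x⁻¹ * (n : G) * x ∈ N ⊓ P := ⟨by simpa using hN.conj_mem _ n.2 x⁻¹, hx⟩
      rw [hdisj, Subgroup.mem_bot] at h2
      calc (n : G) = x * (x⁻¹ * n * x) * x⁻¹ := by group
        _ = 1 := by rw [h2]; group
  have hreg : ∀ φ : Cfsg.IrrCharacter N, (φ : N → ℂ) 1 = 1 →
      Cfsg.classInner (fun n : N => π n) (φ : N → ℂ) = 1 := fun φ h1 => by
    rw [Cfsg.classInner, Finset.sum_eq_single (1 : N) (fun n _ hn => by
      rw [hres, if_neg (fun e : (n : G) = 1 => hn (Subtype.ext e)), zero_mul]) (by simp), hres,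
      if_pos (OneMemClass.coe_one N), h1,
      map_one, mul_one, inv_mul_cancel₀ (Nat.cast_ne_zero.mpr Nat.card_pos.ne')]
  have hlin : ∀ φ : Cfsg.IrrCharacter N, (φ : N → ℂ) 1 = 1 :=
    fun φ => CfsgLib.Clifford.apply_one_eq_one_of_commute (fun a b => hNcomm.is_comm.comm a b) φ
  -- a nontrivial character of `N` and the character above it
  obtain ⟨φ, hφ⟩ : ∃ φ : Cfsg.IrrCharacter N, φ ≠ trivChar N := by
    by_contra hall
    push Not at hall
    have hs := sum_sq_degree (G := N)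
    rw [Finset.sum_congr rfl (g := fun _ => (1 : ℂ)) fun φ _ => by rw [hlin, one_pow],
      Finset.sum_const, Finset.card_univ, nsmul_eq_mul, mul_one,
      Fintype.card_eq_one_iff.mpr ⟨_, hall⟩] at hs
    exact hN1 (Subgroup.card_eq_one.mp (by exact_mod_cast hs.symm))
  choose c hc using fun χ : Cfsg.IrrCharacter G =>
    IsChar.classInner_eq_natCast hπc (IsIrr.isCharacter χ.2)
  choose d hd using fun χ : Cfsg.IrrCharacter G => fun ψ : Cfsg.IrrCharacter N =>
    IsChar.classInner_eq_natCast (IsChar.restrict N (IsIrr.isCharacter χ.2)) (IsIrr.isCharacter ψ.2)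
  have hsum : ∀ ψ : Cfsg.IrrCharacter N, ∑ χ, c χ * d χ ψ = 1 := fun ψ => by
    have hexp : (fun n : N => π n) =
        ∑ χ : Cfsg.IrrCharacter G, (c χ : ℂ) • fun n : N => (χ : G → ℂ) n := funext fun n => by
      rw [Finset.sum_apply, classFunction_apply_eq_sum (IsChar.isClassFunction hπc)]
      exact Finset.sum_congr rfl fun χ _ => by rw [hc]; rfl
    have h := hreg ψ (hlin ψ)
    rw [hexp, classInner_sum_left] at h
    simp only [classInner_smul_left, hd] at h
    exact_mod_cast h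
  obtain ⟨χ, hχ⟩ : ∃ χ, c χ * d χ φ ≠ 0 := by
    by_contra hall
    push Not at hall
    have := hsum φ
    simp [hall] at this
  have hcd : c χ = 1 ∧ d χ φ = 1 := by
    have h1 := hsum φ
    rw [← Finset.add_sum_erase _ _ (Finset.mem_univ χ)] at h1
    exact mul_eq_one.mp (by omega)
  have huniq : ∀ χ' : Cfsg.IrrCharacter G, c χ' * d χ' φ ≠ 0 → χ' = χ := fun χ' h' => by
    by_contra hne
    have h1 := hsum φ
    rw [← Finset.add_sum_erase _ _ (Finset.mem_univ χ), hcd.1, hcd.2] at h1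
    have h2 := Finset.single_le_sum (f := fun x => c x * d x φ) (fun _ _ => Nat.zero_le _)
      (Finset.mem_erase.mpr ⟨hne, Finset.mem_univ χ'⟩)
    omega
  have hπreal : ∀ g, conj (π g) = π g := fun g => by
    simp only [hπ, Cfsg.indFun, map_mul, map_inv₀, map_natCast, map_sum]
    refine congrArg _ (Finset.sum_congr rfl fun x _ => ?_)
    by_cases h : x⁻¹ * g * x ∈ P
    · rw [extendByZero_of_mem P _ h, map_one]
    · rw [extendByZero_of_notMem P _ h, map_zero]
  let χb : Cfsg.IrrCharacter G := ⟨fun g => conj ((χ : G → ℂ) g), IsIrr.conj χ.2⟩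
  have hb : c χb * d χb φ ≠ 0 := by
    refine Nat.mul_ne_zero ?_ ?_
    · have e : (c χb : ℂ) = conj (c χ : ℂ) := by
        rw [← hc, ← hc]
        show Cfsg.classInner π (fun g => conj ((χ : G → ℂ) g)) = _
        simp only [Cfsg.classInner, map_mul, map_inv₀, map_natCast, map_sum, hπreal]
      rw [map_natCast, Nat.cast_inj] at e
      rw [e, hcd.1]; exact one_ne_zero
    · have e : (d χb φ : ℂ) = conj (d χ φ : ℂ) := by
        rw [← hd, ← hd]
        simp only [Cfsg.classInner, map_mul, map_inv₀, map_natCast, map_sum]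
        congr 1
        refine Fintype.sum_equiv (Equiv.inv N) _ _ fun n => ?_
        show conj ((χ : G → ℂ) n) * conj ((φ : N → ℂ) n) =
          conj ((χ : G → ℂ) ((n : G)⁻¹)) * conj (conj ((φ : N → ℂ) n⁻¹))
        rw [IsIrr.map_inv φ.2, Complex.conj_conj, ← hinvert n n.2, IsIrr.isClassFunction χ.2 (n : G) z]
      rw [map_natCast, Nat.cast_inj] at e
      rw [e, hcd.2]; exact one_ne_zero
  have hreal : ∀ g, ((χ : G → ℂ) g).im = 0 := fun g =>
    Complex.conj_eq_iff_im.mp (congrFun (congrArg Subtype.val (huniq χb hb)) g)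
  have hfixP : Cfsg.classInner (fun x : P => (χ : G → ℂ) x) (fun _ => 1) = 1 := by
    rw [← classInner_conj_symm, ← frobenius_reciprocity P (fun _ => (1 : ℂ))
      (IsIrr.isClassFunction χ.2), hc, hcd.1, Nat.cast_one, map_one]
  have hν : fsInd (χ : G → ℂ) = 1 := fsInd_eq_one_of_fixed_mult_one χ hreal P hfixP
  have hφc : Cfsg.classInner (fun n : N => (χ : G → ℂ) n) (φ : N → ℂ) = 1 := by
    rw [hd, hcd.2, Nat.cast_one]
  -- its degree
  set D := (CfsgLib.Clifford.inertia hN (φ : N → ℂ)).index with hD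
  have hχ1 : (χ : G → ℂ) 1 = D := by
    rw [CfsgLib.Clifford.degree_eq hN φ.2 χ.2 (by rw [hφc]; exact one_ne_zero), hφc, hlin, one_mul,
      mul_one]
  have hχdeg : Cfsg.charDegree (χ : G → ℂ) = D := CfsgLib.CharDegree.charDegree_eq_of_apply_one hχ1
  obtain ⟨k, hk⟩ := IsPGroup.iff_card.mp hP
  have hNidx : N.index = 2 ^ k := by
    rw [hcompl.symm.index_eq_card, hk]
  obtain ⟨j, -, hj⟩ := (Nat.dvd_prime_pow Nat.prime_two).mp (hNidx ▸ Subgroup.index_dvd_of_le
    (CfsgLib.Clifford.le_inertia hN (IsIrr.isClassFunction φ.2)) : D ∣ 2 ^ k)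
  have hD2 : 2 ∣ D := by
    rcases j with _ | j
    · exfalso
      rw [pow_zero] at hj
      obtain ⟨l, hl⟩ := exists_linear_of_degree_one (IsIrr.isCharacter χ.2)
        (by rw [hχ1, hj, Nat.cast_one])
      refine hφ ?_
      by_contra hne
      have h0 : Cfsg.classInner (fun n : N => (χ : G → ℂ) n) (φ : N → ℂ) = 0 := by
        rw [show (fun n : N => (χ : G → ℂ) n) = (trivChar N : N → ℂ) from funext fun n => by
          rw [trivChar_apply, hl]; show (l (n : G) : ℂ) = 1; rw [hNodd l n n.2, Units.val_one]]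
        exact classInner_irr_of_ne (Ne.symm hne)
      exact one_ne_zero (hφc.symm.trans h0)
    · rw [hj]; exact dvd_pow_self 2 (by omega)
  have hD1 : 2 ≤ D := Nat.le_of_dvd (hj ▸ pow_pos two_pos j) hD2
  -- the sign characters and their twists
  let L := {l : G →* ℂˣ // ∀ g, l g * l g = 1}
  have hfin : Finite (G →* ℂˣ) := Finite.of_injective
    (fun l => (⟨_, isIrrCharacter_linear l⟩ : Cfsg.IrrCharacter G))
    fun l l' h => MonoidHom.ext fun g => Units.ext (congrFun (congrArg Subtype.val h) g)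
  have : Fintype L := Fintype.ofFinite L
  have htw : ∀ l : L, Cfsg.IsIrrCharacter G fun g => (χ : G → ℂ) g * (l.1 g : ℂ) := fun l =>
    CfsgLib.CharDegree.isIrr_mul_linear χ l.1
  let S := {ψ : Cfsg.IrrCharacter G // (Cfsg.charDegree (ψ : G → ℂ) = 1 ∨
    2 ∣ Cfsg.charDegree (ψ : G → ℂ)) ∧ (Nat.card G : ℂ)⁻¹ * ∑ᶠ g : G, (ψ : G → ℂ) (g * g) = 1}
  have : Fintype S := Fintype.ofFinite S
  have hdtw : ∀ l : L, Cfsg.charDegree (fun g => (χ : G → ℂ) g * (l.1 g : ℂ)) = D := fun l =>
    CfsgLib.CharDegree.charDegree_eq_of_apply_one (by rw [map_one, Units.val_one, mul_one, hχ1])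
  let Φ : L → S := fun l => ⟨⟨_, htw l⟩, Or.inr (by rw [hdtw]; exact hD2), by
    rw [finsum_inner_eq, ← hν]
    simp only [fsInd]
    congr 1
    refine Finset.sum_congr rfl fun g _ => ?_
    rw [map_mul, l.2 g, Units.val_one, mul_one]⟩
  set lin := (Finset.univ : Finset S).filter fun ψ => Cfsg.charDegree (ψ.1 : G → ℂ) = 1 with hlindef
  have hlin_le : lin.card ≤ Fintype.card L := by
    rw [← Fintype.card_coe]
    have hmem : ∀ ψ : lin, Cfsg.charDegree ((ψ.1).1 : G → ℂ) = 1 := fun ψ =>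
      (Finset.mem_filter.mp ψ.2).2
    choose l hl using fun ψ : lin => exists_linear_of_degree_one (IsIrr.isCharacter (ψ.1).1.2)
      ((CfsgLib.CharDegree.charDegree_eq_one_iff _).mp (hmem ψ))
    refine Fintype.card_le_of_injective (fun ψ => (⟨l ψ, fun g => ?_⟩ : L)) fun a b h => ?_
    · have hre := (ψ.1).2.2
      rw [finsum_inner_eq, show ((ψ.1).1 : G → ℂ) = fun g => (l ψ g : ℂ) from hl ψ,
        fsInd] at hre
      exact sign_of_sum (l ψ) hre g
    · refine Subtype.ext (Subtype.ext (irr_ext fun g => ?_))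
      rw [hl a, hl b, show l a = l b from congrArg Subtype.val h]
  have hfib : Fintype.card L ≤ D * ((Finset.univ : Finset L).image Φ).card := by
    rw [← Finset.card_univ]
    refine (Finset.card_le_mul_card_image_of_maps_to (fun a ha => Finset.mem_image_of_mem Φ ha) D
      fun ψ _ => ?_)
    rw [← Finset.card_map (Function.Embedding.subtype _)]
    refine fibre_le P χ hχ1 hfixP (fun l l' h => MonoidHom.ext fun g => ?_) _ (fun l hl => ?_)
      (ψ.1 : G → ℂ) fun l hl => ?_
    · obtain ⟨n, hn, x, hx, rfl⟩ := hdec g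
      rw [map_mul, map_mul, hNodd l n hn, hNodd l' n hn, h ⟨x, hx⟩]
    · obtain ⟨a, -, rfl⟩ := Finset.mem_map.mp hl
      exact a.2
    · obtain ⟨a, ha, rfl⟩ := Finset.mem_map.mp hl
      exact congrArg (fun s : S => (s.1 : G → ℂ)) (Finset.mem_filter.mp ha).2
  have hnd : ∀ ψ ∈ (Finset.univ : Finset L).image Φ, ψ ∉ lin := fun ψ hψ hl => by
    obtain ⟨l, -, rfl⟩ := Finset.mem_image.mp hψ
    have := (Finset.mem_filter.mp hl).2
    rw [show Cfsg.charDegree ((Φ l).1 : G → ℂ) = D from hdtw l] at this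
    omega
  show 4 * Nat.card S ≤ 3 * ∑ᶠ ψ : S, Cfsg.charDegree (ψ.1 : G → ℂ)
  rw [Nat.card_eq_fintype_card, finsum_eq_sum_of_fintype, ← Finset.card_univ,
    Finset.card_eq_sum_ones, Finset.mul_sum, Finset.mul_sum]
  set im := (Finset.univ : Finset L).image Φ with him
  have key : ∀ ψ : S, (4 : ℕ) * 1 + (if ψ ∈ im then D else 0) ≤
      3 * Cfsg.charDegree (ψ.1 : G → ℂ) + (if ψ ∈ lin then 1 else 0) := fun ψ => by
    by_cases h : ψ ∈ im
    · obtain ⟨l, -, rfl⟩ := Finset.mem_image.mp h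
      rw [if_pos h, if_neg (hnd _ h), show Cfsg.charDegree ((Φ l).1 : G → ℂ) = D from hdtw l]
      omega
    · rw [if_neg h]
      rcases ψ.2.1 with h1 | h1
      · have hl : ψ ∈ lin := Finset.mem_filter.mpr ⟨Finset.mem_univ _, h1⟩
        rw [if_pos hl, h1]
      · have := CfsgLib.CharDegree.charDegree_pos ψ.1
        have := Nat.le_of_dvd this h1
        omega
  have hs := Finset.sum_le_sum fun ψ (_ : ψ ∈ Finset.univ) => key ψ
  rw [Finset.sum_add_distrib, Finset.sum_add_distrib, Finset.sum_ite_mem, Finset.sum_ite_mem,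
    Finset.univ_inter, Finset.univ_inter] at hs
  simp only [Finset.sum_const, smul_eq_mul, mul_one] at hs ⊢
  rw [mul_comm im.card] at hs
  omega

end Cfsg.Agent.S4871
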