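import Cfsg.Statements.S4872
import Cfsg.Agent.Lib.CharDegree.EvenFixed
import Cfsg.Agent.Lib.Char.CliffordCorr
import Cfsg.Agent.Lib.Char.DefectZero
import Cfsg.Agent.Lib.Char.Brauer
import Cfsg.Agent.Lib.Char.Real
import Cfsg.Agent.S0887
import Cfsg.Agent.Lib.Blocks.Covering

set_option autoImplicit false
open Cfsg

namespace Cfsg.Agent.S4872

/-- Let N be a normal subgroup of the finite group G with G/N a 2-group, and let φ be an irreducible complex character of N of 2-defect zero (the 2-part of #N divides φ(1)) whose complex conjugate is G-conjugate to φ. Then some irreducible character of G with Frobenius–Schur indicator +1 contains φ with multiplicity exactly one on restriction to N. -/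
theorem result {G : Type*} [Group G] [Finite G] (N : Subgroup G) [N.Normal] (h2 : IsPGroup 2 (G ⧸ N)) (φ : Cfsg.IrrCharacter ↥N) (hdef : 2 ^ (Nat.card ↥N).factorization 2 ∣ Cfsg.charDegree (φ : ↥N → ℂ)) (hconj : ∃ g : G, ∀ n n' : ↥N, (n' : G) = g * (n : G) * g⁻¹ → (φ : ↥N → ℂ) n' = (starRingEnd ℂ) ((φ : ↥N → ℂ) n)) : ∃ χ : Cfsg.IrrCharacter G, (Nat.card G : ℂ)⁻¹ * ∑ᶠ g : G, (χ : G → ℂ) (g * g) = 1 ∧ (Nat.card ↥N : ℂ)⁻¹ * ∑ᶠ n : ↥N, (χ : G → ℂ) n * (starRingEnd ℂ) ((φ : ↥N → ℂ) n) = 1 := by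
  classical
  have := Fintype.ofFinite G
  have := Fintype.ofFinite N
  have := Fintype.ofFinite (Cfsg.IrrCharacter G)
  set a := (Nat.card N).factorization 2 with ha
  obtain ⟨k, hk⟩ := IsPGroup.iff_card.1 h2
  rw [← Subgroup.index_eq_card] at hk
  have hG : Nat.card G = Nat.card N * 2 ^ k := by rw [← hk, Subgroup.card_mul_index]
  -- defect zero
  have hN2 : ¬ 2 ^ (a + 1) ∣ Nat.card N :=
    Nat.pow_succ_factorization_not_dvd Nat.card_pos.ne' Nat.prime_two
  have hvan : ∀ n : N, 2 ∣ orderOf n → (φ : N → ℂ) n = 0 := by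
    obtain ⟨m, ρ, hρ, hφ, hm⟩ := CfsgLib.CharDegree.exists_rep φ
    intro n hn
    rw [← hφ]
    refine CfsgLib.Char.character_eq_zero_of_defect_zero
      (fun θ hθ hE => CfsgLib.Brauer.isGeneralizedCharacter_of_elementary hθ hE) ρ Nat.prime_two
      (Nat.ordProj_dvd _ _) hN2 ?_ hn
    rw [Module.finrank_pi, Fintype.card_fin, hm]
    exact hdef
  obtain ⟨m, hm⟩ := hdef
  have hmodd : ¬ 2 ∣ m := fun h => hN2 (by
    have h1 : 2 ^ a * 2 ∣ Cfsg.charDegree (φ : N → ℂ) := hm ▸ mul_dvd_mul_left _ h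
    rw [pow_succ]
    exact h1.trans (CfsgLib.CharDegree.charDegree_dvd_card φ))
  -- a Sylow subgroup
  obtain ⟨P⟩ : Nonempty (Sylow 2 G) := inferInstance
  have := Fintype.ofFinite (P : Subgroup G)
  have hP : Nat.card P = 2 ^ a * 2 ^ k := by
    rw [P.card_eq_multiplicity, hG, Nat.factorization_mul Nat.card_pos.ne' (by positivity),
      Finsupp.add_apply, Nat.prime_two.factorization_pow, Finsupp.single_eq_same, pow_add]
  -- multiplicities
  have he : ∀ χ : Cfsg.IrrCharacter G, ∃ e : ℕ,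
      Cfsg.classInner (fun n : N => (χ : G → ℂ) n) (φ : N → ℂ) = e := fun χ =>
    CfsgLib.Char.IsChar.classInner_eq_natCast
      (CfsgLib.Char.IsChar.restrict N (CfsgLib.Char.IsIrr.isCharacter χ.2))
      (CfsgLib.Char.IsIrr.isCharacter φ.2)
  choose e he using he
  have hfx : ∀ χ : Cfsg.IrrCharacter G, ∃ t : ℕ,
      (Nat.card P : ℂ)⁻¹ * ∑ x : P, (χ : G → ℂ) x = t := fun χ => by
    obtain ⟨t, ht⟩ := CfsgLib.Char.IsChar.classInner_eq_natCast
      (CfsgLib.Char.IsChar.restrict (P : Subgroup G) (CfsgLib.Char.IsIrr.isCharacter χ.2))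
      (CfsgLib.Char.IsIrr.isCharacter (CfsgLib.Char.trivChar P).2)
    refine ⟨t, ?_⟩
    rw [← ht]
    simp only [Cfsg.classInner, CfsgLib.Char.trivChar_apply, map_one, mul_one]
  choose t ht using hfx
  have hsum : ∑ χ : Cfsg.IrrCharacter G, e χ * t χ = m := by
    apply Nat.cast_injective (R := ℂ)
    push_cast
    have h1 : ∀ χ : Cfsg.IrrCharacter G, (e χ : ℂ) * t χ = (Nat.card N : ℂ)⁻¹ * (Nat.card P : ℂ)⁻¹ *
        ∑ n : N, ∑ x : P, (starRingEnd ℂ) ((φ : N → ℂ) n) *
          ((χ : G → ℂ) n * (starRingEnd ℂ) ((χ : G → ℂ) x)) := fun χ => by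
      have h2 : (t χ : ℂ) = (Nat.card P : ℂ)⁻¹ * ∑ x : P, (starRingEnd ℂ) ((χ : G → ℂ) x) := by
        rw [← map_sum, ← Complex.conj_natCast (t χ), ← ht χ, map_mul, map_inv₀, Complex.conj_natCast]
      rw [← he χ, h2, Cfsg.classInner, mul_mul_mul_comm, Finset.sum_mul_sum]
      congr 1
      exact Finset.sum_congr rfl fun n _ => Finset.sum_congr rfl fun x _ => by ring
    rw [Finset.sum_congr rfl fun χ _ => h1 χ, ← Finset.mul_sum, Finset.sum_comm]
    rw [Finset.sum_congr rfl (g := fun n : N => if n = 1 then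
      (Nat.card G : ℂ) * (φ : N → ℂ) 1 else 0)]
    · rw [Finset.sum_ite_eq' Finset.univ (1 : N), if_pos (Finset.mem_univ _),
        CfsgLib.Blocks.apply_one_eq_charDegree, hm, hG, hP]
      push_cast
      have : (Nat.card N : ℂ) ≠ 0 := Nat.cast_ne_zero.2 Nat.card_pos.ne'
      field_simp
    intro n _
    rw [Finset.sum_comm]
    simp only [← Finset.mul_sum, CfsgLib.Char.column_orthogonality]
    split_ifs with hn1
    · subst hn1
      rw [Fintype.sum_eq_single (1 : (P : Subgroup G))]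
      · rw [if_pos (by simp), CfsgLib.Blocks.apply_one_eq_charDegree, Complex.conj_natCast, mul_comm]
        congr 2
        refine Nat.card_congr (Equiv.subtypeUnivEquiv fun g => ?_)
        simp [Subgroup.mem_centralizer_singleton_iff]
      · intro x hx
        refine if_neg fun h => hx (Subtype.ext ?_)
        exact isConj_one_right.1 h
    · by_cases hreg : ∀ x : (P : Subgroup G), ¬ IsConj ((n : N) : G) (x : G)
      · rw [Finset.sum_eq_zero fun x _ => if_neg (hreg x), mul_zero]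
      · push Not at hreg
        obtain ⟨x, hx⟩ := hreg
        rw [hvan n, map_zero, zero_mul]
        obtain ⟨j, hj⟩ := (IsPGroup.iff_orderOf.1 P.2) x
        obtain ⟨c, hc⟩ := isConj_iff.1 hx
        have ho : orderOf n = 2 ^ j := by
          have h3 : orderOf ((MulAut.conj c) (n : G)) = orderOf (n : G) := MulEquiv.orderOf_eq _ _
          rw [← Subgroup.orderOf_coe, ← h3, MulAut.conj_apply, hc, Subgroup.orderOf_coe, hj]
        cases j with
        | zero => exact absurd (orderOf_eq_one_iff.1 (by simpa using ho)) hn1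
        | succ j => exact ho ▸ dvd_pow_self 2 j.succ_ne_zero
  -- complex conjugation
  obtain ⟨g, hg⟩ := hconj
  have hesymm : ∀ χ, e (CfsgLib.Char.conjIrr χ) = e χ := fun χ => by
    apply Nat.cast_injective (R := ℂ)
    rw [← he, ← Complex.conj_natCast (e χ), ← he χ, Cfsg.classInner, Cfsg.classInner, map_mul,
      map_inv₀, Complex.conj_natCast, map_sum]
    congr 1
    refine Fintype.sum_equiv (MulAut.conjNormal (H := N) g⁻¹).toEquiv _ _ fun n => ?_
    show (starRingEnd ℂ) ((χ : G → ℂ) (n : G)) * (starRingEnd ℂ) ((φ : N → ℂ) n) =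
      (starRingEnd ℂ) ((χ : G → ℂ) ((MulAut.conjNormal g⁻¹ n : N) : G) *
        (starRingEnd ℂ) ((φ : N → ℂ) (MulAut.conjNormal g⁻¹ n)))
    rw [map_mul, Complex.conj_conj, MulAut.conjNormal_apply,
      CfsgLib.Char.IsIrr.isClassFunction χ.2 (n : G) g⁻¹]
    congr 1
    have h4 := hg (MulAut.conjNormal g⁻¹ n) n (by rw [MulAut.conjNormal_apply]; group)
    rw [h4, Complex.conj_conj]
  have htsymm : ∀ χ, t (CfsgLib.Char.conjIrr χ) = t χ := fun χ => by
    apply Nat.cast_injective (R := ℂ)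
    rw [← ht, ← Complex.conj_natCast (t χ), ← ht χ, map_mul, map_inv₀, Complex.conj_natCast, map_sum]
    rfl
  obtain ⟨χ, hfix, hodd⟩ : ∃ χ : Cfsg.IrrCharacter G,
      CfsgLib.Char.conjIrr χ = χ ∧ ¬ 2 ∣ e χ * t χ := by
    by_contra hno
    push Not at hno
    refine hmodd ?_
    rw [← hsum, ← ZMod.natCast_eq_zero_iff, Nat.cast_sum]
    refine Finset.sum_involution (fun χ _ => CfsgLib.Char.conjIrr χ) (fun χ _ => ?_) (fun χ _ h h' => ?_)
      (fun _ _ => Finset.mem_univ _) (fun χ _ => CfsgLib.Char.conjIrr_conjIrr χ)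
    · rw [hesymm, htsymm, ← two_mul, show ((2 : ZMod 2)) = 0 from rfl, zero_mul]
    · exact h ((ZMod.natCast_eq_zero_iff _ _).2 (hno χ h'))
  have hecond : ¬ 2 ∣ e χ := fun h => hodd (h.mul_right _)
  have he0 : e χ ≠ 0 := fun h => hecond (h ▸ dvd_zero 2)
  have hne : Cfsg.classInner (fun n : N => (χ : G → ℂ) n) (φ : N → ℂ) ≠ 0 := by
    rw [he]; exact Nat.cast_ne_zero.2 he0
  have he1 : e χ = 1 := by
    obtain ⟨hd, hq⟩ := Cfsg.Agent.S0887.result N (χ : G → ℂ) χ.2 (φ : N → ℂ) φ.2 hne _ _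
      (CfsgLib.Blocks.apply_one_eq_charDegree χ) (CfsgLib.Blocks.apply_one_eq_charDegree φ)
    rw [hk] at hq
    have hdeg := CfsgLib.Clifford.degree_eq inferInstance φ.2 χ.2 hne
    rw [he, CfsgLib.Blocks.apply_one_eq_charDegree, CfsgLib.Blocks.apply_one_eq_charDegree] at hdeg
    norm_cast at hdeg
    rw [hdeg, Nat.mul_div_cancel _ (CfsgLib.Blocks.charDegree_pos φ)] at hq
    obtain ⟨j, -, hj⟩ := (Nat.dvd_prime_pow Nat.prime_two).1 ((Dvd.intro _ rfl).trans hq)
    cases j with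
    | zero => simpa using hj
    | succ j => exact absurd (hj ▸ dvd_pow_self 2 j.succ_ne_zero) hecond
  refine ⟨χ, ?_, ?_⟩
  · rw [finsum_eq_sum_of_fintype]
    show CfsgLib.Char.fsInd (χ : G → ℂ) = 1
    rcases CfsgLib.CharDegree.fsInd_cases χ with h0 | h1 | h1
    · exfalso
      obtain ⟨n, ρ, hρ, hχ, -⟩ := CfsgLib.CharDegree.exists_rep χ
      rw [← hχ] at h0
      obtain ⟨s, hs⟩ := (CfsgLib.Char.fsInd_trichotomy ρ).2.1 h0
      rw [hχ] at hs
      exact hs ((CfsgLib.Char.conjIrr_eq_iff χ).1 hfix s)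
    · exact h1
    · exfalso
      obtain ⟨b, hb, hb'⟩ := CfsgLib.CharDegree.even_fixed_of_fsInd_neg χ h1 (P : Subgroup G)
      rw [ht, Nat.cast_inj] at hb'
      exact hodd ((hb' ▸ even_iff_two_dvd.1 hb).mul_left _)
  · rw [finsum_eq_sum_of_fintype]
    have := he χ
    rw [he1, Nat.cast_one] at this
    exact this

end Cfsg.Agent.S4872
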