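import Cfsg.Statements.S4873
import Cfsg.Agent.Lib.CharDegree.OddIndex
-- import your own Cfsg.Agent.* helpers here

set_option autoImplicit false
open Cfsg

namespace Cfsg.Agent.S4873

/-- Let N be a normal subgroup of odd index in the finite group G. Then every irreducible complex character of N with Frobenius–Schur indicator +1 lies under exactly one irreducible character of G with Frobenius–Schur indicator +1. -/
theorem result {G : Type*} [Group G] [Finite G] (N : Subgroup G) [N.Normal] (hodd : Odd N.index) (φ : Cfsg.IrrCharacter ↥N) (hφ : (Nat.card ↥N : ℂ)⁻¹ * ∑ᶠ g : ↥N, (φ : ↥N → ℂ) (g * g) = 1) : ∃! χ : Cfsg.IrrCharacter G, (Nat.card G : ℂ)⁻¹ * ∑ᶠ g : G, (χ : G → ℂ) (g * g) = 1 ∧ (∑ᶠ n : ↥N, (χ : G → ℂ) n * (starRingEnd ℂ) ((φ : ↥N → ℂ) n)) ≠ 0 := by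
  classical
  have := Fintype.ofFinite G
  have := Fintype.ofFinite N
  have := Fintype.ofFinite (Cfsg.IrrCharacter G)
  have := Fintype.ofFinite (Cfsg.IrrCharacter N)
  simp only [finsum_eq_sum_of_fintype] at hφ ⊢
  have hνφ : CfsgLib.Char.fsInd (φ : N → ℂ) = 1 := hφ
  have hφreal := CfsgLib.CharDegree.im_eq_zero_of_fsInd_ne_zero φ (by rw [hνφ]; exact one_ne_zero)
  obtain ⟨χ₀, hχ₀, huniq⟩ := CfsgLib.CharDegree.existsUnique_real_over N hodd φ hφreal
  have hiff : ∀ χ : Cfsg.IrrCharacter G,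
      (∑ n : N, (χ : G → ℂ) n * (starRingEnd ℂ) ((φ : N → ℂ) n) ≠ 0 ↔
        Cfsg.classInner (fun n : N => (χ : G → ℂ) n) (φ : N → ℂ) ≠ 0) := fun χ => by
    rw [Cfsg.classInner, mul_ne_zero_iff, and_iff_right
      (inv_ne_zero (Nat.cast_ne_zero.mpr Nat.card_pos.ne'))]
  -- square roots of elements of `N` lie in `N`
  have hroots : ∀ n : N, Nat.card {s : G // s * s = (n : G)} = Nat.card {s : N // s * s = n} := by
    intro n
    have hmem : ∀ s : G, s * s = (n : G) → s ∈ N := fun s hs => by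
      rw [← QuotientGroup.eq_one_iff]
      have h2 : (s : G ⧸ N) ^ 2 = 1 := by
        rw [sq, ← QuotientGroup.mk_mul, hs, (QuotientGroup.eq_one_iff _).mpr n.2]
      have h3 : orderOf (s : G ⧸ N) ∣ Nat.gcd 2 N.index :=
        Nat.dvd_gcd (orderOf_dvd_of_pow_eq_one h2)
          (Subgroup.index_eq_card N ▸ orderOf_dvd_natCard _)
      rw [Nat.coprime_two_left.mpr hodd] at h3
      exact orderOf_eq_one_iff.mp (Nat.dvd_one.mp h3)
    exact Nat.card_congr
      { toFun := fun s => ⟨⟨s.1, hmem s.1 s.2⟩, Subtype.ext s.2⟩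
        invFun := fun s => ⟨(s.1 : G), congrArg Subtype.val s.2⟩
        left_inv := fun s => rfl
        right_inv := fun s => rfl }
  have hsum : ∑ χ : Cfsg.IrrCharacter G, CfsgLib.Char.fsInd (χ : G → ℂ) *
      Cfsg.classInner (fun n : N => (χ : G → ℂ) n) (φ : N → ℂ) = 1 := by
    have he : ∑ χ : Cfsg.IrrCharacter G, CfsgLib.Char.fsInd (χ : G → ℂ) • (fun n : N => (χ : G → ℂ) n) =
        ∑ η : Cfsg.IrrCharacter N, CfsgLib.Char.fsInd (η : N → ℂ) • (η : N → ℂ) := by
      funext n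
      simp only [Finset.sum_apply, Pi.smul_apply, smul_eq_mul]
      rw [← CfsgLib.Char.card_sqrt_eq_sum, ← CfsgLib.Char.card_sqrt_eq_sum, hroots]
    have h1 := congrArg (fun f => Cfsg.classInner f (φ : N → ℂ)) he
    simp only [CfsgLib.Char.classInner_sum_left, CfsgLib.Char.classInner_smul_left,
      CfsgLib.Char.classInner_irr, mul_ite, mul_one, mul_zero, Finset.sum_ite_eq',
      Finset.mem_univ, if_true] at h1
    rw [h1, hνφ]
  rw [Finset.sum_eq_single χ₀ (fun χ _ hne => ?_) (fun h => absurd (Finset.mem_univ χ₀) h)] at hsum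
  · have hν0 : CfsgLib.Char.fsInd (χ₀ : G → ℂ) = 1 := by
      rcases CfsgLib.CharDegree.fsInd_cases χ₀ with h | h | h
      · rw [h, zero_mul] at hsum
        exact absurd hsum zero_ne_one
      · exact h
      · obtain ⟨k, hk⟩ := CfsgLib.Char.IsChar.classInner_eq_natCast
          (CfsgLib.Char.IsChar.restrict N (CfsgLib.Char.IsIrr.isCharacter χ₀.2))
          (CfsgLib.Char.IsIrr.isCharacter φ.2)
        rw [h, hk] at hsum
        have := congrArg Complex.re hsum
        norm_num at this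
        linarith [(Nat.cast_nonneg k : (0 : ℝ) ≤ k)]
    refine ⟨χ₀, ⟨hν0, (hiff χ₀).mpr hχ₀.2⟩, fun χ hχ => huniq χ ⟨?_, (hiff χ).mp hχ.2⟩⟩
    exact CfsgLib.CharDegree.im_eq_zero_of_fsInd_ne_zero χ (by
      rw [show CfsgLib.Char.fsInd (χ : G → ℂ) = 1 from hχ.1]; exact one_ne_zero)
  · by_contra h
    obtain ⟨hν, hm⟩ := mul_ne_zero_iff.mp h
    exact hne (huniq χ ⟨CfsgLib.CharDegree.im_eq_zero_of_fsInd_ne_zero χ hν, hm⟩)

end Cfsg.Agent.S4873
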