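import Cfsg.Statements.S4885
import Cfsg.Agent.Lib.Blocks.PrincipalPSolvable
import Cfsg.Agent.Lib.CharDegree.PPrimeOver
import Cfsg.Agent.Lib.CharDegree.ItoMichler
import Cfsg.Agent.Lib.PLocal.PSolvable
import Cfsg.Agent.Lib.Transfer.Tate
import Cfsg.Agent.Lib.PGroups.Basic
import Cfsg.Agent.Lib.Core.Misc

set_option autoImplicit false
open Cfsg

namespace Cfsg.Agent.S4885

open CfsgLib.CharDegree CfsgLib.Char

/-- If every `p'`-degree character with `O_{p'}` in its kernel is trivial on `L`, then the quotient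
by `O_{p'}` meets `L` inside the Frattini subgroup of a Sylow subgroup. -/
theorem map_inf_le_frattini {G : Type*} [Group G] [Finite G] {p : ℕ} [Fact p.Prime]
    (L : Subgroup G)
    (hL : ∀ χ : Cfsg.IrrCharacter G, (∀ n ∈ Cfsg.pPrimeCore p G, (χ : G → ℂ) n = (χ : G → ℂ) 1) →
      ¬ p ∣ Cfsg.charDegree (χ : G → ℂ) → ∀ l ∈ L, (χ : G → ℂ) l = (χ : G → ℂ) 1)
    (P : Sylow p (G ⧸ Cfsg.pPrimeCore p G)) :
    L.map (QuotientGroup.mk' (Cfsg.pPrimeCore p G)) ⊓ (P : Subgroup (G ⧸ Cfsg.pPrimeCore p G)) ≤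
      (frattini P).map (P : Subgroup (G ⧸ Cfsg.pPrimeCore p G)).subtype := by
  classical
  set N := Cfsg.pPrimeCore p G
  have := Fintype.ofFinite G
  have := Fintype.ofFinite (G ⧸ N)
  have := Fintype.ofFinite (P : Subgroup (G ⧸ N))
  rintro x ⟨⟨l, hl, rfl⟩, hxP⟩
  refine ⟨⟨_, hxP⟩, CfsgLib.PGroups.commutator_le_frattini' P.2 ?_, rfl⟩
  by_contra hc
  set Q := (P : Subgroup (G ⧸ N))
  obtain ⟨μ, hμ⟩ : ∃ μ : Cfsg.IrrCharacter (Q ⧸ commutator Q),
      (μ : Q ⧸ commutator Q → ℂ) (QuotientGroup.mk ⟨_, hxP⟩) ≠ (μ : Q ⧸ commutator Q → ℂ) 1 := by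
    by_contra hno
    push Not at hno
    exact hc ((QuotientGroup.eq_one_iff _).1 (isConj_one_left.1 (isConj_of_forall_irr hno)))
  set θ := infl (commutator Q) μ with hθdef
  have hθ : Cfsg.charDegree (θ : Q → ℂ) = 1 := by
    rw [hθdef, charDegree_infl]; exact charDegree_of_comm quotient_commutator_comm μ
  obtain ⟨χ, hχd, hχθ⟩ := exists_not_dvd_over_sylow P θ hθ
  have hval := hL (infl N χ) (fun n hn => infl_ker N χ hn) (by rwa [charDegree_infl]) l hl
  rw [infl_apply, infl_apply, QuotientGroup.mk_one] at hval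
  -- the kernel of the restriction lies in the kernel of the constituent
  obtain ⟨n, ρ, hρ, hρχ, -⟩ := exists_rep χ
  have hl1 : ρ (QuotientGroup.mk' N l) = LinearMap.id := by
    rw [← CfsgLib.CharIntegral.character_eq_finrank_iff ρ, ← Representation.char_one ρ, hρχ]
    exact hval
  have hinv : ∀ y : Q, (χ : G ⧸ N → ℂ) (((⟨_, hxP⟩ : Q) * y : Q) : G ⧸ N) = (χ : G ⧸ N → ℂ) y := fun y => by
    rw [← hρχ]
    show LinearMap.trace ℂ _ (ρ (QuotientGroup.mk' N l * (y : G ⧸ N))) = _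
    rw [map_mul, hl1]
    rfl
  obtain ⟨t, ht⟩ := exists_hom_of_degree_one θ hθ
  have hne : (t ⟨_, hxP⟩ : ℂ) ≠ 1 := fun h1 => hμ (by
    have e1 := congrFun ht ⟨_, hxP⟩
    have e2 := congrFun ht 1
    rw [hθdef, infl_apply] at e1 e2
    rw [QuotientGroup.mk_one] at e2
    rw [e1, e2, h1, map_one, Units.val_one])
  refine hχθ ?_
  set X : Q := ⟨_, hxP⟩
  have hS : (starRingEnd ℂ) (t X : ℂ) *
      Cfsg.classInner (fun y : Q => (χ : G ⧸ N → ℂ) y) (θ : Q → ℂ) =
      Cfsg.classInner (fun y : Q => (χ : G ⧸ N → ℂ) y) (θ : Q → ℂ) := by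
    rw [Cfsg.classInner, mul_left_comm, Finset.mul_sum]
    congr 1
    refine Fintype.sum_equiv (Equiv.mulLeft X) _ _ fun y => ?_
    rw [Equiv.coe_mulLeft, hinv y, ht]
    simp only [map_mul, Units.val_mul]
    ring
  by_contra h0
  refine hne ?_
  have h2 := mul_right_cancel₀ h0 (hS.trans (one_mul _).symm)
  rwa [map_eq_one_iff (starRingEnd ℂ) (star_injective)] at h2

/-- Above such a normal subgroup there is no nontrivial `p'`-layer. -/
theorem le_of_forall_coprime_pow {G : Type*} [Group G] [Finite G] {p : ℕ} [Fact p.Prime]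
    (L W : Subgroup G) [W.Normal] (hNL : Cfsg.pPrimeCore p G ≤ L) (hLW : L ≤ W)
    (hL : ∀ χ : Cfsg.IrrCharacter G, (∀ n ∈ Cfsg.pPrimeCore p G, (χ : G → ℂ) n = (χ : G → ℂ) 1) →
      ¬ p ∣ Cfsg.charDegree (χ : G → ℂ) → ∀ l ∈ L, (χ : G → ℂ) l = (χ : G → ℂ) 1)
    (hW : ∀ w ∈ W, ∃ r : ℕ, r.Coprime p ∧ w ^ r ∈ L) :
    W ≤ L ∧ IsPGroup p (W.map (QuotientGroup.mk' (Cfsg.pPrimeCore p G))) := by
  set N := Cfsg.pPrimeCore p G
  set π := QuotientGroup.mk' N
  obtain ⟨P⟩ : Nonempty (Sylow p (G ⧸ N)) := inferInstance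
  set W' := W.map π
  have : W'.Normal := (inferInstance : W.Normal).map π (QuotientGroup.mk'_surjective N)
  have hpow : ∀ x ∈ W', (∃ j, x ^ p ^ j = 1) → x ∈ L.map π := by
    rintro _ ⟨w, hw, rfl⟩ ⟨j, hj⟩
    obtain ⟨r, hr, hwr⟩ := hW w hw
    obtain ⟨m, hm⟩ := exists_pow_eq_self_of_coprime (x := π w) (n := r)
      ((hr.pow_right j).coprime_dvd_right (orderOf_dvd_of_pow_eq_one hj))
    rw [← hm, ← map_pow π w r]
    exact pow_mem (Subgroup.mem_map_of_mem π hwr) m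
  have hle : W' ⊓ (P : Subgroup (G ⧸ N)) ≤ (frattini P).map (P : Subgroup (G ⧸ N)).subtype :=
    fun x hx => map_inf_le_frattini L hL P ⟨hpow x hx.1 (by
      obtain ⟨j, hj⟩ := P.2 ⟨x, hx.2⟩
      exact ⟨j, by simpa using congrArg Subtype.val hj⟩), hx.2⟩
  have hc := CfsgLib.Transfer.hasNormalPComplement_iff_coprime.mp
    (CfsgLib.Transfer.hasNormalPComplement_of_inf_le_frattini P W' hle)
  set X := (Cfsg.pResidual p W').map W'.subtype
  have : X.Normal := inferInstance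
  have hX : X = ⊥ := by
    have h1 : X ≤ Cfsg.pPrimeCore p (G ⧸ N) := CfsgLib.Core.le_pPrimeCore (by
      rw [Subgroup.card_map_of_injective W'.subtype_injective]; exact hc)
    rwa [CfsgLib.Core.pPrimeCore_quotient_pPrimeCore, le_bot_iff] at h1
  have hres : Cfsg.pResidual p W' = ⊥ :=
    (Subgroup.map_eq_bot_iff_of_injective _ W'.subtype_injective).1 hX
  have hp' : IsPGroup p W' := by
    intro x
    obtain ⟨j, hj⟩ := CfsgLib.Transfer.isPGroup_quotient_pResidual (p := p) (G := W') (QuotientGroup.mk x)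
    refine ⟨j, ?_⟩
    rwa [← QuotientGroup.mk_pow, QuotientGroup.eq_one_iff, hres, Subgroup.mem_bot] at hj
  refine ⟨fun w hw => ?_, hp'⟩
  obtain ⟨j, hj⟩ := hp' ⟨π w, Subgroup.mem_map_of_mem π hw⟩
  obtain ⟨l, hl, hlw⟩ := hpow (π w) (Subgroup.mem_map_of_mem π hw)
    ⟨j, by simpa using congrArg Subtype.val hj⟩
  have h2 : l⁻¹ * w ∈ N := (QuotientGroup.eq_one_iff _).1 (by
    show π (l⁻¹ * w) = 1
    rw [map_mul, map_inv, hlw, inv_mul_cancel])
  have := L.mul_mem hl (hNL h2)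
  rwa [mul_inv_cancel_left] at this

/-- Let p and q be primes dividing the order of the finite group G, and suppose G is p-solvable and q-solvable. Fix maximal ideals of the algebraic integers containing p and q, defining the principal p-block and the principal q-block. If the irreducible characters of degree prime to p in the principal p-block are exactly the irreducible characters of degree prime to q in the principal q-block, then p = q. -/
theorem result {G : Type*} [Group G] [Finite G] (p q : ℕ) [Fact p.Prime] [Fact q.Prime] (hp : p ∣ Nat.card G) (hq : q ∣ Nat.card G) (hps : Cfsg.IsPSolvable p G) (hqs : Cfsg.IsPSolvable q G) (Mp Mq : Ideal Cfsg.AlgInt) (hMp : Cfsg.IsPModular p Mp) (hMq : Cfsg.IsPModular q Mq) (h : ∀ χ : Cfsg.IrrCharacter G, (χ ∈ Cfsg.principalBlock Mp G ∧ ¬ p ∣ Cfsg.charDegree (χ : G → ℂ)) ↔ (χ ∈ Cfsg.principalBlock Mq G ∧ ¬ q ∣ Cfsg.charDegree (χ : G → ℂ))) : p = q := by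
  classical
  by_contra hne
  have hpp : p.Prime := Fact.out
  have hqq : q.Prime := Fact.out
  have := Fintype.ofFinite G
  set K := Cfsg.pPrimeCore p G ⊔ Cfsg.pPrimeCore q G with hK
  have : K.Normal := inferInstance
  have hker : ∀ χ : Cfsg.IrrCharacter G, χ ∈ Cfsg.principalBlock Mp G → χ ∈ Cfsg.principalBlock Mq G →
      ∀ l ∈ K, (χ : G → ℂ) l = (χ : G → ℂ) 1 := fun χ h1 h2 l hl =>
    mem_kerSubgroup.1 ((sup_le
      (fun n hn => mem_kerSubgroup.2
        ((CfsgLib.Blocks.mem_principalBlock_iff_of_isPSolvable hMp hps χ).1 h1 n hn))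
      (fun n hn => mem_kerSubgroup.2
        ((CfsgLib.Blocks.mem_principalBlock_iff_of_isPSolvable hMq hqs χ).1 h2 n hn)) :
      K ≤ kerSubgroup χ) hl)
  have hLp : ∀ χ : Cfsg.IrrCharacter G, (∀ n ∈ Cfsg.pPrimeCore p G, (χ : G → ℂ) n = (χ : G → ℂ) 1) →
      ¬ p ∣ Cfsg.charDegree (χ : G → ℂ) → ∀ l ∈ K, (χ : G → ℂ) l = (χ : G → ℂ) 1 := fun χ h1 h2 => by
    have h3 := (CfsgLib.Blocks.mem_principalBlock_iff_of_isPSolvable hMp hps χ).2 h1
    exact hker χ h3 ((h χ).1 ⟨h3, h2⟩).1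
  have hLq : ∀ χ : Cfsg.IrrCharacter G, (∀ n ∈ Cfsg.pPrimeCore q G, (χ : G → ℂ) n = (χ : G → ℂ) 1) →
      ¬ q ∣ Cfsg.charDegree (χ : G → ℂ) → ∀ l ∈ K, (χ : G → ℂ) l = (χ : G → ℂ) 1 := fun χ h1 h2 => by
    have h3 := (CfsgLib.Blocks.mem_principalBlock_iff_of_isPSolvable hMq hqs χ).2 h1
    exact hker χ ((h χ).2 ⟨h3, h2⟩).1 h3
  -- small layers above `K`
  have hlayer : ∀ (A : Subgroup (G ⧸ K)) [A.Normal] (r : ℕ) [Fact r.Prime],
      (r = p ∨ r = q) → (Nat.card A).Coprime r → A = ⊥ := by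
    intro A _ r _ hr hA
    have hWK : A.comap (QuotientGroup.mk' K) ≤ K := by
      have hW : ∀ w ∈ A.comap (QuotientGroup.mk' K), ∃ m : ℕ, m.Coprime r ∧ w ^ m ∈ K := fun w hw =>
        ⟨_, hA, (QuotientGroup.eq_one_iff (N := K) _).1 (by
          rw [QuotientGroup.mk_pow]
          exact orderOf_dvd_iff_pow_eq_one.1 (Subgroup.orderOf_dvd_natCard A hw))⟩
      have hle : K ≤ A.comap (QuotientGroup.mk' K) := fun k hk => by
        rw [Subgroup.mem_comap, QuotientGroup.mk'_apply, (QuotientGroup.eq_one_iff k).2 hk]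
        exact one_mem A
      rcases hr with rfl | rfl
      · exact (le_of_forall_coprime_pow K _ le_sup_left hle hLp hW).1
      · exact (le_of_forall_coprime_pow K _ le_sup_right hle hLq hW).1
    refine eq_bot_iff.2 fun x hx => ?_
    obtain ⟨w, rfl⟩ := QuotientGroup.mk'_surjective K x
    exact (QuotientGroup.eq_one_iff w).2 (hWK hx)
  have := CfsgLib.Core.normal_pCore q (G ⧸ K)
  have := CfsgLib.Core.normal_pPrimeCore q (G ⧸ K)
  have hO : Cfsg.pPrimeCore q (G ⧸ K) = ⊥ :=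
    hlayer _ q (Or.inr rfl) (CfsgLib.Core.coprime_card_pPrimeCore q _)
  have hOq : Cfsg.pCore q (G ⧸ K) = ⊥ := by
    obtain ⟨k, hk⟩ := (CfsgLib.Core.isPGroup_pCore q (G ⧸ K)).exists_card_eq
    exact hlayer _ p (Or.inl rfl) (by rw [hk]; exact ((Nat.coprime_primes hqq hpp).2 (Ne.symm hne)).pow_left k)
  have htop : K = ⊤ := by
    have h1 := CfsgLib.PLocal.centralizer_pCore_le (CfsgLib.PLocal.isPSolvable_quotient hqs K) hO
    rw [hOq] at h1
    refine eq_top_iff.2 fun g _ => (QuotientGroup.eq_one_iff g).1 (Subgroup.mem_bot.1 (h1 ?_))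
    exact Subgroup.mem_centralizer_iff.2 fun z hz => by
      rw [Subgroup.mem_bot.1 hz, one_mul, mul_one]
  -- now `G / O_{p'}` is a `p`-group inside its Frattini subgroup
  set N := Cfsg.pPrimeCore p G
  have hG' : IsPGroup p (G ⧸ N) := by
    have h1 := (le_of_forall_coprime_pow K K le_sup_left le_rfl hLp
      fun w hw => ⟨1, Nat.coprime_one_left p, by rwa [pow_one]⟩).2
    rw [htop, ← MonoidHom.range_eq_map, MonoidHom.range_eq_top.2 (QuotientGroup.mk'_surjective N)] at h1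
    exact h1.of_equiv Subgroup.topEquiv
  obtain ⟨P⟩ : Nonempty (Sylow p (G ⧸ N)) := inferInstance
  have hfr := map_inf_le_frattini K hLp P
  rw [htop, ← MonoidHom.range_eq_map, MonoidHom.range_eq_top.2 (QuotientGroup.mk'_surjective N),
    top_inf_eq] at hfr
  have hnt : Nontrivial P := by
    refine (Subgroup.nontrivial_iff_ne_bot _).2 fun hb => ?_
    have h1 : Nat.card P = 1 := Subgroup.card_eq_one.2 hb
    rw [P.card_eq_multiplicity] at h1
    have hd : p ∣ Nat.card (G ⧸ N) := by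
      have h2 := N.card_eq_card_quotient_mul_card_subgroup
      refine (Nat.Coprime.dvd_mul_right ?_).1 (h2 ▸ hp)
      exact (CfsgLib.Core.coprime_card_pPrimeCore p G).symm
    have h3 := (Fact.out : p.Prime).factorization_pos_of_dvd Nat.card_pos.ne' hd
    exact hpp.ne_one (Nat.eq_one_of_dvd_one (h1 ▸ dvd_pow_self p h3.ne'))
  refine CfsgLib.PGroups.frattini_ne_top (G := P) (eq_top_iff.2 fun x _ => ?_)
  obtain ⟨y, hy, hyx⟩ := hfr x.2
  exact Subtype.ext hyx ▸ hy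

end Cfsg.Agent.S4885
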