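import Cfsg.Statements.S4886
import Cfsg.Agent.Lib.CharDegree.CrossDegree.Main
import Cfsg.Agent.Lib.Blocks.PrincipalPSolvable

set_option autoImplicit false
open Cfsg

namespace Cfsg.Agent.S4886

open Subgroup CfsgLib.CharDegree

/-- One direction, for one block. -/
theorem sylow_le {G : Type*} [Group G] [Finite G] {p q : ℕ} [Fact p.Prime] [Fact q.Prime] (hpq : p ≠ q)
    {M : Ideal Cfsg.AlgInt} (hM : Cfsg.IsPModular p M) (hps : Cfsg.IsPSolvable p G)
    (hqs : Cfsg.IsPSolvable q G)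
    (h : ∀ χ : Cfsg.IrrCharacter G, χ ∈ Cfsg.principalBlock M G → ¬ p ∣ Cfsg.charDegree (χ : G → ℂ) →
      ¬ q ∣ Cfsg.charDegree (χ : G → ℂ)) (Q : Sylow q G) : (Q : Subgroup G) ≤ Cfsg.pPrimeCore p G := by
  haveI := Fintype.ofFinite G
  set N := Cfsg.pPrimeCore p G
  haveI : N.Normal := CfsgLib.Core.normal_pPrimeCore p G
  have hd := CfsgLib.CrossDegree.not_dvd_card (p := p) (q := q) _ (G := G ⧸ N) rfl hpq
    (CfsgLib.PLocal.isPSolvable_quotient hps N) (CfsgLib.PLocal.isPSolvable_quotient hqs N)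
    (CfsgLib.Core.pPrimeCore_quotient_pPrimeCore p G) (fun ψ hψ => by
      have := h (infl N ψ) ((CfsgLib.Blocks.mem_principalBlock_iff_of_isPSolvable hM hps _).2
        fun n hn => infl_ker N ψ hn) (by rwa [charDegree_infl])
      rwa [charDegree_infl] at this)
  intro y hy
  obtain ⟨k, hk⟩ := IsPGroup.iff_orderOf.1 Q.2 ⟨y, hy⟩
  refine (QuotientGroup.eq_one_iff y).1 (orderOf_eq_one_iff.1 ?_)
  have h1 : orderOf (QuotientGroup.mk y : G ⧸ N) ∣ q ^ k := by
    rw [← hk, ← Subgroup.orderOf_coe]; exact orderOf_map_dvd (QuotientGroup.mk' N) y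
  exact Nat.eq_one_of_dvd_coprimes ((((Fact.out : q.Prime).coprime_iff_not_dvd.2 hd).pow_left k))
    h1 (orderOf_dvd_natCard _)

/-- The other direction, for one block. -/
theorem not_dvd_degree {G : Type*} [Group G] [Finite G] {p q : ℕ} [Fact p.Prime] [Fact q.Prime]
    (hpq : p ≠ q) {M : Ideal Cfsg.AlgInt} (hM : Cfsg.IsPModular p M) (hps : Cfsg.IsPSolvable p G)
    (P : Sylow p G) (Q : Sylow q G) (hc : ∀ x ∈ (P : Subgroup G), ∀ y ∈ (Q : Subgroup G), x * y = y * x)
    (χ : Cfsg.IrrCharacter G) (hχ : χ ∈ Cfsg.principalBlock M G) :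
    ¬ q ∣ Cfsg.charDegree (χ : G → ℂ) := by
  haveI := Fintype.ofFinite G
  set N := Cfsg.pPrimeCore p G
  haveI : N.Normal := CfsgLib.Core.normal_pPrimeCore p G
  obtain ⟨ψ, rfl⟩ := exists_infl N χ
    ((CfsgLib.Blocks.mem_principalBlock_iff_of_isPSolvable hM hps χ).1 hχ)
  rw [charDegree_infl]
  let π := QuotientGroup.mk' N
  have hπ : Function.Surjective π := QuotientGroup.mk'_surjective N
  refine fun hd => CfsgLib.SylowNorm.not_dvd_of_pair hpq (CfsgLib.PLocal.isPSolvable_quotient hps N)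
    (CfsgLib.Core.pPrimeCore_quotient_pPrimeCore p G) (P.mapSurjective hπ) (Q.mapSurjective hπ) ?_
    (hd.trans (charDegree_dvd_card ψ))
  rw [Sylow.coe_mapSurjective, Sylow.coe_mapSurjective]
  rintro _ ⟨x, hx, rfl⟩
  refine centralizer_le_normalizer _ (mem_centralizer_iff.2 ?_)
  rintro _ ⟨y, hy, rfl⟩
  rw [← map_mul, ← map_mul, hc x hx y hy]


/-- Let p ≠ q be primes and G a finite group that is p-solvable and q-solvable. Fix maximal ideals of the algebraic integers containing p and q, defining the principal p-block and the principal q-block. Then every irreducible character of degree prime to p in the principal p-block has degree prime to q and every irreducible character of degree prime to q in the principal q-block has degree prime to p, if and only if some Sylow p-subgroup of G commutes elementwise with some Sylow q-subgroup. -/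
theorem result {G : Type*} [Group G] [Finite G] (p q : ℕ) [Fact p.Prime] [Fact q.Prime] (hpq : p ≠ q) (Mp Mq : Ideal Cfsg.AlgInt) (hMp : Cfsg.IsPModular p Mp) (hMq : Cfsg.IsPModular q Mq) (hps : Cfsg.IsPSolvable p G) (hqs : Cfsg.IsPSolvable q G) : ((∀ χ : Cfsg.IrrCharacter G, χ ∈ Cfsg.principalBlock Mp G → ¬ p ∣ Cfsg.charDegree (χ : G → ℂ) → ¬ q ∣ Cfsg.charDegree (χ : G → ℂ)) ∧ (∀ χ : Cfsg.IrrCharacter G, χ ∈ Cfsg.principalBlock Mq G → ¬ q ∣ Cfsg.charDegree (χ : G → ℂ) → ¬ p ∣ Cfsg.charDegree (χ : G → ℂ))) ↔ ∃ (P : Sylow p G) (Q : Sylow q G), ∀ x ∈ (P : Subgroup G), ∀ y ∈ (Q : Subgroup G), x * y = y * x := by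
  classical
  constructor
  · rintro ⟨h1, h2⟩
    have hp : p.Prime := Fact.out
    have hq : q.Prime := Fact.out
    set A := Cfsg.pPrimeCore p G
    set B := Cfsg.pPrimeCore q G
    haveI : A.Normal := CfsgLib.Core.normal_pPrimeCore p G
    haveI : B.Normal := CfsgLib.Core.normal_pPrimeCore q G
    obtain ⟨P⟩ : Nonempty (Sylow p G) := inferInstance
    obtain ⟨j, hj⟩ := IsPGroup.iff_card.1 P.2
    have hcop : (Nat.card (P : Subgroup G)).Coprime (Nat.card A) := by
      rw [hj]; exact (CfsgLib.Core.coprime_card_pPrimeCore p G).symm.pow_left j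
    have hPs : Group.IsSolvable (P : Subgroup G) := have := P.2.isNilpotent; inferInstance
    obtain ⟨T, hT⟩ := CfsgLib.Core.exists_invariant_sylow (A := (P : Subgroup G)) (K := A)
      le_normalizer_of_normal hcop (Or.inl hPs) q
    set T' := (T : Subgroup A).map A.subtype
    have hT'q : IsPGroup q T' := T.2.map _
    obtain ⟨Q₁⟩ : Nonempty (Sylow q G) := inferInstance
    have hQ₁ := sylow_le hpq hMp hps hqs h1 Q₁
    have hidx : ¬ q ∣ T'.index := by
      rw [← relIndex_mul_index (map_subtype_le _ : T' ≤ A)]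
      refine fun hd => (hq.dvd_mul.1 hd).elim (fun h => T.not_dvd_index ?_) fun h =>
        Q₁.not_dvd_index (h.trans (index_dvd_of_le hQ₁))
      rwa [relIndex, subgroupOf, comap_map_eq_self_of_injective A.subtype_injective] at h
    refine ⟨P, hT'q.toSylow hidx, fun x hx y hy => ?_⟩
    have hxB : x ∈ B := sylow_le (Ne.symm hpq) hMq hqs hps h2 P hx
    have hyT : y ∈ T' := hy
    have hyA : y ∈ A := map_subtype_le _ hyT
    have h3 : x * y * x⁻¹ * y⁻¹ ∈ T' :=
      T'.mul_mem ((mem_normalizer_iff.1 (hT hx) y).1 hyT) (T'.inv_mem hyT)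
    have h4 : x * y * x⁻¹ * y⁻¹ ∈ B := by
      rw [mul_assoc x y, mul_assoc]
      exact B.mul_mem hxB ((inferInstance : B.Normal).conj_mem _ (B.inv_mem hxB) y)
    obtain ⟨k, hk⟩ := IsPGroup.iff_orderOf.1 hT'q ⟨_, h3⟩
    rw [← Subgroup.orderOf_coe] at hk
    have h5 : orderOf (x * y * x⁻¹ * y⁻¹) = 1 :=
      Nat.eq_one_of_dvd_coprimes ((CfsgLib.Core.coprime_card_pPrimeCore q G).pow_right k)
        (Subgroup.orderOf_dvd_natCard B h4) (hk ▸ dvd_rfl)
    exact mul_inv_eq_iff_eq_mul.1 (mul_inv_eq_one.1 (orderOf_eq_one_iff.1 h5))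
  · rintro ⟨P, Q, hc⟩
    exact ⟨fun χ hχ _ => not_dvd_degree hpq hMp hps P Q hc χ hχ,
      fun χ hχ _ => not_dvd_degree (Ne.symm hpq) hMq hqs Q P (fun x hx y hy => (hc y hy x hx).symm) χ hχ⟩

end Cfsg.Agent.S4886
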