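import Cfsg.Statements.S4888
import Cfsg.Agent.Lib.Blocks.Covering
import Cfsg.Agent.Lib.Blocks.Quotient
import Cfsg.Agent.Lib.Char.PResidualDegree
import Cfsg.Agent.Lib.Transfer.PResidual
import Cfsg.Agent.Lib.CharDegree.Twist

set_option autoImplicit false
open Cfsg

namespace Cfsg.Agent.S4888

open CfsgLib.Blocks in
/-- The principal block has squared degree sum divisible by `p` when `p` divides the order. -/
theorem dvd_sum_sq {K : Type*} [Group K] [Fintype K] {p : ℕ} {M : Ideal Cfsg.AlgInt} [M.IsPrime]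
    (hM : Cfsg.IsPModular p M) (hp : p ∣ Nat.card K) {B : Set (Cfsg.IrrCharacter K)}
    (hB : Cfsg.IsPBlock M B) :
    p ∣ ∑ χ ∈ (Set.toFinite B).toFinset, Cfsg.charDegree (χ : K → ℂ) ^ 2 := by
  classical
  set s := ∑ χ ∈ (Set.toFinite B).toFinset, Cfsg.charDegree (χ : K → ℂ) ^ 2 with hs
  have he : Cfsg.blockCoeff B 1 = (s : ℂ) / (Nat.card K : ℂ) := by
    rw [Cfsg.blockCoeff, finsum_mem_eq_finite_toFinset_sum _ (Set.toFinite B), hs, Nat.cast_sum,
      inv_mul_eq_div]
    congr 1
    refine Finset.sum_congr rfl fun χ _ => ?_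
    rw [← CfsgLib.Char.IsIrr.map_inv χ.2, inv_one, apply_one_eq_charDegree, Nat.cast_pow, sq]
  have h1 : (s : localRing M) = (Nat.card K : localRing M) * ⟨_, blockCoeff_mem hB 1⟩ :=
    Subtype.ext (by
      push_cast
      rw [he, mul_div_cancel₀ _ (Nat.cast_ne_zero.2 Nat.card_pos.ne')])
  have := charP_residueField hM
  have h2 := congrArg (resHom M) h1
  rw [map_mul, map_natCast, map_natCast, (CharP.cast_eq_zero_iff _ p _).2 hp, zero_mul] at h2
  exact (CharP.cast_eq_zero_iff _ p _).1 h2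

theorem memLocalIdeal_mul {M : Ideal Cfsg.AlgInt} {c z : ℂ} (hc : IsIntegral ℤ c)
    (h : Cfsg.MemLocalIdeal M z) : Cfsg.MemLocalIdeal M (c * z) := by
  obtain ⟨a, b, ha, hb, h⟩ := h
  exact ⟨⟨c, hc⟩ * a, b, M.mul_mem_left _ ha, hb, by push_cast; rw [← h, mul_div_assoc]⟩

open CfsgLib.CharDegree in
/-- Twisting by a linear character preserves the relation `SameBlock`. -/
theorem sameBlock_twist {K : Type*} [Group K] [Finite K] {M : Ideal Cfsg.AlgInt}
    {χ ψ : Cfsg.IrrCharacter K} (h : Cfsg.SameBlock M (χ : K → ℂ) (ψ : K → ℂ)) (l : K →* ℂˣ) :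
    Cfsg.SameBlock M (twist χ l : K → ℂ) (twist ψ l : K → ℂ) := fun g => by
  have hl : IsIntegral ℤ (l g : ℂ) := by
    refine IsIntegral.of_pow Nat.card_pos (n := Nat.card K) ?_
    rw [← Units.val_pow_eq_pow_val, ← map_pow, pow_card_eq_one', map_one, Units.val_one]
    exact isIntegral_one
  have e : ∀ φ : Cfsg.IrrCharacter K, Cfsg.centralChar (twist φ l : K → ℂ) g =
      (l g : ℂ) * Cfsg.centralChar (φ : K → ℂ) g := fun φ => by
    simp only [Cfsg.centralChar, twist_apply, map_one, Units.val_one, mul_one]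
    ring
  rw [e, e, ← mul_sub]
  exact memLocalIdeal_mul hl (h g)

/-- Let G be a finite group, p a prime and M a maximal ideal of the algebraic integers containing p. Then all height-zero irreducible characters of the principal p-block of G (equivalently, all its characters of degree prime to p) have the same degree if and only if G has a normal p-complement. -/
theorem result {G : Type*} [Group G] [Finite G] (p : ℕ) [Fact p.Prime] (M : Ideal Cfsg.AlgInt) (hM : Cfsg.IsPModular p M) : (∃ d : ℕ, ∀ χ : Cfsg.IrrCharacter G, χ ∈ (Cfsg.principalBlock M G) → Cfsg.blockHeight p (Cfsg.principalBlock M G) (χ : G → ℂ) = 0 → Cfsg.charDegree (χ : G → ℂ) = d) ↔ Cfsg.HasNormalPComplement p G := by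
  classical
  have : Fintype G := Fintype.ofFinite G
  have : M.IsPrime := hM.2.1.isPrime
  have hp : p.Prime := Fact.out
  have hmin : sInf ((fun ψ : Cfsg.IrrCharacter G => (Cfsg.charDegree (ψ : G → ℂ)).factorization p) ''
      Cfsg.principalBlock M G) = 0 :=
    Nat.sInf_eq_zero.2 (Or.inl ⟨CfsgLib.Char.trivChar G, CfsgLib.Blocks.trivChar_mem_principalBlock,
      by simp [Cfsg.charDegree, CfsgLib.Char.trivChar_apply]⟩)
  have hht : ∀ χ : Cfsg.IrrCharacter G,
      Cfsg.blockHeight p (Cfsg.principalBlock M G) (χ : G → ℂ) = 0 ↔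
        ¬ p ∣ Cfsg.charDegree (χ : G → ℂ) := fun χ => by
    rw [Cfsg.blockHeight, hmin, Nat.sub_zero, Nat.factorization_eq_zero_iff]
    have := (CfsgLib.Blocks.charDegree_pos χ).ne'
    tauto
  constructor
  · rintro ⟨d, hd⟩
    have hd1 : d = 1 := by
      have h := hd _ CfsgLib.Blocks.trivChar_mem_principalBlock ((hht _).2 (by
        simp [Cfsg.charDegree, CfsgLib.Char.trivChar_apply, hp.ne_one]))
      rw [← h]
      simp [Cfsg.charDegree, CfsgLib.Char.trivChar_apply]
    subst hd1
    rw [CfsgLib.Transfer.hasNormalPComplement_iff_coprime, Nat.coprime_comm,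
      hp.coprime_iff_not_dvd]
    intro hpK
    set K := Cfsg.pResidual p G with hKdef
    have hKn : K.Normal := CfsgLib.Transfer.pResidual_normal
    have := Fintype.ofFinite K
    have := Fintype.ofFinite (Cfsg.IrrCharacter K)
    obtain ⟨n, hn⟩ := CfsgLib.Transfer.exists_index_pResidual (p := p) (G := G)
    obtain ⟨P⟩ : Nonempty (Sylow p G) := inferInstance
    set B := Cfsg.principalBlock M K with hBdef
    have hBinv : ∀ (g : G) (θ : Cfsg.IrrCharacter K),
        CfsgLib.Blocks.conjIrr K g θ ∈ B ↔ θ ∈ B := by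
      intro g θ
      have h : CfsgLib.Blocks.conjIrr K g '' B = B :=
        CfsgLib.Blocks.image_pullEquiv_blockOf M (MulAut.conjNormal g) (CfsgLib.Char.trivChar K)
      conv_lhs => rw [← h]
      exact Function.Injective.mem_set_image (CfsgLib.Blocks.conjIrr K g).injective
    let _act : MulAction P (Cfsg.IrrCharacter K) :=
      { smul := fun a θ => CfsgLib.Blocks.conjIrr K (a : G)⁻¹ θ
        one_smul := fun θ => Subtype.ext (funext fun x => by
          show (CfsgLib.Blocks.conjIrr K ((1 : P) : G)⁻¹ θ : K → ℂ) x = (θ : K → ℂ) x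
          rw [CfsgLib.Blocks.conjIrr_apply]
          refine congrArg _ (Subtype.ext ?_)
          show ((1 : P) : G)⁻¹ * (x : G) * (((1 : P) : G)⁻¹)⁻¹ = x
          rw [show ((1 : P) : G) = 1 from rfl]; group)
        mul_smul := fun a b θ => Subtype.ext (funext fun x => by
          show (CfsgLib.Blocks.conjIrr K ((a * b : P) : G)⁻¹ θ : K → ℂ) x =
            (CfsgLib.Blocks.conjIrr K (a : G)⁻¹ (CfsgLib.Blocks.conjIrr K (b : G)⁻¹ θ) : K → ℂ) x
          rw [CfsgLib.Blocks.conjIrr_apply, CfsgLib.Blocks.conjIrr_apply,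
            CfsgLib.Blocks.conjIrr_apply]
          refine congrArg _ (Subtype.ext ?_)
          show ((a * b : P) : G)⁻¹ * (x : G) * (((a * b : P) : G)⁻¹)⁻¹ =
            (b : G)⁻¹ * ((a : G)⁻¹ * (x : G) * ((a : G)⁻¹)⁻¹) * ((b : G)⁻¹)⁻¹
          rw [show ((a * b : P) : G) = (a : G) * b from rfl]; group) }
    let f : Cfsg.IrrCharacter K → ℂ := fun θ =>
      if θ ∈ B then ((Cfsg.charDegree (θ : K → ℂ) ^ 2 : ℕ) : ℂ) else 0
    have hf : ∀ (a : P) θ, f (a • θ) = f θ := fun a θ => by
      show f (CfsgLib.Blocks.conjIrr K (a : G)⁻¹ θ) = f θ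
      have hdeg : Cfsg.charDegree (CfsgLib.Blocks.conjIrr K (a : G)⁻¹ θ : K → ℂ) =
          Cfsg.charDegree (θ : K → ℂ) := by
        simp only [Cfsg.charDegree, CfsgLib.Blocks.conjIrr, CfsgLib.Blocks.pullEquiv_apply, map_one]
      simp only [f, hdeg, hBinv]
    have hc := CfsgLib.CharAction.congMod_sum_fixed P.isPGroup' f (fun θ => by
      simp only [f]; split_ifs
      · exact map_natCast (algebraMap ℤ ℂ) _ ▸ isIntegral_algebraMap
      · exact isIntegral_zero) hf
    simp only [f, ← Finset.sum_filter, ← Nat.cast_sum, Finset.filter_filter] at hc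
    have htot : p ∣ ∑ θ ∈ Finset.univ.filter (· ∈ B), Cfsg.charDegree (θ : K → ℂ) ^ 2 := by
      have h := dvd_sum_sq hM hpK (CfsgLib.Blocks.isPBlock_principalBlock (M := M) (G := K))
      rwa [show (Set.toFinite B).toFinset = Finset.univ.filter (· ∈ B) by ext; simp] at h
    have hfixed : p ∣ ∑ θ ∈ Finset.univ.filter
        (fun θ : Cfsg.IrrCharacter K => (∀ a : P, a • θ = θ) ∧ θ ∈ B),
          Cfsg.charDegree (θ : K → ℂ) ^ 2 := by
      have := CfsgLib.CharAction.CongMod.dvd_sub_of_intCast hp.ne_zero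
        (a := ((∑ θ ∈ Finset.univ.filter (· ∈ B), Cfsg.charDegree (θ : K → ℂ) ^ 2 : ℕ) : ℤ))
        (b := ((∑ θ ∈ Finset.univ.filter
          (fun θ : Cfsg.IrrCharacter K => (∀ a : P, a • θ = θ) ∧ θ ∈ B),
            Cfsg.charDegree (θ : K → ℂ) ^ 2 : ℕ) : ℤ))
        (by rw [Int.cast_natCast, Int.cast_natCast]; exact hc)
      rwa [dvd_sub_right (Int.natCast_dvd_natCast.2 htot), Int.natCast_dvd_natCast] at this
    rw [← Finset.sum_filter_add_sum_filter_not (Finset.univ.filter
        (fun θ : Cfsg.IrrCharacter K => (∀ a : P, a • θ = θ) ∧ θ ∈ B))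
      (fun θ : Cfsg.IrrCharacter K => Cfsg.charDegree (θ : K → ℂ) = 1)
      (fun θ : Cfsg.IrrCharacter K => Cfsg.charDegree (θ : K → ℂ) ^ 2)] at hfixed
    have hrest : p ∣ ∑ θ ∈ (Finset.univ.filter
        (fun θ : Cfsg.IrrCharacter K => (∀ a : P, a • θ = θ) ∧ θ ∈ B)).filter
          (fun θ : Cfsg.IrrCharacter K => ¬ Cfsg.charDegree (θ : K → ℂ) = 1), Cfsg.charDegree (θ : K → ℂ) ^ 2 := by
      refine Finset.dvd_sum fun θ hθ => dvd_pow ?_ two_ne_zero
      obtain ⟨hθ, hne⟩ := Finset.mem_filter.1 hθ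
      obtain ⟨-, hfix, hθB⟩ := Finset.mem_filter.1 hθ
      by_contra hpθ
      obtain ⟨m, σ, hσ, hσc⟩ := θ.2
      have := hσ
      have hpo := CfsgLib.CharExt.orderOf_detHom_not_dvd hp CfsgLib.Transfer.pResidual_pResidual σ
      have h1 : Cfsg.charDegree (θ : K → ℂ) = Module.finrank ℂ (Fin m → ℂ) := by
        rw [← hσc, Cfsg.charDegree, Representation.char_one, Complex.natCast_re, Nat.floor_natCast]
      have hinv : ∀ g : G, CfsgLib.Clifford.conjFn hKn (θ : K → ℂ) g = θ := fun g => by
        have hle : K ⊔ (P : Subgroup G) ≤ CfsgLib.Clifford.inertia hKn (θ : K → ℂ) :=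
          sup_le (CfsgLib.Clifford.le_inertia hKn (CfsgLib.Char.IsIrr.isClassFunction θ.2))
            fun a ha => CfsgLib.Clifford.mem_inertia.2 (funext fun x => by
              have h2 := congrFun (congrArg Subtype.val (hfix ⟨a⁻¹, inv_mem ha⟩)) x
              rw [CfsgLib.Clifford.conjFn_apply, ← h2]
              show _ = (CfsgLib.Blocks.conjIrr K (a⁻¹)⁻¹ θ : K → ℂ) x
              rw [CfsgLib.Blocks.conjIrr_apply]
              refine congrArg _ (Subtype.ext ?_)
              rw [inv_inv])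
        exact CfsgLib.Clifford.mem_inertia.1 (hle (by
          rw [hKdef, CfsgLib.Transfer.pResidual_sup_sylow P]; trivial))
      have hcop : ∀ l : ℕ, ¬ p ∣ l → l.Coprime K.index := fun l hl => by
        rw [hKdef, hn]
        exact ((hp.coprime_iff_not_dvd.mpr hl).symm).pow_right n
      obtain ⟨ρ, hρ⟩ := CfsgLib.CharExt.exists_extension_coprime σ (fun g x => by
          rw [hσc]; exact congrFun (hinv g) x)
        (hcop _ fun h => (hp.dvd_mul.mp h).elim hpo (fun h' => hpθ (h1 ▸ h')))
      have := CfsgLib.CharExt.isIrreducible_of_restrict ρ K.subtype σ hρ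
      let χ : Cfsg.IrrCharacter G := CfsgLib.Char.irrOfRep ρ
      have hres : (fun x : K => (χ : G → ℂ) x) = (θ : K → ℂ) := by
        rw [← hσc]
        funext x
        show LinearMap.trace ℂ _ (ρ x) = _
        rw [hρ]; rfl
      have hdeg : Cfsg.charDegree (χ : G → ℂ) = Cfsg.charDegree (θ : K → ℂ) := by
        rw [Cfsg.charDegree, Cfsg.charDegree, ← congrFun hres 1]; rfl
      have hχB : χ ∈ Cfsg.principalBlock M G :=
        CfsgLib.Blocks.sameBlock_of_constituent K hM (χ := CfsgLib.Char.trivChar G) (χ' := χ)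
          hn (θ := CfsgLib.Char.trivChar K) (θ' := θ) (by
            rw [show (fun x : K => ((CfsgLib.Char.trivChar G : Cfsg.IrrCharacter G) : G → ℂ) x) =
              ((CfsgLib.Char.trivChar K : Cfsg.IrrCharacter K) : K → ℂ) from rfl,
              CfsgLib.Char.classInner_irr, if_pos rfl]
            exact one_ne_zero) (by
            rw [hres, CfsgLib.Char.classInner_irr, if_pos rfl]
            exact one_ne_zero) hθB
      exact hne (hdeg ▸ hd χ hχB ((hht χ).2 (hdeg ▸ hpθ)))
    rw [Nat.dvd_add_left hrest, Finset.sum_congr rfl (g := fun _ => 1)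
      (fun θ hθ => by rw [(Finset.mem_filter.1 hθ).2, one_pow]), Finset.sum_const,
      smul_eq_mul, mul_one, Finset.filter_filter] at hfixed
    let L : (K →* ℂˣ) → Cfsg.IrrCharacter K :=
      fun l => CfsgLib.CharDegree.twist (CfsgLib.Char.trivChar K) l
    have hLapp : ∀ (l : K →* ℂˣ) (x : K), (L l : K → ℂ) x = (l x : ℂ) := fun l x => by
      simp [L, CfsgLib.Char.trivChar_apply]
    have hLinj : Function.Injective L := fun l l' h => MonoidHom.ext fun x =>
      Units.ext (by rw [← hLapp, ← hLapp, h])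
    have hLfix : ∀ (l : K →* ℂˣ) (a : P), a • L l = L l ↔
        ∀ x : K, l (MulAut.conjNormal (a : G)⁻¹ x) = l x := fun l a => by
      refine ⟨fun h x => ?_, fun h => Subtype.ext (funext fun x => ?_)⟩
      · have h2 := congrFun (congrArg Subtype.val h) x
        change (CfsgLib.Blocks.conjIrr K (a : G)⁻¹ (L l) : K → ℂ) x = _ at h2
        rw [hLapp, CfsgLib.Blocks.conjIrr, CfsgLib.Blocks.pullEquiv_apply, hLapp] at h2
        exact Units.ext h2
      · show (CfsgLib.Blocks.conjIrr K (a : G)⁻¹ (L l) : K → ℂ) x = _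
        rw [hLapp, CfsgLib.Blocks.conjIrr, CfsgLib.Blocks.pullEquiv_apply, hLapp, h]
    have : Finite (K →* ℂˣ) := Finite.of_injective L hLinj
    let H₀ : Submonoid (K →* ℂˣ) :=
      { carrier := {l | (∀ a : P, a • L l = L l) ∧ L l ∈ B}
        one_mem' := ⟨fun a => (hLfix 1 a).2 fun x => rfl, by
          have h1 : L 1 = CfsgLib.Char.trivChar K :=
            Subtype.ext (funext fun x => by rw [hLapp, CfsgLib.Char.trivChar_apply]; simp)
          rw [h1]
          exact CfsgLib.Blocks.trivChar_mem_principalBlock⟩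
        mul_mem' := fun {l l'} hl hl' => ⟨fun a => (hLfix _ a).2 fun x => by
            rw [MonoidHom.mul_apply, MonoidHom.mul_apply, (hLfix l a).1 (hl.1 a),
              (hLfix l' a).1 (hl'.1 a)], by
          refine CfsgLib.Blocks.SameBlock.trans' (χ := CfsgLib.Char.trivChar K) hl.2 ?_
          have h1 : L (l * l') = CfsgLib.CharDegree.twist (L l') l :=
            Subtype.ext (funext fun x => by
              rw [hLapp, CfsgLib.CharDegree.twist_apply, hLapp, MonoidHom.mul_apply,
                Units.val_mul, mul_comm])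
          rw [h1]
          exact sameBlock_twist (χ := CfsgLib.Char.trivChar K) hl'.2 l⟩ }
    let H : Subgroup (K →* ℂˣ) :=
      { H₀ with
        inv_mem' := fun {l} hl => by
          rw [show l⁻¹ = l ^ (orderOf l - 1) from MonoidHom.ext fun x =>
            inv_eq_of_mul_eq_one_right (show l x * (l ^ (orderOf l - 1)) x = 1 by
              rw [← MonoidHom.mul_apply]
              have h1 : l ^ (orderOf l - 1 + 1) = 1 := by
                rw [Nat.sub_add_cancel (orderOf_pos l), pow_orderOf_eq_one]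
              exact (DFunLike.congr_fun ((pow_succ' l _).symm.trans h1) x).trans rfl)]
          exact H₀.pow_mem hl _ }
    have hcard : Nat.card H = (Finset.univ.filter (fun θ : Cfsg.IrrCharacter K =>
        ((∀ a : P, a • θ = θ) ∧ θ ∈ B) ∧ Cfsg.charDegree (θ : K → ℂ) = 1)).card := by
      rw [← Nat.card_eq_finsetCard]
      refine Nat.card_eq_of_bijective (fun l => ⟨L l.1, Finset.mem_filter.2 ⟨Finset.mem_univ _,
        ⟨l.2, by simp [Cfsg.charDegree, hLapp]⟩⟩⟩) ⟨fun l l' h => ?_, fun θ => ?_⟩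
      · exact Subtype.ext (hLinj (congrArg Subtype.val h))
      · obtain ⟨θ, hθ⟩ := θ
        obtain ⟨-, hθ2, hθ1⟩ := Finset.mem_filter.1 hθ
        obtain ⟨l, hl⟩ := CfsgLib.Char.exists_linear_of_degree_one
          (CfsgLib.Char.IsIrr.isCharacter θ.2) (by
            rw [CfsgLib.Blocks.apply_one_eq_charDegree, hθ1, Nat.cast_one])
        have hθl : θ = L l := Subtype.ext (funext fun x => by rw [hLapp, hl])
        subst hθl
        exact ⟨⟨l, hθ2⟩, rfl⟩
    rw [← hcard] at hfixed
    obtain ⟨l, hl⟩ := exists_prime_orderOf_dvd_card' p hfixed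
    have hlp : (l : K →* ℂˣ) ^ p = 1 := by
      rw [← Subgroup.coe_pow, ← hl, pow_orderOf_eq_one, OneMemClass.coe_one]
    have hker : {x : K | Nat.Coprime (orderOf x) p} ⊆ (l : K →* ℂˣ).ker := fun x hx => by
      have h1 : (l : K →* ℂˣ) x ^ p = 1 := by
        rw [← MonoidHom.pow_apply, hlp, MonoidHom.one_apply]
      have h2 : (l : K →* ℂˣ) x ^ orderOf x = 1 := by
        rw [← map_pow, pow_orderOf_eq_one, map_one]
      have h3 := pow_gcd_eq_one.2 ⟨h2, h1⟩
      rw [Nat.Coprime.gcd_eq_one hx, pow_one] at h3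
      exact h3
    have hl1 : l = 1 := Subtype.ext (MonoidHom.ext fun x => by
      have hx : x ∈ Cfsg.pResidual p K := by rw [CfsgLib.Transfer.pResidual_pResidual]; trivial
      exact (Subgroup.closure_le _).2 hker hx)
    rw [hl1, orderOf_one] at hl
    exact hp.one_lt.ne hl
  · intro hnc
    obtain ⟨P, N, hN, hcompl⟩ := hnc
    have hcop := CfsgLib.Transfer.coprime_card_of_isComplement' hcompl
    obtain ⟨k, hk⟩ := IsPGroup.iff_card.1 P.2
    have hidx : N.index = p ^ k := by rw [hcompl.symm.index_eq_card, hk]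
    refine ⟨1, fun χ hχ h0 => ?_⟩
    have hNp : ¬ p ∣ Nat.card N := hp.coprime_iff_not_dvd.1 hcop.symm
    rw [CfsgLib.Blocks.principalBlock_eq_of_complement N hM hNp hidx] at hχ
    obtain ⟨ψ, rfl⟩ := CfsgLib.Blocks.exists_inflate_eq N χ hχ
    have : Fintype (G ⧸ N) := Fintype.ofFinite _
    have hdvd := CfsgLib.Blocks.charDegree_dvd_card ψ
    rw [← Subgroup.index_eq_card, hidx] at hdvd
    obtain ⟨j, -, hj⟩ := (Nat.dvd_prime_pow hp).1 hdvd
    have hp' := (hht _).1 h0
    have hsame : Cfsg.charDegree (CfsgLib.Blocks.inflate N ψ : G → ℂ) =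
        Cfsg.charDegree (ψ : G ⧸ N → ℂ) := by
      simp only [Cfsg.charDegree, CfsgLib.Blocks.inflate_apply, QuotientGroup.mk_one]
    rw [hsame, hj] at hp' ⊢
    rcases Nat.eq_zero_or_pos j with rfl | hj0
    · rfl
    · exact absurd (dvd_pow_self p hj0.ne') hp'

end Cfsg.Agent.S4888
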