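import Cfsg.Statements.S4889
import Cfsg.Agent.Lib.Blocks.EqualDegrees.Local
import Cfsg.Agent.Lib.Blocks.RankOneAbelian
import Cfsg.Agent.Lib.Blocks.Star.Nilpotent
import Cfsg.Agent.Lib.Char.AbelianInertia

set_option autoImplicit false
open Cfsg CfsgLib.Blocks CfsgLib.Pairs CfsgLib.EqualDegrees

namespace Cfsg.Agent.S4889

/-- Let G be a finite group, p a prime, M a maximal ideal of the algebraic integers containing p, and B a p-block of G that has an abelian defect group and in which every irreducible character has height zero. Then all irreducible characters of B have the same degree if and only if B is a nilpotent block. -/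
theorem result {G : Type*} [Group G] [Finite G] (p : ℕ) [Fact p.Prime] (M : Ideal Cfsg.AlgInt) (hM : Cfsg.IsPModular p M) (B : Set (Cfsg.IrrCharacter G)) (hB : Cfsg.IsPBlock M B) (D : Subgroup G) (hD : Cfsg.IsDefectGroup p M B D) (hDab : IsMulCommutative ↥D) (h0 : ∀ χ : Cfsg.IrrCharacter G, χ ∈ B → Cfsg.blockHeight p B (χ : G → ℂ) = 0) : (∃ d : ℕ, ∀ χ : Cfsg.IrrCharacter G, χ ∈ B → Cfsg.charDegree (χ : G → ℂ) = d) ↔ Cfsg.IsNilpotentBlock p M B := by
  classical
  have := Fintype.ofFinite G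
  have := hM.2.1.isPrime
  have hab : ∀ x ∈ D, ∀ y ∈ D, x * y = y * x := fun x hx y hy =>
    congrArg Subtype.val (hDab.is_comm.comm (⟨x, hx⟩ : D) ⟨y, hy⟩)
  constructor
  · rintro ⟨f, hf⟩
    obtain ⟨c, hc⟩ := exists_pairOf_of_isDefectGroup hM hB hD
    obtain ⟨T⟩ := CfsgLib.IBr.nonempty_data (G := G) (M := M)
    obtain ⟨δ₀, hδ, huniq, -, hk⟩ := exists_unique_brauer hM hB hf h0 T
    refine isNilpotentBlock_of_local_rank_one hM (isMaximal_of_isDefectGroup hM hc hD) hab
      (fun x hx _ => ?_) ?_ (by rw [hk, IsDefectGroup.card_eq hM hB hD])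
    · have h : ∀ H : Subgroup G, H = Subgroup.centralizer ({x} : Set G) →
          ∀ b, IsInducedBlock M H b B → blockRank p b = 1 := by
        rintro _ rfl b hb
        exact blockRank_local hM hB hf h0 hx hb
      exact h _ (by rw [Subgroup.zpowers_eq_closure, Subgroup.centralizer_closure])
    · rw [← T.card_block_eq hM hB, Nat.card_eq_one_iff_unique]
      exact ⟨⟨fun u v => Subtype.ext ((huniq _ u.2).trans (huniq _ v.2).symm)⟩, ⟨⟨δ₀, hδ⟩⟩⟩
  · intro hnil
    obtain ⟨χ, -, Φ, -, hΦ⟩ := CfsgLib.Star.exists_param_of_nilpotent hM hnil hD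
    refine ⟨charDegree (χ : G → ℂ), fun ψ hψ => ?_⟩
    obtain ⟨η, hη⟩ := Φ.surjective ⟨ψ, hψ⟩
    have h := hΦ η 1 (by simpa using hM.1.ne_one)
    rw [hη, CfsgLib.Clifford.apply_one_eq_one_of_commute
      (fun a b => hDab.is_comm.comm a b) η, one_mul] at h
    rw [charDegree, charDegree, h]

end Cfsg.Agent.S4889
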