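import Cfsg.Statements.S4890
import Cfsg.Agent.Lib.Blocks.EqualDegrees.QuotientPair
import Cfsg.Agent.Lib.Blocks.EqualDegrees.NormalCriterion
import Cfsg.Agent.S4889
import Cfsg.Agent.S0972

set_option autoImplicit false
open Cfsg CfsgLib.Blocks CfsgLib.Pairs CfsgLib.EqualDegrees

namespace Cfsg.Agent.S4890

/-- Let G be a finite group, p a prime, M a maximal ideal of the algebraic integers containing p, and B a p-block of G with a defect group that is normal in G. Then all height-zero irreducible characters of B have the same degree if and only if B is a nilpotent block. -/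
theorem result {G : Type*} [Group G] [Finite G] (p : ℕ) [Fact p.Prime] (M : Ideal Cfsg.AlgInt) (hM : Cfsg.IsPModular p M) (B : Set (Cfsg.IrrCharacter G)) (hB : Cfsg.IsPBlock M B) (D : Subgroup G) (hD : Cfsg.IsDefectGroup p M B D) (hDn : D.Normal) : (∃ d : ℕ, ∀ χ : Cfsg.IrrCharacter G, χ ∈ B → Cfsg.blockHeight p B (χ : G → ℂ) = 0 → Cfsg.charDegree (χ : G → ℂ) = d) ↔ Cfsg.IsNilpotentBlock p M B := by
  classical
  have := Fintype.ofFinite G
  have := hM.2.1.isPrime
  have hp : p.Prime := Fact.out
  have hDp := IsDefectGroup.isPGroup hD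
  constructor
  · rintro ⟨f, hf⟩
    obtain ⟨c, hc⟩ := exists_pairOf_of_isDefectGroup hM hB hD
    have hmax := isMaximal_of_isDefectGroup hM hc hD
    refine isNilpotentBlock_of_normal hM hmax fun x hx hxreg => ?_
    -- the quotient by the Frattini subgroup of the defect group
    set N : Subgroup G := (frattini D).map D.subtype with hN
    have hNn : N.Normal := by
      rw [hN]; infer_instance
    have hND : N ≤ D := Subgroup.map_subtype_le _
    have hlift : ∀ g : G, ¬ p ∣ orderOf g → g ∈ upCent D N →
        g ∈ Subgroup.centralizer (D : Set G) := by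
      intro g hg hgK
      refine CfsgLib.Core.centralizes_of_centralizes_frattini_quotient
        (A := Subgroup.zpowers g) (K := D) Subgroup.le_normalizer_of_normal ?_ ?_
        (Subgroup.mem_zpowers g)
      · rw [Nat.card_zpowers]
        obtain ⟨k, hk⟩ := IsPGroup.iff_card.1 (hDp.to_subgroup (frattini D))
        rw [hk]
        exact (((Nat.Prime.coprime_iff_not_dvd hp).2 hg).pow_left k).symm
      · intro a ha d hd
        obtain ⟨k, rfl⟩ := Subgroup.mem_zpowers_iff.1 ha
        rw [← hN, ← QuotientGroup.eq_one_iff]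
        have hcd : Commute (g : G ⧸ N) (d : G ⧸ N) :=
          (Subgroup.mem_centralizer_iff.1 hgK _ (Subgroup.mem_map_of_mem _ hd)).symm
        simp only [QuotientGroup.mk_mul, QuotientGroup.mk_inv, QuotientGroup.mk_zpow,
          (hcd.zpow_left k).eq]
        group
    obtain ⟨Bq, cq, hBq, hinf, hstab⟩ := exists_quotient_pair hM D N hDp hND hlift hc
    have hBqb : IsPBlock M Bq := hBq.2.1
    have hbn : (bar D N).Normal :=
      Subgroup.Normal.map hDn _ (QuotientGroup.mk'_surjective N)
    -- its defect group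
    have hDq : IsDefectGroup p M Bq (bar D N) := by
      obtain ⟨Dq, hDq⟩ := exists_isDefectGroup (p := p) hBqb
      obtain ⟨χ, hχ⟩ := IsPBlock.nonempty hBqb
      have h1 : bar D N ≤ Dq := IsDefectGroup.normal_le hM hBqb hDq (hDp.map _)
      obtain ⟨t, ht⟩ := SubConj.iff_map_le.1
        (subConj_defectGroup_quotient N hM hBqb hB hχ (hinf χ hχ) hDq hD)
      have h2 : Nat.card Dq ≤ Nat.card (bar D N) := by
        rw [← card_map_conj t Dq]
        exact Subgroup.card_le_of_le ht
      rwa [← Subgroup.eq_of_le_of_card_ge h1 h2] at hDq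
    have hab : ∀ a ∈ bar D N, ∀ b ∈ bar D N, a * b = b * a := by
      rintro _ ⟨a, ha, rfl⟩ _ ⟨b, hb, rfl⟩
      rw [QuotientGroup.mk'_apply, QuotientGroup.mk'_apply, ← QuotientGroup.mk_mul,
        ← QuotientGroup.mk_mul, QuotientGroup.eq]
      have hm : b⁻¹ * a⁻¹ * b * a ∈ ⁅D, D⁆ := by
        have h := Subgroup.commutator_mem_commutator (inv_mem hb) (inv_mem ha)
        simpa [commutatorElement_def] using h
      rw [← Subgroup.map_subtype_commutator] at hm
      simpa [hN, mul_assoc] using
        Subgroup.map_mono (CfsgLib.PGroups.commutator_le_frattini' hDp) hm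
    have h0 := (Cfsg.Agent.S0972.result p M hM Bq hBqb (bar D N) hDq).1 hab
    -- the degrees
    have hexp : minExp p Bq = minExp p B := by
      have e1 := card_eq_minExp_add (p := p) hM hB
      have e2 := card_eq_minExp_add (p := p) hM hBqb
      have c1 := IsDefectGroup.card_eq hM hB hD
      have c2 := IsDefectGroup.card_eq hM hBqb hDq
      have hG := Subgroup.card_eq_card_quotient_mul_card_subgroup N
      have hDN : Nat.card D = Nat.card (bar D N) * Nat.card N := by
        have h := Subgroup.card_eq_card_quotient_mul_card_subgroup (N.subgroupOf D)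
        rw [Nat.card_congr (Subgroup.subgroupOfEquivOfLe hND).toEquiv] at h
        rw [h]
        congr 1
        let φ : D →* G ⧸ N := (QuotientGroup.mk' N).comp D.subtype
        have hr : φ.range = bar D N := by
          rw [MonoidHom.range_comp, Subgroup.range_subtype]
        rw [← hr, ← Nat.card_congr (QuotientGroup.quotientKerEquivRange φ).toEquiv]
        refine Nat.card_congr (QuotientGroup.quotientMulEquivOfEq ?_).toEquiv
        ext u
        simp [φ, Subgroup.mem_subgroupOf, MonoidHom.mem_ker, QuotientGroup.eq_one_iff]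
      rw [c1, c2] at hDN
      have f1 := congrArg (fun n : ℕ => n.factorization p) hG
      have f2 := congrArg (fun n : ℕ => n.factorization p) hDN
      simp only [Nat.factorization_mul Nat.card_pos.ne' Nat.card_pos.ne', Finsupp.add_apply] at f1
      simp only [Nat.factorization_mul (pow_ne_zero _ hp.ne_zero) Nat.card_pos.ne', Finsupp.add_apply,
        hp.factorization_pow, Finsupp.single_eq_same] at f2
      omega
    have heq : ∀ χ : IrrCharacter (G ⧸ N), χ ∈ Bq → charDegree (χ : G ⧸ N → ℂ) = f := by
      intro χ hχ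
      have hd : charDegree (inflate N χ : G → ℂ) = charDegree (χ : G ⧸ N → ℂ) := by
        rw [charDegree, charDegree, inflate_apply, QuotientGroup.mk_one]
      rw [← hd]
      refine hf _ (hinf χ hχ) ?_
      rw [blockHeight_eq_zero_iff_minExp (hinf χ hχ), ← hexp,
        ← (blockHeight_eq_zero_iff_minExp hχ).1 (h0 χ hχ)]
      simp only [hd]
    have hnil := (Cfsg.Agent.S4889.result p M hM Bq hBqb (bar D N) hDq
      ⟨⟨fun a b => Subtype.ext (hab a a.2 b b.2)⟩⟩ h0).1 ⟨f, heq⟩
    have hxq := hstab x hx
    have hxC := hnil.2 _ cq hBq _ hxq.1 hxq.2 (fun hd => hxreg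
      (hd.trans (orderOf_map_dvd (QuotientGroup.mk' N) x)))
    exact hlift x hxreg hxC
  · intro hnil
    obtain ⟨χ, hχ, Φ, hχ0, hΦ⟩ := CfsgLib.Star.exists_param_of_nilpotent hM hnil hD
    refine ⟨charDegree (χ : G → ℂ), fun ψ hψ hψ0 => ?_⟩
    obtain ⟨η, hη⟩ := Φ.surjective ⟨ψ, hψ⟩
    have h := hΦ η 1 (by simpa using hM.1.ne_one)
    rw [hη, apply_one_eq_charDegree, apply_one_eq_charDegree, apply_one_eq_charDegree] at h
    have h' : charDegree (ψ : G → ℂ) = charDegree (η : D → ℂ) * charDegree (χ : G → ℂ) := by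
      exact_mod_cast h
    obtain ⟨k, hk⟩ := IsPGroup.iff_card.1 hDp
    obtain ⟨i, -, hi⟩ := (Nat.dvd_prime_pow hp).1 (hk ▸ charDegree_dvd_card η)
    have e1 := (blockHeight_eq_zero_iff_minExp hψ).1 hψ0
    have e2 := (blockHeight_eq_zero_iff_minExp hχ).1 hχ0
    rw [h', Nat.factorization_mul (charDegree_pos η).ne' (charDegree_pos χ).ne', Finsupp.add_apply,
      hi, hp.factorization_pow, Finsupp.single_eq_same, e2] at e1
    have : i = 0 := by omega
    rw [h', hi, this, pow_zero, one_mul]

end Cfsg.Agent.S4890
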