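import Cfsg.Statements.S4892
import Cfsg.Agent.Lib.Blocks.CanonicalExtension
import Cfsg.Agent.Lib.Blocks.Principal
import Cfsg.Agent.Lib.Char.GaloisSum
import Cfsg.Agent.Lib.Char.Brauer
import Mathlib.RingTheory.RootsOfUnity.Complex
import Mathlib.FieldTheory.IsAlgClosed.Basic
import Mathlib.RingTheory.Polynomial.Cyclotomic.Roots
-- import your own Cfsg.Agent.* helpers here

set_option autoImplicit false
open Cfsg

namespace Cfsg.Agent.S4892

open CfsgLib.Blocks CfsgLib.Char CfsgLib.CanonExt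
open CfsgLib.CharExt (detHom cn)
open scoped ComplexConjugate IntermediateField

/-- Values in a field of roots of unity are fixed by the matching power maps. -/
theorem apply_pow_eq {H : Type*} [Group H] [Finite H] {χ : H → ℂ} (hχ : IsCharacter H χ)
    {L m k : ℕ} (hL : L ≠ 0) (hHL : Nat.card H ∣ L) (hmL : m ∣ L) (hk : k.Coprime L)
    (hkm : k ≡ 1 [MOD m]) (g : H)
    (hv : χ g ∈ IntermediateField.adjoin ℚ ({Complex.exp (2 * Real.pi * Complex.I / m)} : Set ℂ)) :
    χ (g ^ k) = χ g := by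
  have hm : m ≠ 0 := fun e => hL (Nat.eq_zero_of_zero_dvd (e ▸ hmL))
  set ζ := Complex.exp (2 * Real.pi * Complex.I / L)
  have hζ : IsPrimitiveRoot ζ L := Complex.isPrimitiveRoot_exp L hL
  set ζm := Complex.exp (2 * Real.pi * Complex.I / m)
  have hζm : IsPrimitiveRoot ζm m := Complex.isPrimitiveRoot_exp m hm
  set K := IntermediateField.adjoin ℚ ({ζ} : Set ℂ)
  have hint : IsIntegral ℚ ζ := IsIntegral.of_pow (Nat.pos_of_ne_zero hL) (by
    rw [hζ.pow_eq_one]; exact isIntegral_one)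
  let pb := IntermediateField.adjoin.powerBasis hint
  have hroot : Polynomial.aeval (ζ ^ k) (minpoly ℚ pb.gen) = 0 := by
    rw [show pb.gen = IntermediateField.AdjoinSimple.gen ℚ ζ from
        IntermediateField.adjoin.powerBasis_gen hint,
      ← minpoly.algebraMap_eq (RingHom.injective (algebraMap K ℂ)),
      IntermediateField.AdjoinSimple.algebraMap_gen,
      ← Polynomial.cyclotomic_eq_minpoly_rat hζ (Nat.pos_of_ne_zero hL),
      Polynomial.cyclotomic_eq_minpoly_rat (hζ.pow_of_coprime k hk) (Nat.pos_of_ne_zero hL)]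
    exact minpoly.aeval ℚ _
  let σ : K →ₐ[ℚ] ℂ := pb.lift (ζ ^ k) hroot
  have hσ : σ (IntermediateField.AdjoinSimple.gen ℚ ζ) = ζ ^ k := by
    rw [← IntermediateField.adjoin.powerBasis_gen hint]
    exact pb.lift_gen _ _
  have hpow : ∀ j : ℕ, ∀ h : ζ ^ j ∈ K, σ ⟨ζ ^ j, h⟩ = (ζ ^ j) ^ k := fun j h => by
    rw [show (⟨ζ ^ j, h⟩ : K) = IntermediateField.AdjoinSimple.gen ℚ ζ ^ j from Subtype.ext rfl,
      map_pow, hσ, ← pow_mul, ← pow_mul, mul_comm]
  obtain ⟨n, ρ, rfl⟩ := hχ
  obtain ⟨ε, hε, -, hp, -⟩ := CfsgLib.Char.exists_eigenvalues ρ g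
  have : NeZero L := ⟨hL⟩
  have hj : ∀ i, ∃ j, ζ ^ j = ε i := fun i => by
    obtain ⟨d, hd⟩ := (orderOf_dvd_natCard g).trans hHL
    obtain ⟨j, -, hj⟩ := hζ.eq_pow_of_pow_eq_one (ξ := ε i) (by rw [hd, pow_mul, hε i, one_pow])
    exact ⟨j, hj⟩
  choose j hj using hj
  have hmemK : ∀ i, ζ ^ j i ∈ K := fun i => pow_mem (IntermediateField.mem_adjoin_simple_self ℚ ζ) _
  let x : K := ∑ i, ⟨ζ ^ j i, hmemK i⟩
  have hx : (x : ℂ) = ρ.character g := by
    have h1 := hp 1
    simp only [pow_one] at h1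
    rw [h1]
    simp [x, hj]
  have hσx : σ x = ρ.character (g ^ k) := by
    rw [hp k, map_sum]
    exact Finset.sum_congr rfl fun i _ => by rw [hpow, hj]
  have hmK : ζm ∈ K := by
    obtain ⟨d, hd⟩ := hmL
    obtain ⟨i, -, hi⟩ := hζ.eq_pow_of_pow_eq_one (ξ := ζm) (by
      rw [hd, pow_mul, hζm.pow_eq_one, one_pow])
    rw [← hi]
    exact pow_mem (IntermediateField.mem_adjoin_simple_self ℚ ζ) _
  have hfix : ∀ z ∈ IntermediateField.adjoin ℚ ({ζm} : Set ℂ), ∀ h : z ∈ K, σ ⟨z, h⟩ = z := by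
    let S : IntermediateField ℚ K := IntermediateField.fixedField
      (⊥ : Subgroup (K ≃ₐ[ℚ] K))
    intro z hz
    induction hz using IntermediateField.adjoin_induction with
    | mem y hy =>
      intro h
      rw [Set.mem_singleton_iff] at hy
      subst hy
      obtain ⟨i, -, hi⟩ := hζ.eq_pow_of_pow_eq_one (ξ := ζm) (by
        obtain ⟨d, hd⟩ := hmL
        rw [hd, pow_mul, hζm.pow_eq_one, one_pow])
      rw [show (⟨ζm, h⟩ : K) = ⟨ζ ^ i, hi ▸ h⟩ from Subtype.ext hi.symm, hpow, hi,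
        ← pow_mod_orderOf ζm k, ← hζm.eq_orderOf, hkm, hζm.eq_orderOf, pow_mod_orderOf, pow_one]
    | algebraMap q => intro h; exact σ.commutes q
    | add a b ha hb iha ihb =>
      intro h
      have ha' : a ∈ K := IntermediateField.adjoin_le_iff.mpr (Set.singleton_subset_iff.mpr hmK) ha
      have hb' : b ∈ K := IntermediateField.adjoin_le_iff.mpr (Set.singleton_subset_iff.mpr hmK) hb
      rw [show (⟨a + b, h⟩ : K) = ⟨a, ha'⟩ + ⟨b, hb'⟩ from rfl, map_add, iha, ihb]
    | inv a ha iha =>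
      intro h
      have ha' : a ∈ K := IntermediateField.adjoin_le_iff.mpr (Set.singleton_subset_iff.mpr hmK) ha
      rw [show (⟨a⁻¹, h⟩ : K) = (⟨a, ha'⟩)⁻¹ from rfl, map_inv₀, iha]
    | mul a b ha hb iha ihb =>
      intro h
      have ha' : a ∈ K := IntermediateField.adjoin_le_iff.mpr (Set.singleton_subset_iff.mpr hmK) ha
      have hb' : b ∈ K := IntermediateField.adjoin_le_iff.mpr (Set.singleton_subset_iff.mpr hmK) hb
      rw [show (⟨a * b, h⟩ : K) = ⟨a, ha'⟩ * ⟨b, hb'⟩ from rfl, map_mul, iha, ihb]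
  have h := hfix (x : ℂ) (by rw [hx]; exact hv) x.2
  rw [← hσx, ← hx]
  exact h

/-- An element of a cyclotomic field fixed by the embeddings over a subfield lies in it. -/
theorem mem_of_forall_algHom {F : IntermediateField ℚ ℂ} {v : ℂ} (hv : IsIntegral F v)
    (h : ∀ τ : F⟮v⟯ →ₐ[F] ℂ, τ (IntermediateField.AdjoinSimple.gen F v) = v) : v ∈ F := by
  classical
  have hsep : (minpoly F v).Separable := (minpoly.irreducible hv).separable
  have hsub : (minpoly F v).aroots ℂ ⊆ {v} := fun r hr => by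
    let e := (IntermediateField.algHomAdjoinIntegralEquiv F hv).symm ⟨r, hr⟩
    have h1 : e (IntermediateField.AdjoinSimple.gen F v) = r :=
      IntermediateField.algHomAdjoinIntegralEquiv_symm_apply_gen F hv ⟨r, hr⟩
    exact Multiset.mem_singleton.mpr (h1.symm.trans (h e))
  have hnd : ((minpoly F v).aroots ℂ).Nodup := Polynomial.nodup_roots hsep.map
  have hcard := Multiset.card_le_card ((Multiset.le_iff_subset hnd).mpr hsub)
  rw [IsAlgClosed.card_aroots_eq_natDegree, Multiset.card_singleton] at hcard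
  have hd : (minpoly F v).natDegree = 1 := le_antisymm hcard (minpoly.natDegree_pos hv)
  obtain ⟨a, ha⟩ := minpoly.natDegree_eq_one_iff.mp hd
  rw [← ha]
  exact a.2

/-- A value fixed by the power maps that are trivial modulo `m₀` lies in the field of
`m₀`-th roots of unity. -/
theorem mem_adjoin_of_pow {H : Type*} [Group H] [Finite H] {χ : H → ℂ} (hχ : IsCharacter H χ)
    {L m₀ : ℕ} (hL : L ≠ 0) (hHL : Nat.card H ∣ L) (hmL : m₀ ∣ L) (g : H)
    (hfix : ∀ k : ℕ, k.Coprime L → k ≡ 1 [MOD m₀] → χ (g ^ k) = χ g) :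
    χ g ∈ IntermediateField.adjoin ℚ ({Complex.exp (2 * Real.pi * Complex.I / m₀)} : Set ℂ) := by
  have hm : m₀ ≠ 0 := fun e => hL (Nat.eq_zero_of_zero_dvd (e ▸ hmL))
  set ζm := Complex.exp (2 * Real.pi * Complex.I / m₀)
  have hζm : IsPrimitiveRoot ζm m₀ := Complex.isPrimitiveRoot_exp m₀ hm
  set F := IntermediateField.adjoin ℚ ({ζm} : Set ℂ)
  set ζ := Complex.exp (2 * Real.pi * Complex.I / L)
  have hζ : IsPrimitiveRoot ζ L := Complex.isPrimitiveRoot_exp L hL
  have : NeZero L := ⟨hL⟩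
  have hint : IsIntegral F ζ := IsIntegral.of_pow (Nat.pos_of_ne_zero hL) (by
    rw [hζ.pow_eq_one]; exact isIntegral_one)
  obtain ⟨n, ρ, rfl⟩ := hχ
  obtain ⟨ε, hε, -, hp, -⟩ := CfsgLib.Char.exists_eigenvalues ρ g
  have hj : ∀ i, ∃ j, ζ ^ j = ε i := fun i => by
    obtain ⟨d, hd⟩ := (orderOf_dvd_natCard g).trans hHL
    obtain ⟨j, -, hj⟩ := hζ.eq_pow_of_pow_eq_one (ξ := ε i) (by rw [hd, pow_mul, hε i, one_pow])
    exact ⟨j, hj⟩
  choose j hj using hj
  have hv1 := hp 1
  simp only [pow_one] at hv1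
  let E := F⟮ζ⟯
  let z : E := IntermediateField.AdjoinSimple.gen F ζ
  let x : E := ∑ i, z ^ j i
  have hx : (x : ℂ) = ρ.character g := by rw [hv1]; simp [x, z, hj]
  have hxint : IsIntegral F (ρ.character g) := by
    rw [hv1]
    exact IsIntegral.sum _ fun i _ => by rw [← hj]; exact hint.pow _
  refine mem_of_forall_algHom hxint fun τ => ?_
  have hle : F⟮ρ.character g⟯ ≤ E := by
    rw [IntermediateField.adjoin_simple_le_iff, ← hx]
    exact x.2
  have hfd : FiniteDimensional F E := IntermediateField.adjoin.finiteDimensional hint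
  have hr : τ (IntermediateField.AdjoinSimple.gen F (ρ.character g)) ∈ (minpoly F x).rootSet ℂ := by
    rw [← minpoly.algebraMap_eq (RingHom.injective (algebraMap E ℂ)) x,
      show algebraMap E ℂ x = ρ.character g from hx, Polynomial.mem_rootSet]
    refine ⟨minpoly.ne_zero hxint, ?_⟩
    rw [← IntermediateField.minpoly_gen F (ρ.character g), Polynomial.aeval_algHom_apply,
      minpoly.aeval, map_zero]
  rw [← Algebra.IsAlgebraic.range_eval_eq_rootSet_minpoly ℂ x] at hr
  obtain ⟨ψ, hψ'⟩ := hr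
  have hψ : τ (IntermediateField.AdjoinSimple.gen F (ρ.character g)) = ψ x := hψ'.symm
  have hzL : IsPrimitiveRoot z L := IsPrimitiveRoot.of_map_of_injective (f := E.val) hζ E.val.injective
  obtain ⟨k, -, hk⟩ := hζ.eq_pow_of_pow_eq_one (ξ := ψ z) (by
    rw [← map_pow, hzL.pow_eq_one, map_one])
  have hkc : k.Coprime L := by
    have h : IsPrimitiveRoot (ψ z) L := hzL.map_of_injective ψ.injective
    rw [← hk] at h
    exact (hζ.pow_iff_coprime (Nat.pos_of_ne_zero hL) k).mp h
  have hkm : k ≡ 1 [MOD m₀] := by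
    obtain ⟨i, -, hi⟩ := hζ.eq_pow_of_pow_eq_one (ξ := ζm) (by
      obtain ⟨d, hd⟩ := hmL
      rw [hd, pow_mul, hζm.pow_eq_one, one_pow])
    have h1 : ψ (z ^ i) = ζm := by
      rw [show z ^ i = algebraMap F E ⟨ζm, IntermediateField.mem_adjoin_simple_self ℚ ζm⟩ from
        Subtype.ext (by simp [z, hi]), ψ.commutes]
      rfl
    rw [map_pow, ← hk, ← pow_mul, mul_comm, pow_mul, hi] at h1
    have h2 : ζm ^ k = ζm ^ 1 := by rw [h1, pow_one]
    rw [← pow_mod_orderOf ζm k, ← pow_mod_orderOf ζm 1, ← hζm.eq_orderOf] at h2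
    exact hζm.pow_inj (Nat.mod_lt _ (Nat.pos_of_ne_zero hm)) (Nat.mod_lt _ (Nat.pos_of_ne_zero hm)) h2
  rw [hψ, map_sum, ← hfix k hkc hkm, hp k]
  exact Finset.sum_congr rfl fun i _ => by
    rw [map_pow, ← hk, ← hj i, ← pow_mul, ← pow_mul, mul_comm]

variable {G : Type*} [Group G] [Fintype G] {p : ℕ} [Fact p.Prime] {M : Ideal AlgInt} [M.IsPrime]
  {N : Subgroup G} [N.Normal] {θ : IrrCharacter N}

/-- The power twist of a canonical extension. -/
theorem canon_pow {T : Subgroup G} {η : IrrCharacter T} (h : Canon θ T η M p) {k : ℕ}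
    (hk : k.Coprime (Nat.card G)) (hθk : ∀ n : N, (θ : N → ℂ) (n ^ k) = (θ : N → ℂ) n) :
    ∃ η' : IrrCharacter T, Canon θ T η' M p ∧ ∀ t, (η' : T → ℂ) t = (η : T → ℂ) (t ^ k) := by
  have hkT : k.Coprime (Nat.card T) := hk.coprime_dvd_right (Subgroup.card_subgroup_dvd_card T)
  have := Fintype.ofFinite T
  refine ⟨⟨_, isIrrCharacter_pow η.2 hkT⟩, ⟨h.le, fun n => ?_, ?_, fun g hg hR => ?_⟩, fun t => rfl⟩
  · show (η : T → ℂ) (Subgroup.inclusion h.le n ^ k) = _
    rw [← map_pow, h.ext, hθk]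
  · obtain ⟨r, ρ, hρ, hρc⟩ := η.2
    obtain ⟨r', τ, hτ, hτc⟩ := isIrrCharacter_pow η.2 hkT
    show ¬ p ∣ detOrder fun t => (η : T → ℂ) (t ^ k)
    intro hd
    refine h.det (hd.trans ?_)
    rw [← hτc, ← hρc, CfsgLib.CharExt.detOrder_eq, CfsgLib.CharExt.detOrder_eq]
    refine orderOf_dvd_of_pow_eq_one (MonoidHom.ext fun t => ?_)
    let f : Subgroup.zpowers t →* T := (Subgroup.zpowers t).subtype.comp
      { toFun := fun a => a ^ k
        map_one' := one_pow k
        map_mul' := fun a b => Commute.mul_pow (by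
          obtain ⟨_, i, rfl⟩ := a
          obtain ⟨_, j, rfl⟩ := b
          exact Subtype.ext ((Commute.refl t).zpow_zpow i j).eq) k }
    let τ₁ : Representation ℂ (Subgroup.zpowers t) (Fin r' → ℂ) := τ.comp (Subgroup.zpowers t).subtype
    let ρ₁ : Representation ℂ (Subgroup.zpowers t) (Fin r → ℂ) := ρ.comp f
    have hch : τ₁.character = ρ₁.character := funext fun a => by
      refine (congrFun hτc (a : T)).trans ?_
      exact (congrFun hρc ((a : T) ^ k)).symm
    have hdet := DFunLike.congr_fun (CfsgLib.CharExt.detHom_eq_of_character_eq τ₁ ρ₁ hch)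
      ⟨t, Subgroup.mem_zpowers t⟩
    have h1 : detHom τ t = detHom ρ (t ^ k) := by
      refine Units.ext ?_
      have h2 := congrArg Units.val hdet
      rw [CfsgLib.CharExt.detHom_apply, CfsgLib.CharExt.detHom_apply] at h2 ⊢
      exact h2
    rw [MonoidHom.pow_apply, h1, ← MonoidHom.pow_apply, pow_orderOf_eq_one]
    rfl
  · obtain ⟨R, hR⟩ := hR
    show rv M ((η : T → ℂ) (g ^ k)) = _
    refine h.good (g ^ k) (fun hd => hg (hd.trans (orderOf_pow_dvd k))) ⟨R, ?_⟩
    rw [Subgroup.coe_pow]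
    exact Subgroup.pow_mem _ hR k

variable {hM : IsPModular p M} {Q : Sylow p N} (D : Data hM θ Q)
include D

theorem quot_nilpotent {E : Subgroup G} (hE : Group.IsNilpotent E) :
    Group.IsNilpotent (↥(N ⊔ E) ⧸ N.subgroupOf (N ⊔ E)) := by
  refine nilpotent_of_surjective (h := hE)
    ((QuotientGroup.mk' _).comp (Subgroup.inclusion le_sup_right)) fun z => ?_
  obtain ⟨⟨z, hz⟩, rfl⟩ := QuotientGroup.mk_surjective z
  obtain ⟨a, ha, b, hb, rfl⟩ := Subgroup.mem_sup_of_normal_left.mp hz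
  refine ⟨⟨b, hb⟩, ?_⟩
  show ((Subgroup.inclusion le_sup_right ⟨b, hb⟩ : ↥(N ⊔ E)) : ↥(N ⊔ E) ⧸ N.subgroupOf (N ⊔ E)) = _
  refine QuotientGroup.eq.mpr ?_
  show b⁻¹ * (a * b) ∈ N
  have := ‹N.Normal›.conj_mem a ha b⁻¹
  simpa [mul_assoc] using this

theorem exists_value (y : G) : ∃ v : ℂ, ∀ (T : Subgroup G) (η : IrrCharacter T) (hy : y ∈ T),
    Canon θ T η M p → (η : T → ℂ) ⟨y, hy⟩ = v := by
  have hnil : Group.IsNilpotent (Subgroup.zpowers y) := by
    letI : CommGroup (Subgroup.zpowers y) := IsCyclic.commGroup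
    infer_instance
  obtain ⟨η₀, hη₀⟩ := exists_canon D (N ⊔ Subgroup.zpowers y) le_sup_left (quot_nilpotent D hnil)
  refine ⟨(η₀ : ↥(N ⊔ Subgroup.zpowers y) → ℂ) ⟨y, Subgroup.mem_sup_right (Subgroup.mem_zpowers y)⟩, fun T η hy h => ?_⟩
  obtain ⟨η', hη', hval⟩ := h.restrict (T' := N ⊔ Subgroup.zpowers y) le_sup_left
    (sup_le h.le (Subgroup.zpowers_le.mpr hy))
  rw [Canon.unique D hη₀ hη'] at hval
  exact (hval ⟨y, Subgroup.mem_sup_right (Subgroup.mem_zpowers y)⟩).symm

/-- The glued extension. -/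
noncomputable def glue (y : G) : ℂ := (exists_value D y).choose

theorem glue_eq {y : G} (T : Subgroup G) (η : IrrCharacter T) (hy : y ∈ T) (h : Canon θ T η M p) :
    (η : T → ℂ) ⟨y, hy⟩ = glue D y := (exists_value D y).choose_spec T η hy h

theorem exists_around (y : G) : ∃ η : IrrCharacter ↥(N ⊔ Subgroup.zpowers y),
    Canon θ (N ⊔ Subgroup.zpowers y) η M p := by
  have hnil : Group.IsNilpotent (Subgroup.zpowers y) := by
    letI : CommGroup (Subgroup.zpowers y) := IsCyclic.commGroup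
    infer_instance
  obtain ⟨η₀, hη₀⟩ := exists_canon D (N ⊔ Subgroup.zpowers y) le_sup_left (quot_nilpotent D hnil)
  exact ⟨η₀, hη₀⟩

theorem glue_class : IsClassFunction G (glue D) := by
  intro y x
  obtain ⟨η, hη⟩ := exists_around D y
  set T' := N ⊔ Subgroup.zpowers (x * y * x⁻¹)
  have hmap : ∀ z ∈ T', x⁻¹ * z * x⁻¹⁻¹ ∈ N ⊔ Subgroup.zpowers y := by
    intro z hz
    have : T' ≤ (N ⊔ Subgroup.zpowers y).comap (MulAut.conj x⁻¹).toMonoidHom := by
      refine sup_le (fun a ha => Subgroup.mem_sup_left (‹N.Normal›.conj_mem a ha x⁻¹))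
        (Subgroup.zpowers_le.mpr ?_)
      show x⁻¹ * (x * y * x⁻¹) * x⁻¹⁻¹ ∈ N ⊔ Subgroup.zpowers y
      rw [show x⁻¹ * (x * y * x⁻¹) * x⁻¹⁻¹ = y by group]
      exact Subgroup.mem_sup_right (Subgroup.mem_zpowers y)
    exact this hz
  obtain ⟨η', hη', hval⟩ := Canon.conj D hη x⁻¹ (T' := T') le_sup_left hmap
  rw [← glue_eq D T' η' (Subgroup.mem_sup_right (Subgroup.mem_zpowers _)) hη', hval,
    ← glue_eq D _ η (Subgroup.mem_sup_right (Subgroup.mem_zpowers y)) hη]
  exact congrArg _ (Subtype.ext (by group))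

theorem glue_coe (n : N) : glue D n = (θ : N → ℂ) n :=
  (glue_eq D N θ n.2 (canon_self D)).symm

theorem glue_gen : IsGeneralizedCharacter G (glue D) := by
  classical
  refine CfsgLib.Brauer.isGeneralizedCharacter_of_elementary (glue_class D) fun E q hq hE => ?_
  have hnil := CfsgLib.Brauer.isNilpotent_of_isElementary hq hE
  obtain ⟨η, hη⟩ := exists_canon D (N ⊔ E) le_sup_left (quot_nilpotent D hnil)
  have hchar : IsCharacter E fun e : E => (η : ↥(N ⊔ E) → ℂ) (Subgroup.inclusion le_sup_right e) :=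
    IsChar.comp (Subgroup.inclusion le_sup_right) (IsIrr.isCharacter η.2)
  have := IsGen.of_isCharacter hchar
  convert this using 1
  funext e
  exact (glue_eq D (N ⊔ E) η (Subgroup.mem_sup_right e.2) hη).symm

theorem glue_coset_norm [Fintype N] (y : G) : ∑ n : N, glue D (y * n) * conj (glue D (y * n)) = (Nat.card N : ℂ) := by
  classical
  obtain ⟨T, η, hη, hy⟩ : ∃ (T : Subgroup G) (η : IrrCharacter T), Canon θ T η M p ∧ y ∈ T :=
    ⟨_, (exists_around D y).choose, (exists_around D y).choose_spec,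
      Subgroup.mem_sup_right (Subgroup.mem_zpowers y)⟩
  have := Fintype.ofFinite T
  set K := N.subgroupOf T
  have := Fintype.ofFinite K
  have := Fintype.ofFinite (T ⧸ K)
  let e := Subgroup.subgroupOfEquivOfLe hη.le
  have hres : IsIrrCharacter K fun n : K => (η : T → ℂ) n := by
    rw [show (fun n : K => (η : T → ℂ) n) = fun n => (θ : N → ℂ) (e.toMonoidHom n) from
      funext fun n => (congrArg (η : T → ℂ) (Subtype.ext rfl)).trans (hη.ext (e n))]
    exact IsIrr.comp_surjective e.toMonoidHom e.surjective θ.2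
  let f : T → ℂ := fun t => (η : T → ℂ) t * conj ((η : T → ℂ) t)
  let S : T ⧸ K → ℂ := fun a => ∑ t ∈ Finset.univ.filter (fun t : T => QuotientGroup.mk' K t = a), f t
  have hS : IsClassFunction (T ⧸ K) fun a => S a - (Nat.card K : ℂ) := by
    intro a b
    show S (b * a * b⁻¹) - _ = S a - _
    congr 1
    obtain ⟨c, rfl⟩ := QuotientGroup.mk'_surjective K b
    refine (Finset.sum_equiv (MulAut.conj c).toEquiv (fun t => ?_) fun t _ => ?_).symm
    · simp only [Finset.mem_filter, Finset.mem_univ, true_and, MulEquiv.toEquiv_eq_coe,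
        MulEquiv.coe_toEquiv, MulAut.conj_apply, map_mul, map_inv]
      constructor
      · intro h; rw [h]
      · intro h; exact mul_left_cancel (mul_right_cancel h)
    · simp only [f, MulEquiv.toEquiv_eq_coe, MulEquiv.coe_toEquiv, MulAut.conj_apply]
      rw [IsIrr.isClassFunction η.2 t c]
  have hzero := eq_zero_of_classInner_eq_zero hS fun β => by
    have h1 := CfsgLib.Gallagher.classInner_twistBy (IsIrr.isCharacter η.2) hres
      (trivChar (T ⧸ K)) β
    have h2 : ∑ a : T ⧸ K, S a * conj ((β : T ⧸ K → ℂ) a) =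
        ∑ t : T, f t * conj ((β : T ⧸ K → ℂ) (QuotientGroup.mk' K t)) := by
      rw [← Finset.sum_fiberwise Finset.univ (QuotientGroup.mk' K)
        fun t : T => f t * conj ((β : T ⧸ K → ℂ) (QuotientGroup.mk' K t))]
      refine Finset.sum_congr rfl fun a _ => ?_
      rw [Finset.sum_mul]
      exact Finset.sum_congr rfl fun t ht => by rw [(Finset.mem_filter.mp ht).2]
    have h3 : ∑ t : T, f t * conj ((β : T ⧸ K → ℂ) (QuotientGroup.mk' K t)) =
        (Nat.card T : ℂ) * if trivChar (T ⧸ K) = β then 1 else 0 := by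
      rw [← h1, classInner, ← mul_assoc, mul_inv_cancel₀ (Nat.cast_ne_zero.mpr Nat.card_pos.ne'),
        one_mul]
      refine Finset.sum_congr rfl fun t _ => ?_
      simp only [CfsgLib.Gallagher.twistBy_apply, trivChar_apply, one_mul, map_mul, f]
      ring
    have h4 := classInner_irr (trivChar (T ⧸ K)) β
    simp only [classInner, trivChar_apply, one_mul] at h4
    rw [inv_mul_eq_iff_eq_mul₀ (Nat.cast_ne_zero.mpr Nat.card_pos.ne')] at h4
    rw [classInner]
    simp only [sub_mul, Finset.sum_sub_distrib, ← Finset.mul_sum, h2, h3, h4]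
    have hc : (Nat.card T : ℂ) = (Nat.card K : ℂ) * (Nat.card (T ⧸ K) : ℂ) := by
      rw [← Nat.cast_mul, mul_comm, ← Subgroup.card_eq_card_quotient_mul_card_subgroup]
    rw [hc]
    ring
  have h := congrFun hzero (QuotientGroup.mk' K ⟨y, hy⟩)
  rw [Pi.zero_apply, sub_eq_zero] at h
  rw [show Nat.card N = Nat.card K from (Nat.card_congr e.toEquiv).symm, ← h]
  refine Finset.sum_bij (fun (n : N) _ => (⟨y, hy⟩ : T) * Subgroup.inclusion hη.le n)
    (fun n _ => ?_) (fun a _ b _ h => Subgroup.inclusion_injective hη.le (mul_left_cancel h))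
    (fun t ht => ?_) fun n _ => ?_
  · refine Finset.mem_filter.mpr ⟨Finset.mem_univ _, ?_⟩
    rw [map_mul, QuotientGroup.mk'_apply _ (Subgroup.inclusion hη.le n),
      (QuotientGroup.eq_one_iff _).mpr (show _ ∈ K from n.2), mul_one]
  · have ht' := (Finset.mem_filter.mp ht).2
    have hm : (⟨y, hy⟩ : T)⁻¹ * t ∈ K := QuotientGroup.eq.mp ht'.symm
    exact ⟨⟨_, hm⟩, Finset.mem_univ _, mul_inv_cancel_left _ _⟩
  · have e1 : glue D (y * n) = (η : T → ℂ) ((⟨y, hy⟩ : T) * Subgroup.inclusion hη.le n) :=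
      (glue_eq D T η _ hη).symm
    rw [e1]

theorem glue_norm [Fintype N] : classInner (glue D) (glue D) = 1 := by
  have h1 : ∑ y : G, ∑ n : N, glue D (y * n) * conj (glue D (y * n)) =
      (Nat.card N : ℂ) * ∑ y : G, glue D y * conj (glue D y) := by
    rw [Finset.sum_comm, Finset.sum_congr rfl (g := fun _ => ∑ y : G, glue D y * conj (glue D y))
      fun (n : N) _ => Fintype.sum_equiv (Equiv.mulRight (n : G)) (fun y => glue D (y * n) * conj (glue D (y * n)))
        (fun y => glue D y * conj (glue D y)) fun _ => rfl,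
      Finset.sum_const, Finset.card_univ, nsmul_eq_mul, ← Nat.card_eq_fintype_card]
  rw [Finset.sum_congr rfl fun y _ => glue_coset_norm D y, Finset.sum_const, Finset.card_univ,
    nsmul_eq_mul, ← Nat.card_eq_fintype_card, mul_comm] at h1
  rw [classInner, ← mul_left_cancel₀ (Nat.cast_ne_zero.mpr Nat.card_pos.ne') h1,
    inv_mul_cancel₀ (Nat.cast_ne_zero.mpr Nat.card_pos.ne')]

theorem glue_irr : IsIrrCharacter G (glue D) := by
  have := Fintype.ofFinite N
  refine IsGen.isIrr_of_norm_one (glue_gen D) (glue_norm D) ?_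
  rw [← Subgroup.coe_one N, glue_coe D 1]
  obtain ⟨n, hn, hn'⟩ := IsIrr.exists_degree θ.2
  rw [hn', Complex.natCast_re]
  exact_mod_cast hn

theorem glue_block : (⟨glue D, glue_irr D⟩ : IrrCharacter G) ∈ principalBlock M G := by
  have hdeg : charDegree (glue D) = charDegree (θ : N → ℂ) := by
    have h1 := glue_coe D 1
    rw [Subgroup.coe_one] at h1
    simp [charDegree, h1]
  refine mem_principalBlock_of_rv hM (show ¬ p ∣ charDegree (glue D) from hdeg ▸ D.deg)
    fun g hg hi => ?_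
  show rv M (glue D g) = (charDegree (glue D) : Res M)
  rw [hdeg]
  obtain ⟨R, hR⟩ := exists_sylow_commute N.subtype N.subtype_injective
    (by rw [Subgroup.range_subtype]; infer_instance) hi
  obtain ⟨η, hη⟩ := exists_around D g
  have hgT : g ∈ N ⊔ Subgroup.zpowers g := Subgroup.mem_sup_right (Subgroup.mem_zpowers g)
  rw [← glue_eq D _ η hgT hη]
  refine hη.good ⟨g, hgT⟩ (by rwa [Subgroup.orderOf_mk]) ⟨R, Subgroup.mem_centralizer_iff.mpr ?_⟩
  rintro _ ⟨r, hr, rfl⟩
  exact hR r hr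

theorem glue_pow {k : ℕ} (hk : k.Coprime (Nat.card G))
    (hθk : ∀ n : N, (θ : N → ℂ) (n ^ k) = (θ : N → ℂ) n) (y : G) :
    glue D (y ^ k) = glue D y := by
  obtain ⟨η, hη⟩ := exists_around D y
  obtain ⟨η', hη', hval⟩ := canon_pow hη hk hθk
  have hy : y ∈ N ⊔ Subgroup.zpowers y := Subgroup.mem_sup_right (Subgroup.mem_zpowers y)
  rw [← glue_eq D _ η (pow_mem hy k) hη, ← glue_eq D _ η hy hη,
    show (⟨y ^ k, pow_mem hy k⟩ : ↥(N ⊔ Subgroup.zpowers y)) = ⟨y, hy⟩ ^ k from rfl, ← hval,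
    Canon.unique D hη hη']

omit D

/-- Let p be an odd prime, M a maximal ideal of the algebraic integers containing p, N a normal subgroup of the finite group G, and θ an irreducible character of N that is G-invariant, of degree prime to p, p-rational (values in the field generated over ℚ by a root of unity of order prime to p) and lies in the principal p-block of N. Let Q be a Sylow p-subgroup of N and suppose the index of N·C_G(Q) in G is a power of p. Then θ extends to a p-rational irreducible character of G lying in the principal p-block of G. -/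
theorem result {G : Type*} [Group G] [Finite G] (p : ℕ) [Fact p.Prime] (hp : p ≠ 2) (M : Ideal Cfsg.AlgInt) (hM : Cfsg.IsPModular p M) (N : Subgroup G) [N.Normal] (θ : Cfsg.IrrCharacter ↥N) (hinv : ∀ g : G, ∀ n n' : ↥N, (n' : G) = g * (n : G) * g⁻¹ → (θ : ↥N → ℂ) n' = (θ : ↥N → ℂ) n) (hdeg : ¬ p ∣ Cfsg.charDegree (θ : ↥N → ℂ)) (hrat : ∃ m : ℕ, ¬ p ∣ m ∧ ∀ n : ↥N, (θ : ↥N → ℂ) n ∈ IntermediateField.adjoin ℚ ({Complex.exp (2 * Real.pi * Complex.I / m)} : Set ℂ)) (hB : θ ∈ Cfsg.principalBlock M ↥N) (Q : Sylow p ↥N) (hidx : ∃ a : ℕ, (N ⊔ Subgroup.centralizer (((Q : Subgroup ↥N).map N.subtype : Subgroup G) : Set G)).index = p ^ a) : ∃ χ : Cfsg.IrrCharacter G, χ ∈ (Cfsg.principalBlock M G) ∧ (∃ n : ℕ, ¬ p ∣ n ∧ ∀ g : G, (χ : G → ℂ) g ∈ IntermediateField.adjoin ℚ ({Complex.exp (2 * Real.pi * Complex.I / n)} : Set ℂ)) ∧ ∀ n : ↥N, (χ : G → ℂ) n = (θ : ↥N → ℂ) n := by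
  classical
  have hpp := (Fact.out : p.Prime)
  have : Fintype G := Fintype.ofFinite G
  have := Fintype.ofFinite N
  obtain ⟨m, hm, hval⟩ := hrat
  have hm0 : m ≠ 0 := fun e => hm (e ▸ dvd_zero p)
  have hMprime : M.IsPrime := hM.2.1.isPrime
  set L := Nat.card G * m with hLdef
  have hL : L ≠ 0 := mul_ne_zero Nat.card_pos.ne' hm0
  set a := L.factorization p
  set m₀ := L / p ^ a with hm₀def
  have hLm₀ : p ^ a * m₀ = L := Nat.ordProj_mul_ordCompl_eq_self L p
  have hm₀p : ¬ p ∣ m₀ := Nat.not_dvd_ordCompl hpp hL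
  have hmm₀ : m ∣ m₀ :=
    ((((hpp.coprime_iff_not_dvd).mpr hm).pow_left a).symm).dvd_of_dvd_mul_left
      (hLm₀ ▸ dvd_mul_left m (Nat.card G))
  have hNL : Nat.card N ∣ L := (Subgroup.card_subgroup_dvd_card N).trans (dvd_mul_right _ m)
  have hθk : ∀ k : ℕ, k.Coprime L → k ≡ 1 [MOD m₀] → ∀ n : N, (θ : N → ℂ) (n ^ k) = (θ : N → ℂ) n :=
    fun k hk hkm n => apply_pow_eq (IsIrr.isCharacter θ.2) hL hNL (hmm₀.trans ⟨p ^ a, by rw [← hLm₀, mul_comm]⟩)
      hk (hkm.of_dvd hmm₀) n (hval n)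
  have hdet : ¬ p ∣ detOrder (θ : N → ℂ) := by
    obtain ⟨r, ρ, hρ, hρc⟩ := θ.2
    rw [← hρc, CfsgLib.CharExt.detOrder_eq]
    intro hd
    have hp2 : 2 < p := lt_of_le_of_ne hpp.two_le (Ne.symm hp)
    have hcop : (p ^ a).Coprime m₀ := ((hpp.coprime_iff_not_dvd).mpr hm₀p).pow_left a
    obtain ⟨k, hk2, hk1⟩ := Nat.chineseRemainder hcop 2 1
    have hdL : p ∣ Nat.card N := hd.trans (orderOf_dvd_of_pow_eq_one (CfsgLib.CharExt.hom_pow_card _))
    have ha : a ≠ 0 := fun e => by
      rw [e, pow_zero, one_mul] at hLm₀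
      exact hm₀p (hLm₀ ▸ hdL.trans hNL)
    have hk2' : k ≡ 2 [MOD p] := hk2.of_dvd (dvd_pow_self p ha)
    have hkp : ¬ p ∣ k := fun h => by
      have := (Nat.ModEq.dvd_iff hk2' dvd_rfl).mp h
      exact absurd (Nat.le_of_dvd two_pos this) (by omega)
    have hkL : k.Coprime L := by
      rw [← hLm₀]
      refine Nat.Coprime.mul_right (((hpp.coprime_iff_not_dvd).mpr hkp).pow_left a).symm ?_
      have := hk1.gcd_eq
      rwa [Nat.gcd_one_left] at this
    obtain ⟨c, hc⟩ : ∃ c, k = c + 1 := Nat.exists_eq_succ_of_ne_zero (by rintro rfl; exact hkp (dvd_zero p))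
    have hone : detHom ρ ^ c = 1 := by
      refine MonoidHom.ext fun g => ?_
      let f : Subgroup.zpowers g →* N := (Subgroup.zpowers g).subtype.comp
        { toFun := fun x => x ^ k
          map_one' := one_pow k
          map_mul' := fun x y => Commute.mul_pow (by
            obtain ⟨_, i, rfl⟩ := x
            obtain ⟨_, j, rfl⟩ := y
            exact Subtype.ext ((Commute.refl g).zpow_zpow i j).eq) k }
      let ρ₁ : Representation ℂ (Subgroup.zpowers g) (Fin r → ℂ) := ρ.comp (Subgroup.zpowers g).subtype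
      let ρ₂ : Representation ℂ (Subgroup.zpowers g) (Fin r → ℂ) := ρ.comp f
      have hch : ρ₂.character = ρ₁.character := funext fun x => by
        refine (congrFun hρc ((x : N) ^ k)).trans ?_
        exact (hθk k hkL hk1 x).trans (congrFun hρc (x : N)).symm
      have hdd := congrArg Units.val (DFunLike.congr_fun
        (CfsgLib.CharExt.detHom_eq_of_character_eq ρ₂ ρ₁ hch) ⟨g, Subgroup.mem_zpowers g⟩)
      rw [CfsgLib.CharExt.detHom_apply, CfsgLib.CharExt.detHom_apply] at hdd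
      have h1 : detHom ρ (g ^ k) = detHom ρ g := Units.ext (by
        rw [CfsgLib.CharExt.detHom_apply, CfsgLib.CharExt.detHom_apply]; exact hdd)
      rw [map_pow, hc, pow_succ, mul_eq_right] at h1
      rw [MonoidHom.pow_apply, h1, MonoidHom.one_apply]
    have hpc : p ∣ c := hd.trans (orderOf_dvd_of_pow_eq_one hone)
    have hp1 : k ≡ 1 [MOD p] := by
      rw [hc]
      exact ((Nat.modEq_zero_iff_dvd.mpr hpc).add_right 1)
    have := (hp1.symm.trans hk2')
    rw [Nat.ModEq, Nat.mod_eq_of_lt (by omega : 1 < p), Nat.mod_eq_of_lt hp2] at this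
    omega
  have D : Data hM θ Q := by
    refine ⟨fun g n => hinv g n _ rfl, hdeg, hdet, fun g hg hR => ?_, ?_⟩
    · obtain ⟨R, hR⟩ := hR
      refine rv_of_mem hM hB fun hd => ?_
      have hsub : (R : Subgroup N) ≤ Subgroup.centralizer ({g} : Set N) := fun r hr =>
        Subgroup.mem_centralizer_singleton_iff.mpr
          (Subtype.ext (Subgroup.mem_centralizer_iff.mp hR (r : G) ⟨r, hr, rfl⟩))
      exact Sylow.not_dvd_index R (hd.trans (Subgroup.index_dvd_of_le hsub))
    · set C := Subgroup.centralizer (img Q : Set G) with hCdef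
      have hH : (N ⊔ C).Normal := by
        rw [← Subgroup.normalizer_eq_top_iff, eq_top_iff, ← Sylow.normalizer_sup_eq_top Q, sup_le_iff]
        refine ⟨?_, le_sup_left.trans Subgroup.le_normalizer⟩
        have key : ∀ x ∈ Subgroup.normalizer (img Q : Set G), ∀ h ∈ N ⊔ C, x * h * x⁻¹ ∈ N ⊔ C := by
          intro x hx h hh
          obtain ⟨u, hu, c, hc, rfl⟩ := Subgroup.mem_sup_of_normal_left.mp hh
          rw [show x * (u * c) * x⁻¹ = (x * u * x⁻¹) * (x * c * x⁻¹) by group]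
          refine Subgroup.mul_mem_sup (‹N.Normal›.conj_mem u hu x) (Subgroup.mem_centralizer_iff.mpr
            fun q hq => ?_)
          have hq' : x⁻¹ * q * x ∈ img Q := by
            have := (Subgroup.mem_normalizer_iff.mp (inv_mem hx) q).mp hq
            simpa using this
          have h2 := Subgroup.mem_centralizer_iff.mp hc _ hq'
          calc q * (x * c * x⁻¹) = x * ((x⁻¹ * q * x) * c) * x⁻¹ := by group
            _ = _ := by rw [h2]; group
        intro x hx
        refine Subgroup.mem_normalizer_iff.mpr fun h => ⟨key x hx h, fun hh => ?_⟩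
        have := key x⁻¹ (inv_mem hx) _ hh
        simpa [mul_assoc] using this
      intro y hy
      have hyH : y ∈ N ⊔ C := by
        obtain ⟨i, hi⟩ := hidx
        rw [← QuotientGroup.eq_one_iff, ← orderOf_eq_one_iff]
        refine Nat.eq_one_of_dvd_coprimes (((hpp.coprime_iff_not_dvd).mpr hy).pow_left i) ?_
          (orderOf_map_dvd (QuotientGroup.mk' (N ⊔ C)) y)
        have hi' : (N ⊔ C).index = p ^ i := hi
        rw [← hi', Subgroup.index_eq_card]
        exact orderOf_dvd_natCard _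
      obtain ⟨u, hu, c', hc', huc⟩ := Subgroup.mem_sup_of_normal_left.mp hyH
      obtain ⟨w, hw⟩ := exists_pPart hpp c'
      obtain ⟨c, hwc, hcomm, ⟨i, hi⟩, hc⟩ := hw
      -- the `p`-part of `c'` lies in `N`
      have hyc : (y : G ⧸ N) = c' := by
        rw [← huc, QuotientGroup.mk_mul, (QuotientGroup.eq_one_iff u).mpr hu, one_mul]
      have hd1 : ¬ p ∣ orderOf (c' : G ⧸ N) := fun h => hy (h.trans (by
        rw [← hyc]; exact orderOf_map_dvd (QuotientGroup.mk' N) y))
      have hwN : w ∈ N := by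
        rw [← QuotientGroup.eq_one_iff, ← orderOf_eq_one_iff]
        by_contra hne
        have h1 : orderOf (w : G ⧸ N) ∣ p ^ i := hi ▸ orderOf_map_dvd (QuotientGroup.mk' N) w
        obtain ⟨j, -, hj⟩ := (Nat.dvd_prime_pow hpp).mp h1
        have hj0 : j ≠ 0 := fun e => hne (by rw [hj, e, pow_zero])
        refine hd1 ?_
        have h2 : p ∣ orderOf (w : G ⧸ N) := hj ▸ dvd_pow_self p hj0
        have h3 : orderOf (c : G ⧸ N) ∣ orderOf c := orderOf_map_dvd (QuotientGroup.mk' N) c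
        have hcop : (orderOf (w : G ⧸ N)).Coprime (orderOf (c : G ⧸ N)) := by
          rw [hj]
          exact (((hpp.coprime_iff_not_dvd).mpr fun h => hc (h.trans h3))).pow_left j
        have hcomm' : Commute (w : G ⧸ N) c := hcomm.map (QuotientGroup.mk' N)
        rw [← hwc, QuotientGroup.mk_mul, hcomm'.orderOf_mul_eq_mul_orderOf_of_coprime hcop]
        exact h2.mul_right _
      have hcC : c ∈ C := by
        have hcop : (orderOf c).Coprime (p ^ i) :=
          (((hpp.coprime_iff_not_dvd).mpr hc).pow_left i).symm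
        obtain ⟨t, ht⟩ := exists_pow_eq_self_of_coprime (x := c) (n := p ^ i) hcop.symm
        have hpw : c' ^ p ^ i = c ^ p ^ i := by
          rw [← hwc, hcomm.mul_pow, ← hi, pow_orderOf_eq_one, one_mul]
        rw [← ht, ← hpw]
        exact pow_mem (pow_mem hc' _) _
      exact ⟨u * w, N.mul_mem hu hwN, c, hc, hcC, by rw [← huc, ← hwc, mul_assoc]⟩
  refine ⟨⟨glue D, glue_irr D⟩, glue_block D, ⟨m₀, hm₀p, fun g => ?_⟩, fun n => glue_coe D n⟩
  refine mem_adjoin_of_pow (IsIrr.isCharacter (glue_irr D)) hL (dvd_mul_right _ m)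
    ⟨p ^ a, by rw [← hLm₀, mul_comm]⟩ g fun k hk hkm => ?_
  exact glue_pow D (hk.coprime_dvd_right (dvd_mul_right _ m)) (hθk k hk hkm) g

end Cfsg.Agent.S4892
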