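import Cfsg.Statements.S4912
import Cfsg.Agent.Lib.CharDegree.InducedExtension
import Cfsg.Agent.Lib.CharDegree.IndicatorVal
import Cfsg.Agent.Lib.CharDegree.Alternating
-- import your own Cfsg.Agent.* helpers here

set_option autoImplicit false
open Cfsg

namespace Cfsg.Agent.S4912

open CfsgLib.CharDegree CfsgLib.Char
open scoped ComplexConjugate

variable {G : Type*} [Group G] [Fintype G]

theorem real_sq {χ : G → ℂ} (hreal : ∀ g, (χ g).im = 0) (g : G) : χ g * conj (χ g) = χ g * χ g := by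
  rw [Complex.conj_eq_iff_im.mpr (hreal g)]

theorem sum_sq_eq_one (χ : Cfsg.IrrCharacter G) (hreal : ∀ g, ((χ : G → ℂ) g).im = 0) :
    (Nat.card G : ℂ)⁻¹ * ∑ g : G, (χ : G → ℂ) g * (χ : G → ℂ) g = 1 := by
  rw [← classInner_irr_self χ, Cfsg.classInner]
  simp only [real_sq hreal]

theorem fsInd_restrict {N I : Subgroup G} [Fintype N] [Fintype I] {φ : Cfsg.IrrCharacter N}
    {ψ : Cfsg.IrrCharacter I} (h : ExtData N I φ ψ) (hν : fsInd (ψ : I → ℂ) = 1) :
    fsInd (φ : N → ℂ) = 1 := by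
  classical
  set K := N.subgroupOf I with hK
  have := Fintype.ofFinite K
  let e : K ≃* N := Subgroup.subgroupOfEquivOfLe h.le
  have hψreal := im_eq_zero_of_fsInd_ne_zero ψ (by rw [hν]; exact one_ne_zero)
  have hval : ∀ k : K, (ψ : I → ℂ) k = (φ : N → ℂ) (e k) := fun k => h.ext (e k)
  have hφreal : ∀ n : N, ((φ : N → ℂ) n).im = 0 := fun n => by rw [← h.ext]; exact hψreal _
  obtain ⟨k, hk⟩ := exists_square_mono (IsIrr.isCharacter ψ.2) K (c := 1) (one_mul 1)
  have hcard : Nat.card K = Nat.card N := Nat.card_congr e.toEquiv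
  have h1 : (Nat.card K : ℂ)⁻¹ * ∑ x : K, (ψ : I → ℂ) x * (ψ : I → ℂ) x = 1 := by
    rw [← sum_sq_eq_one φ hφreal, hcard]
    congr 1
    exact Fintype.sum_equiv e.toEquiv _ _ fun x => by rw [hval x]; rfl
  have h2 : (Nat.card K : ℂ)⁻¹ * ∑ x : K, (ψ : I → ℂ) (x * x) = fsInd (φ : N → ℂ) := by
    rw [fsInd, hcard]
    congr 1
    exact Fintype.sum_equiv e.toEquiv _ _ fun x => by
      rw [← Subgroup.coe_mul, hval, map_mul]; rfl
  rw [h1, h2, sum_sq_eq_one ψ hψreal,
    show (Nat.card I : ℂ)⁻¹ * ∑ g : I, (ψ : I → ℂ) (g * g) = fsInd (ψ : I → ℂ) from rfl, hν] at hk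
  rcases fsInd_cases φ with h' | h' | h'
  · rw [h'] at hk
    have := congrArg Complex.re hk
    norm_num at this
    linarith [(Nat.cast_nonneg k : (0 : ℝ) ≤ k)]
  · exact h'
  · rw [h'] at hk
    have := congrArg Complex.re hk
    norm_num at this
    linarith [(Nat.cast_nonneg k : (0 : ℝ) ≤ k)]

theorem fsInd_indFun {N I : Subgroup G} [Fintype N] [Fintype I] {φ : Cfsg.IrrCharacter N}
    {ψ : Cfsg.IrrCharacter I} (h : ExtData N I φ ψ) (hν : fsInd (ψ : I → ℂ) = 1) :
    fsInd (h.indIrr : G → ℂ) = 1 := by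
  classical
  have hψreal := im_eq_zero_of_fsInd_ne_zero ψ (by rw [hν]; exact one_ne_zero)
  have hφreal : ∀ n : N, ((φ : N → ℂ) n).im = 0 := fun n => by rw [← h.ext]; exact hψreal _
  set η : G → ℂ := Cfsg.indFun I (ψ : I → ℂ) with hη
  have hηc : Cfsg.IsCharacter G η := IsIrr.isCharacter h.isIrr_and_unique.1
  have hηreal : ∀ g, (η g).im = 0 := fun g => by
    rw [hη, Cfsg.indFun, Complex.mul_im, Complex.im_sum, Finset.sum_eq_zero fun x _ => ?_]
    · simp [Complex.inv_im]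
    · by_cases hx : x⁻¹ * g * x ∈ I
      · rw [extendByZero_of_mem I _ hx]; exact hψreal _
      · rw [extendByZero_of_notMem I _ hx]; simp
  show fsInd η = 1
  obtain ⟨k, hk⟩ := exists_square_mono hηc N (c := -1) (by norm_num)
  -- the restriction to `N`
  have hres : ∀ n : N, η n = (Nat.card I : ℂ)⁻¹ * ∑ x : G, (cjIrr h.normal φ x : N → ℂ) n :=
    h.indFun_apply_coe
  have hinner : ∀ x : G, (Nat.card N : ℂ)⁻¹ * ∑ n : N, η n * (cjIrr h.normal φ x : N → ℂ) n = 1 := by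
    intro x
    have h1 := h.classInner_restrict_indFun
    rw [Cfsg.classInner] at h1
    rw [← h1]
    congr 1
    refine Fintype.sum_equiv (@MulAut.conjNormal G _ N h.normal x⁻¹).toEquiv _ _ fun n => ?_
    rw [Complex.conj_eq_iff_im.mpr (hφreal _)]
    have e1 : η n = η (@MulAut.conjNormal G _ N h.normal x⁻¹ n : N) := by
      rw [@MulAut.conjNormal_apply G _ N h.normal]
      exact (IsChar.isClassFunction hηc (n : G) x⁻¹).symm
    rw [e1]
    rfl
  have hνN : ∀ x : G, (Nat.card N : ℂ)⁻¹ * ∑ n : N, (cjIrr h.normal φ x : N → ℂ) (n * n) = 1 := by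
    intro x
    rw [← fsInd_restrict h hν, fsInd]
    congr 1
    refine Fintype.sum_equiv (@MulAut.conjNormal G _ N h.normal x⁻¹).toEquiv _ _ fun n => ?_
    show (φ : N → ℂ) (@MulAut.conjNormal G _ N h.normal x⁻¹ (n * n)) = _
    rw [map_mul]
    rfl
  have hI0 : (Nat.card I : ℂ) ≠ 0 := Nat.cast_ne_zero.mpr Nat.card_pos.ne'
  have hA : (Nat.card N : ℂ)⁻¹ * ∑ n : N, η n * η n =
      (Nat.card I : ℂ)⁻¹ * (Nat.card G : ℂ) := by
    calc (Nat.card N : ℂ)⁻¹ * ∑ n : N, η n * η n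
        = (Nat.card I : ℂ)⁻¹ * ∑ x : G, ((Nat.card N : ℂ)⁻¹ *
            ∑ n : N, η n * (cjIrr h.normal φ x : N → ℂ) n) := by
          conv_lhs => enter [2, 2, n, 2]; rw [hres n]
          simp only [Finset.mul_sum]
          rw [Finset.sum_comm]
          exact Finset.sum_congr rfl fun x _ => Finset.sum_congr rfl fun n _ => by ring
      _ = _ := by
          rw [Finset.sum_congr rfl fun x _ => hinner x, Finset.sum_const, Finset.card_univ,
            nsmul_one, Nat.card_eq_fintype_card (α := G)]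
  have hB : (Nat.card N : ℂ)⁻¹ * ∑ n : N, η (n * n) =
      (Nat.card I : ℂ)⁻¹ * (Nat.card G : ℂ) := by
    calc (Nat.card N : ℂ)⁻¹ * ∑ n : N, η (n * n)
        = (Nat.card I : ℂ)⁻¹ * ∑ x : G, ((Nat.card N : ℂ)⁻¹ *
            ∑ n : N, (cjIrr h.normal φ x : N → ℂ) (n * n)) := by
          simp only [← Subgroup.coe_mul, hres, Finset.mul_sum]
          rw [Finset.sum_comm]
          exact Finset.sum_congr rfl fun x _ => Finset.sum_congr rfl fun n _ => by ring
      _ = _ := by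
          rw [Finset.sum_congr rfl fun x _ => hνN x, Finset.sum_const, Finset.card_univ,
            nsmul_one, Nat.card_eq_fintype_card (α := G)]
  rw [hA, hB, sum_sq_eq_one ⟨η, h.isIrr_and_unique.1⟩ hηreal] at hk
  have hνη : fsInd η = (Nat.card G : ℂ)⁻¹ * ∑ g : G, η (g * g) := rfl
  rw [← hνη] at hk
  rcases fsInd_cases ⟨η, h.isIrr_and_unique.1⟩ with h' | h' | h'
  · change fsInd η = 0 at h'
    rw [h'] at hk
    have := congrArg Complex.re hk
    norm_num at this
    linarith [(Nat.cast_nonneg k : (0 : ℝ) ≤ k)]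
  · exact h'
  · change fsInd η = -1 at h'
    rw [h'] at hk
    have := congrArg Complex.re hk
    norm_num at this
    linarith [(Nat.cast_nonneg k : (0 : ℝ) ≤ k)]

/-- Let G be a finite group with a non-abelian minimal normal subgroup N, and let φ be an irreducible complex character of N with stabilizer I in G such that φ extends to an irreducible character of I with Frobenius–Schur indicator +1. Put d = φ(1)·[G : I]. Then the number of linear characters of G with Frobenius–Schur indicator +1 is at most [G : I] times the number of irreducible characters of G of degree d with Frobenius–Schur indicator +1. -/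
theorem result {G : Type*} [Group G] [Finite G] (N : Subgroup G) (hN : N.Normal) (hN1 : N ≠ ⊥) (hmin : ∀ M : Subgroup G, M.Normal → M ≤ N → M = ⊥ ∨ M = N) (hna : ¬ IsMulCommutative ↥N) (φ : Cfsg.IrrCharacter ↥N) (I : Subgroup G) (hI : ∀ g : G, g ∈ I ↔ ∀ n n' : ↥N, (n' : G) = g * (n : G) * g⁻¹ → (φ : ↥N → ℂ) n' = (φ : ↥N → ℂ) n) (hNI : N ≤ I) (hext : ∃ ψ : Cfsg.IrrCharacter ↥I, (Nat.card ↥I : ℂ)⁻¹ * ∑ᶠ g : ↥I, (ψ : ↥I → ℂ) (g * g) = 1 ∧ ∀ n : ↥N, (ψ : ↥I → ℂ) (Subgroup.inclusion hNI n) = (φ : ↥N → ℂ) n) : Nat.card {χ : Cfsg.IrrCharacter G // Cfsg.charDegree (χ : G → ℂ) = 1 ∧ (Nat.card G : ℂ)⁻¹ * ∑ᶠ g : G, (χ : G → ℂ) (g * g) = 1} ≤ I.index * Nat.card {χ : Cfsg.IrrCharacter G // Cfsg.charDegree (χ : G → ℂ) = Cfsg.charDegree (φ : ↥N → ℂ) * I.index ∧ (Nat.card G : ℂ)⁻¹ * ∑ᶠ g : G, (χ : G → ℂ) (g * g) = 1} := by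
  classical
  have := Fintype.ofFinite G
  have := Fintype.ofFinite N
  have := Fintype.ofFinite I
  obtain ⟨ψ, hψν, hψ⟩ := hext
  have h : ExtData N I φ ψ := ⟨hN, hNI, hI, hψ⟩
  rw [finsum_eq_sum_of_fintype] at hψν
  simp only [finsum_eq_sum_of_fintype]
  refine h.card_linear_le (le_commutator_of_minimal N hN hmin hna)
    (fun χ => (Nat.card G : ℂ)⁻¹ * ∑ g : G, (χ : G → ℂ) (g * g) = 1)
    (fun χ => (Nat.card G : ℂ)⁻¹ * ∑ g : G, (χ : G → ℂ) (g * g) = 1) ?_
  intro l χ hχ hν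
  have hreal := im_eq_zero_of_fsInd_ne_zero χ (by
    show fsInd (χ : G → ℂ) ≠ 0
    rw [fsInd, hν]; exact one_ne_zero)
  have hsq : ∀ g : G, (l (g * g) : ℂ) = 1 := fun g => by
    have h1 : conj (l g : ℂ) = (l g : ℂ) :=
      Complex.conj_eq_iff_im.mpr (by rw [← congrFun hχ g]; exact hreal g)
    rw [map_mul, Units.val_mul]
    nth_rewrite 2 [← h1]
    rw [Complex.mul_conj, Complex.normSq_eq_norm_sq, norm_hom_units]
    simp
  simp only [twist_apply, hsq, mul_one]
  exact fsInd_indFun h hψν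

end Cfsg.Agent.S4912
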