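import Cfsg.Statements.S4914
import Cfsg.Agent.Lib.CharAction.RelativeGlauberman
import Cfsg.Agent.Lib.CharAction.Conj
-- import your own Cfsg.Agent.* helpers here

set_option autoImplicit false
open Cfsg

namespace Cfsg.Agent.S4914

/-- Let P and K be subgroups of a finite group G with P a p-group normalizing K, and suppose K has a normal Sylow p-subgroup Q. Let C be the subgroup of those k ∈ K whose commutator with every element of P lies in Q (so that C/Q is the fixed-point subgroup of P on K/Q). Then there is a bijection f from the P-invariant irreducible complex characters of K onto the P-invariant irreducible complex characters of C such that, for every P-invariant irreducible character χ of K, the multiplicity of f(χ) in the restriction of χ to C is a natural number congruent to 1 or to −1 modulo p, every other P-invariant irreducible character of C occurs in that restriction with multiplicity divisible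 by p, and the degrees of χ and f(χ) are congruent modulo p up to sign. -/
theorem result {G : Type*} [Group G] [Finite G] (p : ℕ) [Fact p.Prime] (P K Q C : Subgroup G) (hP : IsPGroup p ↥P) (hPK : P ≤ Subgroup.normalizer (K : Set G)) (hQK : Q ≤ K) (hQn : ∀ k ∈ K, ∀ q ∈ Q, k * q * k⁻¹ ∈ Q) (hQp : ∃ a : ℕ, Nat.card ↥Q = p ^ a) (hQsyl : ¬ p ∣ Q.relIndex K) (hCK : C ≤ K) (hC : ∀ k : G, k ∈ C ↔ (k ∈ K ∧ ∀ x ∈ P, x * k * x⁻¹ * k⁻¹ ∈ Q)) : ∃ f : {χ : Cfsg.IrrCharacter ↥K // (∀ x ∈ P, ∀ k k' : ↥K, (k' : G) = x * (k : G) * x⁻¹ → (χ : ↥K → ℂ) k' = (χ : ↥K → ℂ) k)} → {ξ : Cfsg.IrrCharacter ↥C // (∀ x ∈ P, ∀ k k' : ↥C, (k' : G) = x * (k : G) * x⁻¹ → (ξ : ↥C → ℂ) k' = (ξ : ↥C → ℂ) k)}, Function.Bijective f ∧ ∀ χ, (∀ ξ : {ξ : Cfsg.IrrCharacter ↥C // (∀ x ∈ P, ∀ k k' : ↥C, (k' : G) = x * (k : G) * x⁻¹ → (ξ : ↥C → ℂ) k' = (ξ : ↥C → ℂ) k)}, ∃ m : ℕ, (Nat.card ↥C : ℂ)⁻¹ * ∑ᶠ c : ↥C, (χ.1 : ↥K → ℂ) (Subgroup.inclusion hCK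 c) * (starRingEnd ℂ) ((ξ.1 : ↥C → ℂ) c) = (m : ℂ) ∧ (ξ = f χ → ((m : ZMod p) = 1 ∨ (m : ZMod p) = -1)) ∧ (ξ ≠ f χ → p ∣ m)) ∧ ((Cfsg.charDegree ((f χ).1 : ↥C → ℂ) : ZMod p) = (Cfsg.charDegree (χ.1 : ↥K → ℂ) : ZMod p) ∨ (Cfsg.charDegree ((f χ).1 : ↥C → ℂ) : ZMod p) = -(Cfsg.charDegree (χ.1 : ↥K → ℂ) : ZMod p)) := by
  classical
  have hp : p.Prime := Fact.out
  have hKst : ∀ x ∈ P, ∀ k ∈ K, x * k * x⁻¹ ∈ K := fun x hx k hk =>
    (Subgroup.mem_normalizer_iff.mp (hPK hx) k).mp hk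
  have hCst : ∀ x ∈ P, ∀ k ∈ C, x * k * x⁻¹ ∈ C := fun x hx k hk => by
    obtain ⟨hkK, hk'⟩ := (hC k).mp hk
    refine (hC _).mpr ⟨hKst x hx k hkK, fun y hy => ?_⟩
    have h := mul_mem (hk' (y * x) (mul_mem hy hx)) (inv_mem (hk' x hx))
    convert h using 1
    group
  obtain ⟨a, ha⟩ := hQp
  let Q' : Subgroup K := Q.subgroupOf K
  have hQ'n : Q'.Normal := ⟨fun q hq k => hQn k k.2 q hq⟩
  have hQ'card : Nat.card Q' = p ^ a :=
    (Nat.card_congr (Subgroup.subgroupOfEquivOfLe hQK).toEquiv).trans ha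
  have hmax : ∀ r : K, (∃ i, r ^ p ^ i = 1) → r ∈ Q' := fun r hr => by
    obtain ⟨i, hi⟩ := hr
    rw [← QuotientGroup.eq_one_iff, ← orderOf_eq_one_iff]
    refine Nat.eq_one_of_dvd_coprimes (a := p ^ i) (b := Q'.index) ?_ ?_ ?_
    · exact (hp.coprime_iff_not_dvd.mpr hQsyl).pow_left i
    · exact orderOf_dvd_of_pow_eq_one (by rw [← QuotientGroup.mk_pow, hi, QuotientGroup.mk_one])
    · exact orderOf_dvd_natCard _
  have hQst : ∀ x ∈ P, ∀ q ∈ Q, x * q * x⁻¹ ∈ Q := fun x hx q hq => by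
    refine hmax ⟨x * q * x⁻¹, hKst x hx q (hQK hq)⟩ ⟨a, Subtype.ext ?_⟩
    show (x * q * x⁻¹) ^ p ^ a = 1
    have h : q ^ p ^ a = 1 := by
      have := congrArg Subtype.val (pow_card_eq_one' (x := (⟨q, hq⟩ : Q)))
      rwa [ha] at this
    rw [conj_pow, h, mul_one, mul_inv_cancel]
  let := CfsgLib.CharAction.conjAction K P hKst
  let := CfsgLib.CharAction.conjAction C P hCst
  let := Fintype.ofFinite K
  let := Fintype.ofFinite C
  let := Fintype.ofFinite Q'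
  have S : CfsgLib.RelGlauberman.Setting p (A := P) Q' (Subgroup.inclusion hCK) :=
    { inj := Subgroup.inclusion_injective hCK
      equiv := fun _ _ => rfl
      isP := ⟨a, hQ'card⟩
      not_dvd := hQsyl
      stable := fun x q hq => hQst x x.2 q hq
      range := fun k => by
        constructor
        · rintro ⟨c, rfl⟩ x
          exact ((hC c).mp c.2).2 x x.2
        · intro h
          exact ⟨⟨k, (hC k).mpr ⟨k.2, fun x hx => h ⟨x, hx⟩⟩⟩, rfl⟩ }
  obtain ⟨f, hf, hval⟩ := CfsgLib.RelGlauberman.correspondence hP S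
  have eK : ∀ χ : Cfsg.IrrCharacter K, CfsgLib.CharAction.IsInv P (χ : K → ℂ) ↔
      ∀ x ∈ P, ∀ k k' : K, (k' : G) = x * (k : G) * x⁻¹ → (χ : K → ℂ) k' = (χ : K → ℂ) k :=
    fun χ => ⟨fun h x hx k k' e => by
      rw [show k' = (⟨x, hx⟩ : P) • k from Subtype.ext e]
      exact h _ _, fun h x k => h x x.2 k _ rfl⟩
  have eC : ∀ χ : Cfsg.IrrCharacter C, CfsgLib.CharAction.IsInv P (χ : C → ℂ) ↔
      ∀ x ∈ P, ∀ k k' : C, (k' : G) = x * (k : G) * x⁻¹ → (χ : C → ℂ) k' = (χ : C → ℂ) k :=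
    fun χ => ⟨fun h x hx k k' e => by
      rw [show k' = (⟨x, hx⟩ : P) • k from Subtype.ext e]
      exact h _ _, fun h x k => h x x.2 k _ rfl⟩
  let eK' := Equiv.subtypeEquivRight eK
  let eC' := Equiv.subtypeEquivRight eC
  refine ⟨fun χ => eC' (f (eK'.symm χ)), eC'.bijective.comp (hf.comp eK'.symm.bijective),
    fun χ => ⟨fun ξ => ?_, (hval (eK'.symm χ)).2⟩⟩
  obtain ⟨h1, h2⟩ := (hval (eK'.symm χ)).1 (eC'.symm ξ)
  refine ⟨CfsgLib.CharAction.mult (Subgroup.inclusion hCK) χ.1 ξ.1, ?_, ?_, ?_⟩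
  · rw [← CfsgLib.CharAction.classInner_eq_mult, finsum_eq_sum_of_fintype]
    rfl
  · exact fun e => h1 (eC'.symm_apply_eq.mpr e)
  · exact fun e => h2 fun e' => e (eC'.symm_apply_eq.mp e')

end Cfsg.Agent.S4914
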