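import Cfsg.Statements.S4916
import Cfsg.Agent.Lib.Blocks.Union
import Cfsg.Agent.Lib.CharAction.PGroup
import Mathlib.GroupTheory.Perm.Cycle.Type

set_option autoImplicit false
open Cfsg CfsgLib.Blocks

namespace Cfsg.Agent.S4916

/-- Let p be a prime. The principal p-block of the finite group G contains no non-principal irreducible character of degree prime to p if and only if p does not divide the order of G. -/
theorem result {G : Type*} [Group G] [Finite G] (p : ℕ) [Fact p.Prime] (M : Ideal Cfsg.AlgInt) (hM : Cfsg.IsPModular p M) : (∀ χ : Cfsg.IrrCharacter G, χ ∈ Cfsg.principalBlock M G → ¬ p ∣ Cfsg.charDegree (χ : G → ℂ) → (χ : G → ℂ) = fun _ => (1 : ℂ)) ↔ ¬ p ∣ Nat.card G := by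
  classical
  have : M.IsPrime := hM.2.1.isPrime
  have := Fintype.ofFinite G
  have := Fintype.ofFinite (Cfsg.IrrCharacter G)
  have hp : p.Prime := hM.1
  set B := Cfsg.principalBlock M G with hBdef
  have hB : IsPBlock M B := isPBlock_blockOf (CfsgLib.Char.trivChar G)
  have htmem : CfsgLib.Char.trivChar G ∈ B := mem_blockOf_self (CfsgLib.Char.trivChar G)
  refine ⟨fun h hpG => ?_, fun hpG χ hχ _ => ?_⟩
  · obtain ⟨y, hy⟩ := exists_prime_orderOf_dvd_card' p hpG
    have hsum := sum_block_regular_singular hM hB (x := 1) (y := y)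
      (by simp [hp.ne_one]) (by rw [hy])
    rw [finsum_mem_eq_toFinset_sum,
      ← Finset.add_sum_erase _ _ (Set.mem_toFinset.mpr htmem)] at hsum
    simp only [CfsgLib.Char.trivChar_apply, mul_one] at hsum
    have hcong : CfsgLib.CharAction.CongMod p
        (∑ χ ∈ B.toFinset.erase (CfsgLib.Char.trivChar G), (χ : G → ℂ) 1 * (χ : G → ℂ) y)
        (∑ _χ ∈ B.toFinset.erase (CfsgLib.Char.trivChar G), 0) := by
      refine CfsgLib.CharAction.CongMod.sum _ fun χ hχ => ?_
      obtain ⟨hne, hmem⟩ := Finset.mem_erase.mp hχ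
      have hdvd : p ∣ charDegree (χ : G → ℂ) := by
        by_contra hnd
        exact hne (Subtype.ext (h χ (Set.mem_toFinset.mp hmem) hnd))
      obtain ⟨e, he⟩ := hdvd
      rw [apply_one_eq_charDegree χ, he, Nat.cast_mul, mul_assoc]
      exact CfsgLib.CharAction.CongMod.prime_mul
        ((isIntegral_algebraMap (R := ℤ) (x := (e : ℤ))).mul
          (CfsgLib.Char.IsChar.isIntegral (CfsgLib.Char.IsIrr.isCharacter χ.2) _))
    rw [eq_neg_of_add_eq_zero_right hsum, Finset.sum_const_zero] at hcong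
    obtain ⟨a, ha, he⟩ := hcong
    have h1 : CfsgLib.CharAction.CongMod p ((1 : ℕ) : ℂ) 0 := ⟨-a, ha.neg, by
      rw [Nat.cast_one, mul_neg, ← he]; ring⟩
    exact hp.one_lt.ne' (Nat.dvd_one.mp (CfsgLib.CharAction.CongMod.dvd_of_natCast hp.ne_zero h1))
  · have hnd : ¬ p ∣ Nat.card G / charDegree (CfsgLib.Char.trivChar G : G → ℂ) :=
      fun h => hpG (h.trans (Nat.div_dvd_of_dvd (charDegree_dvd_card _)))
    have h1 := blockOf_eq_singleton hM (CfsgLib.Char.trivChar G) hnd
    have h2 : χ = CfsgLib.Char.trivChar G := by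
      have h3 : χ ∈ blockOf M (CfsgLib.Char.trivChar G : G → ℂ) := hχ
      rw [h1] at h3
      exact h3
    rw [h2]
    rfl

end Cfsg.Agent.S4916
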