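import Cfsg.Statements.S4923
import Cfsg.Agent.Lib.Transfer.MaximalClass
import Cfsg.Agent.Lib.PGroups.Basic
import Cfsg.Agent.Lib.Char.Complete
import Cfsg.Agent.Lib.Char.ComplexAut

set_option autoImplicit false
open Cfsg

namespace Cfsg.Agent.S4923

open Subgroup CfsgLib.Char IntermediateField
open scoped ComplexConjugate commutatorElement

variable {H : Type*} [Group H] [Finite H]

/-- a noncommutative 2-group has abelianization of order at least four -/
theorem four_le_index (hH : IsPGroup 2 H) (h : ¬ ∀ x y : H, x * y = y * x) :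
    4 ≤ (commutator H).index := by
  haveI : Fact (Nat.Prime 2) := ⟨Nat.prime_two⟩
  by_contra hlt
  have hd := index_dvd_of_le (CfsgLib.PGroups.commutator_le_frattini' hH)
  have hle := Nat.le_of_dvd (Nat.pos_of_ne_zero FiniteIndex.index_ne_zero) hd
  obtain ⟨k, hk⟩ := hH.index (frattini H)
  have : (frattini H).index ≤ 2 := by
    rcases k with _ | _ | k
    · rw [hk]; norm_num
    · rw [hk]; norm_num
    · have : 2 ^ 2 ≤ 2 ^ (k + 2) := Nat.pow_le_pow_right (by norm_num) (by omega)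
      omega
  have := CfsgLib.PGroups.isCyclic_of_index_frattini_le hH this
  exact h fun x y => (IsCyclic.commGroup (α := H)).mul_comm x y

theorem not_cyclic_quotient (hH : IsPGroup 2 H) (h : ¬ ∀ x y : H, x * y = y * x) :
    ¬ IsCyclic (H ⧸ commutator H) := by
  haveI : Fact (Nat.Prime 2) := ⟨Nat.prime_two⟩
  intro hc
  obtain ⟨q, hq⟩ := IsCyclic.exists_generator (α := H ⧸ commutator H)
  obtain ⟨g, rfl⟩ := QuotientGroup.mk_surjective q
  have hle := CfsgLib.PGroups.commutator_le_frattini' hH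
  have htop : closure ({g} : Set H) ⊔ frattini H = ⊤ := by
    refine eq_top_iff.mpr fun x _ => ?_
    obtain ⟨i, hi⟩ := mem_zpowers_iff.mp (hq (x : H ⧸ commutator H))
    have hi' : (g ^ i)⁻¹ * x ∈ commutator H :=
      QuotientGroup.eq.mp ((QuotientGroup.mk_zpow (commutator H) g i).trans hi)
    rw [← mul_inv_cancel_left (g ^ i) x]
    have hgi : g ^ i ∈ closure ({g} : Set H) := zpow_mem (subset_closure (Set.mem_singleton g)) i
    exact mul_mem (mem_sup_left hgi) (mem_sup_right (hle hi'))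
  have hg := CfsgLib.PGroups.closure_eq_top_of_sup_frattini htop
  rw [← zpowers_eq_closure] at hg
  haveI : IsCyclic H := ⟨⟨g, fun x => mem_zpowers_iff.mp (hg.symm ▸ mem_top x)⟩⟩
  exact h fun x y => (IsCyclic.commGroup (α := H)).mul_comm x y

variable {G : Type*} [Group G] [Finite G]

/-- conjugates of `a` among its powers, when the 2-part of the order is at most twice that of `a` -/
theorem conj_pow_cases {m : ℕ} (hm : 1 ≤ m) {a b u : G} (ha : orderOf a = 2 ^ m)
    (hG : ¬ 2 ^ (m + 2) ∣ Nat.card G) (hb : b * a * b⁻¹ ∈ zpowers a) (hb' : b * a * b⁻¹ ≠ a)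
    (hu : u * a * u⁻¹ ∈ zpowers a) :
    u * a * u⁻¹ = a ∨ u * a * u⁻¹ = b * a * b⁻¹ := by
  haveI : Fact (Nat.Prime 2) := ⟨Nat.prime_two⟩
  set N := normalizer (zpowers a : Set G) with hN
  have hmemN : ∀ v : G, v * a * v⁻¹ ∈ zpowers a → v ∈ N := by
    intro v hv
    have hmap : (zpowers a).map (MulAut.conj v).toMonoidHom = zpowers a := by
      refine eq_of_le_of_card_ge ?_ ?_
      · rw [MonoidHom.map_zpowers, zpowers_le]; exact hv
      · rw [card_map_of_injective (MulAut.conj v).injective]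
    rw [hN, mem_normalizer_iff]
    intro h
    refine ⟨fun hh => hmap ▸ ⟨h, hh, rfl⟩, fun hh => ?_⟩
    rw [← hmap] at hh
    obtain ⟨h', hh', he⟩ := hh
    rwa [← (MulAut.conj v).injective (he : MulAut.conj v h' = MulAut.conj v h)]
  set C := centralizer ({a} : Set G) with hC
  set C' := C.subgroupOf N with hC'
  have hconjN : ∀ v ∈ N, ∀ h : G, h ∈ zpowers a → v * h * v⁻¹ ∈ zpowers a := fun v hv h hh =>
    (mem_normalizer_iff.mp (hN ▸ hv) h).mp hh
  have hCmem : ∀ v : G, v ∈ C ↔ v * a * v⁻¹ = a := fun v => by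
    rw [hC, mem_centralizer_singleton_iff, mul_inv_eq_iff_eq_mul]
  haveI hnorm : C'.Normal := ⟨fun c hc v => by
    rw [hC', mem_subgroupOf] at hc ⊢
    obtain ⟨i, hi⟩ := mem_zpowers_iff.mp (hconjN (v : G)⁻¹ (inv_mem v.2) a (mem_zpowers a))
    have hca : Commute (c : G) a := mem_centralizer_singleton_iff.mp hc
    have hci : Commute (c : G) (a ^ i) := hca.zpow_right i
    rw [hi] at hci
    rw [hCmem]
    push_cast
    calc (v : G) * c * (v : G)⁻¹ * a * ((v : G) * c * (v : G)⁻¹)⁻¹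
        = (v : G) * ((c : G) * ((v : G)⁻¹ * a * (v : G)⁻¹⁻¹) * (c : G)⁻¹) * (v : G)⁻¹ := by group
      _ = _ := by rw [hci.eq]; group⟩
  have hp : IsPGroup 2 (N ⧸ C') := by
    intro q
    obtain ⟨v, rfl⟩ := QuotientGroup.mk_surjective q
    refine ⟨m - 1, ?_⟩
    rw [← QuotientGroup.mk_pow, QuotientGroup.eq_one_iff, hC', mem_subgroupOf, hCmem]
    push_cast
    obtain ⟨j, hj⟩ := mem_powers_iff_mem_zpowers.mpr (hconjN v v.2 a (mem_zpowers a))
    simp only at hj
    have hit : ∀ t : ℕ, (v : G) ^ t * a * ((v : G) ^ t)⁻¹ = a ^ j ^ t := by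
      intro t
      induction t with
      | zero => simp
      | succ t ih =>
        calc (v : G) ^ (t + 1) * a * ((v : G) ^ (t + 1))⁻¹
            = (v : G) * ((v : G) ^ t * a * ((v : G) ^ t)⁻¹) * (v : G)⁻¹ := by
              rw [pow_succ']; group
          _ = a ^ j ^ (t + 1) := by rw [ih, ← conj_pow, ← hj, ← pow_mul, pow_succ']
    rw [hit]
    have hcop : j.Coprime (2 ^ m) := by
      have h1 : orderOf (a ^ j) = 2 ^ m := by
        rw [hj, ← MulAut.conj_apply, MulEquiv.orderOf_eq, ha]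
      rw [orderOf_pow a, ha] at h1
      have h2 := Nat.gcd_dvd_left (2 ^ m) j
      exact (Nat.coprime_comm).mp ((Nat.div_eq_self).mp h1 |>.resolve_left (by positivity))
    have h3 := Nat.ModEq.pow_totient hcop
    rw [Nat.totient_prime_pow Nat.prime_two (by omega), show 2 - 1 = 1 from rfl, mul_one] at h3
    rw [(pow_eq_pow_iff_modEq).mpr (ha.symm ▸ h3), pow_one]
  obtain ⟨k, hk⟩ := IsPGroup.iff_card.mp hp
  rw [← Subgroup.index_eq_card] at hk
  have hCN : C ≤ N := fun c hc => hmemN c (by rw [(hCmem c).mp hc]; exact mem_zpowers a)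
  have hdvd : 2 ^ (m + k) ∣ Nat.card G := by
    refine dvd_trans ?_ (card_subgroup_dvd_card N)
    rw [← C'.card_mul_index, hk, pow_add]
    refine mul_dvd_mul_right ?_ _
    rw [Nat.card_congr (subgroupOfEquivOfLe hCN).toEquiv, ← ha, ← Nat.card_zpowers]
    exact card_dvd_of_le (zpowers_le.mpr ((hCmem a).mpr (by group)))
  have hk1 : k ≤ 1 := by
    by_contra hk2
    exact hG (dvd_trans (pow_dvd_pow 2 (by omega)) hdvd)
  have hbN := hmemN b hb
  have huN := hmemN u hu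
  have hbC : (⟨b, hbN⟩ : N) ∉ C' := fun h => hb' ((hCmem b).mp h)
  have hk0 : k ≠ 0 := by
    rintro rfl
    exact hbC ((index_eq_one.mp (by simpa using hk) : C' = ⊤) ▸ mem_top _)
  have hidx : C'.index = 2 := by rw [hk, show k = 1 by omega, pow_one]
  by_cases huC : u ∈ C
  · exact Or.inl ((hCmem u).mp huC)
  refine Or.inr ?_
  have h := (mul_mem_iff_of_index_two hidx (a := (⟨b, hbN⟩ : N)⁻¹) (b := ⟨u, huN⟩)).mpr
    (iff_of_false (by rwa [inv_mem_iff]) huC)
  have h' := (hCmem (b⁻¹ * u)).mp h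
  calc u * a * u⁻¹ = b * (b⁻¹ * u * a * (b⁻¹ * u)⁻¹) * b⁻¹ := by group
    _ = b * a * b⁻¹ := by rw [h']

/-- sum of a root of unity with its `e`-th power: the field they generate -/
theorem add_pow_mem (F : IntermediateField ℚ ℂ) {ζ : ℂ} {e : ℕ} (hs : ζ + ζ ^ e ∈ F)
    (hp : ζ * ζ ^ e = 1 ∨ ζ * ζ ^ e = -1) : ∀ i : ℕ, ζ ^ i + (ζ ^ e) ^ i ∈ F
  | 0 => by simpa using add_mem (one_mem F) (one_mem F)
  | 1 => by simpa using hs
  | (i + 2) => by
    have h1 := add_pow_mem F hs hp i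
    have h2 := add_pow_mem F hs hp (i + 1)
    have hpm : ζ * ζ ^ e ∈ F := by
      rcases hp with h | h <;> rw [h]
      · exact one_mem F
      · exact neg_mem (one_mem F)
    have : ζ ^ (i + 2) + (ζ ^ e) ^ (i + 2) = (ζ + ζ ^ e) * (ζ ^ (i + 1) + (ζ ^ e) ^ (i + 1))
        - ζ * ζ ^ e * (ζ ^ i + (ζ ^ e) ^ i) := by ring
    rw [this]
    exact sub_mem (mul_mem hs h2) (mul_mem hpm h1)

theorem conj_root {ε : ℂ} (h : ‖ε‖ = 1) : conj ε = ε⁻¹ := (Complex.inv_eq_conj h).symm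

/-- the field of values at an element conjugate to exactly one other generator -/
theorem adjoin_values_eq {N e : ℕ} (hN : 1 < N) (he : e < N) (he1 : e ≠ 1) {ζ : ℂ}
    (hζ : IsPrimitiveRoot ζ N) (hp : ζ * ζ ^ e = 1 ∨ ζ * ζ ^ e = -1) {a : G}
    (ha : orderOf a = N) (hae : IsConj a (a ^ e))
    (honly : ∀ i < N, IsConj a (a ^ i) → i = 1 ∨ i = e) :
    adjoin ℚ {z : ℂ | ∃ χ : Cfsg.IrrCharacter G, (χ : G → ℂ) a = z} =
      adjoin ℚ ({ζ + ζ ^ e} : Set ℂ) := by
  classical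
  have : NeZero N := ⟨by omega⟩
  have := Fintype.ofFinite (Cfsg.IrrCharacter G)
  refine le_antisymm (adjoin_le_iff.mpr ?_) (adjoin_le_iff.mpr ?_)
  · rintro z ⟨χ, rfl⟩
    obtain ⟨d, ρ, hρ⟩ := IsIrr.isCharacter χ.2
    obtain ⟨ε, hε, -, hpow, -⟩ := exists_eigenvalues ρ a
    have hχ : ∀ k : ℕ, (χ : G → ℂ) (a ^ k) = ∑ i, ε i ^ k := fun k => by rw [← hρ]; exact hpow k
    choose j hj using fun i => hζ.eq_pow_of_pow_eq_one (ξ := ε i) (ha ▸ hε i)
    have h2 : (2 : ℂ) * (χ : G → ℂ) a = ∑ i, (ζ ^ j i + (ζ ^ e) ^ j i) := by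
      have h1 : (χ : G → ℂ) a = (χ : G → ℂ) (a ^ e) :=
        isClassFunction_iff_isConj.mp (IsIrr.isClassFunction χ.2) _ _ hae
      rw [two_mul]
      nth_rw 2 [h1]
      have h3 := hχ 1
      rw [pow_one] at h3
      rw [h3, hχ e, ← Finset.sum_add_distrib]
      refine Finset.sum_congr rfl fun i _ => ?_
      rw [pow_one, ← (hj i).2, ← pow_mul, ← pow_mul, Nat.mul_comm]
    rw [SetLike.mem_coe, show (χ : G → ℂ) a = (2 : ℂ)⁻¹ * (2 * (χ : G → ℂ) a) by ring, h2]
    exact mul_mem (inv_mem (_root_.natCast_mem _ 2))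
      (sum_mem fun i _ => add_pow_mem _ (mem_adjoin_simple_self ℚ _) hp (j i))
  · rw [Set.singleton_subset_iff, SetLike.mem_coe]
    set F := adjoin ℚ {z : ℂ | ∃ χ : Cfsg.IrrCharacter G, (χ : G → ℂ) a = z}
    set c : ℕ := Nat.card (centralizer ({a} : Set G)) with hc
    have hc0 : (c : ℂ) ≠ 0 := Nat.cast_ne_zero.mpr Nat.card_pos.ne'
    have hone : IsConj a (a ^ 1) := by rw [pow_one]
    have hkey : ∑ i ∈ Finset.range N, ζ ^ i *
        ∑ χ : Cfsg.IrrCharacter G, (χ : G → ℂ) a * conj ((χ : G → ℂ) (a ^ i)) =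
        (ζ + ζ ^ e) * c := by
      have : ∀ i ∈ Finset.range N, ζ ^ i *
          ∑ χ : Cfsg.IrrCharacter G, (χ : G → ℂ) a * conj ((χ : G → ℂ) (a ^ i)) =
          if i ∈ ({1, e} : Finset ℕ) then ζ ^ i * (c : ℂ) else 0 := fun i hi => by
        rw [column_orthogonality a (a ^ i)]
        by_cases hci : IsConj a (a ^ i)
        · rw [if_pos hci, if_pos (by simpa using honly i (Finset.mem_range.mp hi) hci)]
        · rw [if_neg hci, if_neg, mul_zero]
          intro h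
          rcases Finset.mem_insert.mp h with rfl | h
          · exact hci hone
          · exact hci (Finset.mem_singleton.mp h ▸ hae)
      rw [Finset.sum_congr rfl this, Finset.sum_ite_mem, Finset.inter_eq_right.mpr (by
        intro i hi; simp only [Finset.mem_insert, Finset.mem_singleton] at hi
        exact Finset.mem_range.mpr (by omega)), Finset.sum_pair (Ne.symm he1), pow_one, ← add_mul]
    have hmem : (ζ + ζ ^ e) * (c : ℂ) ∈ F := by
      rw [← hkey]
      simp only [Finset.mul_sum]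
      rw [Finset.sum_comm]
      refine sum_mem fun χ _ => ?_
      simp only [← mul_assoc, mul_comm _ ((χ : G → ℂ) a)]
      simp only [mul_assoc, ← Finset.mul_sum]
      refine mul_mem (subset_adjoin ℚ _ ⟨χ, rfl⟩) ?_
      obtain ⟨d, ρ, hρ⟩ := IsIrr.isCharacter χ.2
      obtain ⟨ε, hε, hn, hpow, -⟩ := exists_eigenvalues ρ a
      have hχ : ∀ k : ℕ, (χ : G → ℂ) (a ^ k) = ∑ i, ε i ^ k := fun k => by rw [← hρ]; exact hpow k
      simp only [hχ, map_sum, map_pow, Finset.mul_sum]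
      rw [Finset.sum_comm]
      refine sum_mem fun i _ => ?_
      simp only [conj_root (hn i), ← mul_pow]
      by_cases h : ζ * (ε i)⁻¹ = 1
      · rw [h]; simp only [one_pow, Finset.sum_const, nsmul_eq_mul, mul_one]
        exact _root_.natCast_mem _ _
      · have hεN : ε i ^ N = 1 := by rw [← ha]; exact hε i
        rw [geom_sum_eq h, mul_pow, inv_pow, hζ.pow_eq_one, hεN]
        simp
    have := mul_mem hmem (inv_mem (_root_.natCast_mem F c))
    rwa [mul_assoc, mul_inv_cancel₀ hc0, mul_one] at this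

/-- an element of a Sylow subgroup centralized by a conjugate of it is in its centre -/
theorem exists_center_orderOf_eq (P : Sylow 2 G) {a : G} {m : ℕ} (ha : orderOf a = 2 ^ m)
    (h : ¬ 2 ∣ (centralizer ({a} : Set G)).index) :
    ∃ z : P, z ∈ center P ∧ orderOf z = 2 ^ m := by
  haveI : Fact (Nat.Prime 2) := ⟨Nat.prime_two⟩
  set C := centralizer ({a} : Set G) with hC
  obtain ⟨R⟩ : Nonempty (Sylow 2 C) := inferInstance
  have hRc : Nat.card ((R : Subgroup C).map C.subtype) = 2 ^ (Nat.card G).factorization 2 := by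
    rw [card_map_of_injective C.subtype_injective, R.card_eq_multiplicity, ← C.card_mul_index,
      Nat.factorization_mul Nat.card_pos.ne' FiniteIndex.index_ne_zero, Finsupp.add_apply,
      Nat.factorization_eq_zero_of_not_dvd h, add_zero]
  set Q := Sylow.ofCard _ hRc with hQ
  have hQC : (Q : Subgroup G) ≤ C := map_subtype_le _
  have haN : a ∈ normalizer ((Q : Subgroup G) : Set G) := by
    rw [mem_normalizer_iff]
    intro x
    have hcm : ∀ y ∈ (Q : Subgroup G), a * y * a⁻¹ = y := fun y hy => by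
      rw [← mem_centralizer_singleton_iff.mp (hQC hy), mul_inv_cancel_right]
    refine ⟨fun hx => by rw [hcm x hx]; exact hx, fun hx => ?_⟩
    have := hcm _ hx
    have h2 : a * x * a⁻¹ = x := by
      calc a * x * a⁻¹ = a⁻¹ * (a * (a * x * a⁻¹) * a⁻¹) * a := by group
        _ = a⁻¹ * (a * x * a⁻¹) * a := by rw [this]
        _ = x := by group
    rwa [h2] at hx
  have haQ : a ∈ (Q : Subgroup G) := by
    have hle : zpowers a ≤ zpowers a ⊓ normalizer ((Q : Subgroup G) : Set G) :=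
      le_inf le_rfl (zpowers_le.mpr haN)
    have hz : IsPGroup 2 (zpowers a) := IsPGroup.of_card (n := m) (by rw [Nat.card_zpowers, ha])
    have heq : zpowers a ⊓ normalizer ((Q : Subgroup G) : Set G) = zpowers a ⊓ (Q : Subgroup G) :=
      hz.inf_normalizer_sylow Q
    rw [heq] at hle
    exact (hle (mem_zpowers a)).2
  refine ⟨Q.equiv P ⟨a, haQ⟩, ?_, ?_⟩
  · refine mem_center_iff.mpr fun y => ?_
    obtain ⟨y, rfl⟩ := (Q.equiv P).surjective y
    rw [← map_mul, ← map_mul]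
    exact congrArg _ (Subtype.ext (mem_centralizer_singleton_iff.mp (hQC y.2)))
  · rw [MulEquiv.orderOf_eq, ← ha]
    exact (orderOf_injective (Q : Subgroup G).subtype Subtype.val_injective ⟨a, haQ⟩).symm

/-- automorphism-invariance makes an element conjugate to its power -/
theorem isConj_pow_of_fixed {N e : ℕ} {ζ : ℂ} [NeZero N] (hζ : IsPrimitiveRoot ζ N) {g : G}
    (hg : g ^ N = 1) (σ : ℂ ≃+* ℂ) (hσ : σ ζ = ζ ^ e)
    (hfix : ∀ χ : Cfsg.IrrCharacter G, σ ((χ : G → ℂ) g) = (χ : G → ℂ) g) :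
    IsConj g (g ^ e) := by
  classical
  have := Fintype.ofFinite (Cfsg.IrrCharacter G)
  have heq : ∀ χ : Cfsg.IrrCharacter G, (χ : G → ℂ) (g ^ e) = (χ : G → ℂ) g := fun χ => by
    obtain ⟨d, ρ, hρ⟩ := IsIrr.isCharacter χ.2
    obtain ⟨ε, hε, -, hpow, -⟩ := exists_eigenvalues ρ g
    have hχ : ∀ k : ℕ, (χ : G → ℂ) (g ^ k) = ∑ i, ε i ^ k := fun k => by rw [← hρ]; exact hpow k
    have h1 := hχ 1
    rw [pow_one] at h1
    rw [← hfix χ, h1, hχ e, map_sum]
    refine Finset.sum_congr rfl fun i _ => ?_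
    obtain ⟨t, ht⟩ := orderOf_dvd_of_pow_eq_one hg
    obtain ⟨j, -, hj⟩ := hζ.eq_pow_of_pow_eq_one (ξ := ε i) (by rw [ht, pow_mul, hε i, one_pow])
    rw [pow_one, ← hj, map_pow, hσ, ← pow_mul, ← pow_mul, Nat.mul_comm]
  by_contra hne
  have h1 := column_orthogonality g (g ^ e)
  have h2 := column_orthogonality g g
  simp only [heq] at h1
  rw [if_neg hne] at h1
  rw [if_pos (IsConj.refl g), h1] at h2
  exact Nat.card_pos.ne' (Nat.cast_eq_zero.mp h2.symm)

/-- an automorphism fixing the generators fixes the field -/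
theorem fixed_of_mem_adjoin (σ : ℂ ≃+* ℂ) {S : Set ℂ} (hS : ∀ x ∈ S, σ x = x) {x : ℂ}
    (hx : x ∈ adjoin ℚ S) : σ x = x := by
  induction hx using IntermediateField.adjoin_induction with
  | mem x hx => exact hS x hx
  | algebraMap r => exact map_ratCast σ r
  | add x y _ _ hx hy => rw [map_add, hx, hy]
  | inv x _ hx => rw [map_inv₀, hx]
  | mul x y _ _ hx hy => rw [map_mul, hx, hy]

/-- the forward direction -/
theorem forward (P : Sylow 2 G) (n : ℕ) (hn : 3 ≤ n) (hP : Nat.card P = 2 ^ n) (ζ : ℂ)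
    (hζ : IsPrimitiveRoot ζ (2 ^ (n - 1))) (h4 : (commutator ↥P).index = 4) :
    ∃ g : G, g ∈ (P : Subgroup G) ∧ 2 ∣ (centralizer ({g} : Set G)).index ∧
      (adjoin ℚ {z : ℂ | ∃ χ : Cfsg.IrrCharacter G, (χ : G → ℂ) g = z} =
          adjoin ℚ ({ζ + ζ⁻¹} : Set ℂ) ∨
        adjoin ℚ {z : ℂ | ∃ χ : Cfsg.IrrCharacter G, (χ : G → ℂ) g = z} =
          adjoin ℚ ({ζ - ζ⁻¹} : Set ℂ)) := by
  haveI : Fact (Nat.Prime 2) := ⟨Nat.prime_two⟩
  have hnc : ¬ ∀ x y : P, x * y = y * x := fun hc => by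
    have hbot : commutator ↥P = ⊥ := by
      rw [_root_.commutator_def, eq_bot_iff, commutator_le]
      exact fun x _ y _ => mem_bot.mpr (commutatorElement_eq_one_iff_mul_comm.mpr (hc x y))
    rw [hbot, index_bot] at h4
    have hP' : Nat.card ↥P = 2 ^ n := hP
    rw [hP'] at h4
    have : 2 ^ 3 ≤ 2 ^ n := Nat.pow_le_pow_right (by norm_num) hn
    omega
  have hK := CfsgLib.Transfer.klein_of_card_four
    (by rw [← index_eq_card]; exact h4) (not_cyclic_quotient P.isPGroup' hnc)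
  obtain ⟨a, b, ha, hb, hact, -⟩ := CfsgLib.Transfer.shape_of_klein n P hn hP hK
  have hcen := CfsgLib.Transfer.center_eq hn hP ha hb hact
  have hd : 2 ^ (n - 2) * 2 = 2 ^ (n - 1) := by rw [← pow_succ]; congr 1; omega
  have h2le : 2 ≤ 2 ^ (n - 2) := Nat.le_self_pow (by omega) 2
  have haG : orderOf (a : G) = 2 ^ (n - 1) := by
    rw [← ha]; exact orderOf_injective (P : Subgroup G).subtype Subtype.val_injective a
  have hzN : ζ ^ 2 ^ (n - 1) = 1 := hζ.pow_eq_one
  have hz0 : ζ ≠ 0 := hζ.ne_zero (by positivity)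
  have hw : ζ ^ 2 ^ (n - 2) = -1 := by
    exact (hζ.pow (Nat.two_pow_pos _) hd.symm).eq_neg_one_of_two_right
  obtain ⟨e, hee, helt, he1, hse⟩ : ∃ e : ℕ, b * a * b⁻¹ = a ^ e ∧ e < 2 ^ (n - 1) ∧ e ≠ 1 ∧
      (ζ * ζ ^ e = 1 ∧ ζ + ζ ^ e = ζ + ζ⁻¹ ∨ ζ * ζ ^ e = -1 ∧ ζ + ζ ^ e = ζ - ζ⁻¹) := by
    rcases hact with h | ⟨hn4, h⟩
    · refine ⟨2 ^ (n - 1) - 1, ?_, by omega, by omega, Or.inl ⟨?_, ?_⟩⟩
      · rw [h, pow_sub a (by omega), ← ha, pow_orderOf_eq_one, one_mul, pow_one]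
      · rw [← pow_succ', Nat.sub_add_cancel (by omega), hzN]
      · rw [pow_sub₀ ζ hz0 (by omega), hzN, one_mul, pow_one]
    · have h4le : 4 ≤ 2 ^ (n - 2) := by
        have : 2 ^ 2 ≤ 2 ^ (n - 2) := Nat.pow_le_pow_right (by norm_num) (by omega)
        omega
      refine ⟨2 ^ (n - 2) - 1, ?_, by omega, by omega, Or.inr ⟨?_, ?_⟩⟩
      · rw [h, pow_sub a (by omega), pow_one]
      · rw [← pow_succ', Nat.sub_add_cancel (by omega), hw]
      · rw [pow_sub₀ ζ hz0 (by omega), hw, pow_one]; ring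
  have hne : (b : G) * a * (b : G)⁻¹ ≠ (a : G) := fun h =>
    CfsgLib.Transfer.not_commute hn ha hact (Subtype.ext (by push_cast; exact h))
  have hbe : (b : G) * a * (b : G)⁻¹ = (a : G) ^ e := by exact_mod_cast congrArg Subtype.val hee
  have hG : ¬ 2 ^ (n - 1 + 2) ∣ Nat.card G := fun h => by
    have h1 := (Nat.prime_two.pow_dvd_iff_le_factorization Nat.card_pos.ne').mp h
    have h2 := P.card_eq_multiplicity
    rw [hP] at h2
    have := Nat.pow_right_injective le_rfl h2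
    omega
  refine ⟨a, a.2, ?_, ?_⟩
  · by_contra hodd
    obtain ⟨z, hz, hzo⟩ := exists_center_orderOf_eq P haG hodd
    rw [hcen] at hz
    obtain ⟨i, rfl⟩ := mem_zpowers_iff.mp hz
    have : orderOf ((a ^ 2 ^ (n - 2)) ^ i) ∣ 2 :=
      (orderOf_dvd_of_mem_zpowers (zpow_mem_zpowers _ i)).trans
        (orderOf_dvd_of_pow_eq_one (CfsgLib.Transfer.w_sq (by omega) ha))
    rw [hzo] at this
    have := Nat.le_of_dvd (by norm_num) this
    omega
  have honly : ∀ i < 2 ^ (n - 1), IsConj (a : G) ((a : G) ^ i) → i = 1 ∨ i = e := fun i hi hc => by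
    obtain ⟨u, hu⟩ := isConj_iff.mp hc
    have := conj_pow_cases (by omega) haG hG (hbe ▸ pow_mem (mem_zpowers _) e) hne
      (hu ▸ pow_mem (mem_zpowers _) i)
    rw [hu, hbe] at this
    refine this.imp (fun h => ?_) (fun h => ?_)
    · exact pow_injOn_Iio_orderOf (x := (a : G)) (by rw [haG]; exact hi)
        (by rw [haG]; exact (by omega : 1 < 2 ^ (n - 1))) (by simpa using h)
    · exact pow_injOn_Iio_orderOf (x := (a : G)) (by rw [haG]; exact hi)
        (by rw [haG]; exact helt) h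
  have heq := adjoin_values_eq (by omega) helt he1 hζ (hse.imp And.left And.left) haG
    (isConj_iff.mpr ⟨b, hbe⟩) honly
  rcases hse with ⟨-, h⟩ | ⟨-, h⟩
  · exact Or.inl (h ▸ heq)
  · exact Or.inr (h ▸ heq)

/-- the backward direction -/
theorem backward (P : Sylow 2 G) (n : ℕ) (hn : 3 ≤ n) (hP : Nat.card P = 2 ^ n) (ζ : ℂ)
    (hζ : IsPrimitiveRoot ζ (2 ^ (n - 1))) {g : G} (hg : g ∈ (P : Subgroup G))
    (heven : 2 ∣ (centralizer ({g} : Set G)).index)
    (hF : adjoin ℚ {z : ℂ | ∃ χ : Cfsg.IrrCharacter G, (χ : G → ℂ) g = z} =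
          adjoin ℚ ({ζ + ζ⁻¹} : Set ℂ) ∨
        adjoin ℚ {z : ℂ | ∃ χ : Cfsg.IrrCharacter G, (χ : G → ℂ) g = z} =
          adjoin ℚ ({ζ - ζ⁻¹} : Set ℂ)) : (commutator ↥P).index = 4 := by
  haveI : Fact (Nat.Prime 2) := ⟨Nat.prime_two⟩
  have hnotle : ¬ (P : Subgroup G) ≤ centralizer ({g} : Set G) := fun h =>
    P.not_dvd_index' FiniteIndex.index_ne_zero (heven.trans (index_dvd_of_le h))
  have hnc : ¬ ∀ x y : P, x * y = y * x := fun hc => hnotle fun x hx =>
    mem_centralizer_singleton_iff.mpr (congrArg Subtype.val (hc ⟨x, hx⟩ ⟨g, hg⟩))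
  refine le_antisymm ?_ (four_le_index P.isPGroup' hnc)
  suffices hbig : 2 ^ (n - 2) ≤ Nat.card (commutator ↥P) by
    have h1 := (commutator ↥P).card_mul_index
    have hP' : Nat.card ↥P = 2 ^ n := hP
    rw [hP', show 2 ^ n = 2 ^ (n - 2) * 4 by
      rw [show (4 : ℕ) = 2 ^ 2 by norm_num, ← pow_add]; congr 1; omega] at h1
    refine Nat.le_of_mul_le_mul_left ?_ (Nat.two_pow_pos (n - 2))
    rw [← h1]
    exact Nat.mul_le_mul_right _ hbig
  rcases eq_or_lt_of_le hn with rfl | hn4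
  · by_contra hlt
    have h1 : Nat.card (commutator ↥P) = 1 := by
      have := Nat.card_pos (α := commutator ↥P)
      norm_num at hlt
      omega
    have hbot := card_eq_one.mp h1
    exact hnc fun x y => commutatorElement_eq_one_iff_mul_comm.mp (mem_bot.mp
      (hbot ▸ commutator_mem_commutator (mem_top x) (mem_top y)))
  set N := 2 ^ (n - 1) with hNdef
  set M := 2 ^ (n - 2) with hMdef
  have hd : M * 2 = N := by rw [hMdef, hNdef, ← pow_succ]; congr 1; omega
  have hM4 : 4 ∣ M := by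
    rw [hMdef, show (4 : ℕ) = 2 ^ 2 by norm_num]; exact pow_dvd_pow 2 (by omega)
  have hMpos : 0 < M := Nat.two_pow_pos _
  haveI : NeZero N := ⟨(Nat.two_pow_pos _).ne'⟩
  have hzN : ζ ^ N = 1 := hζ.pow_eq_one
  have hz0 : ζ ≠ 0 := hζ.ne_zero (by omega)
  have hw : ζ ^ M = -1 := (hζ.pow (Nat.two_pow_pos _) hd.symm).eq_neg_one_of_two_right
  obtain ⟨e, helt, he4, hek, hFe⟩ : ∃ e : ℕ, e < N ∧ (e + 1) % 4 = 0 ∧
      (ζ ^ e) ^ e = ζ ∧ adjoin ℚ {z : ℂ | ∃ χ : Cfsg.IrrCharacter G, (χ : G → ℂ) g = z} =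
          adjoin ℚ ({ζ + ζ ^ e} : Set ℂ) := by
    rcases hF with hF | hF
    · have he : ζ ^ (N - 1) = ζ⁻¹ := by
        rw [pow_sub₀ ζ hz0 (by omega), hzN, one_mul, pow_one]
      refine ⟨N - 1, by omega, by omega, ?_, ?_⟩
      · rw [he, inv_pow, he, inv_inv]
      · rw [he]; exact hF
    · have he : ζ ^ (M - 1) = -ζ⁻¹ := by
        rw [pow_sub₀ ζ hz0 (by omega), hw, pow_one]; ring
      refine ⟨M - 1, by omega, by omega, ?_, ?_⟩
      · rw [he, Odd.neg_pow (Nat.odd_iff.mpr (by omega)), inv_pow, he, inv_neg, inv_inv, neg_neg]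
      · rw [he, ← sub_eq_add_neg]; exact hF
  have hs0 : ζ + ζ ^ e ≠ 0 := fun h => by
    have h1 : ζ ^ e = ζ ^ (M + 1) := by rw [pow_succ, hw]; linear_combination h
    have h2 := hζ.pow_inj (i := e) (j := M + 1) helt (by omega) h1
    omega
  have hfixF : ∀ σ : ℂ ≃+* ℂ, ∀ χ : Cfsg.IrrCharacter G, σ (ζ + ζ ^ e) = ζ + ζ ^ e →
      σ ((χ : G → ℂ) g) = (χ : G → ℂ) g := fun σ χ h =>
    fixed_of_mem_adjoin σ (S := {ζ + ζ ^ e}) (by simp [h]) (hFe ▸ subset_adjoin ℚ _ ⟨χ, rfl⟩)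
  obtain ⟨m, hmn, hm⟩ := (Nat.dvd_prime_pow Nat.prime_two).mp
    (hP ▸ (orderOf_dvd_natCard (⟨g, hg⟩ : P)) : orderOf (⟨g, hg⟩ : P) ∣ 2 ^ n)
  have hmG : orderOf g = 2 ^ m := by
    rw [← hm]; exact orderOf_injective (P : Subgroup G).subtype Subtype.val_injective ⟨g, hg⟩
  have hmn1 : m ≠ n := by
    rintro rfl
    haveI : IsCyclic P := isCyclic_of_orderOf_eq_card ⟨g, hg⟩ (by rw [hm, hP])
    exact hnc fun x y => (IsCyclic.commGroup (α := P)).mul_comm x y
  have hm1 : m = n - 1 := by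
    by_contra hne
    have hgM : g ^ M = 1 := orderOf_dvd_iff_pow_eq_one.mp (hmG ▸ pow_dvd_pow 2 (by omega))
    obtain ⟨σ, hσ⟩ := CfsgLib.ComplexAut.exists_aut (by omega : N ≠ 0) hζ (k := M + 1)
      (by
        rw [hNdef]
        refine Nat.Coprime.pow_right _ ?_
        rw [Nat.coprime_two_right, Nat.odd_iff]
        omega)
    rw [pow_succ, hw, neg_one_mul] at hσ
    have hall : ∀ χ : Cfsg.IrrCharacter G, σ ((χ : G → ℂ) g) = (χ : G → ℂ) g := fun χ => by
      obtain ⟨d, ρ, hρ⟩ := IsIrr.isCharacter χ.2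
      obtain ⟨ε, hε, -, hpow, -⟩ := exists_eigenvalues ρ g
      have h1 : (χ : G → ℂ) g = ∑ i, ε i := by
        have := hpow 1; simp only [pow_one] at this; rw [← hρ]; exact this
      rw [h1, map_sum]
      refine Finset.sum_congr rfl fun i _ => ?_
      obtain ⟨t, ht⟩ := orderOf_dvd_of_pow_eq_one hgM
      have hεM : ε i ^ M = 1 := by rw [ht, pow_mul, hε i, one_pow]
      have hζ2 : IsPrimitiveRoot (ζ ^ 2) M := hζ.pow (by omega) (by omega)
      haveI : NeZero M := ⟨by omega⟩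
      obtain ⟨j, -, hj⟩ := hζ2.eq_pow_of_pow_eq_one hεM
      rw [← hj, map_pow, map_pow, hσ, neg_sq]
    have hfix : σ (ζ + ζ ^ e) = ζ + ζ ^ e :=
      fixed_of_mem_adjoin σ (S := {z : ℂ | ∃ χ : Cfsg.IrrCharacter G, (χ : G → ℂ) g = z})
        (fun x hx => by obtain ⟨χ, rfl⟩ := hx; exact hall χ)
        (hFe.symm ▸ mem_adjoin_simple_self ℚ _)
    rw [map_add, map_pow, hσ, Odd.neg_pow (Nat.odd_iff.mpr (by omega))] at hfix
    exact hs0 (by linear_combination -hfix / 2)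
  subst hm1
  have hgN : g ^ N = 1 := by rw [hNdef, ← hmG]; exact pow_orderOf_eq_one g
  obtain ⟨σ, hσ⟩ := CfsgLib.ComplexAut.exists_aut (by omega : N ≠ 0) hζ (k := e)
    (by
      rw [hNdef]
      refine Nat.Coprime.pow_right _ ?_
      rw [Nat.coprime_two_right, Nat.odd_iff]
      omega)
  have hge : IsConj g (g ^ e) := isConj_pow_of_fixed hζ hgN σ hσ fun χ =>
    hfixF σ χ (by rw [map_add, map_pow, hσ, hek, add_comm])
  obtain ⟨x, hxP, hx⟩ := SetLike.not_le_iff_exists.mp hnotle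
  have hxg : x * g * x⁻¹ ≠ g := fun h =>
    hx (mem_centralizer_singleton_iff.mpr (mul_inv_eq_iff_eq_mul.mp h))
  have hidx : (zpowers (⟨g, hg⟩ : P)).index = 2 :=
    CfsgLib.Transfer.index_zpowers_two (by omega) hP hm
  haveI := normal_of_index_eq_two hidx
  have hxz : x * g * x⁻¹ ∈ zpowers g := by
    obtain ⟨i, hi⟩ := mem_zpowers_iff.mp
      (Normal.conj_mem inferInstance (⟨g, hg⟩ : P) (mem_zpowers _) ⟨x, hxP⟩ :
        (⟨x, hxP⟩ : P) * ⟨g, hg⟩ * ⟨x, hxP⟩⁻¹ ∈ zpowers (⟨g, hg⟩ : P))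
    exact mem_zpowers_iff.mpr ⟨i, by simpa using congrArg Subtype.val hi⟩
  obtain ⟨u, hu⟩ := isConj_iff.mp hge
  have hG : ¬ 2 ^ (n - 1 + 2) ∣ Nat.card G := fun h => by
    have h1 := (Nat.prime_two.pow_dvd_iff_le_factorization Nat.card_pos.ne').mp h
    have h2 := P.card_eq_multiplicity
    rw [hP] at h2
    have := Nat.pow_right_injective le_rfl h2
    omega
  have hxe : x * g * x⁻¹ = g ^ e := by
    rcases conj_pow_cases (by omega) hmG hG hxz hxg
      (hu ▸ pow_mem (mem_zpowers g) e) with h | h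
    · rw [hu] at h
      have : e = 1 := pow_injOn_Iio_orderOf (x := g) (by rw [hmG]; exact helt)
        (by rw [hmG]; exact (by omega : 1 < N)) (by simpa using h)
      omega
    · rw [← h, hu]
  have hmem : (⟨g, hg⟩ : P) ^ (e - 1) ∈ commutator ↥P := by
    have h : (⟨g, hg⟩ : P) ^ (e - 1) = (⟨x, hxP⟩ : P) * ⟨g, hg⟩ * ⟨x, hxP⟩⁻¹ * ⟨g, hg⟩⁻¹ := by
      refine Subtype.ext ?_
      push_cast
      rw [hxe, pow_sub g (by omega), pow_one]
    rw [h, ← commutatorElement_def]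
    exact commutator_mem_commutator (mem_top _) (mem_top _)
  refine le_trans ?_ (Nat.le_of_dvd Nat.card_pos (card_dvd_of_le (zpowers_le.mpr hmem)))
  rw [Nat.card_zpowers, orderOf_pow (⟨g, hg⟩ : P), hm]
  have hgcd : N.gcd (e - 1) ∣ 2 := by
    obtain ⟨t, ht, ht2⟩ : ∃ t, e - 1 = 2 * t ∧ t % 2 = 1 := ⟨(e - 1) / 2, by omega, by omega⟩
    have hc : N.Coprime t := by
      rw [hNdef]
      exact Nat.Coprime.pow_left _ ((Nat.coprime_two_left).mpr (Nat.odd_iff.mpr ht2))
    rw [ht]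
    rw [Nat.Coprime.gcd_mul_right_cancel_right 2 hc.symm]
    exact Nat.gcd_dvd_right _ _
  refine le_trans (le_of_eq ?_) (Nat.div_le_div_left (Nat.le_of_dvd (by norm_num) hgcd)
    (Nat.gcd_pos_of_pos_left _ (by omega)))
  omega

/-- Let G be a finite group with Sylow 2-subgroup P of order 2^n ≥ 8, and let ζ be a primitive 2^(n−1)-th root of unity in ℂ. Then the commutator subgroup of P has index 4 in P if and only if there is an element g of P whose conjugacy class in G has even size and such that the field generated over ℚ by the values at g of all irreducible complex characters of G equals ℚ(ζ + ζ⁻¹) or ℚ(ζ − ζ⁻¹). -/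
theorem result {G : Type*} [Group G] [Finite G] (P : Sylow 2 G) (n : ℕ) (hn : 3 ≤ n) (hP : Nat.card P = 2 ^ n) (ζ : ℂ) (hζ : IsPrimitiveRoot ζ (2 ^ (n - 1))) :
    (commutator ↥P).index = 4 ↔
      ∃ g : G, g ∈ (P : Subgroup G) ∧ 2 ∣ (Subgroup.centralizer ({g} : Set G)).index ∧
        (IntermediateField.adjoin ℚ {z : ℂ | ∃ χ : Cfsg.IrrCharacter G, (χ : G → ℂ) g = z} = IntermediateField.adjoin ℚ ({ζ + ζ⁻¹} : Set ℂ) ∨
          IntermediateField.adjoin ℚ {z : ℂ | ∃ χ : Cfsg.IrrCharacter G, (χ : G → ℂ) g = z} = IntermediateField.adjoin ℚ ({ζ - ζ⁻¹} : Set ℂ)) := by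
  exact ⟨forward P n hn hP ζ hζ, fun ⟨g, hg, heven, hF⟩ => backward P n hn hP ζ hζ hg heven hF⟩

end Cfsg.Agent.S4923
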