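import Cfsg.Statements.S4931
import Cfsg.Agent.Lib.CharDegree.SylowNormalizerExtend

set_option autoImplicit false
open Cfsg

namespace Cfsg.Agent.S4931

/-- Let G be a finite group, p a prime and P a Sylow p-subgroup of G with normalizer N. Then every irreducible complex character of N of degree not divisible by p is the restriction of an irreducible character of G if and only if there is a normal subgroup K of G with KN = G and K ∩ N = 1. -/
theorem result {G : Type*} [Group G] [Finite G] (p : ℕ) [Fact p.Prime] (P : Sylow p G) :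
    (∀ θ : Cfsg.IrrCharacter ↥(Subgroup.normalizer ((P : Subgroup G) : Set G)), ¬ p ∣ Cfsg.charDegree (θ : ↥(Subgroup.normalizer ((P : Subgroup G) : Set G)) → ℂ) →
        ∃ χ : Cfsg.IrrCharacter G, ∀ x : ↥(Subgroup.normalizer ((P : Subgroup G) : Set G)), (χ : G → ℂ) x = (θ : ↥(Subgroup.normalizer ((P : Subgroup G) : Set G)) → ℂ) x) ↔
      ∃ K : Subgroup G, K.Normal ∧ K ⊔ Subgroup.normalizer ((P : Subgroup G) : Set G) = ⊤ ∧ K ⊓ Subgroup.normalizer ((P : Subgroup G) : Set G) = ⊥ := by
  constructor
  · exact CfsgLib.SylowNormalizerExtend.exists_normal_complement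
  · rintro ⟨K, hK, hsup, hinf⟩ θ -
    set j := (QuotientGroup.mk' K).comp (Subgroup.normalizer ((P : Subgroup G) : Set G)).subtype with hj
    have hinj : Function.Injective j := (injective_iff_map_eq_one j).2 fun x hx => Subtype.ext
      (Subgroup.mem_bot.1 (hinf ▸ ⟨(QuotientGroup.eq_one_iff _).1 hx, x.2⟩))
    have hsur : Function.Surjective j := by
      intro q
      obtain ⟨g, rfl⟩ := QuotientGroup.mk'_surjective K q
      have hg : g ∈ ((K ⊔ Subgroup.normalizer ((P : Subgroup G) : Set G) : Subgroup G) : Set G) := by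
        rw [hsup]; trivial
      rw [Subgroup.normal_mul] at hg
      obtain ⟨k, hk, n, hn, rfl⟩ := Set.mem_mul.1 hg
      refine ⟨⟨n, hn⟩, ?_⟩
      rw [map_mul, show QuotientGroup.mk' K k = 1 from (QuotientGroup.eq_one_iff k).2 hk, one_mul]
      rfl
    obtain ⟨f, hfs, hf⟩ : ∃ f : G →* ↥(Subgroup.normalizer ((P : Subgroup G) : Set G)),
        Function.Surjective f ∧ ∀ x : ↥(Subgroup.normalizer ((P : Subgroup G) : Set G)), f x = x := by
      refine ⟨(MulEquiv.ofBijective j ⟨hinj, hsur⟩).symm.toMonoidHom.comp (QuotientGroup.mk' K),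
        (MulEquiv.ofBijective j ⟨hinj, hsur⟩).symm.surjective.comp (QuotientGroup.mk'_surjective K),
        fun x => ?_⟩
      exact (MulEquiv.ofBijective j ⟨hinj, hsur⟩).symm_apply_apply x
    exact ⟨⟨_, CfsgLib.Char.IsIrr.comp_surjective f hfs θ.2⟩, fun x => congrArg _ (hf x)⟩

end Cfsg.Agent.S4931
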