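import Cfsg.Statements.S4937
import Cfsg.Agent.Lib.Blocks.CanonicalExtension
import Cfsg.Agent.Lib.Char.Central
import Cfsg.Agent.Lib.CharDegree.Twist
-- import your own Cfsg.Agent.* helpers here

set_option autoImplicit false
open Cfsg

namespace Cfsg.Agent.S4937

open CfsgLib.Blocks CfsgLib.Char
open scoped ComplexConjugate

variable {G : Type*} [Group G] (N : Subgroup G)

/-- A family of elements stable under conjugation by `N`. -/
def Inv {ι : Type*} (f : ι → G) : Prop :=
  ∀ m : N, ∃ σ : Equiv.Perm ι, ∀ i, f (σ i) = m * f i * (m : G)⁻¹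

/-- The value of the central character of `χ` at a family. -/
noncomputable def W (χ : G → ℂ) {ι : Type*} [Fintype ι] (f : ι → G) : ℂ := ∑ i, χ (f i) / χ 1

variable {N}

theorem Inv.mul {ι κ : Type*} {f : ι → G} {g : κ → G} (hf : Inv N f) (hg : Inv N g) :
    Inv N fun i : ι × κ => f i.1 * g i.2 := fun m => by
  obtain ⟨σ, hσ⟩ := hf m
  obtain ⟨τ, hτ⟩ := hg m
  exact ⟨σ.prodCongr τ, fun i => by
    show f (σ i.1) * g (τ i.2) = _
    rw [hσ, hτ]; group⟩

theorem Inv.of_finset {S : Finset G} (h : ∀ m : N, ∀ x ∈ S, (m : G) * x * (m : G)⁻¹ ∈ S) :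
    Inv N fun x : S => (x : G) := fun m => by
  refine ⟨⟨fun x => ⟨_, h m x x.2⟩, fun x => ⟨_, h m⁻¹ x x.2⟩, fun x => Subtype.ext ?_,
    fun x => Subtype.ext ?_⟩, fun x => rfl⟩
  · show ((m⁻¹ : N) : G) * ((m : G) * x * (m : G)⁻¹) * ((m⁻¹ : N) : G)⁻¹ = x
    rw [Subgroup.coe_inv]; group
  · show (m : G) * (((m⁻¹ : N) : G) * x * ((m⁻¹ : N) : G)⁻¹) * (m : G)⁻¹ = x
    rw [Subgroup.coe_inv]; group

theorem W_finset (χ : G → ℂ) (S : Finset G) : W χ (fun x : S => (x : G)) = ∑ x ∈ S, χ x / χ 1 :=
  Finset.sum_coe_sort S fun x => χ x / χ 1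

/-- The restriction of a representation to `N`. -/
abbrev res (N : Subgroup G) {k : ℕ} (ρ : Representation ℂ G (Fin k → ℂ)) :
    Representation ℂ N (Fin k → ℂ) := ρ.comp N.subtype

variable [Finite G] {k : ℕ} {ρ : Representation ℂ G (Fin k → ℂ)}
  (hσ : (res N ρ).IsIrreducible)
include hσ

/-- A stable family acts as a scalar. -/
theorem sum_eq_scalar {ι : Type*} [Fintype ι] {f : ι → G} (hf : Inv N f) :
    ∑ i, ρ (f i) = W ρ.character f • LinearMap.id := by
  have := hσ
  obtain ⟨c, hc⟩ := CfsgLib.CharIntegral.exists_scalar_of_commute (res N ρ) (∑ i, ρ (f i)) fun m => by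
    obtain ⟨τ, hτ⟩ := hf m
    show (∑ i, ρ (f i)) * ρ (m : G) = ρ (m : G) * ∑ i, ρ (f i)
    rw [Finset.sum_mul, Finset.mul_sum, ← Equiv.sum_comp τ fun i => ρ (f i) * ρ (m : G)]
    refine Finset.sum_congr rfl fun i _ => ?_
    rw [hτ, ← map_mul, ← map_mul, inv_mul_cancel_right]
  have htr := congrArg (LinearMap.trace ℂ (Fin k → ℂ)) hc
  rw [map_sum, map_smul, LinearMap.trace_id, smul_eq_mul] at htr
  rw [hc, W, ← Finset.sum_div, Representation.char_one]
  congr 1
  rw [eq_div_iff (CfsgLib.CharIntegral.finrank_cast_ne_zero (res N ρ))]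
  exact htr.symm

theorem W_integral {ι : Type*} [Fintype ι] {f : ι → G} (hf : Inv N f) :
    IsIntegral ℤ (W ρ.character f) := by
  have : ρ.IsIrreducible := CfsgLib.CharExt.isIrreducible_of_restrict ρ N.subtype (res N ρ) (fun _ => rfl)
  refine CfsgLib.CharIntegral.isIntegral_of_scalar_mem ρ (∑ i, MonoidAlgebra.of ℤ G (f i)) ?_
  rw [map_sum, Finset.sum_congr rfl fun i _ => MonoidAlgebra.lift_of (A := Module.End ℂ (Fin k → ℂ)) ρ (f i)]
  exact sum_eq_scalar hσ hf

theorem W_mul {ι κ : Type*} [Fintype ι] [Fintype κ] {f : ι → G} {g : κ → G} (hf : Inv N f)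
    (hg : Inv N g) :
    W ρ.character (fun i : ι × κ => f i.1 * g i.2) = W ρ.character f * W ρ.character g := by
  have h := sum_eq_scalar hσ (hf.mul hg)
  rw [Fintype.sum_prod_type] at h
  simp only [map_mul] at h
  rw [← Finset.sum_mul_sum, sum_eq_scalar hσ hf, sum_eq_scalar hσ hg, smul_mul_assoc, mul_smul_comm,
    smul_smul] at h
  have := hσ
  have : Nontrivial (Fin k → ℂ) := CfsgLib.CharIntegral.nontrivial_of_irreducible (res N ρ)
  have h1 : (LinearMap.id : Module.End ℂ (Fin k → ℂ)) * LinearMap.id = LinearMap.id := one_mul 1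
  rw [h1] at h
  have htr := congrArg (LinearMap.trace ℂ (Fin k → ℂ)) h
  rw [map_smul, map_smul, LinearMap.trace_id, smul_eq_mul, smul_eq_mul] at htr
  exact (mul_right_cancel₀ (CfsgLib.CharIntegral.finrank_cast_ne_zero (res N ρ)) htr).symm

omit hσ

variable {p : ℕ} [Fact p.Prime] {M : Ideal AlgInt} [M.IsPrime] (hM : IsPModular p M)
include hM

omit [Finite G] [Fact p.Prime] hM in
/-- Stable families inside `N`: the central character is the number of terms. -/
theorem W_inside [Fintype N] {ι : Type*} [Fintype ι] {θ : IrrCharacter N}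
    (hθ : θ ∈ principalBlock M N) {f : ι → G} (hf : Inv N f) (hN : ∀ i, f i ∈ N) {χ : G → ℂ}
    (hres : ∀ n : N, χ n = (θ : N → ℂ) n) :
    rv M (W χ f) = (Fintype.card ι : Res M) := by
  classical
  have := Fintype.ofFinite (ConjClasses N)
  let F : ι → N := fun i => ⟨f i, hN i⟩
  have h1 : χ 1 = (θ : N → ℂ) 1 := by rw [← hres, Subgroup.coe_one]
  have hd0 := IsIrr.apply_one_ne_zero θ.2
  -- the fibres over conjugate elements have the same size
  have hfib : ∀ a b : N, IsConj a b →
      (Finset.univ.filter fun i => F i = a).card = (Finset.univ.filter fun i => F i = b).card := by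
    intro a b hab
    obtain ⟨m, hm⟩ := isConj_iff.mp hab
    obtain ⟨σ, hσ⟩ := hf m
    refine Finset.card_equiv σ fun i => ?_
    simp only [Finset.mem_filter, Finset.mem_univ, true_and]
    rw [← hm, Subtype.ext_iff, Subtype.ext_iff]
    show f i = (a : G) ↔ f (σ i) = (m : G) * a * (m : G)⁻¹
    rw [hσ]
    exact ⟨fun h => by rw [h], fun h => mul_left_cancel (mul_right_cancel h)⟩
  have key : ∀ C : ConjClasses N,
      ∑ i ∈ Finset.univ.filter (fun i => ConjClasses.mk (F i) = C), χ (f i) / χ 1 =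
          ((Finset.univ.filter fun i => F i = Quotient.out C).card : ℂ) *
            centralChar (θ : N → ℂ) (Quotient.out C) ∧
        (Finset.univ.filter fun i => ConjClasses.mk (F i) = C).card =
          (Finset.univ.filter fun i => F i = Quotient.out C).card *
            (Subgroup.centralizer ({Quotient.out C} : Set N)).index := by
    intro C
    set c := Quotient.out C
    have hc : ConjClasses.mk c = C := Quotient.out_eq C
    have hcard : (Finset.univ.filter fun i => ConjClasses.mk (F i) = C).card =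
        (Finset.univ.filter fun i => F i = c).card * (Subgroup.centralizer ({c} : Set N)).index := by
      rw [Finset.card_eq_sum_card_fiberwise (f := F)
        (t := CfsgLib.CharIntegral.classFinset c) fun i hi => by
          rw [Finset.mem_coe, CfsgLib.CharIntegral.mem_classFinset, ← ConjClasses.mk_eq_mk_iff_isConj, hc]
          exact (Finset.mem_filter.mp hi).2.symm,
        Finset.sum_congr rfl (g := fun _ => (Finset.univ.filter fun i => F i = c).card) fun b hb => by
          rw [Finset.filter_filter, ← hfib b c ((CfsgLib.CharIntegral.mem_classFinset.mp hb).symm)]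
          refine congrArg _ (Finset.filter_congr fun i _ => ⟨fun h => h.2, fun h => ⟨?_, h⟩⟩)
          rw [h, ← hc]
          exact ConjClasses.mk_eq_mk_iff_isConj.mpr (CfsgLib.CharIntegral.mem_classFinset.mp hb).symm,
        Finset.sum_const, CfsgLib.CharIntegral.card_classFinset, smul_eq_mul, mul_comm]
    refine ⟨?_, hcard⟩
    rw [Finset.sum_congr rfl (g := fun _ => (θ : N → ℂ) c / (θ : N → ℂ) 1) fun i hi => by
      rw [h1, show f i = ((F i : N) : G) from rfl, hres]
      congr 1
      exact isClassFunction_iff_isConj.mp (IsIrr.isClassFunction θ.2) _ _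
        (ConjClasses.mk_eq_mk_iff_isConj.mp ((Finset.mem_filter.mp hi).2.trans hc.symm)),
      Finset.sum_const, hcard, nsmul_eq_mul, centralChar, Nat.cast_mul]
    ring
  have hint : ∀ C : ConjClasses N, centralChar (θ : N → ℂ) (Quotient.out C) ∈ localRing M :=
    fun C => mem_localRing_of_isIntegral (isIntegral_centralChar θ _)
  rw [W, ← Finset.sum_fiberwise Finset.univ (fun i => ConjClasses.mk (F i)),
    Finset.sum_congr rfl fun C _ => (key C).1,
    rv_sum _ _ fun C _ => mul_mem (natCast_mem _ _) (hint C), ← Finset.card_univ,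
    Finset.card_eq_sum_card_fiberwise (f := fun i => ConjClasses.mk (F i)) (t := Finset.univ)
      fun _ _ => Finset.mem_coe.mpr (Finset.mem_univ _), Nat.cast_sum]
  refine Finset.sum_congr rfl fun C _ => ?_
  rw [rv_mul (natCast_mem _ _) (hint C), rv_natCast, (key C).2, Nat.cast_mul]
  congr 1
  have hs : SameBlock M (trivChar N : N → ℂ) (θ : N → ℂ) := hθ
  rw [← centralCharBar_trivChar (M := M), sameBlock_iff.mp hs, centralCharBar, ← rv_coe]
  rfl

omit hM

omit [Fact p.Prime] in
theorem rv_pow {z : ℂ} (hz : z ∈ localRing M) (j : ℕ) : rv M (z ^ j) = rv M z ^ j := by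
  induction j with
  | zero => simpa using rv_natCast (M := M) 1
  | succ j ih => rw [pow_succ, pow_succ, rv_mul (pow_mem hz j) hz, ih]

/-- The orbit of an element under conjugation by `N`. -/
noncomputable def orb (N : Subgroup G) [Fintype N] (x : G) : Finset G :=
  letI := Classical.decEq G
  Finset.univ.image fun n : N => (n : G) * x * (n : G)⁻¹

theorem mem_orb [Fintype N] {x y : G} : y ∈ orb N x ↔ ∃ n : N, (n : G) * x * (n : G)⁻¹ = y := by
  classical
  simp [orb]

theorem orb_inv [Fintype N] (x : G) : Inv N fun y : orb N x => (y : G) := Inv.of_finset fun m y hy => by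
  obtain ⟨n, rfl⟩ := mem_orb.mp hy
  exact mem_orb.mpr ⟨m * n, by rw [Subgroup.coe_mul]; group⟩

theorem mk_orb [N.Normal] [Fintype N] {x y : G} (hy : y ∈ orb N x) :
    QuotientGroup.mk' N y = QuotientGroup.mk' N x := by
  obtain ⟨n, rfl⟩ := mem_orb.mp hy
  simp only [map_mul, map_inv, QuotientGroup.mk'_apply, (QuotientGroup.eq_one_iff (n : G)).mpr n.2,
    one_mul, inv_one, mul_one]

theorem not_dvd_card_orb [Fintype N] (P : Sylow p N) {x : G}
    (hx : x ∈ Subgroup.centralizer (CfsgLib.CanonExt.img P : Set G)) : ¬ p ∣ (orb N x).card := by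
  classical
  set S := (Subgroup.centralizer ({x} : Set G)).subgroupOf N
  have hPS : (P : Subgroup N) ≤ S := fun r hr => Subgroup.mem_centralizer_singleton_iff.mpr
    (Subgroup.mem_centralizer_iff.mp hx (r : G) ⟨r, hr, rfl⟩)
  have hcard : (orb N x).card * Nat.card S = Nat.card N := by
    rw [Nat.card_eq_fintype_card (α := N), ← Finset.card_univ,
      Finset.card_eq_sum_card_fiberwise (f := fun n : N => (n : G) * x * (n : G)⁻¹) (t := orb N x)
        fun n _ => Finset.mem_coe.mpr (mem_orb.mpr ⟨n, rfl⟩),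
      Finset.sum_congr rfl (g := fun _ => Nat.card S) fun y hy => ?_, Finset.sum_const, smul_eq_mul]
    obtain ⟨n₀, rfl⟩ := mem_orb.mp hy
    have := Fintype.ofFinite S
    rw [Nat.card_eq_fintype_card, ← Finset.card_univ]
    refine (Finset.card_bij (s := (Finset.univ : Finset S)) (fun s _ => n₀ * (s : N)) (fun s _ => ?_)
      (fun a _ b _ h => Subtype.ext (mul_left_cancel (a := n₀) h)) fun n hn => ?_).symm
    · refine Finset.mem_filter.mpr ⟨Finset.mem_univ _, ?_⟩
      have hs : ((s : N) : G) * x = x * ((s : N) : G) := Subgroup.mem_centralizer_singleton_iff.mp s.2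
      rw [Subgroup.coe_mul, mul_inv_rev, show (n₀ : G) * ((s : N) : G) * x * (((s : N) : G)⁻¹ * (n₀ : G)⁻¹)
        = (n₀ : G) * (((s : N) : G) * x) * ((s : N) : G)⁻¹ * (n₀ : G)⁻¹ by group, hs]
      group
    · obtain ⟨-, hn⟩ := Finset.mem_filter.mp hn
      refine ⟨⟨n₀⁻¹ * n, Subgroup.mem_centralizer_singleton_iff.mpr ?_⟩, Finset.mem_univ _,
        mul_inv_cancel_left _ _⟩
      rw [Subgroup.coe_subtype, Subgroup.coe_mul, Subgroup.coe_inv]
      calc (n₀ : G)⁻¹ * n * x = (n₀ : G)⁻¹ * ((n : G) * x * (n : G)⁻¹) * n := by group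
        _ = _ := by rw [hn]; group
  intro hd
  refine Sylow.not_dvd_index P ((Nat.mul_dvd_mul_iff_left (Nat.card_pos (α := (P : Subgroup N)))).mp ?_)
  rw [(P : Subgroup N).card_mul_index, ← hcard, mul_comm (orb N x).card]
  exact Nat.mul_dvd_mul (Subgroup.card_dvd_of_le hPS) hd

/-- Let G be a finite group, p a prime, M a maximal ideal of the algebraic integers containing p, N a normal subgroup of G and P a Sylow p-subgroup of N such that G = N·C_G(P). Let θ be an irreducible character in the principal p-block of N that is the restriction of some irreducible character of G. Then θ is the restriction of an irreducible character χ of G lying in the principal p-block of G such that, for every subgroup J of G containing N, the restriction of χ to J is an irreducible character of J lying in the principal p-block of J. -/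
theorem result {G : Type*} [Group G] [Finite G] (p : ℕ) [Fact p.Prime] (M : Ideal Cfsg.AlgInt) (hM : Cfsg.IsPModular p M) (N : Subgroup G) [N.Normal] (P : Sylow p ↥N)
    (hcov : N ⊔ Subgroup.centralizer (((P : Subgroup ↥N).map N.subtype : Subgroup G) : Set G) = ⊤)
    (θ : Cfsg.IrrCharacter ↥N) (hθ : θ ∈ Cfsg.principalBlock M ↥N)
    (hext : ∃ ψ : Cfsg.IrrCharacter G, ∀ x : ↥N, (ψ : G → ℂ) x = (θ : ↥N → ℂ) x) :
    ∃ χ : Cfsg.IrrCharacter G, χ ∈ Cfsg.principalBlock M G ∧ (∀ x : ↥N, (χ : G → ℂ) x = (θ : ↥N → ℂ) x) ∧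
      ∀ J : Subgroup G, N ≤ J → ∃ ξ : Cfsg.IrrCharacter ↥J, ξ ∈ Cfsg.principalBlock M ↥J ∧ ∀ y : ↥J, (ξ : ↥J → ℂ) y = (χ : G → ℂ) y := by
  classical
  have hpp := (Fact.out : p.Prime)
  have : Fintype G := Fintype.ofFinite G
  have := Fintype.ofFinite N
  have hMprime : M.IsPrime := hM.2.1.isPrime
  have := charP_residueField hM
  obtain ⟨ψ, hψ⟩ := hext
  obtain ⟨k, ρ, hρ, hρc⟩ := ψ.2
  have hχ : ∀ n : N, ρ.character n = (θ : ↥N → ℂ) n := fun n => by rw [hρc]; exact hψ n
  have hσ : (res N ρ).IsIrreducible := by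
    refine CfsgLib.CanonExt.irreducible_of_comp (res N ρ) (MonoidHom.id N) ?_
    rw [show (fun n => (res N ρ).character (MonoidHom.id N n)) = (θ : ↥N → ℂ) from funext hχ]
    exact θ.2
  -- representatives centralizing `P`
  have hu : ∀ a : G ⧸ N, ∃ u : G, u ∈ Subgroup.centralizer (CfsgLib.CanonExt.img P : Set G) ∧
      QuotientGroup.mk' N u = a := fun a => by
    obtain ⟨g, rfl⟩ := QuotientGroup.mk'_surjective N a
    obtain ⟨n, hn, c, hc, rfl⟩ := Subgroup.mem_sup_of_normal_left.mp
      (hcov.symm ▸ Subgroup.mem_top g : g ∈ N ⊔ Subgroup.centralizer (CfsgLib.CanonExt.img P : Set G))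
    refine ⟨c, hc, ?_⟩
    rw [map_mul, QuotientGroup.mk'_apply, QuotientGroup.mk'_apply, (QuotientGroup.eq_one_iff n).mpr hn,
      one_mul]
  choose u huC humk using hu
  -- integrality
  have hint : ∀ {ι : Type _} [Fintype ι] {f : ι → G}, Inv N f → W ρ.character f ∈ localRing M :=
    fun hf => mem_localRing_of_isIntegral (W_integral hσ hf)
  set T : G ⧸ N → Finset G := fun a => orb N (u a⁻¹)
  set S : G ⧸ N → Finset G := fun a => orb N (u a)
  set w : G ⧸ N → Res M := fun a => rv M (W ρ.character fun y : T a => (y : G))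
  have hTcard : ∀ a, ((T a).card : Res M) ≠ 0 := fun a =>
    natCast_ne_zero' hM (not_dvd_card_orb P (huC a⁻¹))
  have hScard : ∀ a, ((S a).card : Res M) ≠ 0 := fun a =>
    natCast_ne_zero' hM (not_dvd_card_orb P (huC a))
  have hprod : ∀ (ι : Type _) [Fintype ι] (f : ι → G) (a : G ⧸ N), Inv N f →
      (∀ i, QuotientGroup.mk' N (f i) = a) →
      rv M (W ρ.character f) * w a = (Fintype.card ι : Res M) * ((T a).card : Res M) := by
    intro ι _ f a hf ha
    have hg := orb_inv (N := N) (u a⁻¹)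
    rw [← rv_mul (hint hf) (hint hg), ← W_mul hσ hf hg,
      W_inside hθ (hf.mul hg) (fun i => ?_) hχ, Fintype.card_prod, Fintype.card_coe, Nat.cast_mul]
    rw [← QuotientGroup.eq_one_iff, ← QuotientGroup.mk'_apply, map_mul, ha, mk_orb i.2.2, humk,
      mul_inv_cancel]
  have hw : ∀ a, w a ≠ 0 := fun a h => by
    have := hprod _ _ a (orb_inv (N := N) (u a)) fun i => (mk_orb i.2).trans (humk a)
    rw [h, mul_zero, Fintype.card_coe] at this
    exact mul_ne_zero (hScard a) (hTcard a) this.symm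
  set s : G ⧸ N → Res M := fun a => ((T a).card : Res M) / w a
  have hs : ∀ (ι : Type _) [Fintype ι] (f : ι → G) (a : G ⧸ N), Inv N f →
      (∀ i, QuotientGroup.mk' N (f i) = a) →
      rv M (W ρ.character f) = (Fintype.card ι : Res M) * s a := fun ι _ f a hf ha => by
    show _ = _ * (_ / _)
    rw [mul_div_assoc', eq_div_iff (hw a), hprod ι f a hf ha]
  have hsne : ∀ a, s a ≠ 0 := fun a => div_ne_zero (hTcard a) (hw a)
  have hsmul : ∀ a b, s (a * b) = s a * s b := by
    intro a b
    have ha := orb_inv (N := N) (u a)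
    have hb := orb_inv (N := N) (u b)
    have h := hs _ _ (a * b) (ha.mul hb) fun i => by rw [map_mul, mk_orb i.1.2, mk_orb i.2.2, humk, humk]
    rw [W_mul hσ ha hb, rv_mul (hint ha) (hint hb), hs _ _ a ha (fun i => (mk_orb i.2).trans (humk a)),
      hs _ _ b hb (fun i => (mk_orb i.2).trans (humk b)), Fintype.card_prod, Fintype.card_coe,
      Fintype.card_coe, Nat.cast_mul] at h
    refine (mul_left_cancel₀ (mul_ne_zero (hScard a) (hScard b)) ?_).symm
    rw [← h]; ring
  have hs1 : s 1 = 1 := mul_eq_left₀ (hsne 1) |>.mp (by rw [← hsmul, one_mul])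
  let sh : G ⧸ N →* Res M := { toFun := s, map_one' := hs1, map_mul' := hsmul }
  -- roots of unity
  set q := Nat.card (G ⧸ N)
  set m := q / p ^ q.factorization p
  have hq : q ≠ 0 := Nat.card_pos.ne'
  have hm0 : m ≠ 0 := (Nat.ordCompl_pos p hq).ne'
  have hmp : ¬ p ∣ m := Nat.not_dvd_ordCompl hpp hq
  have hpow : ∀ a, s a ^ m = 1 := fun a => by
    have h : (s a ^ m) ^ p ^ q.factorization p = 1 := by
      rw [← pow_mul, mul_comm, Nat.ordProj_mul_ordCompl_eq_self]
      exact (map_pow sh a q).symm.trans (by rw [pow_card_eq_one', map_one])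
    refine sub_eq_zero.mp (eq_zero_of_pow_eq_zero (n := p ^ q.factorization p) ?_)
    rw [sub_pow_char_pow, h, one_pow, sub_self]
  set ζ := Complex.exp (2 * Real.pi * Complex.I / m)
  have hζ : IsPrimitiveRoot ζ m := Complex.isPrimitiveRoot_exp m hm0
  have hζL : ∀ j : ℕ, ζ ^ j ∈ localRing M := fun j =>
    pow_mem (mem_localRing_of_pow_eq_one hm0 hζ.pow_eq_one) j
  have hζ' : ζ ∈ localRing M := by simpa using hζL 1
  have hinj : ∀ {x y : ℂ}, x ^ m = 1 → y ^ m = 1 → rv M x = rv M y → x = y := by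
    intro x y hx hy h
    have hxm := mem_localRing_of_pow_eq_one (M := M) hm0 hx
    have hym := mem_localRing_of_pow_eq_one (M := M) hm0 hy
    have h1 : x * y ^ (m - 1) = 1 := eq_one_of_rv_eq_one hM hmp
      (by rw [mul_pow, hx, ← pow_mul, mul_comm (m - 1), pow_mul, hy, one_pow, one_mul]) (by
        rw [rv_mul hxm (pow_mem hym _), h, ← rv_mul hym (pow_mem hym _), ← pow_succ',
          Nat.sub_add_cancel (Nat.pos_of_ne_zero hm0), hy]
        simpa using rv_natCast (M := M) 1)
    calc x = x * y ^ (m - 1) * y := by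
          rw [mul_assoc, ← pow_succ, Nat.sub_add_cancel (Nat.pos_of_ne_zero hm0), hy, mul_one]
      _ = y := by rw [h1, one_mul]
  have hprim : IsPrimitiveRoot (rv M ζ) m := by
    refine ⟨?_, fun l hl => (hζ.pow_eq_one_iff_dvd l).mp ?_⟩
    · rw [← rv_pow (hζ' : ζ ∈ localRing M), hζ.pow_eq_one]
      simpa using rv_natCast (M := M) 1
    · refine eq_one_of_rv_eq_one hM hmp (by rw [← pow_mul, mul_comm, pow_mul, hζ.pow_eq_one, one_pow]) ?_
      rw [rv_pow (hζ' : ζ ∈ localRing M), hl]
  have hz : ∀ a, ∃ z : ℂ, z ^ m = 1 ∧ rv M z = s a⁻¹ := fun a => by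
    have : NeZero m := ⟨hm0⟩
    obtain ⟨j, -, hj⟩ := hprim.eq_pow_of_pow_eq_one (hpow a⁻¹)
    exact ⟨ζ ^ j, by rw [← pow_mul, mul_comm, pow_mul, hζ.pow_eq_one, one_pow],
      by rw [rv_pow (hζ' : ζ ∈ localRing M), hj]⟩
  choose z hzm hzs using hz
  have hzL : ∀ a, z a ∈ localRing M := fun a => mem_localRing_of_pow_eq_one hm0 (hzm a)
  have hz1 : z 1 = 1 := hinj (hzm 1) (one_pow m) (by
    rw [hzs, inv_one, hs1]; simpa using (rv_natCast (M := M) 1).symm)
  have hzmul : ∀ a b, z (a * b) = z a * z b := fun a b => hinj (hzm _) (by rw [mul_pow, hzm, hzm, one_mul]) (by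
    rw [rv_mul (hzL a) (hzL b), hzs, hzs, hzs, mul_inv_rev, hsmul, mul_comm])
  let zh : G ⧸ N →* ℂ := { toFun := z, map_one' := hz1, map_mul' := hzmul }
  let l : G →* ℂˣ := zh.toHomUnits.comp (QuotientGroup.mk' N)
  have hl : ∀ g, (l g : ℂ) = z (QuotientGroup.mk' N g) := fun g => rfl
  let χ : IrrCharacter G := CfsgLib.CharDegree.twist ψ l
  have hval : ∀ g, (χ : G → ℂ) g = ρ.character g * z (QuotientGroup.mk' N g) := fun g => by
    rw [hρc]; rfl
  have hone : (χ : G → ℂ) 1 = ρ.character 1 := by rw [hval, map_one, hz1, mul_one]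
  have hres : ∀ x : N, (χ : G → ℂ) x = (θ : ↥N → ℂ) x := fun x => by
    rw [hval, hχ, QuotientGroup.mk'_apply, (QuotientGroup.eq_one_iff (x : G)).mpr x.2, hz1, mul_one]
  -- restrictions
  have hJ : ∀ J : Subgroup G, N ≤ J → ∃ ξ : IrrCharacter J, ξ ∈ principalBlock M J ∧
      ∀ y : J, (ξ : J → ℂ) y = (χ : G → ℂ) y := by
    intro J hNJ
    obtain ⟨k', τ, hτ, hτc⟩ := χ.2
    let τJ : Representation ℂ J (Fin k' → ℂ) := τ.comp J.subtype
    have hirr : τJ.IsIrreducible := by
      refine CfsgLib.CanonExt.irreducible_of_comp τJ (Subgroup.inclusion hNJ) ?_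
      rw [show (fun n => τJ.character (Subgroup.inclusion hNJ n)) = (θ : ↥N → ℂ) from funext fun n =>
        (congrFun hτc (n : G)).trans (hres n)]
      exact θ.2
    refine ⟨⟨τJ.character, k', τJ, hirr, rfl⟩, ?_, fun y => congrFun hτc (y : G)⟩
    show SameBlock M (trivChar J : J → ℂ) τJ.character
    refine sameBlock_iff (χ := trivChar J) (ψ := ⟨τJ.character, k', τJ, hirr, rfl⟩) |>.mpr fun y => ?_
    set C := (CfsgLib.CharIntegral.classFinset y).map ⟨J.subtype, J.subtype_injective⟩ with hC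
    have hinv : ∀ (m : N), ∀ x ∈ C, (m : G) * x * (m : G)⁻¹ ∈ C := fun m x hx => by
      simp only [hC, Finset.mem_map, Function.Embedding.coeFn_mk, Subgroup.coe_subtype] at hx ⊢
      obtain ⟨x, hx, rfl⟩ := hx
      exact ⟨Subgroup.inclusion hNJ m * x * (Subgroup.inclusion hNJ m)⁻¹,
        CfsgLib.CharIntegral.mem_classFinset.mpr ((CfsgLib.CharIntegral.mem_classFinset.mp hx).trans
          (isConj_iff.mpr ⟨_, rfl⟩)), rfl⟩
    have hsum : centralChar τJ.character y = ∑ x ∈ C, (χ : G → ℂ) x / (χ : G → ℂ) 1 := by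
      rw [hC, Finset.sum_map, Finset.sum_congr rfl (g := fun _ => τJ.character y / τJ.character 1)
        fun x hx => ?_, Finset.sum_const, CfsgLib.CharIntegral.card_classFinset, nsmul_eq_mul, centralChar,
        mul_div_assoc]
      obtain ⟨c, rfl⟩ := isConj_iff.mp (CfsgLib.CharIntegral.mem_classFinset.mp hx)
      rw [← τJ.char_conj y c]
      show (χ : G → ℂ) ((c * y * c⁻¹ : J) : G) / _ = _
      rw [show τJ.character 1 = (χ : G → ℂ) 1 from congrFun hτc 1]
      exact congrArg (· / (χ : G → ℂ) 1) (congrFun hτc _).symm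
    rw [centralCharBar_trivChar, centralCharBar, ← rv_coe,
      show ((centralCharO M _ y : localRing M) : ℂ) = centralChar τJ.character y from rfl, hsum,
      ← CfsgLib.CharIntegral.card_classFinset, show (CfsgLib.CharIntegral.classFinset y).card = C.card from
        (Finset.card_map _).symm]
    have := Fintype.ofFinite (G ⧸ N)
    have hfam : ∀ a, Inv N fun x : C.filter (fun x => QuotientGroup.mk' N x = a) => (x : G) := fun a =>
      Inv.of_finset fun m x hx => by
        obtain ⟨hxC, hxa⟩ := Finset.mem_filter.mp hx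
        refine Finset.mem_filter.mpr ⟨hinv m x hxC, ?_⟩
        simp only [map_mul, map_inv, hxa, QuotientGroup.mk'_apply, (QuotientGroup.eq_one_iff (m : G)).mpr m.2,
          one_mul, inv_one, mul_one]
    have hterm : ∀ a, ∑ x ∈ C.filter (fun x => QuotientGroup.mk' N x = a), (χ : G → ℂ) x / (χ : G → ℂ) 1 =
        z a * W ρ.character fun x : C.filter (fun x => QuotientGroup.mk' N x = a) => (x : G) := fun a => by
      rw [W_finset, Finset.mul_sum]
      refine Finset.sum_congr rfl fun x hx => ?_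
      rw [hval, hone, (Finset.mem_filter.mp hx).2]
      ring
    rw [← Finset.sum_fiberwise C (QuotientGroup.mk' N), Finset.sum_congr rfl fun a _ => hterm a,
      rv_sum _ _ fun a _ => mul_mem (hzL a) (hint (hfam a)),
      Finset.card_eq_sum_card_fiberwise (f := QuotientGroup.mk' N) (t := Finset.univ)
        fun _ _ => Finset.mem_coe.mpr (Finset.mem_univ _), Nat.cast_sum]
    refine Finset.sum_congr rfl fun a _ => ?_
    rw [rv_mul (hzL a) (hint (hfam a)), hzs, hs _ _ a (hfam a) (fun x => (Finset.mem_filter.mp x.2).2),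
      Fintype.card_coe, mul_left_comm, ← hsmul, inv_mul_cancel, hs1, mul_one]
  refine ⟨χ, ?_, hres, hJ⟩
  obtain ⟨ξ, hξ, hv⟩ := hJ ⊤ le_top
  have hs' : SameBlock M (trivChar (⊤ : Subgroup G) : (⊤ : Subgroup G) → ℂ) (ξ : (⊤ : Subgroup G) → ℂ) := hξ
  show SameBlock M (trivChar G : G → ℂ) (χ : G → ℂ)
  refine sameBlock_iff.mpr fun g => ?_
  have h := sameBlock_iff.mp hs' ⟨g, Subgroup.mem_top g⟩
  have hidx : (Subgroup.centralizer ({(⟨g, Subgroup.mem_top g⟩ : (⊤ : Subgroup G))} : Set (⊤ : Subgroup G))).index =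
      (Subgroup.centralizer ({g} : Set G)).index := by
    rw [show Subgroup.centralizer ({(⟨g, Subgroup.mem_top g⟩ : (⊤ : Subgroup G))} : Set (⊤ : Subgroup G)) =
      (Subgroup.centralizer ({g} : Set G)).comap (Subgroup.topEquiv : (⊤ : Subgroup G) ≃* G).toMonoidHom from by
        ext x
        rw [Subgroup.mem_comap, Subgroup.mem_centralizer_singleton_iff, Subgroup.mem_centralizer_singleton_iff]
        exact Subtype.ext_iff, Subgroup.index_comap_of_surjective _ Subgroup.topEquiv.surjective]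
  rw [centralCharBar_trivChar, hidx, centralCharBar, ← rv_coe,
    show ((centralCharO M ξ _ : localRing M) : ℂ) = centralChar (ξ : (⊤ : Subgroup G) → ℂ) _ from rfl,
    centralChar, hidx, hv, hv] at h
  rw [centralCharBar_trivChar, h, centralCharBar, ← rv_coe,
    show ((centralCharO M χ g : localRing M) : ℂ) = centralChar (χ : G → ℂ) g from rfl, centralChar]
  rfl

end Cfsg.Agent.S4937
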