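import Cfsg.Statements.S4955
import Cfsg.Agent.Lib.CharDegree.Galois
import Cfsg.Agent.Lib.Char.Monomial
import Mathlib.GroupTheory.Complement

set_option autoImplicit false
open Cfsg CfsgLib.CharDegree CfsgLib.Char

namespace Cfsg.Agent.S4955

open scoped ComplexConjugate

/-- Let X be a finite group with an abelian normal Sylow p-subgroup V (a normal p-subgroup of index prime to p in which any two elements commute), and let G be a complement to V in X. Then for every v in V, writing C for the centralizer of v in G, the number k(X) of conjugacy classes of X satisfies k(X) ≤ (order of C)·(order of V) − ((order of G) − k(G)); the statement is written with the subtracted term moved to the left. In particular, if some v in V is centralized by no nonidentity element of G, then k(X) is at most the order of V. -/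
theorem result {X : Type*} [Group X] [Finite X] (p : ℕ) [Fact p.Prime] (V : Subgroup X) [V.Normal] (hVp : IsPGroup p V) (hidx : ¬ p ∣ V.index) (hab : ∀ a ∈ V, ∀ b ∈ V, a * b = b * a) (G : Subgroup X) (hGV : Subgroup.IsComplement' V G) (v : X) (hv : v ∈ V) : Nat.card (ConjClasses X) + Nat.card G ≤ Nat.card ↥(G ⊓ Subgroup.centralizer ({v} : Set X)) * Nat.card V + Nat.card (ConjClasses G) := by
  classical
  have := Fintype.ofFinite X
  have := Fintype.ofFinite (Cfsg.IrrCharacter X)
  have hp : p.Prime := Fact.out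
  set C := Subgroup.centralizer ({v} : Set X) with hC
  set A := Finset.univ.filter (fun χ : Cfsg.IrrCharacter X =>
    ∀ g ∈ V, (χ : X → ℂ) g = (χ : X → ℂ) 1) with hA
  set B := Finset.univ.filter (fun χ : Cfsg.IrrCharacter X =>
    ¬ ∀ g ∈ V, (χ : X → ℂ) g = (χ : X → ℂ) 1) with hB
  have e : X ⧸ V ≃* G := hGV.symm.QuotientMulEquiv
  have hAcard : A.card = Nat.card (ConjClasses G) := by
    have h1 : A.card = Nat.card (Cfsg.IrrCharacter (X ⧸ V)) := by
      rw [Nat.card_congr (inflEquiv V), Nat.card_eq_fintype_card, Fintype.card_subtype, hA]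
    rw [h1, card_irrCharacter]
    exact Nat.card_congr
      { toFun := ConjClasses.map e.toMonoidHom
        invFun := ConjClasses.map e.symm.toMonoidHom
        left_inv := fun c => Quotient.inductionOn c fun a =>
          congrArg ConjClasses.mk (e.symm_apply_apply a)
        right_inv := fun c => Quotient.inductionOn c fun a =>
          congrArg ConjClasses.mk (e.apply_symm_apply a) }
  have hindex : V.index = Nat.card G := by
    rw [Subgroup.index_eq_card]; exact Nat.card_congr e.toEquiv
  -- the centralizer of `v`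
  have hVC : V ≤ C := fun w hw => by
    rw [hC, Subgroup.mem_centralizer_iff]
    intro y hy
    rw [Set.mem_singleton_iff.mp hy]
    exact hab v hv w hw
  have hCcard : Nat.card C = Nat.card ↥(G ⊓ C) * Nat.card V := by
    rw [← Nat.card_prod]
    refine Nat.card_congr (Equiv.ofBijective
      (fun x : ↥(G ⊓ C) × V => (⟨(x.2 : X) * (x.1 : X), C.mul_mem (hVC x.2.2) x.1.2.2⟩ : C))
      ⟨fun a b h => ?_, fun c => ?_⟩).symm
    · obtain ⟨u, hu, huniq⟩ := hGV.existsUnique ((a.2 : X) * (a.1 : X))
      have ha := huniq (⟨a.2, a.2.2⟩, ⟨a.1, a.1.2.1⟩) rfl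
      have hb := huniq (⟨b.2, b.2.2⟩, ⟨b.1, b.1.2.1⟩) (congrArg Subtype.val h).symm
      have hab' := ha.trans hb.symm
      simp only [Prod.ext_iff, Subtype.ext_iff] at hab'
      exact Prod.ext (Subtype.ext hab'.2) (Subtype.ext hab'.1)
    · obtain ⟨⟨w, g⟩, hwg, -⟩ := hGV.existsUnique (c : X)
      simp only at hwg
      have hgC : (g : X) ∈ C := by
        have h1 : (g : X) = (w : X)⁻¹ * c := by rw [← hwg]; group
        rw [h1]
        exact C.mul_mem (C.inv_mem (hVC w.2)) c.2
      exact ⟨(⟨g, g.2, hgC⟩, ⟨w, w.2⟩), Subtype.ext hwg⟩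
  -- column sums
  have hcol : ∀ x : X, ∑ χ : Cfsg.IrrCharacter X, ‖(χ : X → ℂ) x‖ ^ 2 =
      (Nat.card (Subgroup.centralizer ({x} : Set X)) : ℝ) := fun x => by
    have h := column_orthogonality x x
    rw [if_pos (IsConj.refl x)] at h
    simp only [Complex.mul_conj, Complex.normSq_eq_norm_sq] at h
    exact_mod_cast h
  have hcolA : ∀ x ∈ V, ∑ χ ∈ A, ‖(χ : X → ℂ) x‖ ^ 2 = (Nat.card G : ℝ) := fun x hx => by
    have h : ∑ χ ∈ A, (χ : X → ℂ) 1 ^ 2 = (Nat.card G : ℂ) := by
      rw [hA, Finset.sum_filter, ← hindex]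
      convert sum_sq_degree_of_le_ker V
    have h2 : ∑ χ ∈ A, ‖(χ : X → ℂ) x‖ ^ 2 =
        ∑ χ ∈ A, ((Cfsg.charDegree (χ : X → ℂ) : ℝ)) ^ 2 :=
      Finset.sum_congr rfl fun χ hχ => by
        rw [(Finset.mem_filter.mp hχ).2 x hx, ← cast_irrDegree, Complex.norm_natCast]
    rw [h2]
    simp only [← cast_irrDegree] at h
    exact_mod_cast h
  obtain ⟨n, k, hn, hk, hprod⟩ := exists_conjugates X
  have hcolB : ∀ i, ∑ χ ∈ B, ‖(χ : X → ℂ) (v ^ k i)‖ ^ 2 = (Nat.card C : ℝ) - Nat.card G := by
    intro i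
    have hCk : Subgroup.centralizer ({v ^ k i} : Set X) = C := by
      obtain ⟨r, hr⟩ := exists_pow_eq_self_of_coprime (x := v)
        ((hk i).coprime_dvd_left (orderOf_dvd_natCard v)).symm
      ext y
      rw [hC, Subgroup.mem_centralizer_iff, Subgroup.mem_centralizer_iff]
      simp only [Set.mem_singleton_iff, forall_eq]
      refine ⟨fun h => ?_, fun h => ((show Commute v y from h).pow_left _).eq⟩
      have h' := ((show Commute (v ^ k i) y from h).pow_left r).eq
      rwa [hr] at h'
    have h1 := hcol (v ^ k i)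
    rw [hCk, ← Finset.sum_filter_add_sum_filter_not Finset.univ
      (fun χ : Cfsg.IrrCharacter X => ∀ g ∈ V, (χ : X → ℂ) g = (χ : X → ℂ) 1), ← hA, ← hB,
      hcolA _ (V.pow_mem hv _)] at h1
    linarith
  have hne : ∀ χ : Cfsg.IrrCharacter X, (χ : X → ℂ) v ≠ 0 := by
    intro χ h0
    obtain ⟨m, hm⟩ := hVp ⟨v, hv⟩
    have hm' : v ^ p ^ m = 1 := congrArg Subtype.val hm
    have h1 := CfsgLib.CharAction.congMod_char_pow (p := p) (IsIrr.isCharacter χ.2) v m
    rw [h0, zero_pow (pow_ne_zero m hp.ne_zero), hm', ← cast_irrDegree] at h1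
    have hdvd := CfsgLib.CharAction.CongMod.dvd_of_natCast hp.ne_zero h1.symm
    obtain ⟨d, ρ, hρ, -, hd⟩ := exists_rep χ
    have h2 := CfsgLib.Clifford.finrank_dvd_index d ρ V hab
    rw [Module.finrank_fin_fun, hd] at h2
    exact hidx (hdvd.trans h2)
  have hkey : (B.card : ℝ) * n ≤ n * ((Nat.card C : ℝ) - Nat.card G) := by
    have h1 : ∀ χ ∈ B, (n : ℝ) ≤ ∑ i, ‖(χ : X → ℂ) (v ^ k i)‖ ^ 2 := fun χ _ => by
      have h := CfsgLib.CharAction.card_le_sum_of_one_le_prod (Finset.univ : Finset (Fin n))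
        (fun i => ‖(χ : X → ℂ) (v ^ k i)‖ ^ 2)
        (fun i _ => pow_pos (norm_pos_iff.mpr (apply_pow_ne_zero (IsIrr.isCharacter χ.2) (hk i)
          (hne χ))) 2)
        (by rw [Finset.prod_pow]
            exact one_le_pow₀ (hprod _ v (IsIrr.isCharacter χ.2) (hne χ)))
      simpa using h
    have h2 := Finset.sum_le_sum h1
    rw [Finset.sum_const, nsmul_eq_mul, Finset.sum_comm, Finset.sum_congr rfl fun i _ => hcolB i,
      Finset.sum_const, nsmul_eq_mul, Finset.card_univ, Fintype.card_fin] at h2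
    exact h2
  have hB' : (B.card : ℝ) ≤ (Nat.card C : ℝ) - Nat.card G :=
    le_of_mul_le_mul_left (by rwa [mul_comm] at hkey) (Nat.cast_pos.mpr hn)
  have htotal : A.card + B.card = Nat.card (ConjClasses X) := by
    rw [hA, hB, Finset.card_filter_add_card_filter_not, Finset.card_univ,
      ← Nat.card_eq_fintype_card, card_irrCharacter]
  have hfin : B.card + Nat.card G ≤ Nat.card C := by
    have h : (B.card : ℝ) + Nat.card G ≤ Nat.card C := by linarith
    exact_mod_cast h
  rw [hCcard] at hfin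
  rw [← htotal, hAcard]
  omega

end Cfsg.Agent.S4955
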