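import Cfsg.Statements.S4956
import Mathlib

set_option autoImplicit false
open Cfsg

namespace Cfsg.Agent.S4956

/-- Let X be a finite group, V an abelian normal subgroup of X (any two elements of V commute) and G a complement to V in X whose order is coprime to that of V. Let S be a set of representatives of the orbits of G on V under conjugation: S lies in V and every element of V is conjugate under G to exactly one member of S. Then the number of conjugacy classes of X equals the sum, over s in S, of the number of conjugacy classes of the centralizer of s in G. -/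
theorem result {X : Type*} [Group X] [Finite X] (V : Subgroup X) [V.Normal] (hab : ∀ a ∈ V, ∀ b ∈ V, a * b = b * a) (G : Subgroup X) (hGV : Subgroup.IsComplement' V G) (hcop : (Nat.card V).Coprime (Nat.card G)) (S : Finset X) (hSV : ∀ s ∈ S, s ∈ V) (hrep : ∀ v ∈ V, ∃! s, s ∈ S ∧ ∃ g ∈ G, g * v * g⁻¹ = s) : Nat.card (ConjClasses X) = ∑ s ∈ S, Nat.card (ConjClasses ↥(G ⊓ Subgroup.centralizer ({s} : Set X))) := by
  classical
  -- conjugation-commutator map on V attached to g
  let ψ : ↥G → ↥V →* ↥V := fun g =>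
    { toFun := fun u => ⟨(u : X) * (g : X) * (u : X)⁻¹ * (g : X)⁻¹, by
        have := V.mul_mem u.2 (Subgroup.Normal.conj_mem inferInstance _ (V.inv_mem u.2) (g : X))
        simpa [mul_assoc] using this⟩
      map_one' := by ext; simp
      map_mul' := fun a b => by
        apply Subtype.ext
        have hb : (g : X) * (b : X)⁻¹ * (g : X)⁻¹ ∈ V :=
          Subgroup.Normal.conj_mem inferInstance _ (V.inv_mem b.2) (g : X)
        have hba : (b : X) * ((g : X) * (b : X)⁻¹ * (g : X)⁻¹) ∈ V := V.mul_mem b.2 hb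
        have ha : (g : X) * (a : X)⁻¹ * (g : X)⁻¹ ∈ V :=
          Subgroup.Normal.conj_mem inferInstance _ (V.inv_mem a.2) (g : X)
        have h2 := hab _ hba _ ha
        simp only [Subgroup.coe_mul, mul_inv_rev]
        calc (a : X) * b * g * ((b : X)⁻¹ * (a : X)⁻¹) * (g : X)⁻¹
            = a * (((b : X) * ((g : X) * (b : X)⁻¹ * (g : X)⁻¹)) *
                ((g : X) * (a : X)⁻¹ * (g : X)⁻¹)) := by group
          _ = a * (((g : X) * (a : X)⁻¹ * (g : X)⁻¹) *
                ((b : X) * ((g : X) * (b : X)⁻¹ * (g : X)⁻¹))) := by rw [h2]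
          _ = _ := by group }
  have hψ : ∀ (g : ↥G) (u : ↥V), ((ψ g u : ↥V) : X) = (u : X) * g * (u : X)⁻¹ * (g : X)⁻¹ :=
    fun g u => rfl
  have hker : ∀ (g : ↥G) (u : ↥V), u ∈ (ψ g).ker ↔ (g : X) * u = u * g := by
    intro g u
    rw [MonoidHom.mem_ker, ← Subtype.coe_inj, hψ]
    simp only [Subgroup.coe_one]
    constructor
    · intro h
      rw [mul_inv_eq_one, mul_inv_eq_iff_eq_mul] at h
      exact h.symm
    · intro h
      rw [mul_inv_eq_one, mul_inv_eq_iff_eq_mul]
      exact h.symm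
  -- kernel and image are disjoint
  have hdisj : ∀ g : ↥G, Disjoint (ψ g).ker (ψ g).range := by
    intro g
    rw [Subgroup.disjoint_def]
    rintro d hd ⟨u, hu⟩
    have hfix : Commute (g : X) (d : X) := (hker g d).mp hd
    have hd' : (u : X) * g * (u : X)⁻¹ = (d : X) * g := by
      rw [← hu, hψ]; group
    have h1 : (g : X) ^ orderOf g = 1 := by
      rw [← Subgroup.coe_pow, pow_orderOf_eq_one, Subgroup.coe_one]
    have h2 : ((d : X) * g) ^ orderOf g = 1 := by
      rw [← hd', conj_pow, h1]; group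
    rw [hfix.symm.mul_pow, h1, mul_one] at h2
    have h3 : d ^ orderOf g = 1 := by
      apply Subtype.ext; simpa using h2
    have : (orderOf d) ∣ Nat.gcd (Nat.card ↥V) (Nat.card ↥G) :=
      Nat.dvd_gcd (orderOf_dvd_natCard d) ((orderOf_dvd_of_pow_eq_one h3).trans (orderOf_dvd_natCard g))
    rw [hcop.gcd_eq_one, Nat.dvd_one, orderOf_eq_one_iff] at this
    exact this
  have hsplit : ∀ (g : ↥G) (v : ↥V), ∃ c u : ↥V, (g : X) * c = c * g ∧ v = c * ψ g u := by
    intro g v
    have : Subgroup.IsComplement' (ψ g).ker (ψ g).range := by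
      apply Subgroup.isComplement'_of_card_mul_and_disjoint
      · rw [← Subgroup.index_ker, Subgroup.card_mul_index]
      · exact hdisj g
    obtain ⟨⟨⟨c, hc⟩, ⟨i, u, hu⟩⟩, h⟩ := this.2 v
    exact ⟨c, u, (hker g c).mp hc, by rw [hu]; exact h.symm⟩
  have huniq : ∀ a ∈ V, ∀ b ∈ V, ∀ g ∈ G, ∀ h ∈ G, a * g = b * h → a = b ∧ g = h := by
    intro a ha b hb g hg h hh e
    have := hGV.1 (a₁ := (⟨a, ha⟩, ⟨g, hg⟩)) (a₂ := (⟨b, hb⟩, ⟨h, hh⟩)) e
    simp only [Prod.mk.injEq, Subtype.mk.injEq] at this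
    exact this
  let Gs : X → Subgroup X := fun s => G ⊓ Subgroup.centralizer ({s} : Set X)
  have hGs : ∀ {s g : X}, g ∈ Gs s → g ∈ G ∧ g * s = s * g := fun {s g} hg =>
    ⟨hg.1, (Subgroup.mem_centralizer_iff.mp hg.2 s rfl).symm⟩
  let f : (Σ s : ↥S, ConjClasses ↥(Gs s)) → ConjClasses X := fun p =>
    Quotient.liftOn' p.2 (fun g => ConjClasses.mk ((p.1 : X) * (g : X))) (by
      intro g h hgh
      obtain ⟨c, hc⟩ := isConj_iff.mp hgh
      apply ConjClasses.mk_eq_mk_iff_isConj.mpr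
      apply isConj_iff.mpr
      refine ⟨(c : X), ?_⟩
      have hcs : (c : X) * (p.1 : X) = (p.1 : X) * c := (hGs c.2).2
      rw [← hc]
      push_cast
      rw [← mul_assoc (c : X), hcs]
      group)
  have hbij : Function.Bijective f := by
    constructor
    · rintro ⟨s, a⟩ ⟨t, b⟩
      induction a using Quotient.inductionOn' with
      | h g =>
      induction b using Quotient.inductionOn' with
      | h g' =>
      intro e
      obtain ⟨x, hx⟩ := isConj_iff.mp (ConjClasses.mk_eq_mk_iff_isConj.mp e)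
      obtain ⟨⟨⟨u, hu⟩, ⟨h, hh⟩⟩, rfl⟩ := hGV.2 x
      dsimp only at hx
      have hg := hGs g.2
      have hg' := hGs g'.2
      -- conjugate by h
      have ht : h * (s : X) * h⁻¹ ∈ V :=
        Subgroup.Normal.conj_mem inferInstance _ (hSV _ s.2) h
      let g'' : ↥G := ⟨h * g * h⁻¹, G.mul_mem (G.mul_mem hh hg.1) (G.inv_mem hh)⟩
      have e1 : (h * (s : X) * h⁻¹ * (ψ g'' ⟨u, hu⟩ : X)) * (g'' : X) = (t : X) * (g' : X) := by
        rw [← hx, hψ]
        have h1 : u * (h * (s : X) * h⁻¹) = (h * (s : X) * h⁻¹) * u := hab _ hu _ ht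
        calc (h * (s : X) * h⁻¹ * (u * (g'' : X) * u⁻¹ * (g'' : X)⁻¹)) * (g'' : X)
            = (h * (s : X) * h⁻¹ * u) * (g'' : X) * u⁻¹ := by group
          _ = (u * (h * (s : X) * h⁻¹)) * (h * g * h⁻¹) * u⁻¹ := by rw [h1]
          _ = _ := by group
      obtain ⟨e2, e3⟩ := huniq _ (V.mul_mem ht (ψ g'' ⟨u, hu⟩).2) _ (hSV _ t.2) _ g''.2 _ hg'.1 e1
      let t' : ↥V := ⟨h * (s : X) * h⁻¹, ht⟩
      have hfix1 : t' ∈ (ψ g'').ker := by
        rw [hker]
        change h * g * h⁻¹ * (h * (s : X) * h⁻¹) = h * (s : X) * h⁻¹ * (h * g * h⁻¹)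
        calc h * g * h⁻¹ * (h * (s : X) * h⁻¹) = h * ((g : X) * s) * h⁻¹ := by group
          _ = h * ((s : X) * g) * h⁻¹ := by rw [hg.2]
          _ = _ := by group
      have hfix2 : (⟨t, hSV _ t.2⟩ : ↥V) ∈ (ψ g'').ker := by
        rw [hker, e3]
        exact hg'.2
      have hone : ψ g'' ⟨u, hu⟩ = 1 := by
        apply Subgroup.disjoint_def.mp (hdisj g'') _ ⟨_, rfl⟩
        have : ψ g'' ⟨u, hu⟩ = t'⁻¹ * ⟨t, hSV _ t.2⟩ := by
          rw [eq_inv_mul_iff_mul_eq]
          exact Subtype.ext e2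
        rw [this]
        exact (ψ g'').ker.mul_mem ((ψ g'').ker.inv_mem hfix1) hfix2
      rw [hone, Subgroup.coe_one, mul_one] at e2
      obtain ⟨r, hr, hru⟩ := hrep _ (hSV _ s.2)
      have hs1 : (s : X) = r := hru _ ⟨s.2, 1, G.one_mem, by group⟩
      have ht1 : (t : X) = r := hru _ ⟨t.2, h, hh, e2⟩
      have hst : s = t := Subtype.ext (hs1.trans ht1.symm)
      subst hst
      refine Sigma.ext rfl (heq_of_eq ?_)
      apply ConjClasses.mk_eq_mk_iff_isConj.mpr
      apply isConj_iff.mpr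
      have hhs : h ∈ Gs s := by
        refine ⟨hh, Subgroup.mem_centralizer_iff.mpr ?_⟩
        rintro z rfl
        exact (mul_inv_eq_iff_eq_mul.mp e2).symm
      exact ⟨⟨h, hhs⟩, Subtype.ext e3⟩
    · intro C
      induction C using Quotient.inductionOn' with
      | h x =>
      obtain ⟨⟨⟨v, hv⟩, g⟩, rfl⟩ := hGV.2 x
      obtain ⟨c, u, hc, hvu⟩ := hsplit g ⟨v, hv⟩
      obtain ⟨s, ⟨hsS, h, hh, hhs⟩, -⟩ := hrep _ c.2
      have hmem : h * (g : X) * h⁻¹ ∈ Gs s := by
        refine ⟨G.mul_mem (G.mul_mem hh g.2) (G.inv_mem hh), Subgroup.mem_centralizer_iff.mpr ?_⟩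
        rintro z rfl
        rw [← hhs]
        calc h * c * h⁻¹ * (h * (g : X) * h⁻¹) = h * ((c : X) * g) * h⁻¹ := by group
          _ = h * ((g : X) * c) * h⁻¹ := by rw [hc]
          _ = _ := by group
      refine ⟨⟨⟨s, hsS⟩, ConjClasses.mk ⟨_, hmem⟩⟩, ?_⟩
      change ConjClasses.mk (s * (h * (g : X) * h⁻¹)) = ConjClasses.mk (v * (g : X))
      apply ConjClasses.mk_eq_mk_iff_isConj.mpr
      apply isConj_iff.mpr
      refine ⟨(u : X) * h⁻¹, ?_⟩
      have hv' : v = (c : X) * ((u : X) * g * (u : X)⁻¹ * (g : X)⁻¹) := by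
        rw [← hψ, ← Subgroup.coe_mul, ← hvu]
      rw [hv', ← hhs]
      have h1 : (u : X) * c = c * u := hab _ u.2 _ c.2
      calc (u : X) * h⁻¹ * (h * c * h⁻¹ * (h * (g : X) * h⁻¹)) * ((u : X) * h⁻¹)⁻¹
          = ((u : X) * c) * g * (u : X)⁻¹ := by group
        _ = ((c : X) * u) * g * (u : X)⁻¹ := by rw [h1]
        _ = _ := by group
  rw [← Nat.card_eq_of_bijective f hbij, Nat.card_sigma]
  exact Finset.sum_coe_sort S (fun s => Nat.card (ConjClasses ↥(Gs s)))

end Cfsg.Agent.S4956
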