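import Cfsg.Statements.S4959
import Cfsg.Agent.Lib.CharDegree.KgvReal.Bound
import Cfsg.Agent.Lib.CharDegree.KgvReal.RealVector

set_option autoImplicit false
open Cfsg

namespace Cfsg.Agent.S4959

/-- Let X be a finite group and V a normal subgroup of X in which every element has order dividing the prime p, whose index in X is prime to p and which is its own centralizer in X; so V is an elementary abelian normal Sylow p-subgroup, and any complement G to V in X is a group of order prime to p acting faithfully on the vector space V by conjugation (the coprime linear setting of the k(GV) problem). Let G be a complement to V in X, let v be in V and let H be the centralizer of v in G. Suppose there is a subgroup U of V normalized by H, on which H acts faithfully, and carrying an H-invariant bi-additive pairing β with values in the integers modulo p that is nondegenerate on U (equivalently: the restriction of the module V to H has a faithful self-dual submodule; such a v is called a real vector for G). Then the number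 of conjugacy classes of X is at most the order of V (the real-vector criterion for the k(GV) problem). The pairing is given as a function on X whose relevant values are those on pairs from U. -/
theorem result {X : Type*} [Group X] [Finite X] (p : ℕ) [Fact p.Prime] (V : Subgroup X) [V.Normal] (hVexp : ∀ v ∈ V, v ^ p = 1) (hidx : ¬ p ∣ V.index) (hself : Subgroup.centralizer (V : Set X) = V) (G : Subgroup X) (hGV : Subgroup.IsComplement' V G) (v : X) (hv : v ∈ V) (U : Subgroup X) (hUV : U ≤ V) (hUinv : ∀ h ∈ G, h * v * h⁻¹ = v → ∀ u ∈ U, h * u * h⁻¹ ∈ U) (hUfaith : ∀ h ∈ G, h * v * h⁻¹ = v → (∀ u ∈ U, h * u * h⁻¹ = u) → h = 1) (β : X → X → ZMod p) (hβl : ∀ u ∈ U, ∀ u' ∈ U, ∀ w ∈ U, β (u * u') w = β u w + β u' w) (hβr : ∀ u ∈ U, ∀ w ∈ U, ∀ w' ∈ U, β u (w * w') = β u w + β u w') (hβinv : ∀ h ∈ G, h * v * h⁻¹ = v → ∀ u ∈ U, ∀ w ∈ U, β (h * u * h⁻¹) (h * w * h⁻¹) = β u w) (hβnd : ∀ u ∈ U, (∀ w ∈ U, β u w = 0) → u = 1) : Nat.card (ConjClasses X) ≤ Nat.card V := by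
  classical
  haveI := Fintype.ofFinite X
  have hp : p.Prime := Fact.out
  have hVc : ∀ a ∈ V, ∀ b ∈ V, a * b = b * a := fun a ha b hb =>
    (Subgroup.mem_centralizer_iff.1 (hself.symm ▸ ha : a ∈ Subgroup.centralizer (V : Set X)) b hb).symm
  set H : Subgroup X := G ⊓ Subgroup.centralizer ({v} : Set X) with hH
  haveI := Fintype.ofFinite H
  have hmem : ∀ h : H, (h : X) ∈ G ∧ (h : X) * v * (h : X)⁻¹ = v := fun h =>
    ⟨h.2.1, mul_inv_eq_iff_eq_mul.2 (Subgroup.mem_centralizer_singleton_iff.1 h.2.2)⟩
  letI : CommGroup U := { (inferInstance : Group U) with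
    mul_comm := fun a b => Subtype.ext (hVc a (hUV a.2) b (hUV b.2)) }
  let act : H → MulAut U := fun h =>
    { toFun := fun x => ⟨(h : X) * (x : X) * (h : X)⁻¹, hUinv h (hmem h).1 (hmem h).2 _ x.2⟩
      invFun := fun x => ⟨((h⁻¹ : H) : X) * (x : X) * ((h⁻¹ : H) : X)⁻¹,
        hUinv _ (hmem h⁻¹).1 (hmem h⁻¹).2 _ x.2⟩
      left_inv := fun x => Subtype.ext (by simp [mul_assoc])
      right_inv := fun x => Subtype.ext (by simp [mul_assoc])
      map_mul' := fun x y => Subtype.ext (by simp [mul_assoc]) }
  let φ : H →* MulAut U :=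
    { toFun := act
      map_one' := MulEquiv.ext fun x => Subtype.ext (by simp [act])
      map_mul' := fun g k => MulEquiv.ext fun x => Subtype.ext (by simp [act, mul_assoc]) }
  have hGcard : Nat.card G = V.index := by
    rw [Subgroup.index_eq_card]; exact (Nat.card_congr hGV.symm.QuotientMulEquiv.toEquiv).symm
  have hHdG : Nat.card H ∣ Nat.card G := Subgroup.card_dvd_of_le inf_le_left
  haveI : NeZero (p * Nat.card X) := ⟨mul_ne_zero hp.ne_zero Nat.card_pos.ne'⟩
  obtain ⟨θ, w, hθ, hθ1, hθm, hθw, hsmall, hwU⟩ := CfsgLib.KgvReal.exists_weight_group (K := U)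
    (fun x => Subtype.ext (hVexp _ (hUV x.2))) (fun h => hidx (hGcard ▸ h.trans hHdG)) φ
    (fun h hh => Subtype.ext (hUfaith h (hmem h).1 (hmem h).2 fun u hu =>
      congrArg Subtype.val (hh ⟨u, hu⟩)))
    (fun x y => β x y) (fun x x' y => hβl _ x.2 _ x'.2 _ y.2) (fun x y y' => hβr _ x.2 _ y.2 _ y'.2)
    (fun g x y => hβinv g (hmem g).1 (hmem g).2 _ x.2 _ y.2)
    (fun x hx => Subtype.ext (hβnd _ x.2 fun u hu => hx ⟨u, hu⟩))
    (M := p * Nat.card X) (by
      rw [mul_assoc]
      refine Nat.mul_dvd_mul_left p ?_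
      rw [← hGV.card_mul]
      exact Nat.mul_dvd_mul (Subgroup.card_dvd_of_le hUV) hHdG)
  refine CfsgLib.KgvReal.card_conjClasses_le p V hVexp hidx hVc G hGV v hv H hH (dvd_mul_left _ p)
    θ hθ hθ1 hθm w hθw hsmall fun h => ?_
  set C : Subgroup X := Subgroup.centralizer ({(h : X)} : Set X) with hC
  have h1 : Nat.card {x : U // φ h x = x} = Nat.card (C.subgroupOf U) := by
    refine Nat.card_congr (Equiv.subtypeEquivRight fun x => ?_)
    rw [Subgroup.mem_subgroupOf, Subgroup.mem_centralizer_singleton_iff, Subtype.ext_iff]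
    show (h : X) * (x : X) * (h : X)⁻¹ = _ ↔ _
    rw [mul_inv_eq_iff_eq_mul, eq_comm]
  have hUc : C.relIndex U * Nat.card (C.subgroupOf U) = Nat.card U :=
    mul_comm _ _ |>.trans (Subgroup.card_mul_index _)
  have hwle : w h = C.relIndex U := by
    refine Nat.eq_of_mul_eq_mul_right (Nat.card_pos (α := C.subgroupOf U)) ?_
    rw [hUc, ← h1, hwU]
  have hVC : C.relIndex V * Nat.card ↥(V ⊓ C) = Nat.card V := by
    rw [inf_comm, ← Subgroup.inf_relIndex_right,
      ← Nat.card_congr (Subgroup.subgroupOfEquivOfLe (inf_le_right : C ⊓ V ≤ V)).toEquiv]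
    exact mul_comm _ _ |>.trans (Subgroup.card_mul_index _)
  rw [hwle, ← hVC]
  exact Nat.mul_le_mul_right _ (Subgroup.relIndex_le_of_le_right hUV Subgroup.index_ne_zero_of_finite)

end Cfsg.Agent.S4959
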