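import Cfsg.Statements.S4965
import Mathlib

set_option autoImplicit false
open Cfsg

namespace Cfsg.Agent.S4965

/-- Let X be a finite group with an abelian normal subgroup V (any two elements of V commute), and let φ be the action of X ⧸ V on V induced by conjugation (well defined because V is abelian; the hypothesis hφ says that the class of x acts as conjugation by x). Then X has at most as many conjugacy classes as the semidirect product of V by X ⧸ V formed with this action: the split extension has the largest class number among extensions with the given action. -/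
theorem result {X : Type*} [Group X] [Finite X] (V : Subgroup X) [V.Normal] (hab : ∀ a ∈ V, ∀ b ∈ V, a * b = b * a) (φ : X ⧸ V →* MulAut ↥V) (hφ : ∀ (x : X) (v : ↥V), ((φ (QuotientGroup.mk x) v : ↥V) : X) = x * v * x⁻¹) : Nat.card (ConjClasses X) ≤ Nat.card (ConjClasses (SemidirectProduct ↥V (X ⧸ V) φ)) := by
  classical
  let Y := SemidirectProduct ↥V (X ⧸ V) φ
  have : Finite Y := Finite.of_equiv _ SemidirectProduct.equivProd.symm
  have hcard : Nat.card Y = Nat.card X := by
    rw [Nat.card_congr SemidirectProduct.equivProd, Nat.card_prod]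
    rw [V.card_eq_card_quotient_mul_card_subgroup, mul_comm]
  let CX := { p : X × X // Commute p.1 p.2 }
  let π : CX → (X ⧸ V) × (X ⧸ V) := fun p => (QuotientGroup.mk p.1.1, QuotientGroup.mk p.1.2)
  -- a chosen commuting lift for each pair in the image
  let base : CX → CX := fun p => @Function.invFun _ _ ⟨p⟩ π (π p)
  have hbase : ∀ p, π (base p) = π p := fun p => @Function.invFun_eq _ _ ⟨p⟩ π _ ⟨p, rfl⟩
  have hmem : ∀ a b : X, (QuotientGroup.mk a : X ⧸ V) = QuotientGroup.mk b → a * b⁻¹ ∈ V := by
    intro a b h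
    have : (QuotientGroup.mk (a * b⁻¹) : X ⧸ V) = 1 := by
      rw [QuotientGroup.mk_mul, QuotientGroup.mk_inv, h, mul_inv_cancel]
    exact (QuotientGroup.eq_one_iff _).mp this
  let v : CX → V := fun p =>
    ⟨p.1.1 * (base p).1.1⁻¹, hmem _ _ (congrArg Prod.fst (hbase p)).symm⟩
  let w : CX → V := fun p =>
    ⟨p.1.2 * (base p).1.2⁻¹, hmem _ _ (congrArg Prod.snd (hbase p)).symm⟩
  have key : ∀ p : CX, v p * φ (π p).1 (w p) = w p * φ (π p).2 (v p) := by
    intro p
    apply Subtype.ext
    have hx : ((φ (π p).1 (w p) : ↥V) : X) = (base p).1.1 * (w p : X) * (base p).1.1⁻¹ := by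
      rw [← congrArg Prod.fst (hbase p)]
      exact hφ _ _
    have hy : ((φ (π p).2 (v p) : ↥V) : X) = (base p).1.2 * (v p : X) * (base p).1.2⁻¹ := by
      rw [← congrArg Prod.snd (hbase p)]
      exact hφ _ _
    have hc : p.1.1 * p.1.2 = p.1.2 * p.1.1 := p.2.eq
    have hb : (base p).1.2⁻¹ * (base p).1.1⁻¹ = (base p).1.1⁻¹ * (base p).1.2⁻¹ := by
      rw [← mul_inv_rev, ← mul_inv_rev, (base p).2.eq]
    rw [Subgroup.coe_mul, Subgroup.coe_mul, hx, hy]
    change p.1.1 * (base p).1.1⁻¹ * ((base p).1.1 * (p.1.2 * (base p).1.2⁻¹) * (base p).1.1⁻¹) =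
      p.1.2 * (base p).1.2⁻¹ * ((base p).1.2 * (p.1.1 * (base p).1.1⁻¹) * (base p).1.2⁻¹)
    simp only [mul_assoc, inv_mul_cancel_left]
    rw [← mul_assoc p.1.1, ← mul_assoc p.1.2 p.1.1, hc, hb]
  let F : CX → { p : Y × Y // Commute p.1 p.2 } := fun p =>
    ⟨(⟨v p, (π p).1⟩, ⟨w p, (π p).2⟩), by
      apply SemidirectProduct.ext
      · exact key p
      · change QuotientGroup.mk p.1.1 * QuotientGroup.mk p.1.2 =
          (QuotientGroup.mk p.1.2 * QuotientGroup.mk p.1.1 : X ⧸ V)
        rw [← QuotientGroup.mk_mul, p.2.eq, QuotientGroup.mk_mul]⟩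
  have hF : Function.Injective F := by
    intro p q hpq
    have h1 := congrArg (fun z => z.1.1.right) hpq
    have h2 := congrArg (fun z => z.1.2.right) hpq
    have h3 := congrArg (fun z => (z.1.1.left : X)) hpq
    have h4 := congrArg (fun z => (z.1.2.left : X)) hpq
    have hb : base p = base q := by
      have : π p = π q := Prod.ext h1 h2
      simp only [base, this]
    simp only [F, v, w, hb] at h3 h4
    exact Subtype.ext (Prod.ext (mul_right_cancel h3) (mul_right_cancel h4))
  have hle := Nat.card_le_card_of_injective F hF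
  rw [card_comm_eq_card_conjClasses_mul_card, card_comm_eq_card_conjClasses_mul_card, hcard] at hle
  exact Nat.le_of_mul_le_mul_right hle Nat.card_pos

end Cfsg.Agent.S4965
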