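import Cfsg.Statements.S4967
import Mathlib.RingTheory.Trace.Basic
-- import your own Cfsg.Agent.* helpers here

set_option autoImplicit false
open Cfsg

namespace Cfsg.Agent.S4967

section
variable {F : Type*} [Field F] {H : Type*} [CommGroup H] {V : Type*} [AddCommGroup V] [Module F V]
  (ρ : Representation F H V)

/-- The algebra generated by the image. -/
abbrev alg : Subalgebra F (Module.End F V) := Algebra.adjoin F (Set.range ρ)

/-- A generator of the algebra. -/
def gen (h : H) : alg ρ := ⟨ρ h, Algebra.subset_adjoin ⟨h, rfl⟩⟩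

theorem commute_gen (h : H) (a : alg ρ) : Commute (ρ h) (a : Module.End F V) := by
  obtain ⟨a, ha⟩ := a
  induction ha using Algebra.adjoin_induction with
  | mem x hx => obtain ⟨k, rfl⟩ := hx; show _ * _ = _ * _; rw [← map_mul, ← map_mul, mul_comm]
  | algebraMap r => exact (Algebra.commutes r (ρ h)).symm
  | add x y _ _ hx hy => exact hx.add_right hy
  | mul x y _ _ hx hy => exact hx.mul_right hy

theorem alg_comm (a b : alg ρ) : a * b = b * a := by
  obtain ⟨a, ha⟩ := a
  refine Subtype.ext ?_
  show a * (b : Module.End F V) = (b : Module.End F V) * a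
  induction ha using Algebra.adjoin_induction with
  | mem x hx => obtain ⟨k, rfl⟩ := hx; exact commute_gen ρ k b
  | algebraMap r => exact Algebra.commutes r _
  | add x y _ _ hx hy => exact Commute.add_left hx hy
  | mul x y _ _ hx hy => exact Commute.mul_left hx hy

theorem apply_mem {U : Submodule F V} (hU : ∀ h : H, ∀ u ∈ U, ρ h u ∈ U) (a : alg ρ) :
    ∀ u ∈ U, (a : Module.End F V) u ∈ U := by
  obtain ⟨a, ha⟩ := a
  induction ha using Algebra.adjoin_induction with
  | mem x hx => obtain ⟨k, rfl⟩ := hx; exact hU k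
  | algebraMap r => exact fun u hu => U.smul_mem r hu
  | add x y _ _ hx hy => exact fun u hu => U.add_mem (hx u hu) (hy u hu)
  | mul x y _ _ hx hy => exact fun u hu => hx _ (hy u hu)

variable (hirr : ∀ U : Submodule F V, (∀ h : H, ∀ u ∈ U, ρ h u ∈ U) → U = ⊥ ∨ U = ⊤)
include hirr

theorem injective_of_ne_zero {a : alg ρ} (ha : a ≠ 0) :
    Function.Injective (a : Module.End F V) := by
  rw [← LinearMap.ker_eq_bot]
  refine (hirr _ fun h u hu => ?_).resolve_right fun hk => ha (Subtype.ext (LinearMap.ker_eq_top.mp hk))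
  rw [LinearMap.mem_ker] at hu ⊢
  rw [← Module.End.mul_apply, ← (commute_gen ρ h a).eq, Module.End.mul_apply, hu, map_zero]

/-- Evaluation at a nonzero vector. -/
noncomputable def ev {v : V} (hv : v ≠ 0) : alg ρ ≃ₗ[F] V :=
  LinearEquiv.ofBijective ((LinearMap.applyₗ v).comp (alg ρ).val.toLinearMap) (by
    constructor
    · intro a b h
      by_contra hab
      refine hv (injective_of_ne_zero ρ hirr (sub_ne_zero.mpr hab) ?_)
      rw [map_zero]
      show ((a : Module.End F V) - (b : Module.End F V)) v = 0
      exact sub_eq_zero.mpr h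
    · rw [← LinearMap.range_eq_top]
      refine (hirr _ fun h u hu => ?_).resolve_left fun hb => hv ?_
      · obtain ⟨a, rfl⟩ := hu
        exact ⟨gen ρ h * a, rfl⟩
      · have : v ∈ LinearMap.range ((LinearMap.applyₗ v).comp (alg ρ).val.toLinearMap) := ⟨1, rfl⟩
        rwa [hb, Submodule.mem_bot] at this)

theorem ev_mul {v : V} (hv : v ≠ 0) (a b : alg ρ) :
    ev ρ hirr hv (a * b) = (a : Module.End F V) (ev ρ hirr hv b) := rfl

end

/-- Let F be a finite field with r elements and of characteristic p, H a finite abelian group of order prime to p, and V a faithful irreducible representation of H over F of dimension n (faithful: distinct elements act differently; irreducible: the only H-invariant subspaces are 0 and V). Call V self-dual when it carries a nondegenerate H-invariant bilinear form. If n = 1 and V is self-dual then H has order at most 2. If n ≥ 2 then V is self-dual if and only if n is even and the order of H divides r^(n/2) + 1. -/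
theorem result {F : Type*} [Field F] [Fintype F] (p : ℕ) [Fact p.Prime] [CharP F p] {H : Type*} [CommGroup H] [Finite H] (hcop : ¬ p ∣ Nat.card H) {V : Type*} [AddCommGroup V] [Module F V] [FiniteDimensional F V] (ρ : Representation F H V) (hfaith : Function.Injective ρ) (hirr : ∀ U : Submodule F V, (∀ h : H, ∀ u ∈ U, ρ h u ∈ U) → U = ⊥ ∨ U = ⊤) : (Module.finrank F V = 1 → (∃ B : LinearMap.BilinForm F V, B.Nondegenerate ∧ ∀ h : H, ∀ x y : V, B (ρ h x) (ρ h y) = B x y) → Nat.card H ≤ 2) ∧ (2 ≤ Module.finrank F V → ((∃ B : LinearMap.BilinForm F V, B.Nondegenerate ∧ ∀ h : H, ∀ x y : V, B (ρ h x) (ρ h y) = B x y) ↔ (Even (Module.finrank F V) ∧ Nat.card H ∣ Fintype.card F ^ (Module.finrank F V / 2) + 1))) := by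
  classical
  rcases subsingleton_or_nontrivial V with hV | hV
  · refine ⟨fun h => ?_, fun h => ?_⟩ <;> rw [Module.finrank_zero_of_subsingleton] at h <;> omega
  obtain ⟨v, hv⟩ := exists_ne (0 : V)
  have : Finite V := Module.finite_of_finite F
  have : Finite (Module.End F V) := Finite.of_injective (fun f => (f : V → V)) DFunLike.coe_injective
  letI : CommRing (alg ρ) := { (inferInstance : Ring (alg ρ)) with mul_comm := alg_comm ρ }
  have hnt : Nontrivial (alg ρ) := (ev ρ hirr hv).toEquiv.nontrivial
  have : IsDomain (alg ρ) := by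
    have : NoZeroDivisors (alg ρ) := ⟨fun {a b} hab => by
      by_contra! hne
      refine hne.2 (Subtype.ext (LinearMap.ext fun w => ?_))
      show (b : Module.End F V) w = 0
      refine injective_of_ne_zero ρ hirr hne.1 ?_
      rw [map_zero]
      exact congrArg (fun c : alg ρ => (c : Module.End F V) w) hab⟩
    exact NoZeroDivisors.to_isDomain _
  letI : Field (alg ρ) := (Finite.isField_of_domain (alg ρ)).toField
  letI : Fintype (alg ρ) := Fintype.ofFinite _
  have : Algebra.IsAlgebraic F (alg ρ) := Algebra.IsAlgebraic.of_finite F (alg ρ)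
  set e := ev ρ hirr hv
  have hn : Module.finrank F (alg ρ) = Module.finrank F V := LinearEquiv.finrank_eq e
  set n := Module.finrank F V
  set φ := FiniteField.frobeniusAlgEquivOfAlgebraic F (alg ρ)
  have hφ : ∀ (i : ℕ) (a : alg ρ), (φ ^ i) a = a ^ Fintype.card F ^ i := fun i a => by
    induction i with
    | zero => simp
    | succ i ih =>
      rw [pow_succ', AlgEquiv.mul_apply, ih,
        show φ (a ^ Fintype.card F ^ i) = (a ^ Fintype.card F ^ i) ^ Fintype.card F from rfl,
        pow_succ, pow_mul]
  have hord : orderOf φ = n := (FiniteField.orderOf_frobeniusAlgEquivOfAlgebraic F (alg ρ)).trans hn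
  let g : H →* alg ρ :=
    { toFun := gen ρ
      map_one' := Subtype.ext (map_one ρ)
      map_mul' := fun a b => Subtype.ext (map_mul ρ a b) }
  have hg : Function.Injective g := fun a b h => hfaith (congrArg Subtype.val h)
  have hcyc : IsCyclic H := isCyclic_of_subgroup_isDomain g hg
  -- an invariant form gives the inversion automorphism
  have key : (∃ B : LinearMap.BilinForm F V, B.Nondegenerate ∧ ∀ h : H, ∀ x y : V, B (ρ h x) (ρ h y) = B x y) →
      ∃ i < n, ∀ h : H, (g h) ^ Fintype.card F ^ i = g h⁻¹ ∧ (φ ^ i * φ ^ i) (g h) = g h := by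
    rintro ⟨B, hB, hinv⟩
    have huniq : ∀ b c : alg ρ, (∀ x y, B x ((b : Module.End F V) y) = B x ((c : Module.End F V) y)) →
        b = c := fun b c h => Subtype.ext (LinearMap.ext fun y => sub_eq_zero.mp (hB.2 _ fun x => by
          rw [map_sub, h, sub_self]))
    have hex : ∀ a : alg ρ, ∃ b : alg ρ,
        ∀ x y, B ((a : Module.End F V) x) y = B x ((b : Module.End F V) y) := by
      rintro ⟨a, ha⟩
      induction ha using Algebra.adjoin_induction with
      | mem x hx =>
        obtain ⟨k, rfl⟩ := hx
        refine ⟨gen ρ k⁻¹, fun x y => ?_⟩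
        show B (ρ k x) y = B x (ρ k⁻¹ y)
        rw [← hinv k x (ρ k⁻¹ y), ← Module.End.mul_apply, ← map_mul, mul_inv_cancel, map_one]
        rfl
      | algebraMap r => exact ⟨⟨_, Subalgebra.algebraMap_mem _ r⟩, fun x y => by simp⟩
      | add x y _ _ hx hy =>
        obtain ⟨b, hb⟩ := hx
        obtain ⟨c, hc⟩ := hy
        exact ⟨b + c, fun u w => by simp [hb, hc]⟩
      | mul x y _ _ hx hy =>
        obtain ⟨b, hb⟩ := hx
        obtain ⟨c, hc⟩ := hy
        exact ⟨c * b, fun u w => (hb _ _).trans (hc _ _)⟩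
    choose σ hσ using hex
    let σh : alg ρ →ₐ[F] alg ρ :=
      { toFun := σ
        map_one' := huniq _ _ fun x y => (hσ 1 x y).symm.trans rfl
        map_mul' := fun a b => huniq _ _ fun x y => by
          rw [← hσ, mul_comm (σ a)]
          exact (hσ a ((b : Module.End F V) x) y).trans (hσ b x _)
        map_zero' := huniq _ _ fun x y => by rw [← hσ]; simp
        map_add' := fun a b => huniq _ _ fun x y => by rw [← hσ]; simp [hσ]
        commutes' := fun r => huniq _ _ fun x y => by rw [← hσ]; simp }
    have hσg : ∀ h, σh (g h) = g h⁻¹ := fun h => huniq _ _ fun x y => by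
      refine (hσ (g h) x y).symm.trans ?_
      show B (ρ h x) y = B x (ρ h⁻¹ y)
      rw [← hinv h x (ρ h⁻¹ y), ← Module.End.mul_apply, ← map_mul, mul_inv_cancel, map_one]
      rfl
    obtain ⟨⟨i, hi⟩, hie⟩ := (FiniteField.bijective_frobeniusAlgEquivOfAlgebraic_pow F (alg ρ)).2
      (AlgEquiv.ofBijective σh (Algebra.IsAlgebraic.algHom_bijective σh))
    have hi' : ∀ h, (φ ^ i) (g h) = g h⁻¹ := fun h => (DFunLike.congr_fun hie (g h)).trans (hσg h)
    refine ⟨i, hn ▸ hi, fun h => ⟨(hφ i _).symm.trans (hi' h), ?_⟩⟩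
    rw [AlgEquiv.mul_apply, hi', hi', inv_inv]
  have htwo : ∀ h : H, ((g h) ^ Fintype.card F ^ 0 = g h⁻¹) → h ^ 2 = 1 := fun h hh => by
    rw [pow_zero, pow_one] at hh
    rw [pow_two]
    nth_rewrite 1 [hg hh]
    exact inv_mul_cancel h
  refine ⟨fun h1 hex => ?_, fun h2 => ⟨fun hex => ?_, fun ⟨⟨m, hm⟩, hdvd⟩ => ?_⟩⟩
  · obtain ⟨i, hi, hall⟩ := key hex
    obtain rfl : i = 0 := by omega
    rw [← IsCyclic.exponent_eq_card]
    exact Nat.le_of_dvd two_pos (Monoid.exponent_dvd_iff_forall_pow_eq_one.mpr fun h => htwo h (hall h).1)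
  · obtain ⟨i, hi, hall⟩ := key hex
    have hfix : φ ^ (i + i) = 1 := by
      refine AlgEquiv.ext fun a => ?_
      rw [pow_add]
      obtain ⟨a, ha⟩ := a
      induction ha using Algebra.adjoin_induction with
      | mem x hx => obtain ⟨k, rfl⟩ := hx; exact (hall k).2
      | algebraMap r => exact AlgEquiv.commutes _ r
      | add x y hx' hy' hx hy =>
        rw [show (⟨x + y, _⟩ : alg ρ) = ⟨x, hx'⟩ + ⟨y, hy'⟩ from rfl, map_add, map_add, hx, hy]
      | mul x y hx' hy' hx hy =>
        rw [show (⟨x * y, _⟩ : alg ρ) = ⟨x, hx'⟩ * ⟨y, hy'⟩ from rfl, map_mul, map_mul, hx, hy]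
    have hdn : n ∣ i + i := hord ▸ orderOf_dvd_of_pow_eq_one hfix
    have hi0 : i ≠ 0 := by
      rintro rfl
      have hsc : ∀ a : alg ρ, ∃ r : F, algebraMap F (alg ρ) r = a := by
        rintro ⟨a, ha⟩
        induction ha using Algebra.adjoin_induction with
        | mem x hx =>
          obtain ⟨k, rfl⟩ := hx
          rcases sq_eq_one_iff.mp (show g k ^ 2 = 1 by rw [← map_pow, htwo k (hall k).1, map_one]) with e | e
          · exact ⟨1, by rw [map_one]; exact e.symm⟩
          · exact ⟨-1, by rw [map_neg, map_one]; exact e.symm⟩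
        | algebraMap r => exact ⟨r, rfl⟩
        | add x y hx' hy' hx hy =>
          obtain ⟨a, ha⟩ := hx
          obtain ⟨b, hb⟩ := hy
          exact ⟨a + b, by rw [map_add, ha, hb]; rfl⟩
        | mul x y hx' hy' hx hy =>
          obtain ⟨a, ha⟩ := hx
          obtain ⟨b, hb⟩ := hy
          exact ⟨a * b, by rw [map_mul, ha, hb]; rfl⟩
      have hle := LinearMap.finrank_le_finrank_of_injective
        (f := (LinearEquiv.ofBijective (Algebra.linearMap F (alg ρ))
          ⟨(algebraMap F (alg ρ)).injective, hsc⟩).symm.toLinearMap) (LinearEquiv.injective _)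
      rw [hn, Module.finrank_self] at hle
      omega
    obtain ⟨c, hc⟩ := hdn
    have hc1 : c = 1 := by
      rcases c with _ | _ | c
      · omega
      · rfl
      · exfalso; rw [Nat.mul_add, Nat.mul_add] at hc; omega
    rw [hc1, mul_one] at hc
    refine ⟨⟨i, hc.symm⟩, ?_⟩
    rw [← IsCyclic.exponent_eq_card, show n / 2 = i by omega]
    refine Monoid.exponent_dvd_iff_forall_pow_eq_one.mpr fun h => hg ?_
    rw [map_pow, pow_succ, (hall h).1, ← map_mul, inv_mul_cancel]
  · have hm2 : n / 2 = m := by omega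
    rw [hm2] at hdvd
    set σ := φ ^ m
    have hσg : ∀ h, σ (g h) = g h⁻¹ := fun h => by
      rw [hφ, ← map_pow]
      congr 1
      refine eq_inv_of_mul_eq_one_left ?_
      rw [← pow_succ]
      exact orderOf_dvd_iff_pow_eq_one.mp ((orderOf_dvd_natCard h).trans hdvd)
    let T := Algebra.traceForm F (alg ρ)
    have hT : T.Nondegenerate := traceForm_nondegenerate F (alg ρ)
    refine ⟨T.compl₁₂ e.symm.toLinearMap (σ.toLinearEquiv.toLinearMap.comp e.symm.toLinearMap), ⟨?_, ?_⟩, ?_⟩
    · intro x hx
      refine e.symm.injective ((hT.1 (e.symm x) fun b => ?_).trans (map_zero e.symm).symm)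
      have := hx (e (σ.symm b))
      simpa using this
    · intro y hy
      refine e.symm.injective (σ.injective ((hT.2 (σ (e.symm y)) fun a => ?_).trans ?_))
      · have := hy (e a)
        simpa using this
      · simp
    · intro h x y
      have hev : ∀ z, e.symm (ρ h z) = g h * e.symm z := fun z => e.injective (by
        rw [LinearEquiv.apply_symm_apply, ev_mul, LinearEquiv.apply_symm_apply]
        rfl)
      simp only [LinearMap.compl₁₂_apply, LinearMap.comp_apply, LinearEquiv.coe_coe, T,
        Algebra.traceForm_apply, AlgEquiv.toLinearEquiv_apply, hev, map_mul, hσg]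
      rw [mul_mul_mul_comm, ← map_mul, mul_inv_cancel, map_one, one_mul]

end Cfsg.Agent.S4967
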