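import Cfsg.Statements.S4969
import Cfsg.Agent.Lib.CharDegree.Basic
import Mathlib.Analysis.SpecialFunctions.Sqrt
import Mathlib.Data.Real.Sqrt
import Mathlib.Algebra.Order.BigOperators.Ring.Finset

set_option autoImplicit false
open Cfsg CfsgLib.Char CfsgLib.CharDegree

namespace Cfsg.Agent.S4969

/-- Let G be a finite group with k conjugacy classes, g ∈ G, and N > 0. Then the sum over the irreducible complex characters χ of G with χ(1) ≥ N of |χ(g)|/χ(1) is at most √(k · #C_G(g)) / N. -/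
theorem result {G : Type*} [Group G] [Finite G] (g : G) (N : ℝ) (hN : 0 < N) :
    ∑ᶠ χ : Cfsg.IrrCharacter G, (if N ≤ ‖(χ : G → ℂ) 1‖ then ‖(χ : G → ℂ) g‖ / ‖(χ : G → ℂ) 1‖ else 0) ≤
      Real.sqrt ((Nat.card (ConjClasses G) : ℝ) * (Nat.card ↥(Subgroup.centralizer ({g} : Set G)) : ℝ)) / N := by
  classical
  have := Fintype.ofFinite G
  have := Fintype.ofFinite (Cfsg.IrrCharacter G)
  rw [finsum_eq_sum_of_fintype, le_div_iff₀ hN, Finset.sum_mul]
  have hle : ∀ χ : Cfsg.IrrCharacter G,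
      (if N ≤ ‖(χ : G → ℂ) 1‖ then ‖(χ : G → ℂ) g‖ / ‖(χ : G → ℂ) 1‖ else 0) * N ≤
        1 * ‖(χ : G → ℂ) g‖ := by
    intro χ
    split_ifs with hd
    · rw [one_mul, div_mul_eq_mul_div, div_le_iff₀ (hN.trans_le hd)]
      exact mul_le_mul_of_nonneg_left hd (norm_nonneg _)
    · simp
  refine (Finset.sum_le_sum fun χ _ => hle χ).trans ?_
  refine (Real.sum_mul_le_sqrt_mul_sqrt _ (fun _ => (1 : ℝ)) _).trans (le_of_eq ?_)
  rw [← Real.sqrt_mul (Finset.sum_nonneg fun _ _ => by positivity)]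
  congr 2
  · rw [← card_irrCharacter, Nat.card_eq_fintype_card]; simp
  · have ho := column_orthogonality g g
    rw [if_pos (IsConj.refl g)] at ho
    simp only [Complex.mul_conj] at ho
    rw [← Complex.ofReal_natCast, ← Complex.ofReal_sum, Complex.ofReal_inj] at ho
    rw [← ho]
    exact Finset.sum_congr rfl fun χ _ => (Complex.normSq_eq_norm_sq _).symm

end Cfsg.Agent.S4969
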