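import Cfsg.Statements.S5197
import Cfsg.Agent.Lib.Fusion.TransferLocal

set_option autoImplicit false
universe u
open Cfsg CfsgLib.Fusion

namespace Cfsg.Agent.S5197

/-- Let p be a prime and W a positive characteristic p-functor: W assigns to every finite p-group Q (in a fixed universe) a subgroup W(Q), nontrivial when Q is, carried to W(R) by every isomorphism Q ≅ R. Suppose W satisfies the local condition: for every finite group G with Sylow p-subgroup P such that C_G(O_p(G)) ≤ O_p(G), one has O_p(G) ∩ [G, G] = O_p(G) ∩ [N, N] for N = N_G(W(P)). Then W controls transfer in every saturated fusion system F over a finite p-group S: the focal subgroup of F equals the focal subgroup of the normalizer fusion system of W(S) in F. -/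
theorem result {p : ℕ} [Fact p.Prime] (W : ∀ (Q : Type u) [Group Q], Subgroup Q) (hW1 : ∀ (Q : Type u) [Group Q] [Finite Q], IsPGroup p Q → Nontrivial Q → W Q ≠ ⊥) (hW2 : ∀ (Q R : Type u) [Group Q] [Group R] [Finite Q], IsPGroup p Q → ∀ φ : Q ≃* R, (W Q).map φ.toMonoidHom = W R) (hT : ∀ (G : Type u) [Group G] [Finite G] (P : Sylow p G), Subgroup.centralizer ((Cfsg.pCore p G : Subgroup G) : Set G) ≤ Cfsg.pCore p G → Cfsg.pCore p G ⊓ commutator G = Cfsg.pCore p G ⊓ (commutator ↥(Subgroup.normalizer (((W ↥(P : Subgroup G)).map (P : Subgroup G).subtype : Subgroup G) : Set G))).map (Subgroup.normalizer (((W ↥(P : Subgroup G)).map (P : Subgroup G).subtype : Subgroup G) : Set G)).subtype) {Ω : Type u} [Group Ω] {S : Subgroup Ω} [Finite S] (hS : IsPGroup p S) (F : Cfsg.FusionSystem S) (hF : F.IsSaturated p) (N : Cfsg.FusionSystem (Cfsg.FusionSystem.normalizerIn S ((W ↥S).map S.subtype))) (hN : F.IsNormalizerSystem ((W ↥S).map S.subtype) N) : N.focalSubgroup = F.focalSubgroup := by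
  revert N
  rw [← functorOf_eq hS (W := W)]
  intro N hN
  have hST : S ≤ FusionSystem.normalizerIn S (functorOf p W S) :=
    le_inf le_rfl (Subgroup.le_normalizer.trans (normalizer_le_normalizer_functorOf hW2 S))
  refine le_antisymm ?_ ?_
  · rw [FusionSystem.focalSubgroup, Subgroup.closure_le]
    rintro _ ⟨P, φ, x, hφ, rfl⟩
    exact Subgroup.subset_closure ⟨P, φ, x, normalizerSystem_le hN hφ, rfl⟩
  · have hK : N.focalSubgroup ≤ S := by
      rw [FusionSystem.focalSubgroup, Subgroup.closure_le]
      rintro _ ⟨P, φ, x, hφ, rfl⟩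
      have h := normalizerSystem_le hN hφ
      exact S.mul_mem (S.inv_mem (hom_le h x.2)) (hom_apply_mem h x)
    rw [FusionSystem.focalSubgroup, Subgroup.closure_le]
    rintro _ ⟨P, φ, x, hφ, rfl⟩
    exact discrepancy_of_local W hW1 hW2 hT _ _ rfl rfl hS hF N.focalSubgroup
      ((Subgroup.commutator_mono hST hST).trans commutator_le_focal) hK
      (fun A χ hχ z => Subgroup.subset_closure ⟨A, χ, z, (hN A).ge hχ, rfl⟩) P φ hφ x

end Cfsg.Agent.S5197
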