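import Cfsg.Statements.S5252
import Cfsg.Agent.S5197
import Cfsg.Agent.Lib.Fusion.Tate
import Cfsg.Agent.Lib.Techniques.KInfTheorems

set_option autoImplicit false
open Cfsg

namespace Cfsg.Agent.S5252

open Cfsg.FusionSystem CfsgLib.Fusion

universe u

theorem transfer_local {p : ℕ} [Fact p.Prime] (h5 : 5 ≤ p) (G : Type u) [Group G] [Finite G]
    (P : Sylow p G) :
    pCore p G ⊓ commutator G = pCore p G ⊓ (commutator ↥(Subgroup.normalizer
        (((kInfLower ↥(P : Subgroup G)).map (P : Subgroup G).subtype : Subgroup G) : Set G))).map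
        (Subgroup.normalizer
          (((kInfLower ↥(P : Subgroup G)).map (P : Subgroup G).subtype : Subgroup G) : Set G)).subtype := by
  have hW := (CfsgLib.Techniques.kInf_isCharPFunctor.{u} (p := p)).1
  have h := CfsgLib.Techniques.controlsTransfer_at
    (CfsgLib.Techniques.inducedFunctor_isConjugacyFunctor hW G)
    (CfsgLib.Techniques.kInf_transfer (G := G) hW CfsgLib.Techniques.kBad_lower h5)
    (CfsgLib.Techniques.isSylowSub_sylow P)
  rw [top_inf_eq, ← _root_.commutator_def] at h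
  rw [Subgroup.map_subtype_commutator]
  have hO := CfsgLib.Core.pCore_le_sylow P
  have e1 : ∀ A : Subgroup G, pCore p G ⊓ A = pCore p G ⊓ ((P : Subgroup G) ⊓ A) := fun A => by
    rw [← inf_assoc, inf_eq_left.2 hO]
  rw [e1 (commutator G), h, ← e1]
  rfl

theorem focal_lt {p : ℕ} [Fact p.Prime] (h5 : 5 ≤ p) : ∀ (n : ℕ) {Ω : Type u} [Group Ω]
    {S : Subgroup Ω} [Finite S] (F : FusionSystem S), Nat.card S = n → IsPGroup p S →
    F.IsSaturated p → S ≠ ⊥ → IsPGroup p ↥(F.autGroup S) → F.focalSubgroup < S := by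
  intro n
  induction n using Nat.strong_induction_on with
  | _ n ih =>
  intro Ω _ S _ F hn hS hF hS1 haut
  have hW := (CfsgLib.Techniques.kInf_isCharPFunctor.{u} (p := p)).1
  set X := (kInfLower ↥S).map S.subtype with hX
  have hXS : X ≤ S := Subgroup.map_subtype_le _
  have hXN : S ≤ Subgroup.normalizer (X : Set Ω) := by
    have := Subgroup.le_normalizer.trans (normalizer_le_normalizer_functorOf (p := p) hW.2 S)
    rwa [functorOf_eq hS] at this
  have hNS : normalizerIn S X = S := inf_eq_left.2 hXN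
  have hfn : F.IsFullyNormalized X := ⟨hXS, fun R _ => by
    rw [hNS]; exact Subgroup.card_le_of_le inf_le_left⟩
  have hX1 : X ≠ ⊥ := by
    rw [hX, ne_eq, Subgroup.map_eq_bot_iff_of_injective _ S.subtype_injective]
    exact hW.1 S hS ((Subgroup.nontrivial_iff_ne_bot S).2 hS1)
  have hfoc := Cfsg.Agent.S5197.result (p := p) kInfLower hW.1 hW.2
    (fun G _ _ P _ => transfer_local h5 G P) hS F hF (normSystem F X hXS)
    (normSystem_isNormalizerSystem F X hXS)
  set M := copySystem hNS (normSystem F X hXS) with hM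
  have hMF : M ≤ F := fun P φ hφ =>
    normalizerSystem_le (normSystem_isNormalizerSystem F X hXS) hφ
  have hMn : M.IsNormal X :=
    copySystem_isNormal hNS (normalizerSystem_isNormal hXS (normSystem_isNormalizerSystem F X hXS))
  have hMs : M.IsSaturated p := copySystem_saturated hNS
    (normalizerSystem_saturated hS hF hfn (normSystem_isNormalizerSystem F X hXS))
  have hfoc' : M.focalSubgroup = F.focalSubgroup := hfoc
  rw [← hfoc']
  have hMfS : M.focalSubgroup ≤ S := by
    rw [FusionSystem.focalSubgroup, Subgroup.closure_le]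
    rintro _ ⟨P, φ, x, hφ, rfl⟩
    exact S.mul_mem (S.inv_mem (hom_le hφ x.2)) (hom_apply_mem hφ x)
  refine lt_of_le_of_ne hMfS fun htop => ?_
  -- a proper normal subgroup contains the derived subgroup
  have hder : commutator S ≠ ⊤ := by
    have : Nontrivial S := (Subgroup.nontrivial_iff_ne_bot S).2 hS1
    have := hS.isNilpotent
    exact (Group.IsSolvable.commutator_lt_top_of_nontrivial S).ne
  by_cases hXtop : X = S
  · -- every map is a restriction of an inner automorphism
    have hle : M.focalSubgroup ≤ ⁅S, S⁆ := by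
      rw [FusionSystem.focalSubgroup, Subgroup.closure_le]
      rintro _ ⟨P, φ, x, hφ, rfl⟩
      obtain ⟨ψ, hψ, hψP, -⟩ := hMn.2 P φ hφ
      have hle : S ≤ P ⊔ X := hXtop.ge.trans le_sup_right
      have hψS : ψ.comp (Subgroup.inclusion hle) ∈ F.Hom S := hMF S (restrict_mem hψ hle)
      obtain ⟨α, hα, hαv⟩ := exists_iso hψS (hom_range_eq_self hψS)
      have hαF : (α : MulAut S) ∈ F.autGroup S := (mem_autGroup_iff_isoIn le_rfl).2 hα
      have := finite_mulAut_of_le (S := S) (P := S) le_rfl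
      obtain ⟨R, hR⟩ := (IsSaturated.fullyAutomized hS hF isFullyNormalized_self).2
      have hRtop : (R : Subgroup (F.autGroup S)) = ⊤ :=
        (R.is_maximal' (haut.to_subgroup ⊤) le_top).symm
      have hmem : (⟨α, hαF⟩ : F.autGroup S) ∈ (autInducedBy S S).subgroupOf (F.autGroup S) := by
        rw [← hR, hRtop]; exact Subgroup.mem_top _
      obtain ⟨g, hg, hgv⟩ := mem_autInducedBy_iff.1 (Subgroup.mem_subgroupOf.1 hmem)
      have e : φ x = g * (x : Ω) * g⁻¹ := by
        refine Eq.trans ?_ (hgv ⟨x, hom_le hφ x.2⟩)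
        rw [← hψP x, hαv]
        exact congrArg ψ (Subtype.ext rfl)
      have h := Subgroup.commutator_mem_commutator (S.inv_mem (hom_le hφ x.2)) hg
      rw [commutatorElement_def, inv_inv] at h
      show (x : Ω)⁻¹ * φ x ∈ _
      rw [e]
      simpa [mul_assoc] using h
    refine hder (Subgroup.map_injective S.subtype_injective ?_)
    rw [Subgroup.map_subtype_commutator, ← MonoidHom.range_eq_map, Subgroup.range_subtype]
    exact le_antisymm (Subgroup.commutator_le.2 fun a ha b hb => by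
      rw [commutatorElement_def]
      exact S.mul_mem (S.mul_mem (S.mul_mem ha hb) (S.inv_mem ha)) (S.inv_mem hb))
      (htop.ge.trans hle)
  -- the factor system
  have hsc : M.StronglyClosed X := IsNormal.stronglyClosed hMn
  set NX := X.subgroupOf S with hNX
  have hNXn : NX.Normal := ⟨fun a ha b => by
    have := conj_mem_of_mem_normalizer (hXN b.2) (show (a : Ω) ∈ X from ha)
    exact this⟩
  let θ : S →* S ⧸ NX := QuotientGroup.mk' NX
  have hθ : ∀ s : S, θ s = 1 ↔ (s : Ω) ∈ X := fun s => QuotientGroup.eq_one_iff s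
  let E := factorSystem M hsc θ hθ (MonoidHom.range_eq_top.2 (QuotientGroup.mk'_surjective NX))
  have hE : M.IsFactorSystem X θ E :=
    ⟨hXS, hθ, MonoidHom.range_eq_top.2 (QuotientGroup.mk'_surjective NX), fun _ _ => Iff.rfl⟩
  have hEs : E.IsSaturated p := factor_saturated hS hMs hsc hE
  have htp : IsPGroup p (⊤ : Subgroup (S ⧸ NX)) := (hS.to_quotient NX).to_subgroup _
  have hne : (⊤ : Subgroup (S ⧸ NX)) ≠ ⊥ := by
    intro h
    refine hXtop (le_antisymm hXS fun s hs => (hθ ⟨s, hs⟩).1 ?_)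
    exact Subgroup.mem_bot.1 (h ▸ Subgroup.mem_top (θ ⟨s, hs⟩))
  have hcard : Nat.card (⊤ : Subgroup (S ⧸ NX)) < n := by
    rw [Subgroup.card_top, ← hn, NX.card_eq_card_quotient_mul_card_subgroup]
    refine lt_mul_of_one_lt_right Nat.card_pos ?_
    rw [Nat.one_lt_iff_ne_zero_and_ne_one]
    refine ⟨Nat.card_pos.ne', fun h1 => hX1 ?_⟩
    rw [← inf_eq_left.2 hXS, ← Subgroup.subgroupOf_map_subtype, ← hNX, Subgroup.card_eq_one.1 h1,
      Subgroup.map_bot]
  have hpre : preimageAlong θ (⊤ : Subgroup (S ⧸ NX)) = S :=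
    le_antisymm (preimageAlong_le θ _) fun s hs =>
      (mem_preimageAlong (x := ⟨s, hs⟩)).2 (Subgroup.mem_top _)
  have hEaut : IsPGroup p ↥(E.autGroup (⊤ : Subgroup (S ⧸ NX))) := by
    intro β
    obtain ⟨-, φ, hφ, hP, hφS, hm, hind⟩ := (mem_autGroup_iff le_rfl).1 β.2
    have hψ : φ.comp (Subgroup.inclusion hpre.ge) ∈ F.Hom S := hMF S (restrict_mem hφ hpre.ge)
    obtain ⟨α, hα, hαv⟩ := exists_iso hψ (hom_range_eq_self hψ)
    obtain ⟨k, hk⟩ := haut ⟨α, (mem_autGroup_iff_isoIn le_rfl).2 hα⟩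
    refine ⟨k, Subtype.ext (MulEquiv.ext fun y => Subtype.ext ?_)⟩
    have hstep : ∀ (i : ℕ) (s : S), ((((β : MulAut (⊤ : Subgroup (S ⧸ NX))) ^ i) ⟨θ s, trivial⟩ :
        (⊤ : Subgroup (S ⧸ NX))) : S ⧸ NX) = θ (((α : MulAut S) ^ i) s) := by
      intro i
      induction i with
      | zero => intro s; rfl
      | succ i ihi =>
        intro s
        rw [pow_succ', pow_succ', MulAut.mul_apply, MulAut.mul_apply]
        have e := hind ⟨((((α : MulAut S) ^ i) s : S) : Ω), hpre.ge (SetLike.coe_mem _)⟩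
        rw [show (((β : MulAut (⊤ : Subgroup (S ⧸ NX))) ^ i) ⟨θ s, trivial⟩ :
          (⊤ : Subgroup (S ⧸ NX))) = ⟨θ (((α : MulAut S) ^ i) s), trivial⟩ from Subtype.ext (ihi s)]
        refine e.trans (congrArg θ (Subtype.ext ?_))
        exact (hαv _).symm
    obtain ⟨s, hs⟩ := QuotientGroup.mk'_surjective NX (y : S ⧸ NX)
    rw [show y = ⟨θ s, trivial⟩ from Subtype.ext hs.symm, Subgroup.coe_pow, hstep (p ^ k) s,
      show (α : MulAut S) ^ p ^ k = 1 from congrArg Subtype.val hk]
    rfl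
  refine (ih _ hcard E rfl htp hEs hne hEaut).ne (le_antisymm le_top fun y _ => ?_)
  obtain ⟨⟨s, hs⟩, rfl⟩ := QuotientGroup.mk'_surjective NX y
  obtain ⟨hmor, -, -⟩ := factor_isSurjectiveMorphism hS hMs hsc hE
  have hle : M.focalSubgroup ≤ (E.focalSubgroup.comap θ).map S.subtype := by
    conv_lhs => rw [FusionSystem.focalSubgroup]
    rw [Subgroup.closure_le]
    rintro _ ⟨P, φ, x, hφ, rfl⟩
    obtain ⟨φ', hφ', hPS, hφS, hm, hind⟩ := hmor.2 P φ hφ
    refine ⟨⟨x, hPS x.2⟩⁻¹ * ⟨φ x, hφS x⟩, ?_, rfl⟩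
    refine Subgroup.subset_closure ⟨_, φ', ⟨θ ⟨x, hPS x.2⟩, hm x⟩, hφ', ?_⟩
    rw [hind x, map_mul, map_inv]
  obtain ⟨t, ht, hts⟩ := hle (htop.ge hs)
  rw [show (⟨s, hs⟩ : S) = t from Subtype.ext hts.symm]
  exact ht

/-- Let p ≥ 5 be a prime and F a saturated fusion system over a nontrivial finite p-group S such that Aut_F(S) is a p-group. Then the focal subgroup of F is a proper subgroup of S. -/
theorem result {Ω : Type*} [Group Ω] {S : Subgroup Ω} [Finite S] (p : ℕ) [Fact p.Prime] (hS : IsPGroup p S) (F : Cfsg.FusionSystem S) (hF : F.IsSaturated p) (hp : 5 ≤ p) (hS1 : S ≠ ⊥) (haut : IsPGroup p ↥(F.autGroup S)) : F.focalSubgroup < S := by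
  exact focal_lt hp _ F rfl hS hF hS1 haut

end Cfsg.Agent.S5252
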