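import Cfsg.Statements.S4978
import Cfsg.Agent.S5252
import Cfsg.Agent.Lib.Blocks.HeightZeroCongr
import Cfsg.Agent.Lib.Blocks.Star.Count
import Cfsg.Agent.Lib.Pairs.Saturated
import Cfsg.Agent.Lib.Pairs.PiKernel
import Cfsg.Agent.Lib.Blocks.FirstMain
-- import your own Cfsg.Agent.* helpers here

set_option autoImplicit false
open Cfsg

namespace Cfsg.Agent.S4978

theorem one_eq_sq_two : ∀ r : ZMod 2, r ≠ 0 → (1 : ZMod 2) = r ^ 2 := by decide

theorem one_eq_sq_three : ∀ r : ZMod 3, r ≠ 0 → (1 : ZMod 3) = r ^ 2 := by decide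

/-- Let p be a prime and B a p-block of the finite group G (relative to a maximal ideal M of the algebraic integers containing p) with a nontrivial defect group D whose automorphism group is a p-group (for a p-group D this is the same as its outer automorphism group being a p-group). Then the number of irreducible characters of height zero in B is divisible by p; if p > 3 this number is at least 2p, and if moreover p ≡ 3 (mod 4) it is at least 3p. -/
theorem result {G : Type*} [Group G] [Finite G] (p : ℕ) [Fact p.Prime] (M : Ideal Cfsg.AlgInt) (hM : Cfsg.IsPModular p M) (B : Set (Cfsg.IrrCharacter G)) (hB : Cfsg.IsPBlock M B) (D : Subgroup G) (hD : Cfsg.IsDefectGroup p M B D) (hD1 : D ≠ ⊥) (hAut : IsPGroup p (MulAut ↥D)) : p ∣ Nat.card {χ : Cfsg.IrrCharacter G // χ ∈ B ∧ Cfsg.blockHeight p B (χ : G → ℂ) = 0} ∧ (3 < p → 2 * p ≤ Nat.card {χ : Cfsg.IrrCharacter G // χ ∈ B ∧ Cfsg.blockHeight p B (χ : G → ℂ) = 0}) ∧ (3 < p → p % 4 = 3 → 3 * p ≤ Nat.card {χ : Cfsg.IrrCharacter G // χ ∈ B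 ∧ Cfsg.blockHeight p B (χ : G → ℂ) = 0}) := by
  classical
  have := Fintype.ofFinite G
  haveI : M.IsPrime := hM.2.1.isPrime
  have hp : p.Prime := Fact.out
  have hDp : IsPGroup p D := CfsgLib.Blocks.IsDefectGroup.isPGroup hD
  have hcardD : Nat.card D = p ^ Cfsg.blockDefect p B :=
    CfsgLib.Blocks.IsDefectGroup.card_eq hM hB hD
  have hd1 : 1 ≤ Cfsg.blockDefect p B := by
    by_contra h
    rw [Nat.lt_one_iff.1 (not_le.1 h), pow_zero] at hcardD
    exact hD1 (Subgroup.card_eq_one.1 hcardD)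
  have hsq := CfsgLib.Blocks.sum_sq_redDeg_eq_zero hM hB hd1
  have hodd : p < 5 →
      p ∣ Nat.card {χ : Cfsg.IrrCharacter G // χ ∈ B ∧ Cfsg.blockHeight p B (χ : G → ℂ) = 0} := by
    intro h5
    rw [← CfsgLib.Blocks.card_heightZeroSet, ← ZMod.natCast_eq_zero_iff]
    refine Eq.trans ?_ hsq
    rw [Finset.card_eq_sum_ones, Nat.cast_sum]
    refine Finset.sum_congr rfl fun ξ hξ => ?_
    obtain ⟨hξB, hξ0⟩ := CfsgLib.Blocks.mem_heightZeroSet.1 hξ
    have hne := CfsgLib.Blocks.redDeg_ne_zero (p := p) hξB hξ0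
    revert hne
    generalize (CfsgLib.Blocks.redDeg p B (ξ : G → ℂ) : ZMod p) = r
    intro hne
    rw [Nat.cast_one]
    have h23 : p = 2 ∨ p = 3 := by
      have := hp.two_le
      interval_cases p
      · exact Or.inl rfl
      · exact Or.inr rfl
      · exact absurd hp (by decide)
    rcases h23 with rfl | rfl
    · exact one_eq_sq_two r hne
    · exact one_eq_sq_three r hne
  by_cases h5 : p < 5
  · have h4 : p ≠ 4 := fun h => absurd (h ▸ hp) (by decide)
    exact ⟨hodd h5, fun h3 => absurd h3 (by omega), fun h3 => absurd h3 (by omega)⟩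
  push Not at h5
  -- the fusion system of the block on `D`
  obtain ⟨B₁, ⟨-, hB₁D, hB₁⟩, -⟩ := CfsgLib.Blocks.existsUnique_correspondent hM hB hD
  obtain ⟨ξ, -, hmax⟩ := CfsgLib.Pairs.exists_maximal_covered hM hD hB₁ hB₁D
  have hF := CfsgLib.Pairs.isBlockFusionSystemOn_blockFusion hM hmax
  set F := CfsgLib.Pairs.blockFusion hM hmax
  have hlt : F.focalSubgroup < D := Cfsg.Agent.S5252.result p hDp F
    (CfsgLib.Pairs.isSaturated_of_isBlockFusionSystemOn hF hM) h5 hD1
    (hAut.to_subgroup (F.autGroup D))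
  haveI := CfsgLib.Star.focal_normal F
  have hidx1 : (F.focalSubgroup.subgroupOf D).index ≠ 1 := by
    rw [Ne, Subgroup.index_eq_one, Subgroup.subgroupOf_eq_top]
    exact hlt.not_ge
  have hpidx : p ∣ (F.focalSubgroup.subgroupOf D).index := by
    obtain ⟨j, -, hj⟩ := (Nat.dvd_prime_pow hp).1
      (hcardD ▸ (F.focalSubgroup.subgroupOf D).index_dvd_card)
    rw [hj]
    cases j with
    | zero => exact absurd hj (by simpa using hidx1)
    | succ j => exact dvd_pow_self p j.succ_ne_zero
  refine ⟨hpidx.trans (CfsgLib.Star.index_dvd_card_height_zero hM hF), ?_⟩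
  have hd2 : 2 ≤ Cfsg.blockDefect p B := by
    by_contra h
    have hd : Cfsg.blockDefect p B = 1 := by omega
    rw [hd, pow_one] at hcardD
    haveI : IsCyclic D := isCyclic_of_prime_card hcardD
    obtain ⟨k, hk⟩ := hAut.exists_card_eq
    rw [IsCyclic.card_mulAut, hcardD, Nat.totient_prime hp] at hk
    cases k with
    | zero => rw [pow_zero] at hk; omega
    | succ k =>
      have : p ∣ p - 1 := hk ▸ dvd_pow_self p k.succ_ne_zero
      exact absurd (Nat.le_of_dvd (by omega) this) (by omega)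
  letI := CfsgLib.Star.focalCommGroup F
  letI := CfsgLib.Star.starAction hM hF 0
  obtain ⟨a, ha⟩ := exists_prime_orderOf_dvd_card'
    (G := D ⧸ F.focalSubgroup.subgroupOf D →* ℂˣ) p (by
      rw [CommGroup.card_monoidHom_of_hasEnoughRootsOfUnity]; exact hpidx)
  have hcardA : Nat.card (Subgroup.zpowers a) = p := by rw [Nat.card_zpowers, ha]
  have h := CfsgLib.Blocks.orbit_count_bound hM hB hd2 (H := Subgroup.zpowers a) hcardA
    (fun b χ hb => Subtype.ext (MonoidHom.ext fun q => by
      induction q using QuotientGroup.induction_on with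
      | _ u => exact CfsgLib.Star.apply_eq_one_of_fixed hM hF b.1 hb u (Or.inl rfl)))
    (fun b χ x hx => CfsgLib.Star.star_eq_of_regular hM hF
      (CfsgLib.Star.isFocalChar_lamOf F b.1).isStableChar
      (CfsgLib.Star.isFocalChar_lamOf F b.1).map_one χ.1 hx)
  exact ⟨fun _ => h.1, fun _ h4 => h.2 h4⟩

end Cfsg.Agent.S4978
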