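import Cfsg.Statements.S4989
import Cfsg.Agent.Lib.CharAction.Galois
import Cfsg.Agent.Lib.Char.Complete

set_option autoImplicit false
open Cfsg

namespace Cfsg.Agent.S4989

/-- Let H be a subgroup of the finite group G and χ an irreducible complex character of G. Then the inner product of the restriction of χ to H with itself, (1/#H)·Σ_{h ∈ H} |χ(h)|², is at most 1 + #(Z ∖ H)/#H, where Z is the set of zeros of χ in G. -/
theorem result {G : Type*} [Group G] [Finite G] (H : Subgroup G) (χ : Cfsg.IrrCharacter G) : (Nat.card ↥H : ℝ)⁻¹ * ∑ᶠ h : ↥H, ‖(χ : G → ℂ) h‖ ^ 2 ≤ 1 + (Set.ncard ({x : G | (χ : G → ℂ) x = 0} \ (H : Set G)) : ℝ) / (Nat.card ↥H : ℝ) := by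
  classical
  have := Fintype.ofFinite G
  have := Fintype.ofFinite H
  obtain ⟨S, hS, hScop, w, hw, hgal⟩ := CfsgLib.CharAction.exists_galois_conjugates G
  have hchar := CfsgLib.Char.IsIrr.isCharacter χ.2
  set A : Finset G := Finset.univ.filter fun x => x ∉ H ∧ (χ : G → ℂ) x ≠ 0 with hA
  have hmemA : ∀ x, x ∈ A ↔ (x ∉ H ∧ (χ : G → ℂ) x ≠ 0) := fun x => by simp [hA]
  -- `A` is permuted by powers of exponent prime to the group order
  have hperm : ∀ k ∈ S, ∑ x ∈ A, ‖(χ : G → ℂ) (x ^ k)‖ ^ 2 = ∑ x ∈ A, ‖(χ : G → ℂ) x‖ ^ 2 := by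
    intro k hk
    have hbij : Function.Bijective fun x : G => x ^ k :=
      (powCoprime (G := G) (hScop k hk).symm).bijective
    have himg : A.image (fun x => x ^ k) = A := by
      refine Finset.eq_of_subset_of_card_le (fun y hy => ?_)
        (Finset.card_image_of_injective A hbij.1).ge
      obtain ⟨x, hx, rfl⟩ := Finset.mem_image.mp hy
      rw [hmemA] at hx ⊢
      refine ⟨fun hm => hx.1 ?_, fun h0 => hx.2
        (CfsgLib.CharAction.eq_zero_of_pow_eq_zero hchar (hScop k hk).symm h0)⟩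
      obtain ⟨m, hm'⟩ := exists_pow_eq_self_of_coprime
        (x := x) (((hScop k hk).symm.coprime_dvd_left (orderOf_dvd_natCard x)).symm)
      exact hm' ▸ pow_mem hm m
    conv_rhs => rw [← himg, Finset.sum_image fun a _ b _ h => hbij.1 h]
  have hW : (0 : ℝ) < ((∑ k ∈ S, w k : ℕ) : ℝ) := Nat.cast_pos.mpr (Finset.sum_pos hw hS)
  have hA2 : (A.card : ℝ) ≤ ∑ x ∈ A, ‖(χ : G → ℂ) x‖ ^ 2 := by
    refine le_of_mul_le_mul_left ?_ hW
    calc ((∑ k ∈ S, w k : ℕ) : ℝ) * A.card = ∑ _x ∈ A, ((∑ k ∈ S, w k : ℕ) : ℝ) := by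
          rw [Finset.sum_const, nsmul_eq_mul, mul_comm]
      _ ≤ ∑ x ∈ A, ∑ k ∈ S, (w k : ℝ) * ‖(χ : G → ℂ) (x ^ k)‖ ^ 2 :=
          Finset.sum_le_sum fun x hx => hgal _ x hchar ((hmemA x).mp hx).2
      _ = _ := by
          rw [Finset.sum_comm, Nat.cast_sum, Finset.sum_mul]
          exact Finset.sum_congr rfl fun k hk => by rw [← Finset.mul_sum, hperm k hk]
  -- the norm of `χ` on all of `G`
  have htot : ∑ x : G, ‖(χ : G → ℂ) x‖ ^ 2 = (Nat.card G : ℝ) := by
    have h := CfsgLib.Char.classInner_irr_self χ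
    rw [Cfsg.classInner, inv_mul_eq_one₀ (Nat.cast_ne_zero.mpr Nat.card_pos.ne')] at h
    simp only [Complex.mul_conj, ← Complex.ofReal_sum] at h
    rw [← Complex.ofReal_natCast, Complex.ofReal_inj] at h
    simp only [← Complex.normSq_eq_norm_sq]
    exact h.symm
  have hsplit : (Nat.card H : ℕ) + A.card + Set.ncard ({x : G | (χ : G → ℂ) x = 0} \ (H : Set G)) =
      Nat.card G := by
    rw [Set.ncard_eq_toFinset_card', Nat.card_eq_fintype_card (α := G), ← Finset.card_univ,
      ← Finset.card_filter_add_card_filter_not (s := Finset.univ) (fun x : G => x ∈ H),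
      Nat.card_eq_fintype_card, Fintype.card_subtype, add_assoc]
    congr 1
    rw [hA, ← Finset.card_union_of_disjoint]
    · congr 1
      ext x
      simp only [Finset.mem_union, Finset.mem_filter, Finset.mem_univ, true_and, Set.mem_toFinset,
        Set.mem_sdiff, Set.mem_ofPred_eq, SetLike.mem_coe]
      tauto
    · rw [Finset.disjoint_left]
      intro x hx
      simp only [Finset.mem_filter, Finset.mem_univ, true_and, Set.mem_toFinset, Set.mem_sdiff,
        Set.mem_ofPred_eq] at hx ⊢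
      exact fun h => hx.2 h.1
  have hsum : ∑ h : H, ‖(χ : G → ℂ) h‖ ^ 2 + ∑ x ∈ A, ‖(χ : G → ℂ) x‖ ^ 2 ≤ (Nat.card G : ℝ) := by
    rw [← htot, ← Finset.sum_filter_add_sum_filter_not Finset.univ (fun x : G => x ∈ H)]
    refine add_le_add (le_of_eq ?_) (Finset.sum_le_sum_of_subset_of_nonneg (fun x hx => ?_)
      fun x _ _ => by positivity)
    · exact (Finset.sum_subtype _ (fun x => by simp) fun x => ‖(χ : G → ℂ) x‖ ^ 2).symm
    · simp only [Finset.mem_filter, Finset.mem_univ, true_and]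
      exact ((hmemA x).mp hx).1
  have hH : (0 : ℝ) < Nat.card H := Nat.cast_pos.mpr Nat.card_pos
  rw [finsum_eq_sum_of_fintype]
  have hcast := congrArg (Nat.cast : ℕ → ℝ) hsplit
  push_cast at hcast
  rw [inv_mul_le_iff₀ hH, mul_add, mul_one, mul_div_cancel₀ _ hH.ne']
  linarith

end Cfsg.Agent.S4989
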