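import Cfsg.Statements.S4990
import Cfsg.Agent.Lib.Blocks.HeightPSolvable
import Cfsg.Agent.Lib.Char.RelMcKay.OverBound
import Cfsg.Agent.Lib.RegOrbit.FittingClasses.Quotient

set_option autoImplicit false
open Cfsg

namespace Cfsg.Agent.S4990

open CfsgLib CfsgLib.Blocks CfsgLib.Char CfsgLib.Fusion CfsgLib.ClassBounds

universe u

theorem ncard_block_le {p : ℕ} [Fact p.Prime] {M : Ideal AlgInt} [M.IsPrime] (hM : IsPModular p M) :
    ∀ (n : ℕ) (G : Type u) [Group G] [Fintype G], Nat.card G = n → Group.IsSolvable G →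
    ∀ {B : Set (IrrCharacter G)}, IsPBlock M B →
      B.ncard ≤ 3 ^ (blockDefect p B - 1) * p ^ blockDefect p B := by
  intro n
  induction n using Nat.strong_induction_on with
  | _ n ih =>
    intro G _ _ hn hsolv B hB
    classical
    haveI := hsolv
    have hp : p.Prime := Fact.out
    have hps : IsPSolvable p G := CfsgLib.Core.isPSolvable_of_isSolvable hsolv
    let N := pPrimeCore p G
    have := Fintype.ofFinite N
    have hNp : ¬ p ∣ Nat.card N :=
      (Nat.Prime.coprime_iff_not_dvd hp).1 (CfsgLib.Core.coprime_card_pPrimeCore p G).symm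
    obtain ⟨χ, hχ⟩ := IsPBlock.nonempty hB
    obtain ⟨θ, hθ⟩ := exists_constituent N χ
    by_cases hinv : ∀ g : G, conjIrr N g θ = θ
    · obtain ⟨B', hB', hmem, χ₁, hχ₁, hd₁⟩ := CfsgLib.FongInvariant.exists_block hM hps rfl θ hinv
      obtain rfl : B' = B := IsPBlock.eq_of_mem hB' hB ((hmem χ).2 hθ) hχ
      have hdef : blockDefect p B' = (Nat.card G).factorization p := by
        rw [blockDefect, Nat.sInf_eq_zero.2 (Or.inl ((Set.mem_image _ _ _).2
          ⟨χ₁, hχ₁, Nat.factorization_eq_zero_of_not_dvd hd₁⟩)), Nat.sub_zero]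
      have hcardX : (Nat.card (G ⧸ N)).factorization p = (Nat.card G).factorization p := by
        rw [Subgroup.card_eq_card_quotient_mul_card_subgroup N,
          Nat.factorization_mul Nat.card_pos.ne' Nat.card_pos.ne', Finsupp.add_apply,
          Nat.factorization_eq_zero_of_not_dvd hNp, add_zero]
      have hX : Group.IsSolvable (G ⧸ N) :=
        Group.isSolvable_of_surjective (f := QuotientGroup.mk' N) (QuotientGroup.mk'_surjective N)
      have hk := CfsgLib.RegOrbit.kcl_le_pow_of_core_bot (p := p) hX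
        (CfsgLib.Core.pPrimeCore_quotient_pPrimeCore p G)
      rw [hcardX, ← hdef] at hk
      refine le_trans ?_ hk
      refine le_trans (le_of_eq ?_) (CfsgLib.Char.RelMcKay.card_over_le (N := N) θ fun g n => ?_)
      · rw [← Nat.card_coe_set_eq]
        exact Nat.card_congr (Equiv.subtypeEquivRight hmem)
      · have h := CfsgLib.Blocks.conjIrr_apply N g θ n
        rw [hinv g] at h
        exact h.symm
    · set T := Clifford.inertia (inferInstance : N.Normal) (θ : N → ℂ) with hTdef
      have hNT : N ≤ T := Clifford.le_inertia _ (IsIrr.isClassFunction θ.2)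
      have hT' : ∀ g : G, g ∈ T ↔ conjIrr N g θ = θ := fun g => by
        rw [hTdef, Clifford.mem_inertia, Subtype.ext_iff, conjIrr_eq_conjFn]
      have hT : ∀ g : G, g ∈ T ↔ ∀ φ ∈ ({θ} : Set (IrrCharacter N)),
          conjIrr N g φ ∈ ({θ} : Set (IrrCharacter N)) := fun g => by
        simp only [Set.mem_singleton_iff, forall_eq, hT']
      have hb : IsPBlock M ({θ} : Set (IrrCharacter N)) :=
        ⟨θ, (blockOf_eq_singleton_of_coprime hM hNp θ).symm⟩
      have hlt : Nat.card T < Nat.card G := by
        refine lt_of_le_of_ne (Nat.le_of_dvd Nat.card_pos T.card_subgroup_dvd_card) fun he => hinv ?_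
        intro g
        exact (hT' g).1 ((Subgroup.eq_top_of_card_eq T he).symm ▸ Subgroup.mem_top g)
      have := Fintype.ofFinite T
      obtain ⟨ψ, hψ, hind, hBi⟩ :=
        exists_liesOver_of_mem N hNT hb hT hB hχ (Set.mem_singleton θ) hθ hχ
      have hB' := isPBlock_blockOf (M := M) ψ
      obtain ⟨D', hD'⟩ := exists_isDefectGroup (p := p) hB'
      obtain ⟨E, hE, hDE⟩ := IsInducedBlock.defectGroup_le hM hBi hD'
      have hdle : blockDefect p (blockOf M (ψ : T → ℂ)) ≤ blockDefect p B := by
        have h1 := Subgroup.card_le_of_le hDE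
        rw [Subgroup.card_map_of_injective T.subtype_injective, IsDefectGroup.card_eq hM hB' hD',
          IsDefectGroup.card_eq hM hB hE] at h1
        exact (Nat.pow_le_pow_iff_right hp.one_lt).1 h1
      refine le_trans ?_ ((ih (Nat.card T) (hn ▸ hlt) T rfl
        (Group.isSolvable_of_isSolvable_injective (f := T.subtype) T.subtype_injective) hB').trans
          (Nat.mul_le_mul (Nat.pow_le_pow_right (by norm_num) (Nat.sub_le_sub_right hdle 1))
            (Nat.pow_le_pow_right hp.pos hdle)))
      have hex : ∀ x : B, ∃ φ : (blockOf M (ψ : T → ℂ) : Set (IrrCharacter T)),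
          indFun T ((φ : IrrCharacter T) : T → ℂ) = ((x : IrrCharacter G) : G → ℂ) := fun x => by
        obtain ⟨ψ₁, hψ₁, hind₁, hBi₁⟩ :=
          exists_liesOver_of_mem N hNT hb hT hB hχ (Set.mem_singleton θ) hθ x.2
        exact ⟨⟨ψ₁, eq_of_isInducedBlock N hNT hb hT (mem_blockOf_self ψ₁) (mem_blockOf_self ψ) hψ₁ hψ
          hBi₁ hBi ▸ mem_blockOf_self ψ₁⟩, hind₁⟩
      choose f hf using hex
      rw [← Nat.card_coe_set_eq, ← Nat.card_coe_set_eq]
      exact Nat.card_le_card_of_injective f fun x y e =>
        Subtype.ext (Subtype.ext (by rw [← hf x, e, hf y]))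

/-- Let G be a finite solvable group, p a prime, M a maximal ideal of the algebraic integers containing p, and B a p-block of G of positive defect d. Then B contains at most 3^{d−1}·p^d irreducible complex characters. -/
theorem result {G : Type*} [Group G] [Finite G] (hsolv : Group.IsSolvable G) (p : ℕ) [Fact p.Prime] (M : Ideal Cfsg.AlgInt) (hM : Cfsg.IsPModular p M) (B : Set (Cfsg.IrrCharacter G)) (hB : Cfsg.IsPBlock M B) (hd : 0 < Cfsg.blockDefect p B) : Set.ncard B ≤ 3 ^ (Cfsg.blockDefect p B - 1) * p ^ Cfsg.blockDefect p B := by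
  have := Fintype.ofFinite G
  haveI : M.IsPrime := hM.2.1.isPrime
  exact ncard_block_le hM (Nat.card G) G rfl hsolv hB

end Cfsg.Agent.S4990
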