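import Cfsg.Statements.S4993
import Cfsg.Agent.Lib.Char.Primitive.Steps
import Cfsg.Agent.Lib.CharDegree.Basic
-- import your own Cfsg.Agent.* helpers here

set_option autoImplicit false
open Cfsg

namespace Cfsg.Agent.S4993

/-- Let G be a group of odd order whose order has exactly two prime divisors and whose quotient by its Fitting subgroup is nilpotent (G is metanilpotent), and let χ be a primitive irreducible complex character of G (not induced from a character of any proper subgroup). Then χ(1) divides the size of some conjugacy class of G. -/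
theorem result {G : Type*} [Group G] [Fintype G] (hodd : Odd (Nat.card G)) (h2 : (Nat.card G).primeFactors.card = 2) [hF : (Cfsg.fittingSubgroup G).Normal] (hmeta : Group.IsNilpotent (G ⧸ Cfsg.fittingSubgroup G)) (χ : Cfsg.IrrCharacter G) (hprim : ¬ ∃ (H : Subgroup G), H ≠ ⊤ ∧ ∃ θ : ↥H → ℂ, Cfsg.IsCharacter ↥H θ ∧ Cfsg.indFun H θ = (χ : G → ℂ)) : ∃ g : G, Cfsg.charDegree (χ : G → ℂ) ∣ (Subgroup.centralizer ({g} : Set G)).index := by
  classical
  set F := Cfsg.fittingSubgroup G with hFdef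
  haveI : Group.IsNilpotent F := CfsgLib.Components.fitting_isNilpotent
  haveI := hmeta
  haveI hsolv : Group.IsSolvable G :=
    solvable_of_ker_le_range F.subtype (QuotientGroup.mk' F) (by
      rw [QuotientGroup.ker_mk', F.range_subtype])
  obtain ⟨p, q, hpq, hpf⟩ := Finset.card_eq_two.1 h2
  have hpp : p.Prime := Nat.prime_of_mem_primeFactors (n := Nat.card G) (by rw [hpf]; simp)
  have hqp : q.Prime := Nat.prime_of_mem_primeFactors (n := Nat.card G) (by rw [hpf]; simp)
  haveI := Fact.mk hpp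
  haveI := Fact.mk hqp
  obtain ⟨P⟩ : Nonempty (Sylow p (G ⧸ F)) := inferInstance
  obtain ⟨Q⟩ : Nonempty (Sylow q (G ⧸ F)) := inferInstance
  set π := QuotientGroup.mk' F with hπ
  have hsup : (P : Subgroup (G ⧸ F)) ⊔ (Q : Subgroup (G ⧸ F)) = ⊤ := by
    rw [← Subgroup.index_eq_one]
    refine Nat.eq_one_iff_not_exists_prime_dvd.2 fun r hr hd => ?_
    have hrG : r ∈ (Nat.card G).primeFactors :=
      Nat.mem_primeFactors.2 ⟨hr, (hd.trans (Subgroup.index_dvd_card _)).trans
        (Subgroup.card_quotient_dvd_card F), Nat.card_pos.ne'⟩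
    rw [hpf, Finset.mem_insert, Finset.mem_singleton] at hrG
    rcases hrG with rfl | rfl
    · exact P.not_dvd_index (hd.trans (Subgroup.index_dvd_of_le le_sup_left))
    · exact Q.not_dvd_index (hd.trans (Subgroup.index_dvd_of_le le_sup_right))
  obtain ⟨x, hx⟩ := CfsgLib.Char.Primitive.exists_elem χ hprim hpp _ 2 3
    (CfsgLib.Char.Primitive.stepBound_metanilpotent hodd hmeta hpp (P : Subgroup (G ⧸ F)) P.2)
  obtain ⟨y, hy⟩ := CfsgLib.Char.Primitive.exists_elem χ hprim hqp _ 2 3
    (CfsgLib.Char.Primitive.stepBound_metanilpotent hodd hmeta hqp (Q : Subgroup (G ⧸ F)) Q.2)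
  obtain ⟨s, hs, t, ht, hst⟩ := Subgroup.mem_sup_of_normal_left.1
    (hsup ▸ Subgroup.mem_top (π (x⁻¹ * y)) : π (x⁻¹ * y) ∈ (P : Subgroup (G ⧸ F)) ⊔ (Q : Subgroup (G ⧸ F)))
  obtain ⟨a, rfl⟩ := QuotientGroup.mk'_surjective F s
  refine ⟨x * a, ?_⟩
  have hp1 := hx (x * a) (Or.inr ⟨a, hs, rfl⟩)
  have hq1 := hy (x * a) (Or.inr ⟨y⁻¹ * (x * a), by
    show π (y⁻¹ * (x * a)) ∈ (Q : Subgroup (G ⧸ F))
    rw [map_mul, map_inv] at hst
    have : π (y⁻¹ * (x * a)) = t⁻¹ := by
      rw [map_mul, map_inv, map_mul, eq_inv_iff_mul_eq_one, mul_assoc, mul_assoc, hst,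
        mul_inv_cancel_left, inv_mul_cancel]
    rw [this]
    exact inv_mem ht, by group⟩)
  set n := Cfsg.charDegree (χ : G → ℂ) with hn
  set m := (Subgroup.centralizer ({x * a} : Set G)).index with hm
  have hdvd : n ∣ Nat.card G := CfsgLib.CharDegree.charDegree_dvd_card χ
  have hn0 : n ≠ 0 := fun h => Nat.card_pos.ne' (Nat.eq_zero_of_zero_dvd (h ▸ hdvd))
  refine (Nat.factorization_le_iff_dvd hn0 Subgroup.index_ne_zero_of_finite).1 fun r => ?_
  by_cases hrn : r ∈ n.primeFactors
  · have := Nat.primeFactors_mono hdvd Nat.card_pos.ne' hrn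
    rw [hpf, Finset.mem_insert, Finset.mem_singleton] at this
    rcases this with rfl | rfl <;> simp only [← hn, ← hm] at hp1 hq1 ⊢ <;> omega
  · rw [← Nat.support_factorization, Finsupp.notMem_support_iff] at hrn
    rw [hrn]
    exact Nat.zero_le _

end Cfsg.Agent.S4993
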