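import Cfsg.Statements.S4997
import Cfsg.Agent.Lib.CharDegree.VanishingPSingular

set_option autoImplicit false
open Cfsg

namespace Cfsg.Agent.S4997

/-- Let p be an odd prime and G a finite solvable group with exactly one conjugacy class consisting of vanishing elements (elements at which some irreducible complex character is zero) of order divisible by p. Let P be a Sylow p-subgroup of G. Then the order of P is at most p times the order of the largest normal p-subgroup of G. -/
theorem result {G : Type*} [Group G] [Finite G] (hsolv : Group.IsSolvable G) (p : ℕ) [Fact p.Prime] (hp : p ≠ 2) (h1 : Set.ncard {C : ConjClasses G | (∀ g ∈ C.carrier, ∃ χ : Cfsg.IrrCharacter G, (χ : G → ℂ) g = 0) ∧ ∃ g ∈ C.carrier, p ∣ orderOf g} = 1) (P : Sylow p G) : Nat.card ↥(P : Subgroup G) ≤ p * Nat.card ↥(Cfsg.pCore p G) := by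
  haveI := hsolv
  obtain ⟨C, hC⟩ := Set.ncard_eq_one.1 h1
  refine (CfsgLib.CharDegree.sylow_bound
    (CfsgLib.CharDegree.vanishHyp_of_orderOf_eq (Fact.out) fun x y hx hy hpx hpy => ?_) P).2
  have key : ∀ z : G, CfsgLib.CharDegree.IsVanishingAt z → p ∣ orderOf z → ConjClasses.mk z = C := by
    intro z ⟨χ, hχ⟩ hpz
    refine (Set.ext_iff.1 hC (ConjClasses.mk z)).1 ⟨fun g hg => ⟨χ, ?_⟩, z, ConjClasses.mem_carrier_mk, hpz⟩
    rw [ConjClasses.mem_carrier_iff_mk_eq, ConjClasses.mk_eq_mk_iff_isConj, isConj_iff] at hg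
    obtain ⟨c, hc⟩ := hg
    haveI := Fintype.ofFinite G
    rw [← hχ, ← hc]
    exact (CfsgLib.Char.IsIrr.isClassFunction χ.2 g c).symm
  obtain ⟨c, hc⟩ := isConj_iff.1 (ConjClasses.mk_eq_mk_iff_isConj.1 ((key x hx hpx).trans (key y hy hpy).symm))
  rw [← hc]
  exact ((MulAut.conj c).orderOf_eq x).symm

end Cfsg.Agent.S4997
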