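import Cfsg.Statements.S5001
import Cfsg.Agent.Lib.Blocks.DefectNumber
import Cfsg.Agent.Lib.Char.DegreeCenter
import Cfsg.Agent.Lib.Char.Rep
import Mathlib.LinearAlgebra.Matrix.Determinant.Basic
import Mathlib.GroupTheory.SpecificGroups.Cyclic

set_option autoImplicit false
open Cfsg

namespace Cfsg.Agent.S5001

open Module CfsgLib.Blocks

/-- Some eigenspace of a centralized element carries a determinant character extending `lam`
to a power. -/
theorem exists_det_hom {G : Type*} [Group G] [Finite G] {n : ℕ}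
    (ρ : Representation ℂ G (Fin n → ℂ)) (D Z : Subgroup G) (hZD : Z ≤ D) (lam : Z →* ℂˣ)
    (hscal : ∀ z : Z, ρ (z : G) = (lam z : ℂ) • LinearMap.id) (g : G)
    (hg : D ≤ Subgroup.centralizer ({g} : Set G)) :
    ∃ ε : Fin (finrank ℂ (Fin n → ℂ)) → ℂ, (∀ i, ε i ^ orderOf g = 1) ∧
      ρ.character g = ∑ i, ε i ∧ ∀ μ : ℂ, ∃ δ : D →* ℂˣ, ∀ z : Z,
        (δ ⟨(z : G), hZD z.2⟩ : ℂ) = (lam z : ℂ) ^ (Fintype.card {i // ε i = μ}) := by
  classical
  obtain ⟨b, ε, hb, hε⟩ := CfsgLib.Char.exists_eigenbasis ρ g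
  refine ⟨ε, hε, ?_, fun μ => ?_⟩
  · rw [Representation.character, LinearMap.trace_eq_matrix_trace ℂ b, Matrix.trace]
    refine Finset.sum_congr rfl fun i _ => ?_
    simp [Matrix.diag, LinearMap.toMatrix_apply, hb]
  have hcomm : ∀ d : D, ∀ i j, ε i ≠ ε j → LinearMap.toMatrix b b (ρ (d : G)) i j = 0 := by
    intro d i j hne
    have hc : ρ g * ρ (d : G) = ρ (d : G) * ρ g := by
      rw [← map_mul, ← map_mul, (mem_centralizer_singleton.1 (hg d.2)).eq]
    have h1 := congrArg (fun f => LinearMap.toMatrix b b f i j) hc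
    simp only [Module.End.mul_eq_comp, LinearMap.toMatrix_comp b b b] at h1
    have hdiag : ∀ k l, LinearMap.toMatrix b b (ρ g) k l = if k = l then ε l else 0 := by
      intro k l
      rw [LinearMap.toMatrix_apply, hb, map_smul, Basis.repr_self]
      simp [Finsupp.single_apply, eq_comm]
    simp only [Matrix.mul_apply, hdiag, ite_mul, mul_ite, zero_mul, mul_zero, Finset.sum_ite_eq,
      Finset.sum_ite_eq', Finset.mem_univ, if_true] at h1
    rw [mul_comm, ← sub_eq_zero, ← mul_sub] at h1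
    exact (mul_eq_zero.mp h1).resolve_right (sub_ne_zero.mpr hne)
  let S : D → Matrix {i // ε i = μ} {i // ε i = μ} ℂ :=
    fun d => (LinearMap.toMatrix b b (ρ (d : G))).submatrix Subtype.val Subtype.val
  have hmul : ∀ d e : D, S (d * e) = S d * S e := by
    intro d e
    ext i j
    simp only [S, Matrix.submatrix_apply, Matrix.mul_apply, Subgroup.coe_mul, map_mul,
      Module.End.mul_eq_comp, LinearMap.toMatrix_comp b b b]
    refine (Finset.sum_subset (Finset.subset_univ (Finset.univ.filter (fun k => ε k = μ))) ?_).symm.trans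
      (Finset.sum_subtype _ (by simp) (fun k => LinearMap.toMatrix b b (ρ (d : G)) i k *
        LinearMap.toMatrix b b (ρ (e : G)) k j))
    intro k _ hk
    rw [hcomm d _ _ (by rw [i.2]; simpa [eq_comm] using hk), zero_mul]
  have hone : S 1 = 1 := by
    ext i j
    simp [S, Matrix.one_apply, Subtype.ext_iff]
  let f : D →* ℂ :=
    { toFun := fun d => (S d).det
      map_one' := by rw [hone, Matrix.det_one]
      map_mul' := fun d e => by rw [hmul, Matrix.det_mul] }
  refine ⟨f.toHomUnits, fun z => ?_⟩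
  rw [MonoidHom.coe_toHomUnits]
  show (S ⟨(z : G), hZD z.2⟩).det = _
  have : S ⟨(z : G), hZD z.2⟩ = (lam z : ℂ) • 1 := by
    ext i j
    simp [S, hscal, Matrix.one_apply, Subtype.ext_iff]
  rw [this, Matrix.det_smul, Matrix.det_one, mul_one]

/-- Let p be a prime, G a finite group and B a p-block of G (relative to a maximal ideal M of the algebraic integers containing p) with defect group D. Let Z be a central p-subgroup of G contained in D and λ a linear character of Z (a homomorphism to the nonzero complex numbers). Say an irreducible character χ of G lies over λ when χ(z) = χ(1)λ(z) for all z ∈ Z. If some irreducible character in B lying over λ has height zero, then λ extends to a linear character of D. -/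
theorem result {G : Type*} [Group G] [Finite G] (p : ℕ) [Fact p.Prime] (M : Ideal Cfsg.AlgInt) (hM : Cfsg.IsPModular p M) (B : Set (Cfsg.IrrCharacter G)) (hB : Cfsg.IsPBlock M B) (D : Subgroup G) (hD : Cfsg.IsDefectGroup p M B D) (Z : Subgroup G) (hZc : Z ≤ Subgroup.center G) (hZp : IsPGroup p ↥Z) (hZD : Z ≤ D) (lam : ↥Z →* ℂˣ) (χ : Cfsg.IrrCharacter G) (hχ : χ ∈ B) (hover : (∀ z : ↥Z, (χ : G → ℂ) z = (χ : G → ℂ) 1 * (lam z : ℂ))) (h0 : Cfsg.blockHeight p B (χ : G → ℂ) = 0) : (∃ μ : ↥D →* ℂˣ, ∀ z : ↥Z, μ ⟨(z : G), hZD z.2⟩ = lam z) := by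
  classical
  have := Fintype.ofFinite G
  have : M.IsPrime := hM.2.1.isPrime
  obtain ⟨g, hg, hle, hs⟩ := isDefectGroup_iff.1 hD
  have hnu := not_memLocalIdeal_apply hM hB hg hχ h0
  obtain ⟨χ, n, ρ, hρ, rfl⟩ := χ
  simp only at hover hnu
  have hscal : ∀ z : Z, ρ (z : G) = (lam z : ℂ) • LinearMap.id := by
    intro z
    obtain ⟨c, hc⟩ := CfsgLib.CharIntegral.exists_scalar_of_mem_center ρ (hZc z.2)
    have h1 := hover z
    rw [Representation.character, hc, map_smul, LinearMap.trace_id, Representation.char_one,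
      smul_eq_mul, mul_comm] at h1
    rw [hc, mul_left_cancel₀ (CfsgLib.CharIntegral.finrank_cast_ne_zero ρ) h1]
  obtain ⟨ε, hε, htr, hdet⟩ := exists_det_hom ρ D Z hZD lam hscal g hle
  obtain ⟨μ, hμ⟩ : ∃ μ, ¬ p ∣ Fintype.card {i // ε i = μ} := by
    by_contra hcon
    push Not at hcon
    refine hnu ?_
    have hmem : ∀ μ ∈ Finset.univ.image ε, μ ∈ localRing M := fun μ hμ => by
      obtain ⟨i, -, rfl⟩ := Finset.mem_image.mp hμ
      exact mem_localRing_of_pow_eq_one (orderOf_pos g).ne' (hε i)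
    have hi : ∀ i, ε i ∈ localRing M := fun i => hmem _ (Finset.mem_image_of_mem ε (Finset.mem_univ i))
    have := charP_residueField hM
    let a : localRing M := ∑ i, ⟨ε i, hi i⟩
    have ha : (a : ℂ) = ρ.character g := by simp [a, htr]
    rw [← ha, ← residue_eq_zero_iff]
    simp only [a, map_sum]
    rw [← Finset.sum_fiberwise_of_maps_to (g := ε) (t := Finset.univ.image ε)
      (fun i hi => Finset.mem_image_of_mem ε hi)]
    refine Finset.sum_eq_zero fun μ hμ => ?_
    rw [Finset.sum_congr rfl (g := fun _ => IsLocalRing.residue (localRing M) ⟨μ, hmem μ hμ⟩)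
      fun i hi => by congr 1; exact Subtype.ext (Finset.mem_filter.mp hi).2, Finset.sum_const,
      nsmul_eq_mul, ← Fintype.card_subtype, (CharP.cast_eq_zero_iff (Res M) p _).mpr (hcon μ),
      zero_mul]
  obtain ⟨δ, hδ⟩ := hdet μ
  obtain ⟨k, hk⟩ := IsPGroup.iff_card.mp (hs.isPGroup hle)
  have hcop : Nat.Coprime (Fintype.card {i // ε i = μ}) (p ^ k) :=
    Nat.Coprime.pow_right k ((hM.1.coprime_iff_not_dvd.mpr hμ).symm)
  obtain ⟨l, -, hl⟩ := Nat.exists_mul_mod_eq_of_coprime 1 hcop (pow_pos hM.1.pos k).ne'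
  refine ⟨(powMonoidHom l).comp δ,
    fun z => ?_⟩
  have hzo : lam z ^ p ^ k = 1 := by
    have h1 : (⟨(z : G), hZD z.2⟩ : D) ^ p ^ k = 1 := by rw [← hk]; exact pow_card_eq_one'
    have h2 : z ^ p ^ k = 1 := Subtype.ext (by simpa using congrArg Subtype.val h1)
    rw [← map_pow, h2, map_one]
  have hδ' : δ ⟨(z : G), hZD z.2⟩ = lam z ^ Fintype.card {i // ε i = μ} :=
    Units.ext (by rw [hδ, Units.val_pow_eq_pow_val])
  rw [MonoidHom.comp_apply, powMonoidHom_apply, hδ', ← pow_mul, pow_eq_pow_mod _ hzo, hl,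
    ← pow_eq_pow_mod _ hzo, pow_one]

end Cfsg.Agent.S5001
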