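import Cfsg.Statements.S5011
-- import your own Cfsg.Agent.* helpers here

set_option autoImplicit false
open Cfsg

namespace Cfsg.Agent.S5011

/-- Let G be a finite non-abelian simple group and ρ an irreducible complex representation of G on a space of dimension greater than one (irreducible in the sense that the only subspaces invariant under every ρ(x) are 0 and the whole space). Then for every non-identity element g of G, the centralizer of g does not act irreducibly: there is a non-zero proper subspace invariant under ρ(c) for every c commuting with g. -/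
theorem result {G : Type*} [Group G] [Finite G] [IsSimpleGroup G]
    (hG : ¬ IsMulCommutative G) {V : Type*} [AddCommGroup V] [Module ℂ V] [FiniteDimensional ℂ V]
    (ρ : Representation ℂ G V)
    (hirr : ∀ W : Submodule ℂ V, (∀ x : G, ∀ v ∈ W, ρ x v ∈ W) → W = ⊥ ∨ W = ⊤)
    (hdim : 1 < Module.finrank ℂ V) (g : G) (hg : g ≠ 1) :
    ∃ W : Submodule ℂ V, W ≠ ⊥ ∧ W ≠ ⊤ ∧ ∀ c ∈ Subgroup.centralizer ({g} : Set G), ∀ v ∈ W, ρ c v ∈ W := by
  have : Nontrivial V := Module.nontrivial_of_finrank_pos (R := ℂ) (by omega)
  obtain ⟨μ, hμ⟩ := Module.End.exists_eigenvalue (ρ g)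
  refine ⟨Module.End.eigenspace (ρ g) μ, hμ, ?_, ?_⟩
  · intro htop
    have hscal : ∀ v, ρ g v = μ • v := fun v => by
      have : v ∈ Module.End.eigenspace (ρ g) μ := by rw [htop]; trivial
      exact Module.End.mem_eigenspace_iff.mp this
    have hinj : Function.Injective ρ := by
      rw [← MonoidHom.ker_eq_bot_iff]
      rcases IsSimpleGroup.eq_bot_or_eq_top_of_normal _ (MonoidHom.normal_ker ρ) with h | h
      · exact h
      · exfalso
        obtain ⟨v, hv⟩ := exists_ne (0 : V)
        have htriv : ∀ (x : G) (w : V), ρ x w = w := fun x w => by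
          have hx : x ∈ MonoidHom.ker ρ := by rw [h]; trivial
          rw [MonoidHom.mem_ker] at hx
          rw [hx]; rfl
        rcases hirr (ℂ ∙ v) (fun x w hw => by rw [htriv]; exact hw) with h' | h'
        · exact hv (by simpa using h')
        · have := finrank_span_singleton (K := ℂ) hv
          rw [h', finrank_top] at this
          omega
    have hc : g ∈ Subgroup.center G := by
      rw [Subgroup.mem_center_iff]
      intro x
      apply hinj
      ext v
      simp [map_mul, hscal]
    rcases IsSimpleGroup.eq_bot_or_eq_top_of_normal (Subgroup.center G) inferInstance with h | h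
    · rw [h, Subgroup.mem_bot] at hc; exact hg hc
    · exact hG ⟨⟨fun a b => by
        have ha : a ∈ Subgroup.center G := by rw [h]; trivial
        exact (Subgroup.mem_center_iff.mp ha b).symm⟩⟩
  · intro c hc v hv
    rw [Module.End.mem_eigenspace_iff] at hv ⊢
    have hcg : g * c = c * g := Subgroup.mem_centralizer_iff.mp hc g rfl
    have : ρ g (ρ c v) = ρ c (ρ g v) := by
      have := congrArg (fun f => (ρ f) v) hcg
      simpa [map_mul] using this
    rw [this, hv, map_smul]

end Cfsg.Agent.S5011
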