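import Cfsg.Statements.S5012
import Cfsg.Agent.Lib.Blocks.DefectLie.Exceptional
import Cfsg.Agent.Lib.Blocks.DefectLie.Orth
import Cfsg.Agent.Lib.Blocks.DefectLie.Symplectic
import Cfsg.Agent.Lib.Blocks.DefectLie.Unitary
import Cfsg.Agent.Lib.Classical.Quad.StandardForms

set_option autoImplicit false
open Cfsg
open CfsgLib.Blocks.DefectLie

namespace Cfsg.Agent.S5012

/-- Let G be a finite simple group of Lie type in characteristic p. Then every p-block of G has defect zero or full defect: its defect is 0 or the exponent of p in the order of G (its defect groups are trivial or Sylow p-subgroups). -/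
theorem result {G : Type*} [Group G] [Finite G] (p : ℕ) [Fact p.Prime] (hG : Cfsg.IsLieTypeChar p G) (M : Ideal Cfsg.AlgInt) (hM : Cfsg.IsPModular p M) (B : Set (Cfsg.IrrCharacter G)) (hB : Cfsg.IsPBlock M B) : Cfsg.blockDefect p B = 0 ∨ Cfsg.blockDefect p B = (Nat.card G).factorization p := by
  refine defect_zero_or_full hM hB ?_
  show AllOrNone p G
  rcases hG with ⟨F, _, _, _, n, hn, -, ⟨e⟩⟩ | ⟨F, _, _, _, m, hm, -, ⟨e⟩⟩ |
      ⟨F, _, _, _, n, q, hq, hn, -, ⟨e⟩⟩ | ⟨F, _, _, _, m, hm, hodd, ⟨e⟩⟩ | ⟨F, _, _, _, m, hm, ⟨e⟩⟩ |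
      ⟨F, _, _, _, m, a, b, hm, hab, ⟨e⟩⟩ | ⟨F, _, _, _, h⟩ |
      ⟨K, _, _, _, q, hq, ⟨hK, ⟨e⟩⟩ | ⟨hK, ⟨e⟩⟩⟩ |
      ⟨rfl, F, _, _, m, hm, hF, ⟨e⟩⟩ | ⟨rfl, K, _, _, m, hm, hK, ⟨e⟩⟩ | ⟨rfl, K, _, _, m, hm, hK, ⟨e⟩⟩
  · haveI := Finite.of_equiv G e.toEquiv
    exact (allOrNone_PSL (by omega)).of_equiv e
  · haveI := Finite.of_equiv G e.toEquiv
    exact (allOrNone_PSp (by omega)).of_equiv e
  · haveI := Finite.of_equiv G e.toEquiv
    exact (allOrNone_PSU hq hn).of_equiv e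
  · haveI := Finite.of_equiv G e.toEquiv
    have h2 : (2 : F) ≠ 0 := by
      intro h
      obtain ⟨k, -, hk⟩ := FiniteField.card F p
      have h3 : p ∣ 2 := (CharP.cast_eq_zero_iff F p 2).1 (by exact_mod_cast h)
      obtain rfl := (Nat.prime_dvd_prime_iff_eq Fact.out Nat.prime_two).1 h3
      rw [Nat.odd_iff, hk, Nat.pow_mod] at hodd
      simp [k.ne_zero] at hodd
    exact (allOrNone_POmega _ (CfsgLib.Classical.Quad.coe_qOdd m F)
      (CfsgLib.Classical.Quad.qOdd_nondeg h2 m) (by simp; omega)).of_equiv e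
  · haveI := Finite.of_equiv G e.toEquiv
    exact (allOrNone_POmega _ (CfsgLib.Classical.Quad.coe_qPlus m F)
      (CfsgLib.Classical.Quad.qPlus_nondeg m) (by simp; omega)).of_equiv e
  · haveI := Finite.of_equiv G e.toEquiv
    exact (allOrNone_POmega _ (CfsgLib.Classical.Quad.coe_qMinus (m - 1) F a b)
      (CfsgLib.Classical.Quad.qMinus_nondeg hab (m - 1)) (by simp; omega)).of_equiv e
  · rcases h with ⟨-, ⟨e⟩⟩ | ⟨⟨e⟩⟩ | ⟨⟨e⟩⟩ | ⟨⟨e⟩⟩ | ⟨⟨e⟩⟩
    all_goals haveI := Finite.of_equiv G e.toEquiv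
    all_goals exact (allOrNone_chev p (by simp)).of_equiv e
  · haveI := Finite.of_equiv G e.toEquiv
    exact (allOrNone_E6 hq hK).of_equiv e
  · haveI := Finite.of_equiv G e.toEquiv
    exact (allOrNone_D4 hq hK).of_equiv e
  · haveI : CharP F 2 := CfsgLib.Lie.Suzuki.charTwo_of_card hF
    haveI := Finite.of_equiv G ((CfsgLib.Lie.Suzuki.equivLie hm hF).trans e.symm).symm.toEquiv
    exact (allOrNone_Sz hm hF).of_equiv ((CfsgLib.Lie.Suzuki.equivLie hm hF).trans e.symm).symm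
  · haveI := Finite.of_equiv G e.toEquiv
    exact (allOrNone_F4 hK).of_equiv e
  · haveI := Finite.of_equiv G e.toEquiv
    exact (allOrNone_Ree hK).of_equiv e

end Cfsg.Agent.S5012
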