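import Cfsg.Statements.S5014
import Cfsg.Agent.Lib.ThreeTrans.RankOne
-- import your own Cfsg.Agent.* helpers here

set_option autoImplicit false
open Cfsg

namespace Cfsg.Agent.S5014

/-- Let X = ⟨A, B⟩ be a rank one group with unipotent subgroups A and B and let Ω be the set of conjugates of A under X. Then Ω has at least three members, X acts doubly transitively on Ω by conjugation (any two ordered pairs of distinct members are carried to one another by a single element of X), and A acts regularly on Ω with A removed: for C, D in Ω different from A there is exactly one element of A conjugating C to D. -/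
theorem result {G : Type*} [Group G] {A B : Subgroup G} (h : Cfsg.IsRankOnePair A B) :
    (∃ C₁ ∈ Cfsg.unipotentSubgroups A B, ∃ C₂ ∈ Cfsg.unipotentSubgroups A B, ∃ C₃ ∈ Cfsg.unipotentSubgroups A B,
      C₁ ≠ C₂ ∧ C₁ ≠ C₃ ∧ C₂ ≠ C₃) ∧
    (∀ C₁ ∈ Cfsg.unipotentSubgroups A B, ∀ C₂ ∈ Cfsg.unipotentSubgroups A B, ∀ D₁ ∈ Cfsg.unipotentSubgroups A B,
      ∀ D₂ ∈ Cfsg.unipotentSubgroups A B, C₁ ≠ C₂ → D₁ ≠ D₂ →
        ∃ x ∈ A ⊔ B, Cfsg.conjBy C₁ x = D₁ ∧ Cfsg.conjBy C₂ x = D₂) ∧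
    (∀ C ∈ Cfsg.unipotentSubgroups A B, ∀ D ∈ Cfsg.unipotentSubgroups A B, C ≠ A → D ≠ A →
      ∃! a : G, a ∈ A ∧ Cfsg.conjBy C a = D) := by
  have hA := CfsgLib.ThreeTrans.left_mem_unipotentSubgroups h
  have hB := CfsgLib.ThreeTrans.right_mem_unipotentSubgroups h
  refine ⟨?_, ?_, ?_⟩
  · obtain ⟨a, ha, ha1⟩ := (Subgroup.bot_or_exists_ne_one A).resolve_left (CfsgLib.ThreeTrans.ne_bot_left h)
    refine ⟨A, hA, B, hB, Cfsg.conjBy B a,
      CfsgLib.ThreeTrans.conjBy_mem_unipotentSubgroups h hB (Subgroup.mem_sup_left ha), h.ne, fun e => ?_,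
      fun e => ha1 (CfsgLib.ThreeTrans.eq_one_of_mem_normalizer h ha (CfsgLib.ThreeTrans.conjBy_eq_self_iff.1 e.symm))⟩
    refine h.ne (CfsgLib.ThreeTrans.conjBy_inj (g := a) ?_)
    rw [← e, CfsgLib.ThreeTrans.conjBy_of_mem ha]
  · intro C₁ h1 C₂ h2 D₁ h3 D₂ h4 hC hD
    obtain ⟨x, hx, e1, e2⟩ := CfsgLib.ThreeTrans.exists_map_pair h h1 h2 hC
    obtain ⟨y, hy, f1, f2⟩ := CfsgLib.ThreeTrans.exists_map_pair h h3 h4 hD
    refine ⟨y⁻¹ * x, mul_mem (inv_mem hy) hx, ?_, ?_⟩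
    · rw [← CfsgLib.ThreeTrans.conjBy_conjBy, e1, ← f1, CfsgLib.ThreeTrans.conjBy_conjBy, inv_mul_cancel,
        CfsgLib.ThreeTrans.conjBy_one]
    · rw [← CfsgLib.ThreeTrans.conjBy_conjBy, e2, ← f2, CfsgLib.ThreeTrans.conjBy_conjBy, inv_mul_cancel,
        CfsgLib.ThreeTrans.conjBy_one]
  · intro C hC D hD hCA hDA
    obtain ⟨a, ha, rfl⟩ := ((CfsgLib.ThreeTrans.mem_unipotentSubgroups h).1 hC).resolve_left hCA
    obtain ⟨a', ha', rfl⟩ := ((CfsgLib.ThreeTrans.mem_unipotentSubgroups h).1 hD).resolve_left hDA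
    refine ⟨a' * a⁻¹, ⟨mul_mem ha' (inv_mem ha), by
      rw [CfsgLib.ThreeTrans.conjBy_conjBy, inv_mul_cancel_right]⟩, fun c ⟨hc, he⟩ => ?_⟩
    rw [CfsgLib.ThreeTrans.conjBy_conjBy] at he
    exact eq_mul_inv_of_mul_eq (CfsgLib.ThreeTrans.unique_conjBy h (mul_mem hc ha) ha' he)

end Cfsg.Agent.S5014
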