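import Cfsg.Statements.S5015
import Cfsg.Agent.Lib.ThreeTrans.RankOne
-- import your own Cfsg.Agent.* helpers here

set_option autoImplicit false
open Cfsg

namespace Cfsg.Agent.S5015

/-- Let a group Y act doubly transitively on a set Ω with at least three points, and suppose that the stabilizer of a point α contains a nilpotent subgroup A, normalized by that stabilizer, which acts regularly on the points other than α. Then for any y in Y moving α, the subgroups A and y A y⁻¹ are the unipotent subgroups of a rank one group, and the normal closure of A in Y (the subgroup generated by all conjugates of A) is generated by A and y A y⁻¹ alone. -/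
theorem result {Y Ω : Type*} [Group Y] [MulAction Y Ω]
    (h2 : MulAction.IsMultiplyPretransitive Y Ω 2) (hΩ : 3 ≤ ENat.card Ω) (α : Ω) (A : Subgroup Y)
    (hA : A ≤ MulAction.stabilizer Y α) (hAn : ∀ y ∈ MulAction.stabilizer Y α, Cfsg.conjBy A y = A)
    (hnil : Group.IsNilpotent A) (hreg : ∀ β γ : Ω, β ≠ α → γ ≠ α → ∃! a : Y, a ∈ A ∧ a • β = γ)
    (y : Y) (hy : y ∉ MulAction.stabilizer Y α) :
    Cfsg.IsRankOnePair A (Cfsg.conjBy A y) ∧ Subgroup.normalClosure (A : Set Y) = A ⊔ Cfsg.conjBy A y := by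
  haveI : Group.IsNilpotent A := hnil
  have fixA : ∀ a ∈ A, a • α = α := fun a ha => MulAction.mem_stabilizer_iff.1 (hA ha)
  have free : ∀ a ∈ A, ∀ γ : Ω, γ ≠ α → a • γ = γ → a = 1 := by
    intro a ha γ hγ hfix
    obtain ⟨a₀, -, hu⟩ := hreg γ γ hγ hγ
    rw [hu a ⟨ha, hfix⟩, hu 1 ⟨one_mem A, one_smul Y γ⟩]
  have indep : ∀ g g' : Y, g • α = g' • α → conjBy A g = conjBy A g' := by
    intro g g' hgg
    rw [CfsgLib.ThreeTrans.conjBy_eq_conjBy_iff, ← CfsgLib.ThreeTrans.conjBy_eq_self_iff]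
    refine hAn _ (MulAction.mem_stabilizer_iff.2 ?_)
    rw [mul_smul, hgg, inv_smul_smul]
  set β := y • α with hβdef
  have hβ : β ≠ α := fun e => hy (MulAction.mem_stabilizer_iff.2 e)
  have fixB : ∀ b ∈ conjBy A y, b • β = β := by
    intro b hb
    rw [CfsgLib.ThreeTrans.mem_conjBy] at hb
    have := fixA _ hb
    rw [mul_smul, mul_smul, inv_smul_eq_iff] at this
    exact this
  have freeB : ∀ b ∈ conjBy A y, ∀ γ : Ω, γ ≠ β → b • γ = γ → b = 1 := by
    intro b hb γ hγ hfix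
    rw [CfsgLib.ThreeTrans.mem_conjBy] at hb
    have h0 := free _ hb (y⁻¹ • γ) (fun e => hγ (inv_smul_eq_iff.1 e))
      (by rw [mul_smul, mul_smul, smul_inv_smul, hfix])
    have : y * (y⁻¹ * b * y) * y⁻¹ = b := by group
    rw [h0] at this
    simpa using this.symm
  have regB : ∀ γ : Ω, γ ≠ β → ∃ b ∈ conjBy A y, b • α = γ := by
    intro γ hγ
    obtain ⟨a₀, ⟨ha₀, ha₀e⟩, -⟩ := hreg (y⁻¹ • α) (y⁻¹ • γ) (fun e => hβ (inv_smul_eq_iff.1 e).symm)
      (fun e => hγ (inv_smul_eq_iff.1 e))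
    refine ⟨y * a₀ * y⁻¹, CfsgLib.ThreeTrans.conj_mem_conjBy ha₀, ?_⟩
    rw [mul_smul, mul_smul, ha₀e, smul_inv_smul]
  obtain ⟨γ₀, h₀α, h₀β⟩ : ∃ γ : Ω, γ ≠ α ∧ γ ≠ β := by
    by_contra hcon
    simp only [not_exists, not_and, not_not] at hcon
    have hsub : (Set.univ : Set Ω) ⊆ {α, β} := fun γ _ => by
      by_cases e : γ = α
      · exact Or.inl e
      · exact Or.inr (hcon γ e)
    have h3 : (3 : ℕ∞) ≤ 2 := by
      calc (3 : ℕ∞) ≤ ENat.card Ω := hΩ
        _ = (Set.univ : Set Ω).encard := (Set.encard_univ Ω).symm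
        _ ≤ ({α, β} : Set Ω).encard := Set.encard_le_encard hsub
        _ ≤ 2 := (Set.encard_insert_le _ _).trans (by rw [Set.encard_singleton]; norm_num)
    exact absurd h3 (by norm_cast)
  have hne : A ≠ conjBy A y := by
    intro e
    obtain ⟨a, ⟨ha, hae⟩, -⟩ := hreg β γ₀ hβ h₀α
    exact h₀β (hae ▸ fixB a (e ▸ ha))
  refine ⟨⟨hne, hnil, ?_, ?_, ?_⟩, ?_⟩
  · exact Group.nilpotent_of_surjective (A.equivMapOfInjective _ (MulAut.conj y).injective).toMonoidHom
      (A.equivMapOfInjective _ (MulAut.conj y).injective).surjective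
  · intro a ha ha1
    have h1 : a⁻¹ • β ≠ β := fun e => ha1 (inv_eq_one.1 (free a⁻¹ (inv_mem ha) β hβ e))
    obtain ⟨b, hb, hbe⟩ := regB _ h1
    refine ⟨b⁻¹, inv_mem hb, fun e => ?_, ?_⟩
    · rw [inv_eq_one] at e
      rw [e, one_smul, eq_inv_smul_iff, fixA a ha] at hbe
      exact hβ hbe.symm
    · rw [inv_inv, CfsgLib.ThreeTrans.conjBy_conjBy]
      exact indep _ _ (by rw [hbe, mul_smul])
  · intro b hb hb1
    have h1 : b⁻¹ • α ≠ α := fun e => hb1 (inv_eq_one.1 (freeB b⁻¹ (inv_mem hb) α hβ.symm e))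
    obtain ⟨a, ⟨ha, hae⟩, -⟩ := hreg β (b⁻¹ • α) hβ h1
    refine ⟨a⁻¹, inv_mem ha, fun e => ?_, ?_⟩
    · rw [inv_eq_one] at e
      rw [e, one_smul, eq_inv_smul_iff, fixB b hb] at hae
      exact hβ hae
    · rw [inv_inv, CfsgLib.ThreeTrans.conjBy_conjBy]
      exact indep _ _ (by rw [mul_smul]; exact hae)
  · refine le_antisymm ?_ (sup_le Subgroup.le_normalClosure ?_)
    · rw [Subgroup.normalClosure, Subgroup.closure_le]
      intro x hx
      obtain ⟨a, ha, hc⟩ := Group.mem_conjugatesOfSet_iff.1 hx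
      obtain ⟨g, rfl⟩ := isConj_iff.1 hc
      have hxm : g * a * g⁻¹ ∈ conjBy A g := CfsgLib.ThreeTrans.conj_mem_conjBy ha
      by_cases hg : g • α = α
      · rw [indep g 1 (by rw [one_smul, hg]), CfsgLib.ThreeTrans.conjBy_one] at hxm
        exact Subgroup.mem_sup_left hxm
      · obtain ⟨a', ⟨ha', hae⟩, -⟩ := hreg β (g • α) hβ hg
        rw [indep g (a' * y) (by rw [mul_smul]; exact hae.symm), ← CfsgLib.ThreeTrans.conjBy_conjBy] at hxm
        exact CfsgLib.ThreeTrans.conjBy_le_of_mem le_sup_right (Subgroup.mem_sup_left ha') hxm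
    · rintro x ⟨a, ha, rfl⟩
      exact Subgroup.normalClosure_normal.conj_mem a (Subgroup.le_normalClosure ha) y

end Cfsg.Agent.S5015
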