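import Cfsg.Statements.S5017
import Cfsg.Agent.Lib.ThreeTrans.RankOne
-- import your own Cfsg.Agent.* helpers here

set_option autoImplicit false
open Cfsg

namespace Cfsg.Agent.S5017

/-- Let X be a rank one group with unipotent subgroups A and B and N a normal subgroup of X. Then either X = N A or N lies in the centre of X. Consequently a perfect rank one group is quasisimple. -/
theorem result {X : Type*} [Group X] {A B : Subgroup X} (h : Cfsg.IsRankOneGroup X A B) :
    (∀ N : Subgroup X, N.Normal → N ⊔ A = ⊤ ∨ N ≤ Subgroup.center X) ∧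
    (Group.IsPerfect X → Cfsg.IsQuasisimple X) := by
  obtain ⟨htop, hp⟩ := h
  have hdich : ∀ N : Subgroup X, N.Normal → N ⊔ A = ⊤ ∨ N ≤ Subgroup.center X := by
    intro N hN
    rcases CfsgLib.ThreeTrans.normal_dichotomy hp (N := N) (fun g _ n hn => hN.conj_mem n hn g)
      (htop.symm ▸ le_top) with e | e
    · left; rw [htop] at e; exact top_le_iff.1 e
    · right
      rwa [htop, Subgroup.coe_top, Subgroup.centralizer_univ] at e
  refine ⟨hdich, fun hperf => ⟨hperf, ?_⟩⟩
  haveI := hperf
  haveI := hp.nilpotent_left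
  have hAX : A ≠ ⊤ := fun e => CfsgLib.ThreeTrans.ne_bot_right hp (eq_bot_iff.2 fun b hb => by
    refine Subgroup.mem_bot.2 (CfsgLib.ThreeTrans.eq_one_of_mem_normalizer (RankOnePair_symm hp) hb ?_)
    rw [e]; exact Subgroup.le_normalizer (Subgroup.mem_top b))
  have hcov : ∀ N : Subgroup X, N.Normal → N ⊔ A = ⊤ → N = ⊤ := by
    intro N hN e
    haveI := hN
    set f := (QuotientGroup.mk' N).comp A.subtype
    have hf : Function.Surjective f := by
      intro q
      induction q using QuotientGroup.induction_on with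
      | H x =>
        obtain ⟨n, hn, a, ha, rfl⟩ := Subgroup.mem_sup_of_normal_left.1 (show x ∈ N ⊔ A from e ▸ Subgroup.mem_top x)
        refine ⟨⟨a, ha⟩, ?_⟩
        show (a : X ⧸ N) = ((n * a : X) : X ⧸ N)
        rw [QuotientGroup.mk_mul, (QuotientGroup.eq_one_iff n).2 hn, one_mul]
    haveI : Group.IsNilpotent (X ⧸ N) := Group.nilpotent_of_surjective f hf
    by_contra hne
    haveI : Nontrivial (X ⧸ N) := QuotientGroup.nontrivial_iff.2 hne
    haveI : Group.IsPerfect (X ⧸ N) := Group.IsPerfect.ofSurjective (QuotientGroup.mk'_surjective N)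
    exact Group.IsPerfect.not_isSolvable (X ⧸ N) inferInstance
  haveI : Nontrivial (X ⧸ Subgroup.center X) := QuotientGroup.nontrivial_iff.2 fun e => hAX (by
    rw [eq_top_iff, ← htop]
    refine sup_le le_rfl fun b hb => ?_
    have : b = 1 := CfsgLib.ThreeTrans.eq_one_of_mem_normalizer (RankOnePair_symm hp) hb
      (CfsgLib.ThreeTrans.mem_normalizer_of_commute fun a _ =>
        Subgroup.mem_center_iff.1 (e ▸ Subgroup.mem_top a) b)
    exact this ▸ one_mem A)
  refine ⟨fun M hM => ?_⟩
  set N := M.comap (QuotientGroup.mk' (Subgroup.center X))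
  have hNn : N.Normal := hM.comap _
  have hMeq : M = N.map (QuotientGroup.mk' (Subgroup.center X)) :=
    (Subgroup.map_comap_eq_self_of_surjective (QuotientGroup.mk'_surjective _) M).symm
  rcases hdich N hNn with e | e
  · right
    rw [hMeq, hcov N hNn e, Subgroup.map_top_of_surjective _ (QuotientGroup.mk'_surjective _)]
  · left
    rw [hMeq, Subgroup.map_eq_bot_iff, QuotientGroup.ker_mk']
    exact e

end Cfsg.Agent.S5017
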