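import Cfsg.Statements.S5018
import Cfsg.Agent.Lib.ThreeTrans.RankOne
-- import your own Cfsg.Agent.* helpers here

set_option autoImplicit false
open Cfsg

namespace Cfsg.Agent.S5018

/-- A rank one group is not nilpotent, and its second centre equals its centre. -/
theorem result {X : Type*} [Group X] {A B : Subgroup X} (h : Cfsg.IsRankOneGroup X A B) :
    Subgroup.upperCentralSeries X 2 = Subgroup.center X ∧ ¬ Group.IsNilpotent X := by
  obtain ⟨htop, hp⟩ := h
  have hnab : ¬ A.Normal := fun hn => CfsgLib.ThreeTrans.ne_bot_right hp (eq_bot_iff.2 fun b hb =>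
    Subgroup.mem_bot.2 (CfsgLib.ThreeTrans.eq_one_of_mem_normalizer (RankOnePair_symm hp) hb
      (by rw [Subgroup.normalizer_eq_top_iff.2 hn]; trivial)))
  have hZA : ¬ (A ⊔ Subgroup.center X).Normal := by
    intro hn
    rcases CfsgLib.ThreeTrans.normal_dichotomy hp (N := A ⊔ Subgroup.center X)
      (fun g _ n hn' => hn.conj_mem n hn' g) (htop.symm ▸ le_top) with e | e
    · rw [htop] at e
      apply hnab
      rw [← Subgroup.normalizer_eq_top_iff, eq_top_iff]
      refine e.trans (sup_le (sup_le Subgroup.le_normalizer fun z hz => ?_) Subgroup.le_normalizer)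
      exact CfsgLib.ThreeTrans.mem_normalizer_of_commute fun a _ => (Subgroup.mem_center_iff.1 hz a).symm
    · apply CfsgLib.ThreeTrans.ne_bot_left hp
      rw [eq_bot_iff]
      intro a ha
      refine Subgroup.mem_bot.2 (CfsgLib.ThreeTrans.eq_one_of_mem_normalizer hp ha ?_)
      exact CfsgLib.ThreeTrans.mem_normalizer_of_commute fun b hb =>
        ((Subgroup.mem_centralizer_iff.1 (e (Subgroup.mem_sup_left ha))) b (Subgroup.mem_sup_right hb)).symm
  have heq : Subgroup.upperCentralSeries X 2 = Subgroup.center X := by
    refine le_antisymm ?_ ?_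
    · rcases CfsgLib.ThreeTrans.normal_dichotomy hp (N := Subgroup.upperCentralSeries X 2)
        (fun g _ n hn => (inferInstance : (Subgroup.upperCentralSeries X 2).Normal).conj_mem n hn g)
        (htop.symm ▸ le_top) with e | e
      · exfalso
        rw [htop] at e
        apply hZA
        rw [← Subgroup.normalizer_eq_top_iff, eq_top_iff]
        refine e.trans (sup_le (fun u hu => ?_) (le_sup_left.trans Subgroup.le_normalizer))
        have hgen : ∀ v ∈ Subgroup.upperCentralSeries X 2, ∀ x ∈ A ⊔ Subgroup.center X,
            v * x * v⁻¹ ∈ A ⊔ Subgroup.center X := by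
          intro v hv x hx
          have hcm : v * x * v⁻¹ * x⁻¹ ∈ Subgroup.center X := by
            have := (Subgroup.mem_upperCentralSeries_succ_iff (n := 1)).1 hv x
            rwa [Subgroup.upperCentralSeries_one] at this
          have := mul_mem (Subgroup.mem_sup_right (S := A) hcm) hx
          rwa [inv_mul_cancel_right] at this
        rw [Subgroup.mem_normalizer_iff]
        refine fun x => ⟨hgen u hu x, fun hx => ?_⟩
        have := hgen u⁻¹ (inv_mem hu) _ hx
        rwa [show u⁻¹ * (u * x * u⁻¹) * u⁻¹⁻¹ = x by group] at this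
      · rwa [htop, Subgroup.coe_top, Subgroup.centralizer_univ] at e
    · rw [← Subgroup.upperCentralSeries_one]
      exact Subgroup.upperCentralSeries_mono X (by norm_num)
  refine ⟨heq, fun hnil => ?_⟩
  have hstab : ∀ n, Subgroup.upperCentralSeries X (n + 1) ≤ Subgroup.center X := by
    intro n
    induction n with
    | zero => rw [Subgroup.upperCentralSeries_one]
    | succ n ih =>
      intro x hx
      rw [← heq, Subgroup.mem_upperCentralSeries_succ_iff]
      intro y
      rw [Subgroup.upperCentralSeries_one]
      exact ih ((Subgroup.mem_upperCentralSeries_succ_iff).1 hx y)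
  obtain ⟨n, hn⟩ := Group.IsNilpotent.nilpotent (G := X)
  have hc : Subgroup.center X = ⊤ := top_le_iff.1 (hn ▸ (Subgroup.upperCentralSeries_mono X n.le_succ).trans (hstab n))
  apply hnab
  refine ⟨fun a ha g => ?_⟩
  rw [Subgroup.mem_center_iff.1 (hc ▸ Subgroup.mem_top a) g, mul_inv_cancel_right]
  exact ha

end Cfsg.Agent.S5018
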