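import Cfsg.Statements.S5020
import Cfsg.Agent.Lib.ThreeTrans.RankOneSmall
-- import your own Cfsg.Agent.* helpers here

set_option autoImplicit false
open Cfsg

namespace Cfsg.Agent.S5020

/-- Let X be a special rank one group with abelian unipotent subgroups A and B, and H = N(A) ∩ N(B) its diagonal subgroup. Then either A has at most three elements and X is isomorphic to SL₂(2), SL₂(3) or PSL₂(3); or X = X' A with the commutator subgroup X' quasisimple and the commutator subgroup ⁅A, H⁆ having more than three elements. -/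
theorem result {X : Type*} [Group X] {A B : Subgroup X} (h : Cfsg.IsRankOneGroup X A B)
    (hs : Cfsg.IsSpecialRankOnePair A B) (hab : Cfsg.HasAbelianUnipotents A B) :
    (ENat.card A ≤ 3 ∧ (Nonempty (X ≃* Matrix.SpecialLinearGroup (Fin 2) (ZMod 2)) ∨
        Nonempty (X ≃* Matrix.SpecialLinearGroup (Fin 2) (ZMod 3)) ∨
        Nonempty (X ≃* Matrix.ProjectiveSpecialLinearGroup (Fin 2) (ZMod 3)))) ∨
    (commutator X ⊔ A = ⊤ ∧ Cfsg.IsQuasisimple (commutator X) ∧
      3 < ENat.card ↥(⁅A, Cfsg.rankOneDiagonal A B⁆ : Subgroup X)) := by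
  have D : CfsgLib.ThreeTrans.Special.Data A B := ⟨hs, hab.1, hab.2⟩
  by_cases hc : 3 < ENat.card A
  · obtain ⟨h1, h2⟩ := CfsgLib.ThreeTrans.Special.quasisimple D h.1 hc
    refine Or.inr ⟨by rw [h1, top_sup_eq], ?_, ?_⟩
    · rw [h1]; exact (CfsgLib.Components.isQuasisimple_congr Subgroup.topEquiv).2 h2
    · rw [D.commutator_diagonal_eq hc]; exact hc
  · rw [not_lt] at hc
    haveI : Finite A := ENat.card_lt_top.1 (lt_of_le_of_lt hc (WithTop.coe_lt_top _))
    refine Or.inl ⟨hc, ?_⟩
    rw [ENat.card_eq_coe_natCard] at hc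
    have h3 : Nat.card A ≤ 3 := by exact_mod_cast hc
    have h1 : 1 < Nat.card A := (Subgroup.one_lt_card_iff_ne_bot _).2 (CfsgLib.ThreeTrans.ne_bot_left h.2)
    have h23 : Nat.card A = 2 ∨ Nat.card A = 3 := by omega
    rcases h23 with e | e
    · exact Or.inl (CfsgLib.ThreeTrans.Special.small_two D h.1 e)
    · exact Or.inr (CfsgLib.ThreeTrans.Special.small_three D h.1 e)

end Cfsg.Agent.S5020
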