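import Cfsg.Statements.S5023
import Cfsg.Agent.Lib.ThreeTrans.RankOneQuadratic
-- import your own Cfsg.Agent.* helpers here

set_option autoImplicit false
open Cfsg

namespace Cfsg.Agent.S5023

/-- Let X be a rank one group with unipotent subgroups A and B that acts faithfully on an abelian group V (written additively) with A acting quadratically: a' • (a • v − v) = a • v − v for all a, a' in A and v in V. Then A is either torsion-free or an elementary abelian p-group for some prime p. -/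
theorem result {X : Type*} [Group X] {A B : Subgroup X} (h : Cfsg.IsRankOneGroup X A B)
    {V : Type*} [AddCommGroup V] [DistribMulAction X V] (hf : ∀ x : X, (∀ v : V, x • v = v) → x = 1)
    (hq : ∀ a ∈ A, ∀ a' ∈ A, ∀ v : V, a' • (a • v - v) = a • v - v) :
    (∀ a ∈ A, a ≠ 1 → ¬ IsOfFinOrder a) ∨ ∃ p : ℕ, p.Prime ∧ Cfsg.IsElementaryAbelian p A := by
  by_cases hall : ∀ a ∈ A, a ≠ 1 → ¬ IsOfFinOrder a
  · exact Or.inl hall
  push Not at hall
  obtain ⟨a, ha, ha1, hfin⟩ := hall
  set n := orderOf a with hn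
  have hn0 : 0 < n := hfin.orderOf_pos
  have hn1 : n ≠ 1 := fun e => ha1 (orderOf_eq_one_iff.1 e)
  obtain ⟨p, hp, hpn⟩ := Nat.exists_prime_and_dvd hn1
  have hap : (a ^ (n / p)) ^ p = 1 := by
    rw [← pow_mul, Nat.div_mul_cancel hpn, hn, pow_orderOf_eq_one]
  have hne : a ^ (n / p) ≠ 1 := by
    intro e
    have := orderOf_dvd_of_pow_eq_one e
    have h1 : 0 < n / p := Nat.div_pos (Nat.le_of_dvd hn0 hpn) hp.pos
    exact absurd (Nat.le_of_dvd h1 this) (not_le.2 (Nat.div_lt_self hn0 hp.one_lt))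
  refine Or.inr ⟨p, hp, ⟨⟨fun x y => ?_⟩⟩, CfsgLib.ThreeTrans.unipotent_elementary h hq hf
    (pow_mem ha _) hne hap⟩
  apply Subtype.ext
  apply inv_mul_eq_one.1
  refine hf _ fun v => ?_
  rw [mul_smul, inv_smul_eq_iff]
  have e1 := CfsgLib.ThreeTrans.quad_mul_smul hq x.2 y.2 v
  have e2 := CfsgLib.ThreeTrans.quad_mul_smul hq y.2 x.2 v
  exact (sub_left_injective (e1.trans (by rw [add_comm]; exact e2.symm)))

end Cfsg.Agent.S5023
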