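import Cfsg.Statements.S5024
import Cfsg.Agent.Lib.ThreeTrans.RankOne
-- import your own Cfsg.Agent.* helpers here

set_option autoImplicit false
open Cfsg

namespace Cfsg.Agent.S5024

/-- Let S be a set of abstract root subgroups of G, A and C members of S, B a rank one partner of A in S and D a rank one partner of C in S. If the rank one group ⟨A, B⟩ is contained in ⟨C, D⟩ then the two coincide, and C and D are conjugates of A inside ⟨A, B⟩. -/
theorem result {G : Type*} [Group G] {S : Set (Subgroup G)} (hS : Cfsg.IsRootSubgroupSet S)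
    {A B C D : Subgroup G} (hA : A ∈ S) (hC : C ∈ S) (hB : B ∈ Cfsg.rankOnePartners S A) (hD : D ∈ Cfsg.rankOnePartners S C)
    (hle : A ⊔ B ≤ C ⊔ D) : A ⊔ B = C ⊔ D ∧ C ∈ Cfsg.unipotentSubgroups A B ∧ D ∈ Cfsg.unipotentSubgroups A B := by
  obtain ⟨hBS, hAB⟩ := hB
  obtain ⟨hDS, hCD⟩ := hD
  have hA' := CfsgLib.ThreeTrans.mem_unipotentSubgroups_of_pair_le hS hA hAB hC hCD hle
  have hB' := CfsgLib.ThreeTrans.mem_unipotentSubgroups_of_pair_le hS hBS (RankOnePair_symm hAB) hC hCD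
    (sup_comm B A ▸ hle)
  have hsup := CfsgLib.ThreeTrans.sup_of_two_unipotent hCD hA' hB' hAB.ne
  obtain ⟨x, hx, rfl⟩ := hA'
  refine ⟨hsup, ⟨x⁻¹, hsup ▸ inv_mem hx, ?_⟩, ?_⟩
  · rw [CfsgLib.ThreeTrans.conjBy_conjBy, inv_mul_cancel, CfsgLib.ThreeTrans.conjBy_one]
  · obtain ⟨y, hy, hyD⟩ := CfsgLib.ThreeTrans.right_mem_unipotentSubgroups hCD
    refine ⟨y * x⁻¹, hsup ▸ mul_mem hy (inv_mem hx), ?_⟩
    rw [CfsgLib.ThreeTrans.conjBy_conjBy, mul_assoc, inv_mul_cancel, mul_one]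
    exact hyD

end Cfsg.Agent.S5024
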