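import Cfsg.Statements.S5026
import Cfsg.Agent.Lib.ThreeTrans.RankOne
-- import your own Cfsg.Agent.* helpers here

set_option autoImplicit false
open Cfsg

namespace Cfsg.Agent.S5026

/-- Let S be a degenerate set of abstract root subgroups of G (a set of abstract transvection groups) and let a, b be commuting non-identity elements of members of S with a b ≠ 1. Then the members of S centralizing a b are exactly those centralizing both a and b. -/
theorem result {G : Type*} [Group G] {S : Set (Subgroup G)} (hS : Cfsg.IsRootSubgroupSet S) (hdeg : Cfsg.IsDegenerateRootSet S)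
    {a b : G} (ha : a ∈ Cfsg.rootElements S) (hb : b ∈ Cfsg.rootElements S) (hab : a * b = b * a) (hab1 : a * b ≠ 1) :
    Cfsg.centralizingMembers S (Subgroup.zpowers (a * b)) =
      Cfsg.centralizingMembers S (Subgroup.zpowers a) ∩ Cfsg.centralizingMembers S (Subgroup.zpowers b) := by
  ext E
  have key : ∀ x : G, E ∈ centralizingMembers S (Subgroup.zpowers x) ↔ E ∈ S ∧ ∀ e ∈ E, e * x = x * e := by
    intro x
    refine and_congr_right fun _ => ⟨fun h e he => ?_, fun h e he => ?_⟩
    · exact (Subgroup.mem_centralizer_iff.1 (h he) x (Subgroup.mem_zpowers x)).symm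
    · rw [Subgroup.mem_centralizer_iff]
      rintro g ⟨n, rfl⟩
      exact (Commute.zpow_left (h e he).symm n).eq
  rw [Set.mem_inter_iff, key, key, key]
  constructor
  · rintro ⟨hE, h⟩
    have ha_iff : ∀ e ∈ E, e * b = b * e → e * a = a * e := by
      intro e he h'
      have := h e he
      rw [← mul_assoc, mul_assoc a b e, ← h', ← mul_assoc] at this
      exact mul_right_cancel this
    have hb_iff : ∀ e ∈ E, e * a = a * e → e * b = b * e := by
      intro e he h'
      have := h e he
      rw [← mul_assoc, h', mul_assoc, mul_assoc] at this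
      exact mul_left_cancel this
    suffices hh : ∀ e ∈ E, e * a = a * e from ⟨⟨hE, hh⟩, hE, fun e he => hb_iff e he (hh e he)⟩
    obtain ⟨ha1, A, hA, haA⟩ := ha
    obtain ⟨hb1, B, hB, hbB⟩ := hb
    rcases hS.pair A hA E hE with hc | hr | hcc
    · exact fun e he => (CfsgLib.ThreeTrans.commute_of_commutator_eq_bot hc haA he).symm
    · rcases hS.pair B hB E hE with hc' | hr' | hcc'
      · exact fun e he => ha_iff e he (CfsgLib.ThreeTrans.commute_of_commutator_eq_bot hc' hbB he).symm
      · exfalso
        obtain ⟨e₁, he₁, -, q₁⟩ := hr.cond_left a⁻¹ (inv_mem haA) (inv_ne_one.2 ha1)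
        obtain ⟨e₂, he₂, -, q₂⟩ := hr'.cond_left b hbB hb1
        rw [inv_inv] at q₁
        have hfix : conjBy E (a * b) = E :=
          CfsgLib.ThreeTrans.conjBy_eq_self_iff.2
            (CfsgLib.ThreeTrans.mem_normalizer_of_commute fun e he => (h e he).symm)
        have hEab : conjBy E b⁻¹ = conjBy E a := by
          conv_lhs => rw [← hfix, CfsgLib.ThreeTrans.conjBy_conjBy, hab, inv_mul_cancel_left]
        rw [hEab, ← q₁] at q₂
        have hBmem : B ∈ unipotentSubgroups A E := by
          refine ⟨e₂ * e₁⁻¹, mul_mem (Subgroup.mem_sup_right he₂) (inv_mem (Subgroup.mem_sup_right he₁)), ?_⟩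
          rw [← CfsgLib.ThreeTrans.conjBy_conjBy, ← q₂, CfsgLib.ThreeTrans.conjBy_conjBy,
            mul_inv_cancel, CfsgLib.ThreeTrans.conjBy_one]
        obtain ⟨e₀, he₀, he₀1⟩ :=
          (Subgroup.bot_or_exists_ne_one E).resolve_left (CfsgLib.ThreeTrans.ne_bot_right hr)
        by_cases hBA : B = A
        · exact hab1 (CfsgLib.ThreeTrans.eq_one_of_commute hr (mul_mem haA (hBA ▸ hbB)) he₀ he₀1
            (h e₀ he₀).symm)
        · obtain ⟨x, -, hx1, hx2⟩ := CfsgLib.ThreeTrans.exists_map_pair hr
            (CfsgLib.ThreeTrans.left_mem_unipotentSubgroups hr) hBmem (Ne.symm hBA)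
          have h1 : x * a * x⁻¹ ∈ A := by
            have := CfsgLib.ThreeTrans.conj_mem_conjBy (g := x) haA
            rwa [hx1] at this
          have h2 : x * b * x⁻¹ ∈ E := by
            have := CfsgLib.ThreeTrans.conj_mem_conjBy (g := x) hbB
            rwa [hx2] at this
          refine ha1 (conj_eq_one_iff.1 (CfsgLib.ThreeTrans.eq_one_of_commute hr h1 h2
            (fun e => hb1 (conj_eq_one_iff.1 e)) ?_))
          simp only [mul_assoc, inv_mul_cancel_left]
          rw [← mul_assoc a b, hab, mul_assoc]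
      · exact absurd hcc' (hdeg B hB E hE)
    · exact absurd hcc (hdeg A hA E hE)
  · rintro ⟨⟨hE, h1⟩, -, h2⟩
    exact ⟨hE, fun e he => by rw [← mul_assoc, h1 e he, mul_assoc, h2 e he, mul_assoc]⟩

end Cfsg.Agent.S5026
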