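import Cfsg.Statements.S5027
import Cfsg.Agent.Lib.ThreeTrans.RankOne
-- import your own Cfsg.Agent.* helpers here

set_option autoImplicit false
open Cfsg

namespace Cfsg.Agent.S5027

/-- Let S be a set of abstract root subgroups of G such that every member of S has a rank one partner in S (the graph of rank one pairs on S has no isolated vertex). Then the second centre of G equals its centre. -/
theorem result {G : Type*} [Group G] {S : Set (Subgroup G)} (hS : Cfsg.IsRootSubgroupSet S)
    (hF : ∀ A ∈ S, ¬ Cfsg.IsIsolatedIn (Cfsg.FAdj S) S A) : Subgroup.upperCentralSeries G 2 = Subgroup.center G := by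
  refine le_antisymm (fun u hu => ?_) (by
    rw [← Subgroup.upperCentralSeries_one]; exact Subgroup.upperCentralSeries_mono G (by norm_num))
  have hcm : ∀ x : G, u * x * u⁻¹ * x⁻¹ ∈ Subgroup.center G := fun x => by
    have := (Subgroup.mem_upperCentralSeries_succ_iff (n := 1)).1 hu x
    rwa [Subgroup.upperCentralSeries_one] at this
  have key : (⨆ A ∈ S, A) ≤ Subgroup.centralizer ({u} : Set G) := by
    refine iSup₂_le fun A hA a ha => ?_
    rw [Subgroup.mem_centralizer_singleton_iff]
    by_cases ha1 : a = 1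
    · rw [ha1, one_mul, mul_one]
    have hAn := hF A hA
    simp only [Cfsg.IsIsolatedIn, hA, true_and, not_forall] at hAn
    obtain ⟨P, hP⟩ := hAn
    have hP' : P ∈ S ∧ Cfsg.IsRankOnePair A P := by
      by_contra hc
      exact hP ⟨fun h => hc ⟨h.2.1, h.2.2⟩, fun h => hc ⟨h.1, Cfsg.RankOnePair_symm h.2.2⟩⟩
    have h1 := (CfsgLib.ThreeTrans.central_translate hS hA hP'.1 hP'.2 (hS.conj_mem A hA u)
      (z := u * a * u⁻¹ * a⁻¹) (fun x _ => (Subgroup.mem_center_iff.1 (hcm a) x).symm) ha ha1
      (by rw [inv_mul_cancel_right]; exact CfsgLib.ThreeTrans.conj_mem_conjBy ha)).2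
    exact (mul_inv_eq_iff_eq_mul.1 (mul_inv_eq_one.1 h1)).symm
  rw [hS.generates] at key
  rw [Subgroup.mem_center_iff]
  exact fun x => Subgroup.mem_centralizer_singleton_iff.1 (key (Subgroup.mem_top x))

end Cfsg.Agent.S5027
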