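import Cfsg.Statements.S5028
import Cfsg.Agent.Lib.ThreeTrans.RankOne
-- import your own Cfsg.Agent.* helpers here

set_option autoImplicit false
open Cfsg

namespace Cfsg.Agent.S5028

/-- Let S be a set of abstract root subgroups of G and A a member of S having a rank one partner in S. Then A meets every other member of S trivially. -/
theorem result {G : Type*} [Group G] {S : Set (Subgroup G)} (hS : Cfsg.IsRootSubgroupSet S)
    {A : Subgroup G} (hA : ¬ Cfsg.IsIsolatedIn (Cfsg.FAdj S) S A) (hAS : A ∈ S) : ∀ B ∈ S, A ⊓ B = ⊥ ∨ A = B := by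
  intro B hB
  simp only [Cfsg.IsIsolatedIn, hAS, true_and, not_forall] at hA
  obtain ⟨P, hP⟩ := hA
  have hP' : P ∈ S ∧ Cfsg.IsRankOnePair A P := by
    by_contra hc
    apply hP
    exact ⟨fun h => hc ⟨h.2.1, h.2.2⟩, fun h => hc ⟨h.1, Cfsg.RankOnePair_symm h.2.2⟩⟩
  rcases Subgroup.bot_or_exists_ne_one (A ⊓ B) with h | ⟨a, ha, ha1⟩
  · exact Or.inl h
  · right
    exact (CfsgLib.ThreeTrans.central_translate hS hAS hP'.1 hP'.2 hB (z := 1) (fun x _ => by rw [one_mul, mul_one])
      ha.1 ha1 (by rw [one_mul]; exact ha.2)).1.symm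

end Cfsg.Agent.S5028
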