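import Cfsg.Statements.S5045
import Cfsg.Agent.Lib.ThreeTrans.RootInvGraph
-- import your own Cfsg.Agent.* helpers here

set_option autoImplicit false
open Cfsg

namespace Cfsg.Agent.S5045

/-- Let G be a finite group generated by a set D of root involutions, and W the set of members of D whose product with every other member of D has even order or is trivial (the isolated vertices of the odd-order-product graph on D). Then W is conjugation-invariant and generates a normal 2-subgroup of G meeting D in exactly W; the commutator of two members of D lying in different connected components of that graph, each with more than one member, lies in the subgroup generated by W; and for a in such a component, every member of D commuting with a, different from a and with product with a in D, lies in that component or in W. -/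
theorem result {G : Type*} [Group G] [Finite G] {D : Set G} (hD : Cfsg.IsRootInvolutionSet D) :
    (∀ w ∈ {w | Cfsg.IsIsolatedElem (Cfsg.OddAdj D) D w}, ∀ g : G, g * w * g⁻¹ ∈ {w | Cfsg.IsIsolatedElem (Cfsg.OddAdj D) D w}) ∧
    (Subgroup.closure {w | Cfsg.IsIsolatedElem (Cfsg.OddAdj D) D w}).Normal ∧
    IsPGroup 2 ↥(Subgroup.closure {w | Cfsg.IsIsolatedElem (Cfsg.OddAdj D) D w}) ∧
    (Subgroup.closure {w | Cfsg.IsIsolatedElem (Cfsg.OddAdj D) D w} : Set G) ∩ D = {w | Cfsg.IsIsolatedElem (Cfsg.OddAdj D) D w} ∧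
    (∀ a ∈ D, ∀ b ∈ D, (∃ a' ∈ Cfsg.elemComponentOf (Cfsg.OddAdj D) D a, a' ≠ a) →
      (∃ b' ∈ Cfsg.elemComponentOf (Cfsg.OddAdj D) D b, b' ≠ b) →
      Cfsg.elemComponentOf (Cfsg.OddAdj D) D a ≠ Cfsg.elemComponentOf (Cfsg.OddAdj D) D b →
        a * b * a⁻¹ * b⁻¹ ∈ Subgroup.closure {w | Cfsg.IsIsolatedElem (Cfsg.OddAdj D) D w}) ∧
    (∀ a ∈ D, (∃ a' ∈ Cfsg.elemComponentOf (Cfsg.OddAdj D) D a, a' ≠ a) →
      Cfsg.productPartners D a ⊆ Cfsg.elemComponentOf (Cfsg.OddAdj D) D a ∪ {w | Cfsg.IsIsolatedElem (Cfsg.OddAdj D) D w}) := by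
  set W := {w | Cfsg.IsIsolatedElem (Cfsg.OddAdj D) D w} with hW
  have hiso : ∀ w, w ∈ W ↔ Cfsg.IsIsolatedElem (Cfsg.OddAdj D) D w := fun _ => Iff.rfl
  have hconj : ∀ w ∈ W, ∀ g : G, g * w * g⁻¹ ∈ W := fun w hw g => by
    obtain ⟨hwD, hwo⟩ := (CfsgLib.ThreeTrans.RootInv.isolated_iff hD).1 hw
    refine (CfsgLib.ThreeTrans.RootInv.isolated_iff hD).2 ⟨hD.conj_mem w hwD g, ?_⟩
    rw [CfsgLib.ThreeTrans.RootInv.oddPartners_conj hD, hwo, Set.image_empty]
  have hle : Subgroup.closure W ≤ Cfsg.pCore 2 G := (Subgroup.closure_le _).2 fun w hw =>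
    CfsgLib.ThreeTrans.RootInv.isolated_mem_pCore hD hw
  refine ⟨hconj, ⟨fun x hx g => ?_⟩, (CfsgLib.Core.isPGroup_pCore 2 G).to_le hle, ?_, ?_, ?_⟩
  · induction hx using Subgroup.closure_induction with
    | mem y hy => exact Subgroup.subset_closure (hconj y hy g)
    | one => simp
    | mul y z _ _ hy hz =>
      rw [show g * (y * z) * g⁻¹ = g * y * g⁻¹ * (g * z * g⁻¹) by group]
      exact mul_mem hy hz
    | inv y _ hy =>
      rw [show g * y⁻¹ * g⁻¹ = (g * y * g⁻¹)⁻¹ by group]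
      exact inv_mem hy
  · ext d
    exact ⟨fun h => CfsgLib.ThreeTrans.RootInv.isolated_of_mem_pCore hD h.2 (hle h.1),
      fun h => ⟨Subgroup.subset_closure h, h.1⟩⟩
  · intro a ha b hb ha2 hb2 hne
    have hai := CfsgLib.ThreeTrans.RootInv.exists_partner_of_component hD ha ha2
    have hbi := CfsgLib.ThreeTrans.RootInv.exists_partner_of_component hD hb hb2
    by_cases hc : a * b = b * a
    · rw [hc, mul_inv_cancel_right, mul_inv_cancel]; exact one_mem _
    by_cases ho : b ∈ Cfsg.oddPartners D a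
    · exact absurd (CfsgLib.ThreeTrans.RootInv.component_eq hD (Relation.ReflTransGen.single
        (CfsgLib.ThreeTrans.RootInv.adj_of_mem hD ha ho))) hne
    obtain ⟨h4, -⟩ := CfsgLib.ThreeTrans.RootInv.four hD ha hb hc ho
    obtain ⟨t1, -, -, hsym⟩ := CfsgLib.ThreeTrans.RootInv.tri_four hD ha hb h4
    obtain ⟨t2, -, -, -⟩ := CfsgLib.ThreeTrans.RootInv.tri_four hD hb ha
      (by rw [CfsgLib.ThreeTrans.RootInv.orderOf_symm hD ha hb]; exact h4)
    rw [hsym] at t2
    rw [show a * b * a⁻¹ * b⁻¹ = (a * b) ^ 2 by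
      rw [CfsgLib.ThreeTrans.RootInv.inv_eq hD ha, CfsgLib.ThreeTrans.RootInv.inv_eq hD hb, sq]
      simp only [mul_assoc]]
    refine Subgroup.subset_closure ?_
    by_contra hi
    exact hne (CfsgLib.ThreeTrans.RootInv.component_eq hD
      ((CfsgLib.ThreeTrans.RootInv.reach_of_tri hD t1 hai hi).trans
        (CfsgLib.ThreeTrans.RootInv.reach_symm hD
          (CfsgLib.ThreeTrans.RootInv.reach_of_tri hD t2 hbi hi))))
  · rintro a ha ha2 b ⟨⟨hb, hba, hne⟩, hbaD⟩
    by_cases hi : Cfsg.IsIsolatedElem (Cfsg.OddAdj D) D b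
    · exact Or.inr hi
    · exact Or.inl ⟨hb, CfsgLib.ThreeTrans.RootInv.reach_of_tri hD ⟨ha, hb, hba.symm, hba ▸ hbaD⟩
        (CfsgLib.ThreeTrans.RootInv.exists_partner_of_component hD ha ha2) hi⟩

end Cfsg.Agent.S5045
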