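import Cfsg.Statements.S5049
import Cfsg.Agent.Lib.Core.Cores
import Cfsg.Agent.Lib.ThreeTrans.Dihedral
-- import your own Cfsg.Agent.* helpers here

set_option autoImplicit false
open Cfsg

namespace Cfsg.Agent.S5049

/-- Let G be a finite group generated by a set D of odd transpositions (root involutions with no product of order 4), Q = O₂(G), and for a ∈ D let Q_a be the commutator subgroup of Q with a. Then every member of D commuting with a centralizes Q_a; and for b ∈ D with ab of odd order greater than 1, the centralizer of ab in Q is the intersection of the centralizers of a and b in Q. -/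
theorem result {G : Type*} [Group G] [Finite G] {D : Set G} (hD : Cfsg.IsOddTranspositionSet D) {a : G} (ha : a ∈ D) :
    (∀ e ∈ Cfsg.commutingMembers D a, ∀ q ∈ ⁅Cfsg.pCore 2 G, Subgroup.zpowers a⁆, e * q = q * e) ∧
    (∀ b ∈ Cfsg.oddPartners D a,
      Cfsg.pCore 2 G ⊓ Subgroup.centralizer {a * b} = Cfsg.pCore 2 G ⊓ Subgroup.centralizer {a} ⊓ Subgroup.centralizer {b}) := by
  obtain ⟨hR, h4⟩ := hD
  haveI : Fact (Nat.Prime 2) := ⟨Nat.prime_two⟩
  have sq : ∀ d ∈ D, d * d = 1 := fun d hd => CfsgLib.ThreeTrans.mul_self_of_orderOf_two (hR.orderOf_eq d hd)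
  have inv : ∀ d ∈ D, d⁻¹ = d := fun d hd => CfsgLib.ThreeTrans.inv_of_orderOf_two (hR.orderOf_eq d hd)
  have hQn : (pCore 2 G).Normal := inferInstance
  have two : ∀ x ∈ pCore 2 G, Odd (orderOf x) → x = 1 := by
    intro x hx hodd
    obtain ⟨k, hk⟩ := (CfsgLib.Core.isPGroup_pCore 2 G) ⟨x, hx⟩
    have hk' : x ^ 2 ^ k = 1 := by simpa using congrArg Subtype.val hk
    obtain ⟨i, -, hi⟩ := (Nat.dvd_prime_pow Nat.prime_two).1 (orderOf_dvd_of_pow_eq_one hk')
    rcases Nat.eq_zero_or_pos i with rfl | hi0
    · exact orderOf_eq_one_iff.1 (by simpa using hi)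
    · exact absurd (hi ▸ hodd) (Nat.not_odd_iff_even.2 ((Nat.even_pow).2 ⟨even_two, hi0.ne'⟩))
  have memQ : ∀ d : G, ∀ q ∈ pCore 2 G, d * q * d⁻¹ * q⁻¹ ∈ pCore 2 G := fun d q hq =>
    mul_mem (hQn.conj_mem q hq d) (inv_mem hq)
  have key : ∀ d ∈ D, ∀ e ∈ D, d * e = e * d → ∀ q ∈ pCore 2 G, e * (q * d * q⁻¹) = (q * d * q⁻¹) * e := by
    intro d hd e he hde q hq
    set d' := q * d * q⁻¹ with hd'
    rcases hR.pair e he d' (hR.conj_mem d hd q) with hc | hodd | ⟨h4', -⟩
    · exact hc
    · have hm : (e * d) * (e * d') ∈ pCore 2 G := by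
        have : (e * d) * (e * d') = d * q * d⁻¹ * q⁻¹ * 1 := by
          have e1 : e * d * e = d := by rw [← hde, mul_assoc, sq e he, mul_one]
          rw [mul_one, hd', ← mul_assoc (e * d) e, e1, inv d hd]
          simp only [mul_assoc]
        rw [this, mul_one]
        exact memQ d q hq
      have hodd' : Odd (orderOf (QuotientGroup.mk' (pCore 2 G) (e * d'))) :=
        Odd.of_dvd_nat hodd (orderOf_map_dvd _ _)
      have h2 : (QuotientGroup.mk' (pCore 2 G) (e * d')) ^ 2 = 1 := by
        have h1 : QuotientGroup.mk' (pCore 2 G) (e * d) * QuotientGroup.mk' (pCore 2 G) (e * d') = 1 := by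
          rw [← map_mul]; exact (QuotientGroup.eq_one_iff _).2 hm
        have h3 : (e * d) * (e * d) = 1 := by
          rw [← mul_assoc, mul_assoc e d e, hde, ← mul_assoc, sq e he, one_mul, sq d hd]
        have h5 := eq_inv_of_mul_eq_one_left h1
        have h6 : QuotientGroup.mk' (pCore 2 G) (e * d') = QuotientGroup.mk' (pCore 2 G) (e * d) := by
          rw [← mul_left_cancel_iff (a := QuotientGroup.mk' (pCore 2 G) (e * d)), h1, ← map_mul, h3, map_one]
        rw [h6, ← map_pow, pow_two, h3, map_one]
      have h1 : QuotientGroup.mk' (pCore 2 G) (e * d') = 1 := by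
        have := Nat.dvd_gcd (dvd_refl _) (orderOf_dvd_of_pow_eq_one h2)
        rcases (Nat.dvd_prime Nat.prime_two).1 (orderOf_dvd_of_pow_eq_one h2) with h | h
        · exact orderOf_eq_one_iff.1 h
        · rw [h] at hodd'; exact absurd hodd' (by decide)
      have h7 := two _ ((QuotientGroup.eq_one_iff _).1 h1) hodd
      have : d' = e := by
        calc d' = e * e * d' := by rw [sq e he, one_mul]
          _ = e := by rw [mul_assoc, h7, mul_one]
      rw [this]
    · exact absurd h4' (h4 e he d' (hR.conj_mem d hd q))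
  refine ⟨?_, ?_⟩
  · rintro e ⟨he, hea⟩ q hq
    have hle : ⁅pCore 2 G, Subgroup.zpowers a⁆ ≤ Subgroup.centralizer ({e} : Set G) := by
      rw [Subgroup.commutator_le]
      intro g hg y hy
      rw [Subgroup.mem_centralizer_singleton_iff]
      obtain ⟨n, rfl⟩ := hy
      have h1 : a ^ n = 1 ∨ a ^ n = a := by
        rcases Int.even_or_odd n with ⟨m, rfl⟩ | ⟨m, rfl⟩
        · left; rw [zpow_add, ← (Commute.refl a).mul_zpow, sq a ha, one_zpow]
        · right; rw [zpow_add, zpow_one, two_mul, zpow_add, ← (Commute.refl a).mul_zpow, sq a ha, one_zpow, one_mul]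
      rw [commutatorElement_def]
      rcases h1 with h | h <;> simp only [h]
      · simp
      · rw [inv a ha, ← mul_assoc e, key a ha e he hea.symm g hg, mul_assoc, ← hea, ← mul_assoc]
    exact (Subgroup.mem_centralizer_singleton_iff.1 (hle hq)).symm
  · rintro b ⟨hb, hba, hodd⟩
    ext q
    simp only [Subgroup.mem_inf, Subgroup.mem_centralizer_singleton_iff]
    constructor
    · rintro ⟨hq, hc⟩
      set a' := q * a * q⁻¹ with ha'
      set b' := q * b * q⁻¹ with hb'
      have hab : a' * b' = a * b := by
        rw [ha', hb']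
        calc q * a * q⁻¹ * (q * b * q⁻¹) = q * (a * b) * q⁻¹ := by group
          _ = a * b := by rw [hc, mul_inv_cancel_right]
      have caa : a * a' = a' * a := key a ha a ha rfl q hq
      have cbb : b * b' = b' * b := key b hb b hb rfl q hq
      have ha'D : a' ∈ D := hR.conj_mem a ha q
      have hb'D : b' ∈ D := hR.conj_mem b hb q
      set x := a * a' with hx
      have hxb' : x * b' = b := by rw [hx, mul_assoc, hab, ← mul_assoc, sq a ha, one_mul]
      have hxe : x = b * b' := by
        calc x = x * b' * b'⁻¹ := by rw [mul_inv_cancel_right]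
          _ = b * b' := by rw [hxb', inv b' hb'D]
      have hx2 : x * x = 1 := by
        nth_rewrite 1 [caa]
        rw [hx, mul_assoc, ← mul_assoc a a, sq a ha, one_mul, sq a' ha'D]
      have hb'x : b' = b * x := by rw [hxe, ← mul_assoc, sq b hb, one_mul]
      have cxa : Commute x a := by
        show a * a' * a = a * (a * a')
        rw [mul_assoc, ← caa]
      have cxb : Commute x b := by
        show x * b = b * x
        rw [hxe, mul_assoc, ← cbb]
      have cxab : Commute (a * b) x := (cxa.mul_right cxb).symm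
      have hpow : (a * b') ^ 2 = (a * b) ^ 2 := by
        rw [hb'x, ← mul_assoc, cxab.mul_pow, pow_two x, hx2, mul_one]
      have hne1 : a * b ≠ 1 := fun e => hba (by
        have := eq_inv_of_mul_eq_one_right e
        rw [inv a ha] at this; exact this)
      have hx1 : x = 1 := by
        rcases hR.pair a ha b' hb'D with hcm | ho | ⟨h4', -⟩
        · exfalso
          have h1 : (a * b') ^ 2 = 1 := by
            rw [pow_two]; nth_rewrite 1 [hcm]
            rw [mul_assoc, ← mul_assoc a a, sq a ha, one_mul, sq b' hb'D]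
          rw [hpow] at h1
          rcases (Nat.dvd_prime Nat.prime_two).1 (orderOf_dvd_of_pow_eq_one h1) with h | h
          · exact hne1 (orderOf_eq_one_iff.1 h)
          · rw [h] at hodd; exact absurd hodd (by decide)
        · set k := orderOf (a * b') with hk
          have h1 : (a * b) ^ k * x ^ k = 1 := by
            rw [← cxab.mul_pow, mul_assoc, ← hb'x]; exact pow_orderOf_eq_one _
          obtain ⟨m, hm⟩ := ho
          have hxk : x ^ k = x := by rw [hm, pow_succ, pow_mul, pow_two, hx2, one_pow, one_mul]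
          rw [hxk] at h1
          have h2 : x ^ orderOf (a * b) = 1 := by
            rw [eq_inv_of_mul_eq_one_right h1, inv_pow, ← pow_mul, mul_comm, pow_mul, pow_orderOf_eq_one,
              one_pow, inv_one]
          obtain ⟨l, hl⟩ := hodd
          rwa [hl, pow_succ, pow_mul, pow_two, hx2, one_pow, one_mul] at h2
        · exact absurd h4' (h4 a ha b' hb'D)
      have hqa : q * a = a * q := by
        have h1 : a' = a := by
          calc a' = a * a * a' := by rw [sq a ha, one_mul]
            _ = a := by rw [mul_assoc, ← hx, hx1, mul_one]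
        rw [ha', mul_inv_eq_iff_eq_mul] at h1
        exact h1
      refine ⟨⟨hq, hqa⟩, ?_⟩
      have e1 : q * (a * b) = a * (q * b) := by rw [← mul_assoc, hqa, mul_assoc]
      rw [e1, mul_assoc] at hc
      exact mul_left_cancel hc
    · rintro ⟨⟨hq, h1⟩, h2⟩
      exact ⟨hq, by rw [← mul_assoc, h1, mul_assoc, h2, mul_assoc]⟩

end Cfsg.Agent.S5049
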