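import Cfsg.Statements.S5057
import Cfsg.Agent.Lib.ThreeTrans.Dihedral
-- import your own Cfsg.Agent.* helpers here

set_option autoImplicit false
open Cfsg

namespace Cfsg.Agent.S5057

/-- The involutions of the alternating group of degree 6 form a class of root involutions (a single conjugacy class of involutions generating the group, any two of which commute, have product of odd order, or have product of order 4 whose square is again an involution of the class), and the product of any two of them has order at most 5. -/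
theorem result :
    Cfsg.IsRootInvolutionClass {g : ↥(alternatingGroup (Fin 6)) | orderOf g = 2} ∧
    ∀ d ∈ {g : ↥(alternatingGroup (Fin 6)) | orderOf g = 2}, ∀ e ∈ {g : ↥(alternatingGroup (Fin 6)) | orderOf g = 2},
      orderOf (d * e) ≤ 5 := by
  have hord : ∀ g : Equiv.Perm (Fin 6), Equiv.Perm.sign g = 1 → g ^ 4 = 1 ∨ g ^ 3 = 1 ∨ g ^ 5 = 1 := by
    decide +kernel
  have hconj : ∀ g : Equiv.Perm (Fin 6), Equiv.Perm.sign g = 1 → g * g = 1 → g ≠ 1 →
      ∃ c : Equiv.Perm (Fin 6), Equiv.Perm.sign c = 1 ∧ c * (Equiv.swap 0 1 * Equiv.swap 2 3) * c⁻¹ = g := by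
    decide +kernel
  have hord' : ∀ g : ↥(alternatingGroup (Fin 6)), g ^ 4 = 1 ∨ g ^ 3 = 1 ∨ g ^ 5 = 1 := by
    intro g
    rcases hord g.1 g.2 with h | h | h
    · exact Or.inl (Subtype.ext h)
    · exact Or.inr (Or.inl (Subtype.ext h))
    · exact Or.inr (Or.inr (Subtype.ext h))
  set D : Set ↥(alternatingGroup (Fin 6)) := {g | orderOf g = 2} with hDdef
  let x₀ : ↥(alternatingGroup (Fin 6)) := ⟨Equiv.swap 0 1 * Equiv.swap 2 3, Equiv.Perm.mem_alternatingGroup.2 (by decide)⟩
  have hx₀ : x₀ ∈ D := by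
    refine orderOf_eq_prime (Subtype.ext ?_) ?_
    · show (Equiv.swap 0 1 * Equiv.swap 2 3 : Equiv.Perm (Fin 6)) ^ 2 = 1
      decide
    · exact fun h => absurd (congrArg Subtype.val h) (by decide)
  have hcl : ∀ g ∈ D, ∃ c : ↥(alternatingGroup (Fin 6)), c * x₀ * c⁻¹ = g := by
    intro g hg
    have h2 : g * g = 1 := CfsgLib.ThreeTrans.mul_self_of_orderOf_two hg
    obtain ⟨c, hc, hce⟩ := hconj g.1 g.2 (congrArg Subtype.val h2) (fun e => by
      have : g = 1 := Subtype.ext e
      rw [hDdef, Set.mem_setOf_eq, this, orderOf_one] at hg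
      exact absurd hg (by norm_num))
    exact ⟨⟨c, hc⟩, Subtype.ext hce⟩
  have hcm : ∀ d ∈ D, ∀ g, g * d * g⁻¹ ∈ D := by
    intro d hd g
    show orderOf (g * d * g⁻¹) = 2
    rw [← MulAut.conj_apply]
    exact (orderOf_injective (MulAut.conj g).toMonoidHom (MulAut.conj g).injective d).trans hd
  refine ⟨⟨⟨fun d hd => hd, ?_, hcm, ?_⟩, ⟨x₀, hx₀⟩, ?_⟩, ?_⟩
  · haveI : IsSimpleGroup ↥(alternatingGroup (Fin 6)) := alternatingGroup.isSimpleGroup (by simp)
    have hn : (Subgroup.closure D).Normal := by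
      refine ⟨fun n hn g => ?_⟩
      have h1 : (Subgroup.closure D).map (MulAut.conj g).toMonoidHom ≤ Subgroup.closure D := by
        rw [MonoidHom.map_closure, Subgroup.closure_le]
        rintro y ⟨d, hd, rfl⟩
        exact Subgroup.subset_closure (hcm d hd g)
      exact h1 ⟨n, hn, rfl⟩
    rcases hn.eq_bot_or_eq_top with h | h
    · exfalso
      have := Subgroup.mem_bot.1 (h ▸ Subgroup.subset_closure hx₀ : x₀ ∈ (⊥ : Subgroup _))
      rw [hDdef, Set.mem_setOf_eq, this, orderOf_one] at hx₀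
      exact absurd hx₀ (by norm_num)
    · exact h
  · intro a ha b hb
    have key : ∀ n, orderOf (a * b) ∣ n → n = 4 → a * b = b * a ∨ Odd (orderOf (a * b)) ∨
        (orderOf (a * b) = 4 ∧ (a * b) ^ 2 ∈ D) := by
      intro n hn h4
      subst h4
      obtain ⟨i, hi, he⟩ := (Nat.dvd_prime_pow Nat.prime_two (m := 2)).1 (by simpa using hn)
      interval_cases i
      · exact Or.inr (Or.inl (by rw [he]; decide))
      · exact Or.inl (CfsgLib.ThreeTrans.commute_of_orderOf_mul_le_two (CfsgLib.ThreeTrans.inv_of_orderOf_two ha) (CfsgLib.ThreeTrans.inv_of_orderOf_two hb) (orderOf_dvd_iff_pow_eq_one.1 (by rw [he]; norm_num)))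
      · exact Or.inr (Or.inr ⟨by rw [he]; norm_num, by
          show orderOf ((a * b) ^ 2) = 2
          rw [orderOf_pow, he]; norm_num⟩)
    rcases hord' (a * b) with h | h | h
    · exact key _ (orderOf_dvd_of_pow_eq_one h) rfl
    · exact Or.inr (Or.inl (Odd.of_dvd_nat (by decide) (orderOf_dvd_of_pow_eq_one h)))
    · exact Or.inr (Or.inl (Odd.of_dvd_nat (by decide) (orderOf_dvd_of_pow_eq_one h)))
  · intro a ha b hb
    obtain ⟨c, rfl⟩ := hcl a ha
    obtain ⟨c', rfl⟩ := hcl b hb
    exact ⟨c' * c⁻¹, by group⟩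
  · intro d _ e _
    rcases hord' (d * e) with h | h | h <;>
      exact (Nat.le_of_dvd (by norm_num) (orderOf_dvd_of_pow_eq_one h)).trans (by norm_num)

end Cfsg.Agent.S5057
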