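import Cfsg.Statements.S5060
import Cfsg.Agent.Lib.ThreeTrans.DicksonSL2
-- import your own Cfsg.Agent.* helpers here

set_option autoImplicit false
open Cfsg

namespace Cfsg.Agent.S5060

/-- Let k ⊆ K be fields with the characteristic of k not 2 and k not of order 3, and let α ∈ K be a non-zero element algebraic over k. Then the subgroup of SL₂(K) generated by the upper unitriangular matrices with entry c and the lower unitriangular matrices with entry cα, c ranging over k, is exactly the group of matrices of SL₂(K) with all entries in k(α). -/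
theorem result {k K : Type*} [Field k] [Field K] [Algebra k K] (hk2 : ringChar k ≠ 2) (hk3 : Nat.card k ≠ 3)
    (α : K) (hα : IsAlgebraic k α) (hα0 : α ≠ 0) :
    (Subgroup.closure ({g : Matrix.SpecialLinearGroup (Fin 2) K | ∃ c : k, (g : Matrix (Fin 2) (Fin 2) K) = !![1, algebraMap k K c; 0, 1]} ∪
        {g : Matrix.SpecialLinearGroup (Fin 2) K | ∃ c : k, (g : Matrix (Fin 2) (Fin 2) K) = !![1, 0; algebraMap k K c * α, 1]}) :
      Set (Matrix.SpecialLinearGroup (Fin 2) K)) =
    {g : Matrix.SpecialLinearGroup (Fin 2) K | ∀ i j : Fin 2, (g : Matrix (Fin 2) (Fin 2) K) i j ∈ IntermediateField.adjoin k ({α} : Set K)} := by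
  classical
  have hint : IsIntegral k α := hα.isIntegral
  set E : IntermediateField k K := IntermediateField.adjoin k ({α} : Set K) with hE
  let pb : PowerBasis k E := IntermediateField.adjoin.powerBasis hint
  have hgen : (pb.gen : K) = α := by
    simp [pb, IntermediateField.adjoin.powerBasis_gen]
  set S := Subgroup.closure ({g : Matrix.SpecialLinearGroup (Fin 2) K | ∃ c : k, (g : Matrix (Fin 2) (Fin 2) K) = !![1, algebraMap k K c; 0, 1]} ∪
        {g : Matrix.SpecialLinearGroup (Fin 2) K | ∃ c : k, (g : Matrix (Fin 2) (Fin 2) K) = !![1, 0; algebraMap k K c * α, 1]}) with hS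
  let ι : Matrix.SpecialLinearGroup (Fin 2) E →* Matrix.SpecialLinearGroup (Fin 2) K :=
    Matrix.SpecialLinearGroup.map E.val.toRingHom
  have h2k : (2 : k) ≠ 0 := Ring.two_ne_zero hk2
  have h2 : (2 : E) ≠ 0 := fun h => h2k (by
    apply (algebraMap k E).injective
    rw [map_ofNat, map_zero, h])
  have hgen0 : pb.gen ≠ 0 := fun h => hα0 (by rw [← hgen, h]; rfl)
  have hι : ∀ (x : Matrix.SpecialLinearGroup (Fin 2) E) (i j : Fin 2),
      (ι x : Matrix (Fin 2) (Fin 2) K) i j = ((x : Matrix (Fin 2) (Fin 2) E) i j : K) :=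
    fun _ _ _ => rfl
  have htop : S.comap ι = ⊤ := by
    refine CfsgLib.ThreeTrans.DicksonSL2.eq_top pb ?_ ?_ hgen0 h2 hk3
    · intro c
      refine Subgroup.subset_closure (Or.inl ⟨c, ?_⟩)
      ext i j
      fin_cases i <;> fin_cases j <;>
        simp [hι, CfsgLib.ThreeTrans.DicksonSL2.upperEl_coe]
    · intro c
      refine Subgroup.subset_closure (Or.inr ⟨c, ?_⟩)
      ext i j
      fin_cases i <;> fin_cases j <;>
        simp [hι, CfsgLib.ThreeTrans.DicksonSL2.lowerEl_coe, hgen]
  have hrange : S ≤ ι.range := by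
    rw [hS, Subgroup.closure_le]
    rintro g (⟨c, hc⟩ | ⟨c, hc⟩)
    · refine ⟨CfsgLib.ThreeTrans.RankOneSL2.upperEl (algebraMap k E c), ?_⟩
      ext i j
      fin_cases i <;> fin_cases j <;>
        simp [hι, CfsgLib.ThreeTrans.DicksonSL2.upperEl_coe, hc]
    · refine ⟨CfsgLib.ThreeTrans.RankOneSL2.lowerEl (algebraMap k E c * pb.gen), ?_⟩
      ext i j
      fin_cases i <;> fin_cases j <;>
        simp [hι, CfsgLib.ThreeTrans.DicksonSL2.lowerEl_coe, hc, hgen]
  ext g
  simp only [SetLike.mem_coe, Set.mem_setOf_eq]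
  constructor
  · intro hg i j
    obtain ⟨g', rfl⟩ := hrange hg
    exact (g'.1 i j).2
  · intro hg
    let g' : Matrix.SpecialLinearGroup (Fin 2) E :=
      ⟨Matrix.of fun i j => (⟨g.1 i j, hg i j⟩ : E), by
        apply E.val.toRingHom.injective
        rw [RingHom.map_det, map_one]
        exact g.2⟩
    have hg' : g' ∈ S.comap ι := htop ▸ Subgroup.mem_top g'
    rw [Subgroup.mem_comap] at hg'
    convert hg' using 1
    exact Subtype.ext (Matrix.ext fun i j => (hι g' i j).symm)

end Cfsg.Agent.S5060
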