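import Cfsg.Statements.S5064
import Cfsg.Agent.Lib.QuadPair.Pairs
import Cfsg.Agent.Lib.ThreeTrans.Unipotent

set_option autoImplicit false
universe u
open Cfsg

namespace Cfsg.Agent.S5064

/-- Let k be a field of characteristic not 2 with k not of order 3, M a finite-dimensional k-vector space and G ≤ GL(M) such that (G, M) is a quadratic pair (M irreducible for G, and G generated by its quadratically acting elements σ whose scalar family 1 + c(σ − 1), c ∈ k, lies in G). Write 𝒬_d for the quadratic elements of G of minimal commutator rank, E(σ) for the subgroup generated by the members of 𝒬_d with the same fixed space and commutator space as σ, and Σ for the set of these subgroups. If σ, τ ∈ 𝒬_d and the subgroup H generated by their two scalar families does not act unipotently on M, then H is isomorphic to SL₂ over a simple algebraic extension k(λ) of k. -/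
theorem result {k : Type u} [Field k] (hk2 : ringChar k ≠ 2) (hk3 : Nat.card k ≠ 3)
    {M : Type u} [AddCommGroup M] [Module k M] [FiniteDimensional k M]
    {G : Subgroup (LinearMap.GeneralLinearGroup k M)} (hG : Cfsg.IsQuadraticPair G)
    {σ τ : LinearMap.GeneralLinearGroup k M} (hσ : σ ∈ Cfsg.minimalQuadraticElements G) (hτ : τ ∈ Cfsg.minimalQuadraticElements G)
    (hH : ¬ Cfsg.IsUnipotentOn (Subgroup.closure (Cfsg.scalarFamily σ ∪ Cfsg.scalarFamily τ))) :
    ∃ (K : Type u) (_ : Field K) (_ : Algebra k K) (lam : K), IsAlgebraic k lam ∧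
      IntermediateField.adjoin k ({lam} : Set K) = ⊤ ∧
      Nonempty (↥(Subgroup.closure (Cfsg.scalarFamily σ ∪ Cfsg.scalarFamily τ)) ≃* Matrix.SpecialLinearGroup (Fin 2) K) := by
  open CfsgLib.QuadPair in
  classical
  have hm := minRank_of_mem hσ
  have h2 := Ring.two_ne_zero hk2
  have hs := root_of_mem hσ hσ
  have ht := root_of_mem hσ hτ
  have hnil : ¬ IsNilpotent (op τ * op σ) := by
    intro hnil
    refine hH ?_
    obtain ⟨N, hN, h1, h3⟩ := exists_cubeZero hm h2 hk3 hs ht hnil
    rw [unipotentOn_iff]
    refine ⟨3, fun l hl hlen => ?_⟩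
    obtain ⟨a, b, c, rfl⟩ := List.length_eq_three.1 hlen
    have hmem : ∀ g, g ∈ Subgroup.closure (scalarFamily σ ∪ scalarFamily τ) → op g ∈ N := fun g hg =>
      op_mem_of_closure hN (fun x hx => by
        rcases hx with ⟨c, hc⟩ | ⟨c, hc⟩
        · rw [show op x = c • op σ from sub_eq_iff_eq_add'.2 hc]
          exact N.smul_mem c (h1 hs.mem_cls)
        · rw [show op x = c • op τ from sub_eq_iff_eq_add'.2 hc]
          exact N.smul_mem c (h3 ht.mem_cls)) hg
    simp only [List.map_cons, List.map_nil, List.prod_cons, List.prod_nil, mul_one, ← mul_assoc]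
    exact hN.triple _ (hmem a (hl a (by simp))) _ (hmem b (hl b (by simp))) _ (hmem c (hl c (by simp)))
  obtain ⟨K, fK, aK, lam, κ, q, hact, halg, hgen, hlam0, hκ, hlamq, hS, hQ⟩ :=
    split hm h2 hk3 hs ht hnil
  refine ⟨K, fK, aK, lam, halg, ?_, ⟨?_⟩⟩
  · exact IntermediateField.adjoin_eq_top_of_algebra k {lam} hgen
  · haveI : FiniteDimensional k K := Module.Finite.of_injective κ hκ
    have hup : ∀ c : k, ((hact.rep (up (algebraMap k K c)) : LinearMap.GeneralLinearGroup k M) :
        Module.End k M) = 1 + c • op σ := by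
      intro c
      rw [hact.rep_up, Algebra.algebraMap_eq_smul_one, map_smul, hact.one, smul_mul_assoc,
        hact.f_left.1]
    have hlo : ∀ c : k, ((hact.rep (lo (algebraMap k K c * lam)) : LinearMap.GeneralLinearGroup k M) :
        Module.End k M) = 1 + c • op τ := by
      intro c
      rw [hact.rep_lo, ← Algebra.smul_def, map_smul, smul_mul_assoc, hlamq]
    let Γ : Subgroup (Matrix.SpecialLinearGroup (Fin 2) K) := Subgroup.closure
      (Set.range (fun c : k => up (algebraMap k K c)) ∪
        Set.range (fun c : k => lo (algebraMap k K c * lam)))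
    have hΓ : Γ = ⊤ := field_case h2 hk3 lam hlam0 hgen Γ
      (fun c => Subgroup.subset_closure (Or.inl ⟨c, rfl⟩))
      (fun c => Subgroup.subset_closure (Or.inr ⟨c, rfl⟩))
    have hrange : hact.rep.range = Subgroup.closure (scalarFamily σ ∪ scalarFamily τ) := by
      rw [MonoidHom.range_eq_map, ← hΓ, MonoidHom.map_closure, Set.image_union, ← Set.range_comp,
        ← Set.range_comp]
      congr 2
      · ext g
        refine ⟨?_, fun ⟨c, hc⟩ => ⟨c, Units.ext ((hup c).trans hc.symm)⟩⟩
        rintro ⟨c, rfl⟩; exact ⟨c, hup c⟩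
      · ext g
        refine ⟨?_, fun ⟨c, hc⟩ => ⟨c, Units.ext ((hlo c).trans hc.symm)⟩⟩
        rintro ⟨c, rfl⟩; exact ⟨c, hlo c⟩
    exact (MulEquiv.subgroupCongr hrange.symm).trans
      (MonoidHom.ofInjective (hact.rep_injective hκ)).symm

end Cfsg.Agent.S5064
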