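import Cfsg.Statements.S5066
import Cfsg.Agent.Lib.QuadPair.Pairs

set_option autoImplicit false
universe u
open Cfsg

namespace Cfsg.Agent.S5066

/-- Let k be a field of characteristic not 2 with k not of order 3, M a finite-dimensional k-vector space and G ≤ GL(M) such that (G, M) is a quadratic pair (M irreducible for G, and G generated by its quadratically acting elements σ whose scalar family 1 + c(σ − 1), c ∈ k, lies in G). Write 𝒬_d for the quadratic elements of G of minimal commutator rank, E(σ) for the subgroup generated by the members of 𝒬_d with the same fixed space and commutator space as σ, and Σ for the set of these subgroups. Let E, F ∈ Σ generate a subgroup that is nilpotent of class exactly two. Then D = ⁅E, F⁆ belongs to Σ, equals the subgroup generated by the commutators of e with F, and also of E with f, for every non-identity e ∈ E, f ∈ F, and ⟨E, F⟩ lies in U(D), the set of elements g of G normalizing D with (g − 1)M inside the fixed space of D, (g − 1) mapping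 that fixed space into the commutator space of D, and g acting trivially on the commutator space of D. -/
theorem result {k : Type u} [Field k] (hk2 : ringChar k ≠ 2) (hk3 : Nat.card k ≠ 3)
    {M : Type u} [AddCommGroup M] [Module k M] [FiniteDimensional k M]
    {G : Subgroup (LinearMap.GeneralLinearGroup k M)} (hG : Cfsg.IsQuadraticPair G)
    {E F : Subgroup (LinearMap.GeneralLinearGroup k M)} (hE : E ∈ Cfsg.quadraticRootSubgroups G) (hF : F ∈ Cfsg.quadraticRootSubgroups G)
    (h2 : ⁅E ⊔ F, E ⊔ F⁆ ≠ ⊥ ∧ ⁅⁅E ⊔ F, E ⊔ F⁆, E ⊔ F⁆ = ⊥) :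
    ⁅E, F⁆ ∈ Cfsg.quadraticRootSubgroups G ∧
    (∀ e ∈ E, e ≠ 1 → Subgroup.closure ((fun f : LinearMap.GeneralLinearGroup k M => e * f * e⁻¹ * f⁻¹) '' (F : Set (LinearMap.GeneralLinearGroup k M))) = ⁅E, F⁆) ∧
    (∀ f ∈ F, f ≠ 1 → Subgroup.closure ((fun e : LinearMap.GeneralLinearGroup k M => e * f * e⁻¹ * f⁻¹) '' (E : Set (LinearMap.GeneralLinearGroup k M))) = ⁅E, F⁆) ∧
    ((E ⊔ F : Subgroup (LinearMap.GeneralLinearGroup k M)) : Set (LinearMap.GeneralLinearGroup k M)) ⊆ Cfsg.quadraticUnipotentCore G ⁅E, F⁆ := by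
  obtain ⟨σ, hσ, rfl⟩ := hE
  obtain ⟨τ, hτ, rfl⟩ := hF
  have hnil := CfsgLib.QuadPair.nil_of_class_two hk2 hk3 hG hσ hτ h2.2
  have hne : CfsgLib.QuadPair.op σ * CfsgLib.QuadPair.op τ -
      CfsgLib.QuadPair.op τ * CfsgLib.QuadPair.op σ ≠ 0 := by
    intro h0
    refine h2.1 ?_
    have h := CfsgLib.QuadPair.commutator_eq_bot hk2 hk3 hG hσ hτ hnil (sub_eq_zero.1 h0)
    have h' : ⁅sameActionSubgroup G τ, sameActionSubgroup G σ⁆ = ⊥ := by
      rw [Subgroup.commutator_comm]; exact h
    have hab : ∀ υ ∈ minimalQuadraticElements G,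
        ⁅sameActionSubgroup G υ, sameActionSubgroup G υ⁆ = ⊥ := fun υ hυ =>
      Subgroup.commutator_eq_bot_iff_le_centralizer.2
        (Subgroup.le_centralizer_iff_isMulCommutative.2 (Cfsg.Agent.S5059.result hk2 hk3 hG hυ).2.1)
    rw [Subgroup.commutator_eq_bot_iff_le_centralizer] at h h' ⊢
    have hs := Subgroup.commutator_eq_bot_iff_le_centralizer.1 (hab σ hσ)
    have ht := Subgroup.commutator_eq_bot_iff_le_centralizer.1 (hab τ hτ)
    refine sup_le ?_ ?_ <;>
      rw [Subgroup.le_centralizer_iff, sup_le_iff]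
    · exact ⟨hs, Subgroup.le_centralizer_iff.1 h⟩
    · exact ⟨Subgroup.le_centralizer_iff.1 h', ht⟩
  obtain ⟨ξ, hξ, hξe, hL, h1, h3⟩ := CfsgLib.QuadPair.commutator_case hk2 hk3 hG hσ hτ hnil hne
  refine ⟨hL ▸ ⟨ξ, hξ, rfl⟩, fun e he he1 => ?_, fun f hf hf1 => ?_, ?_⟩
  · rw [hL]; exact h1 e he he1
  · rw [hL]; exact h3 f hf hf1
  · rw [hL]; exact CfsgLib.QuadPair.subset_core hk2 hk3 hG hσ hτ hnil hne hξ hξe

end Cfsg.Agent.S5066
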