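import Cfsg.Statements.S5067
-- import your own Cfsg.Agent.* helpers here

set_option autoImplicit false
open Cfsg

namespace Cfsg.Agent.S5067

/-- Let P be a non-abelian nilpotent p-group (every element of p-power order; P possibly infinite) generated by two abelian subgroups E and F. Then the normal closure of E in P, and likewise that of F, has nilpotency class strictly smaller than that of P. -/
theorem result {P : Type*} [Group P] {p : ℕ} [Fact p.Prime] (hP : IsPGroup p P) [Group.IsNilpotent P]
    (hna : ¬ IsMulCommutative P) {E F : Subgroup P} (hE : IsMulCommutative ↥E) (hF : IsMulCommutative ↥F) (hgen : E ⊔ F = ⊤) :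
    Group.nilpotencyClass ↥(Subgroup.normalClosure (E : Set P)) < Group.nilpotencyClass P ∧
    Group.nilpotencyClass ↥(Subgroup.normalClosure (F : Set P)) < Group.nilpotencyClass P := by
  set c := Group.nilpotencyClass P with hc
  have hc2 : 2 ≤ c := by
    by_contra h
    push Not at h
    have : (⊤ : Subgroup P).lowerCentralSeries 1 = ⊥ :=
      lowerCentralSeries_eq_bot_iff_nilpotencyClass_le.2 (by omega)
    rw [Subgroup.top_lowerCentralSeries_one] at this
    exact hna ((commutator_eq_bot_iff P).1 this)
  have key : ∀ A : Subgroup P, IsMulCommutative ↥A →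
      Group.nilpotencyClass ↥(Subgroup.normalClosure (A : Set P)) < c := by
    intro A hA
    set N := Subgroup.normalClosure (A : Set P) with hN
    set L := (⊤ : Subgroup P).lowerCentralSeries 2 with hL
    haveI : L.Normal := inferInstance
    set M := A ⊔ commutator P with hM
    haveI : M.Normal := Subgroup.Normal.of_commutator_le P le_sup_right
    have hNM : N ≤ M := Subgroup.normalClosure_le_normal (fun x hx => Subgroup.mem_sup_left hx)
    have hMM : ⁅M, M⁆ ≤ L := by
      have hAA : ⁅A, A⁆ = ⊥ := Subgroup.commutator_eq_bot_iff_le_centralizer.2 (Subgroup.le_centralizer A)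
      have hCP : ∀ X : Subgroup P, ⁅commutator P, X⁆ ≤ L := fun X => by
        rw [hL, Subgroup.lowerCentralSeries_succ, Subgroup.top_lowerCentralSeries_one]
        exact Subgroup.commutator_mono le_rfl le_top
      rw [← QuotientGroup.ker_mk' L, ← Subgroup.map_eq_bot_iff, Subgroup.map_commutator, hM,
        Subgroup.map_sup, Subgroup.commutator_eq_bot_iff_le_centralizer, sup_le_iff]
      have h1 : ∀ X : Subgroup P, ⁅(commutator P).map (QuotientGroup.mk' L), X.map (QuotientGroup.mk' L)⁆ = ⊥ :=
        fun X => by
          rw [← Subgroup.map_commutator, Subgroup.map_eq_bot_iff, QuotientGroup.ker_mk']; exact hCP X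
      refine ⟨?_, ?_⟩ <;> rw [Subgroup.le_centralizer_iff, sup_le_iff] <;> constructor <;>
        rw [← Subgroup.commutator_eq_bot_iff_le_centralizer]
      · rw [← Subgroup.map_commutator, hAA, Subgroup.map_bot]
      · exact h1 A
      · rw [Subgroup.commutator_comm]; exact h1 A
      · exact h1 _
    have hseq : ∀ i, N.lowerCentralSeries (i + 1) ≤ (⊤ : Subgroup P).lowerCentralSeries (i + 2) := by
      intro i
      induction i with
      | zero =>
        rw [Subgroup.lowerCentralSeries_succ, Subgroup.lowerCentralSeries_zero]
        exact (Subgroup.commutator_mono hNM hNM).trans hMM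
      | succ i ih =>
        rw [Subgroup.lowerCentralSeries_succ, Subgroup.lowerCentralSeries_succ (n := i + 2)]
        exact Subgroup.commutator_mono ih le_top
    have hbot : (⊤ : Subgroup N).lowerCentralSeries (c - 1) = ⊥ := by
      rw [← Subgroup.map_subtype_inj, Subgroup.map_bot, Subgroup.top_subtype_lowerCentralSeries, eq_bot_iff]
      have := hseq (c - 2)
      rw [show c - 2 + 2 = c by omega, show c - 2 + 1 = c - 1 by omega, hc,
        lowerCentralSeries_nilpotencyClass] at this
      exact this
    haveI : Group.IsNilpotent N := nilpotent_iff_lowerCentralSeries.2 ⟨_, hbot⟩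
    have := lowerCentralSeries_eq_bot_iff_nilpotencyClass_le.1 hbot
    omega
  exact ⟨key E hE, key F hF⟩

end Cfsg.Agent.S5067
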