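import Cfsg.Statements.S5069
import Cfsg.Agent.Lib.QuadPair.Quasi

set_option autoImplicit false
universe u
open Cfsg

namespace Cfsg.Agent.S5069

/-- Let k be a field of characteristic not 2 with k not of order 3, M a finite-dimensional k-vector space and G ≤ GL(M) such that (G, M) is a quadratic pair (M irreducible for G, and G generated by its quadratically acting elements σ whose scalar family 1 + c(σ − 1), c ∈ k, lies in G). Write 𝒬_d for the quadratic elements of G of minimal commutator rank, E(σ) for the subgroup generated by the members of 𝒬_d with the same fixed space and commutator space as σ, and Σ for the set of these subgroups. Then Σ is a disjoint union of finitely many parts Σ₁, …, Σ_r such that the subgroups G_i generated by the Σ_i commute pairwise, each G_i is quasisimple, and inside G_i the members of Σ_i form a class of abstract root subgroups in which every rank one pair A, B contains subgroups A₀ ≤ A, B₀ ≤ B generating an image of SL₂(k₁) with central kernel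 on unitriangular subgroups for some field k₁ with at least four elements. -/
theorem result {k : Type u} [Field k] (hk2 : ringChar k ≠ 2) (hk3 : Nat.card k ≠ 3)
    {M : Type u} [AddCommGroup M] [Module k M] [FiniteDimensional k M]
    {G : Subgroup (LinearMap.GeneralLinearGroup k M)} (hG : Cfsg.IsQuadraticPair G) :
    ∃ (r : ℕ) (part : Fin r → Set (Subgroup (LinearMap.GeneralLinearGroup k M))),
      (⋃ i, part i) = Cfsg.quadraticRootSubgroups G ∧ (∀ i j, i ≠ j → Disjoint (part i) (part j)) ∧ (∀ i, (part i).Nonempty) ∧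
      (∀ i j, i ≠ j → ⁅(⨆ A ∈ part i, A), (⨆ A ∈ part j, A)⁆ = ⊥) ∧
      (∀ i, Cfsg.IsQuasisimple ↥(⨆ A ∈ part i, A) ∧
        Cfsg.IsRootSubgroupClass ((fun A : Subgroup (LinearMap.GeneralLinearGroup k M) => A.subgroupOf (⨆ B ∈ part i, B)) '' (part i)) ∧
        ∀ A ∈ part i, ∀ B ∈ Cfsg.rankOnePartners (part i) A, ∃ A₀ B₀ : Subgroup (LinearMap.GeneralLinearGroup k M), A₀ ≤ A ∧ B₀ ≤ B ∧
          ∃ (k₁ : Type u) (_ : Field k₁), 3 < ENat.card k₁ ∧ Cfsg.IsPSL2PairOver k₁ A₀ B₀) := by
  classical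
  open CfsgLib.QuadPair in
  by_cases hne : (Cfsg.minimalQuadraticElements G).Nonempty
  · obtain ⟨σ₀, hσ₀⟩ := hne
    have hm := minRank_of_mem hσ₀
    obtain ⟨r, rep, hrep, hsep, hcov⟩ := finite_components hk2 hk3 hG hm
    have hsub : ∀ i, part G (rk (op σ₀)) (rep i) ⊆ Cfsg.quadraticRootSubgroups G :=
      fun i A ⟨σ, hσ, _, e⟩ => ⟨σ, hσ, e⟩
    refine ⟨r, fun i => part G (rk (op σ₀)) (rep i), ?_, ?_, ?_, ?_, fun i => ⟨?_, ?_, ?_⟩⟩
    · refine Set.Subset.antisymm (Set.iUnion_subset hsub) ?_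
      rintro A ⟨σ, hσ, rfl⟩
      obtain ⟨i, hi⟩ := hcov _ (root_of_mem hσ₀ hσ)
      exact Set.mem_iUnion.2 ⟨i, σ, hσ, hi, rfl⟩
    · intro i j hij
      rw [Set.disjoint_left]
      rintro A ⟨σ, hσ, hl, rfl⟩ ⟨τ, hτ, hl', e⟩
      refine hij (hsep i j ((hl.trans ?_).trans hl'.symm))
      have hτE : op τ ∈ Cls G (op σ) :=
        (mem_E_iff hk2 hk3 hG hσ).1 (e ▸ self_mem_E hk2 hk3 hG hτ)
      exact linked_cls hk2 hk3 hG hm (root_of_mem hσ₀ hσ) hτE ((root_of_mem hσ₀ hτ).ne_zero hm)
    · intro i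
      obtain ⟨σ, hσ, he⟩ := exists_min hm (hrep i)
      exact ⟨_, σ, hσ, by rw [he], rfl⟩
    · intro i j hij
      exact gen_comm hk2 hk3 hG hm (hrep i) (fun h => hij (hsep i j h))
    · exact gen_quasisimple hk2 hk3 hG hm (hrep i)
    · exact root_class hk2 hk3 hG hm (hrep i)
    · rintro A hA B ⟨hB, hR⟩
      exact sl_two_pair hk2 hk3 hG (hsub i hA) ⟨hsub i hB, hR⟩
  · refine ⟨0, fun i => i.elim0, ?_, fun i => i.elim0, fun i => i.elim0, fun i => i.elim0, fun i => i.elim0⟩
    rw [Set.iUnion_of_empty]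
    symm
    rw [Set.eq_empty_iff_forall_notMem]
    rintro A ⟨σ, hσ, -⟩
    exact hne ⟨σ, hσ⟩

end Cfsg.Agent.S5069
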