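import Cfsg.Statements.S5075
import Cfsg.Agent.Lib.Recog.McLaughlin.Components

set_option autoImplicit false
open Cfsg

namespace Cfsg.Agent.S5075

open CfsgLib.McLaughlin


/-- Let p be an odd prime, V a finite-dimensional vector space over the field with p elements, and H a group of linear automorphisms of V generated by transvections (elements of order p fixing a hyperplane pointwise) and having no nontrivial normal p-subgroup. Then for some n ≥ 1 there are a decomposition V = V₀ ⊕ V₁ ⊕ ⋯ ⊕ Vₙ into H-invariant subspaces and a decomposition of H as the internal direct product of normal subgroups H₁, …, Hₙ such that Hⱼ acts trivially on every Vᵢ with i ≠ j, and Hⱼ induces on Vⱼ exactly the special linear group of Vⱼ or exactly the isometry group of a non-degenerate alternating form on Vⱼ. -/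
theorem result {p : ℕ} [Fact p.Prime] (hp : Odd p) {V : Type*} [AddCommGroup V] [Module (ZMod p) V] [Finite V]
    (H : Subgroup (V ≃ₗ[ZMod p] V)) (T : Set (V ≃ₗ[ZMod p] V)) (hHT : H = Subgroup.closure T)
    (hT : ∀ t ∈ T, orderOf t = p ∧
      Module.finrank (ZMod p) ↥(LinearMap.ker ((t : V →ₗ[ZMod p] V) - LinearMap.id)) + 1 =
        Module.finrank (ZMod p) V)
    (hOp : Cfsg.pCore p ↥H = ⊥) :
    ∃ (n : ℕ) (W : Fin (n + 1) → Submodule (ZMod p) V) (K : Fin n → Subgroup (V ≃ₗ[ZMod p] V)),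
      1 ≤ n ∧ DirectSum.IsInternal W ∧
      (∀ h ∈ H, ∀ i, (W i).map (h : V →ₗ[ZMod p] V) = W i) ∧
      (∀ j, K j ≤ H ∧ ((K j).subgroupOf H).Normal) ∧ ⨆ j, K j = H ∧
      (∀ j, K j ⊓ (⨆ j' ∈ {j' : Fin n | j' ≠ j}, K j') = ⊥) ∧
      (∀ j j', j ≠ j' → ∀ a ∈ K j, ∀ b ∈ K j', a * b = b * a) ∧
      (∀ j, ∀ h ∈ K j, ∀ i : Fin (n + 1), i ≠ j.succ → ∀ v ∈ W i, h v = v) ∧
      (∀ j, ∃ ρ : ↥(K j) →* (↥(W j.succ) ≃ₗ[ZMod p] ↥(W j.succ)),
        (∀ (h : ↥(K j)) (v : ↥(W j.succ)), ((ρ h v : ↥(W j.succ)) : V) = (h : V ≃ₗ[ZMod p] V) (v : V)) ∧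
        ((ρ.range : Set (↥(W j.succ) ≃ₗ[ZMod p] ↥(W j.succ))) =
            {f : ↥(W j.succ) ≃ₗ[ZMod p] ↥(W j.succ) | LinearMap.det (f : ↥(W j.succ) →ₗ[ZMod p] ↥(W j.succ)) = 1} ∨
          ∃ B : LinearMap.BilinForm (ZMod p) ↥(W j.succ), B.IsAlt ∧ B.Nondegenerate ∧
            (ρ.range : Set (↥(W j.succ) ≃ₗ[ZMod p] ↥(W j.succ))) = {f : ↥(W j.succ) ≃ₗ[ZMod p] ↥(W j.succ) | ∀ x y, B (f x) (f y) = B x y})) := by
  have hp2 : p ≠ 2 := fun h => by subst h; exact absurd hp (by decide)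
  have hG : TGroup H := by
    refine ⟨?_, hOp⟩
    conv_lhs => rw [hHT]
    refine Subgroup.closure_mono fun t ht => ?_
    obtain ⟨φ, c, hφ, hc, hφc, e⟩ := exists_tv (hT t ht).1 (hT t ht).2
    exact ⟨φ, c, hφ, hc, ⟨hφc, by rw [← e, hHT]; exact Subgroup.subset_closure ht⟩, e⟩
  obtain ⟨D⟩ := exists_decomp hp2 hG
  have hfix : ∀ j, ∀ h ∈ D.K j, ∀ i, i ≠ j.succ → ∀ v ∈ D.W i, h v = v := D.trivialAct
  refine ⟨D.n, D.W, D.K, D.pos, D.internal, ?_, fun j => ⟨D.le j, D.normal j⟩, D.gen, ?_,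
    fun j j' hne => D.comm j j' hne, hfix, ?_⟩
  · intro h hh i
    have hinv : ∀ g ∈ H, ∀ v ∈ D.W i, g v ∈ D.W i := by
      intro g hg
      rw [← D.gen] at hg
      induction hg using Subgroup.iSup_induction' with
      | hp j g hg =>
        intro v hv
        by_cases hij : i = j.succ
        · subst hij
          exact D.invW j g hg v hv
        · rwa [hfix j g hg i hij v hv]
      | h1 => exact fun v hv => hv
      | hmul a b _ _ iha ihb => exact fun v hv => iha _ (ihb v hv)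
    refine le_antisymm ?_ fun v hv => ?_
    · rintro _ ⟨v, hv, rfl⟩
      exact hinv h hh v hv
    · exact ⟨h⁻¹ v, hinv _ (H.inv_mem hh) v hv, LinearEquiv.apply_symm_apply h v⟩
  · intro j
    rw [eq_bot_iff]
    intro g ⟨hg, hg'⟩
    have hW : ∀ v ∈ D.W j.succ, g v = v := by
      have hle : (⨆ j' ∈ {j' : Fin D.n | j' ≠ j}, D.K j') ≤
          fixingSubgroup (V ≃ₗ[ZMod p] V) (D.W j.succ : Set V) := by
        refine iSup₂_le fun j' hj' g hg => ?_
        rw [mem_fixingSubgroup_iff]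
        exact fun v hv => hfix j' g hg _ (fun e => hj' (Fin.succ_injective _ e).symm) v hv
      exact fun v hv => (mem_fixingSubgroup_iff _).1 (hle hg') v hv
    have hall : (⨆ i, D.W i) ≤ LinearMap.eqLocus (g : V →ₗ[ZMod p] V) LinearMap.id := by
      refine iSup_le fun i v hv => ?_
      by_cases hij : i = j.succ
      · subst hij
        exact hW v hv
      · exact hfix j g hg i hij v hv
    rw [Subgroup.mem_bot]
    exact LinearEquiv.ext fun v => hall (D.internal.submodule_iSup_eq_top.ge (Submodule.mem_top (x := v)))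
  · intro j
    obtain ⟨ρ, hρ⟩ := exists_restrict (D.invW j)
    exact ⟨ρ, hρ, D.shape j ρ hρ⟩

end Cfsg.Agent.S5075
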