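import Cfsg.Statements.S5088
import Cfsg.Agent.Lib.Fusion.NormalExtend

set_option autoImplicit false
open Cfsg CfsgLib.Fusion

namespace Cfsg.Agent.S5088

/-- In a saturated fusion system over a finite p-group, a subgroup Q is normal in the system if and only if there is a chain of subgroups 1 = Q₀ ≤ Q₁ ≤ ⋯ ≤ Qₙ = Q such that each Qᵢ with i ≥ 1 is strongly closed in the system and [Q, Qᵢ] ≤ Qᵢ₋₁. -/
theorem result {Ω : Type*} [Group Ω] {S : Subgroup Ω} [Finite S] (p : ℕ) [Fact p.Prime] (hS : IsPGroup p S) (F : Cfsg.FusionSystem S) (hF : F.IsSaturated p) (Q : Subgroup Ω) : F.IsNormal Q ↔ ∃ (n : ℕ) (Qs : Fin (n + 1) → Subgroup Ω), Qs 0 = ⊥ ∧ Qs (Fin.last n) = Q ∧ Monotone Qs ∧ ∀ i : Fin n, F.StronglyClosed (Qs i.succ) ∧ ⁅Q, Qs i.succ⁆ ≤ Qs (Fin.castSucc i) := by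
  constructor
  · intro hQ
    obtain ⟨n, C, h0, hl, hm, hsc, hc⟩ := IsNormal.exists_series hS hQ
    exact ⟨n, C, h0, hl, hm, fun i => ⟨hsc _, by rw [Subgroup.commutator_comm]; exact hc i⟩⟩
  · rintro ⟨n, C, h0, hl, hm, h⟩
    rcases Nat.eq_zero_or_pos n with rfl | hn
    · rw [show (Fin.last 0 : Fin 1) = 0 from rfl, h0] at hl
      exact hl ▸ isNormal_bot
    · obtain ⟨m, rfl⟩ := Nat.exists_eq_succ_of_ne_zero hn.ne'
      refine isNormal_of_series hS hF (hl ▸ Fin.succ_last m ▸ (h (Fin.last m)).1) C h0 hl hm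
        (fun i => by rw [Subgroup.commutator_comm]; exact (h i).2) fun i => ?_
      apply StronglyClosed.weaklyClosed
      refine Fin.cases ?_ (fun j => ?_) i
      · rw [Fin.castSucc_zero, h0]
        exact stronglyClosed_bot
      · rw [← Fin.succ_castSucc]
        exact (h j.castSucc).1

end Cfsg.Agent.S5088
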