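import Cfsg.Statements.S5089
import Cfsg.Agent.Lib.Fusion.NormalExtend

set_option autoImplicit false
open Cfsg CfsgLib.Fusion

namespace Cfsg.Agent.S5089

/-- A saturated fusion system over a finite p-group has a nontrivial subgroup that is normal in the system (O_p(F) ≠ 1) if and only if some nontrivial abelian subgroup is strongly closed in the system. -/
theorem result {Ω : Type*} [Group Ω] {S : Subgroup Ω} [Finite S] (p : ℕ) [Fact p.Prime] (hS : IsPGroup p S) (F : Cfsg.FusionSystem S) (hF : F.IsSaturated p) : F.core ≠ ⊥ ↔ ∃ Q : Subgroup Ω, Q ≠ ⊥ ∧ IsMulCommutative Q ∧ F.StronglyClosed Q := by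
  constructor
  · intro hne
    have hc : F.IsNormal F.core := core_isNormal
    have := finite_le (core_le (F := F))
    have := (Subgroup.nontrivial_iff_ne_bot F.core).2 hne
    have hZ := (hS.to_le (core_le (F := F))).center_nontrivial
    have hmap : ((Subgroup.center F.core).map F.core.subtype).subgroupOf F.core =
        Subgroup.center F.core := by
      rw [Subgroup.subgroupOf, Subgroup.comap_map_eq_self_of_injective F.core.subtype_injective]
    refine ⟨(Subgroup.center F.core).map F.core.subtype, ?_, ?_, IsNormal.stronglyClosed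
      (isNormal_of_characteristic hc (Subgroup.map_subtype_le _) (hmap.symm ▸ inferInstance))⟩
    · rw [Ne, Subgroup.map_eq_bot_iff_of_injective _ F.core.subtype_injective]
      exact (Subgroup.nontrivial_iff_ne_bot _).1 hZ
    · refine ⟨⟨fun a b => ?_⟩⟩
      obtain ⟨a', ha', hae⟩ := a.2
      obtain ⟨b', -, hbe⟩ := b.2
      refine Subtype.ext ?_
      show (a : Ω) * b = b * a
      rw [← hae, ← hbe, ← map_mul, ← map_mul, Subgroup.mem_center_iff.1 ha' b']
  · rintro ⟨Q, hQ1, hab, hQ⟩ hb
    exact hQ1 (le_bot_iff.1 (hb ▸ le_core (isNormal_of_stronglyClosed_abelian hS hF hQ hab)))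

end Cfsg.Agent.S5089
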