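import Cfsg.Statements.S5094
import Cfsg.Agent.Lib.ZStar.FusionCenter

set_option autoImplicit false
open Cfsg

namespace Cfsg.Agent.S5094

/-- Glauberman's Z*-Theorem in fusion language: for a finite group G with Sylow 2-subgroup S, the centre of the fusion system of G on S is the set of elements of S whose image in G/O(G) is central, O(G) being the largest normal subgroup of odd order. -/
theorem result {G : Type*} [Group G] [Finite G] (S : Sylow 2 G) : (Cfsg.groupFusionSystem (S : Subgroup G)).center = (S : Subgroup G) ⊓ (Subgroup.center (G ⧸ Cfsg.oddCore G)).comap (QuotientGroup.mk' (Cfsg.oddCore G)) := by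
  refine le_antisymm (sSup_le fun Q hQ => ?_) (le_sSup ?_)
  · intro x hx
    have hfix : CfsgLib.ZStar.Fixed (S : Subgroup G) x := by
      refine ⟨hQ.1 hx, fun g k hk => ?_⟩
      set y := x ^ k with hy
      have hyS : Subgroup.zpowers y ≤ (S : Subgroup G) :=
        Subgroup.zpowers_le.2 (pow_mem (hQ.1 hx) k)
      have himg : ∀ z : Subgroup.zpowers y, g * (z : G) * g⁻¹ ∈ (S : Subgroup G) := fun z =>
        (Subgroup.zpowers_le.2 (show y ∈ (S : Subgroup G).comap (MulAut.conj g).toMonoidHom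
          from hk)) z.2
      obtain ⟨ψ, -, h1, h2⟩ := hQ.2 (Subgroup.zpowers y)
        (conjHom (Subgroup.zpowers y) g) ⟨hyS, himg, g, fun z => rfl⟩
      have e1 := h1 ⟨y, Subgroup.mem_zpowers y⟩
      have e2 := h2 ⟨y, pow_mem hx k⟩
      exact e1.symm.trans e2
    refine ⟨hQ.1 hx, Subgroup.mem_center_iff.2 fun q => ?_⟩
    obtain ⟨g, rfl⟩ := QuotientGroup.mk'_surjective (oddCore G) q
    have h := (QuotientGroup.eq_one_iff _).2
      (CfsgLib.ZStar.commutator_mem_oddCore_of_fixed S hfix g)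
    simp only [QuotientGroup.mk_mul, QuotientGroup.mk_inv] at h
    rw [mul_inv_eq_one, mul_inv_eq_iff_eq_mul] at h
    exact h.symm
  · refine ⟨inf_le_left, fun P φ hφ => ?_⟩
    obtain ⟨hP, hS, g, hg⟩ := hφ
    obtain ⟨g', hg', hc⟩ := CfsgLib.ZStar.exists_centralizing_conj S
      (inferInstance : (oddCore G).Normal) (CfsgLib.ZStar.odd_card_oddCore G)
      (Q := (S : Subgroup G) ⊓ (Subgroup.center (G ⧸ oddCore G)).comap
        (QuotientGroup.mk' (oddCore G)))
      inf_le_left (fun q hq h => by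
        rw [← QuotientGroup.eq_one_iff]
        simp only [QuotientGroup.mk_mul, QuotientGroup.mk_inv]
        rw [mul_inv_eq_one, mul_inv_eq_iff_eq_mul]
        exact (Subgroup.mem_center_iff.1 hq.2 _).symm)
      hP (g := g) fun x hx => hg ⟨x, hx⟩ ▸ hS ⟨x, hx⟩
    set Q : Subgroup G := (S : Subgroup G) ⊓ (Subgroup.center (G ⧸ oddCore G)).comap
        (QuotientGroup.mk' (oddCore G)) with hQ
    have hle : P ⊔ Q ≤ (S : Subgroup G).comap (MulAut.conj g').toMonoidHom := by
      refine sup_le (fun x hx => ?_) fun q hq => ?_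
      · show g' * x * g'⁻¹ ∈ (S : Subgroup G)
        rw [hg' x hx, ← hg ⟨x, hx⟩]
        exact hS ⟨x, hx⟩
      · show g' * q * g'⁻¹ ∈ (S : Subgroup G)
        rw [hc q hq, mul_inv_cancel_right]
        exact hq.1
    refine ⟨conjHom (P ⊔ Q) g', ⟨sup_le hP inf_le_left, fun z => hle z.2, g', fun z => rfl⟩,
      fun x => ?_, fun x => ?_⟩
    · rw [hg x]; exact hg' x x.2
    · show g' * (x : G) * g'⁻¹ = x
      rw [hc x x.2, mul_inv_cancel_right]

end Cfsg.Agent.S5094
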