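import Cfsg.Statements.S5104
import Cfsg.Agent.Lib.Fusion.Normal

set_option autoImplicit false
open Cfsg CfsgLib.Fusion

namespace Cfsg.Agent.S5104

/-- In a saturated fusion system over a finite p-group S, a fully centralized subgroup U with C_S(U) ≤ U is centric. -/
theorem result {Ω : Type*} [Group Ω] {S : Subgroup Ω} [Finite S] (p : ℕ) [Fact p.Prime] (hS : IsPGroup p S) (F : Cfsg.FusionSystem S) (hF : F.IsSaturated p) (U : Subgroup Ω) (hU : F.IsFullyCentralized U) (hC : Cfsg.FusionSystem.centralizerIn S U ≤ U) : F.IsCentric U := by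
  refine ⟨hU.1, fun Q hQ => ?_⟩
  obtain ⟨e, he⟩ := isConj_iff.1 (isConj_symm hQ)
  obtain ⟨ψ, hψ, hag⟩ := exists_extension (IsSaturated.receptive hS hF hU) he le_sup_left
    (sup_le_extender he)
  intro x hx
  have h1 : ψ ⟨x, le_sup_right (a := Q) hx⟩ ∈ U :=
    hC (extension_mem_centralizerIn hψ le_sup_left hag _ hx)
  have h2 := hag (e.symm ⟨_, h1⟩)
  rw [MulEquiv.apply_symm_apply] at h2
  have h3 := congrArg Subtype.val (F.injective_of_mem hψ h2)
  exact (show _ = x from h3) ▸ (e.symm ⟨_, h1⟩).2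

end Cfsg.Agent.S5104
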