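import Cfsg.Statements.S5107
import Cfsg.Agent.Lib.Fusion.NormalExtend

set_option autoImplicit false
open Cfsg CfsgLib.Fusion

namespace Cfsg.Agent.S5107

/-- If a Sylow p-subgroup S of a finite group G has nilpotency class at most two and its centre is strongly closed in S with respect to G, then every map of the fusion system of G on S is conjugation by an element of N_G(S), and S is the largest subgroup normal in that fusion system. -/
theorem result {G : Type*} [Group G] [Finite G] (p : ℕ) [Fact p.Prime] (S : Sylow p G) (hcl : ⁅(S : Subgroup G), (S : Subgroup G)⁆ ≤ (S : Subgroup G) ⊓ Subgroup.centralizer ((S : Subgroup G) : Set G)) (hZ : Cfsg.IsStronglyClosed ((S : Subgroup G) ⊓ Subgroup.centralizer ((S : Subgroup G) : Set G)) (S : Subgroup G)) : (∀ (P : Subgroup G) (φ : P →* G), φ ∈ (Cfsg.groupFusionSystem (S : Subgroup G)).Hom P → ∃ g ∈ Subgroup.normalizer ((S : Subgroup G) : Set G), ∀ x : P, φ x = g * (x : G) * g⁻¹) ∧ (Cfsg.groupFusionSystem (S : Subgroup G)).core = S := by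
  set T := (S : Subgroup G) with hT
  set F := Cfsg.groupFusionSystem T with hFdef
  set Z := T ⊓ Subgroup.centralizer (T : Set G) with hZdef
  have hSp : IsPGroup p T := S.isPGroup'
  have hF : F.IsSaturated p := groupFusion_saturated S
  have hZsc : F.StronglyClosed Z := by
    refine ⟨inf_le_left, ?_⟩
    rintro R hR φ ⟨-, hφ, g, hg⟩ x
    rw [hg]
    exact hZ.2 _ (hR x.2) g (by rw [← hg]; exact hφ x)
  have hSN : F.IsNormal T := by
    refine isNormal_of_series hSp hF stronglyClosed_top (n := 2) ![⊥, Z, T] rfl rfl ?_ ?_ ?_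
    · intro a b hab
      fin_cases a <;> fin_cases b <;> simp_all [Z]
    · intro i
      fin_cases i
      · show ⁅Z, T⁆ ≤ ⊥
        rw [Subgroup.commutator_le]
        intro z hz y hy
        rw [Subgroup.mem_bot, commutatorElement_eq_one_iff_mul_comm]
        exact (Subgroup.mem_centralizer_iff.1 hz.2 y hy).symm
      · exact hcl
    · intro i
      fin_cases i
      · exact StronglyClosed.weaklyClosed stronglyClosed_bot
      · exact StronglyClosed.weaklyClosed hZsc
  refine ⟨fun P φ hφ => ?_, le_antisymm core_le (le_core hSN)⟩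
  obtain ⟨ψ, ⟨hPS, -, g, hg⟩, hψP, hψS⟩ := hSN.2 P φ hφ
  refine ⟨g, ?_, fun x => by rw [← hψP, hg]; rfl⟩
  rw [Subgroup.mem_normalizer_iff_map_conj_eq]
  ext y
  constructor
  · rintro ⟨x, hx, rfl⟩
    have := hψS.le ⟨⟨x, le_sup_right (a := P) hx⟩, hx, rfl⟩
    rw [hg] at this
    exact this
  · intro hy
    obtain ⟨x, hx, rfl⟩ := hψS.ge hy
    exact ⟨x, hx, by rw [hg]; simp⟩

end Cfsg.Agent.S5107
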