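import Cfsg.Statements.S5112
import Cfsg.Agent.Lib.Fusion.MaximalCyclic

set_option autoImplicit false
open Cfsg CfsgLib.Fusion

namespace Cfsg.Agent.S5112

/-- If S is a dihedral or generalized quaternion 2-group of order at least 16, then in every saturated fusion system over S (at the prime 2) the automorphism group Aut_F(S) consists of the inner automorphisms of S. -/
theorem result {Ω : Type*} [Group Ω] {S : Subgroup Ω} [Finite S] (n : ℕ) (hn : 4 ≤ n) (hshape : Nonempty (S ≃* DihedralGroup (2 ^ (n - 1))) ∨ Nonempty (S ≃* QuaternionGroup (2 ^ (n - 2)))) (F : Cfsg.FusionSystem S) (hF : F.IsSaturated 2) : F.autGroup S = Cfsg.Inn S := by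
  have : Fact (Nat.Prime 2) := ⟨Nat.prime_two⟩
  rcases hshape with ⟨⟨e⟩⟩ | ⟨⟨e⟩⟩
  · have hS : IsPGroup 2 S := IsPGroup.of_card (n := n) (by
      rw [Nat.card_congr e.toEquiv, DihedralGroup.nat_card, ← pow_succ']; congr 1; omega)
    exact autGroup_top_eq_inn hS hF (transfer_aut e (dihedral_aut (by omega)))
  · have : NeZero (2 ^ (n - 2)) := ⟨by positivity⟩
    have hS : IsPGroup 2 S := IsPGroup.of_card (n := n) (by
      rw [Nat.card_congr e.toEquiv, Nat.card_eq_fintype_card, QuaternionGroup.card,
        show (4 : ℕ) = 2 ^ 2 by norm_num, ← pow_add]; congr 1; omega)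
    exact autGroup_top_eq_inn hS hF (transfer_aut e (quaternion_aut (by omega)))

end Cfsg.Agent.S5112
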