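import Cfsg.Statements.S5119
import Cfsg.Agent.Lib.Fusion.StrongInvariance

set_option autoImplicit false
open Cfsg CfsgLib.Fusion

namespace Cfsg.Agent.S5119

/-- Let F be a saturated fusion system over a finite p-group S and E a subsystem of F over a subgroup T that is strongly closed in F. Then E is invariant in F (invariance under Aut_F(T) plus the Frattini condition) if and only if the strong invariance condition holds: for P ≤ Q ≤ T, every map φ of E from P into Q and every map ψ of F with source Q, the transported map ψ φ ψ⁻¹ on ψ(P) is a map of E. -/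
theorem result {Ω : Type*} [Group Ω] {S : Subgroup Ω} [Finite S] (p : ℕ) [Fact p.Prime] (hS : IsPGroup p S) (F : Cfsg.FusionSystem S) (hF : F.IsSaturated p) {T : Subgroup Ω} (E : Cfsg.FusionSystem T) (hE : E.IsSubsystemOf F) (hT : F.StronglyClosed T) : E.IsInvariantIn F ↔ ∀ (P Q : Subgroup Ω) (hPQ : P ≤ Q) (_ : Q ≤ T) (φ : P →* Ω) (_ : φ ∈ E.Hom P) (hφQ : ∀ x : P, φ x ∈ Q) (ψ : Q →* Ω) (_ : ψ ∈ F.Hom Q), ∃ χ ∈ E.Hom ((P.subgroupOf Q).map ψ), ∀ (x : P) (hx : ψ (Subgroup.inclusion hPQ x) ∈ (P.subgroupOf Q).map ψ), χ ⟨ψ (Subgroup.inclusion hPQ x), hx⟩ = ψ ⟨φ x, hφQ x⟩ := by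
    constructor
    · rintro ⟨hsub, -, hinv, hfr⟩ P Q hPQ hQT φ hφ hφQ ψ hψ
      obtain ⟨α, hα, ψ₀, hψ₀, hv⟩ := hfr Q hQT ψ hψ
      set e := ψ₀.comp (Subgroup.inclusion hPQ) with he
      have heE : e ∈ E.Hom P := restrict_mem hψ₀ hPQ
      obtain ⟨θ, hθ, hθr, hθv, -⟩ := exists_inv heE rfl
      have hθP : ∀ y, θ y ∈ P := fun y => hθr.le (MonoidHom.mem_range.2 ⟨y, rfl⟩)
      set c := φ.comp (θ.codRestrict P hθP) with hc
      have hcE : c ∈ E.Hom e.range := E.comp_mem hθ hφ hθP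
      have hcQ : ∀ y, c y ∈ Q := fun y => hφQ _
      set χ₀ := ψ₀.comp (c.codRestrict Q hcQ) with hχ₀
      have hχ₀E : χ₀ ∈ E.Hom e.range := E.comp_mem hcE hψ₀ hcQ
      have heT : e.range ≤ T := hom_range_le heE
      obtain ⟨χ, hχ, hχv⟩ := hinv e.range heT χ₀ hχ₀E α hα
      have hle : (P.subgroupOf Q).map ψ ≤
          (e.range.subgroupOf T).map (T.subtype.comp α.toMonoidHom) := by
        rintro _ ⟨q, hq, rfl⟩
        exact ⟨⟨ψ₀ q, hom_apply_mem hψ₀ q⟩, ⟨⟨q, hq⟩, rfl⟩, (hv q (hom_apply_mem hψ₀ q)).symm⟩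
      refine ⟨_, restrict_mem hχ hle, fun x hx => ?_⟩
      have h1 := hv (Subgroup.inclusion hPQ x) (hom_apply_mem hψ₀ _)
      have hx0 : χ₀ ⟨e x, MonoidHom.mem_range.2 ⟨x, rfl⟩⟩ = ψ₀ ⟨φ x, hφQ x⟩ := by
        show ψ₀ ⟨φ ⟨θ _, _⟩, _⟩ = _
        congr 1
        refine Subtype.ext ?_
        show φ ⟨θ _, _⟩ = φ x
        congr 1
        exact Subtype.ext (hθv x _)
      have h2 := hχv ⟨e x, MonoidHom.mem_range.2 ⟨x, rfl⟩⟩ (hom_apply_mem hχ₀E _)
        ⟨⟨e x, hom_apply_mem heE x⟩, ⟨x, rfl⟩, rfl⟩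
      show χ ⟨ψ (Subgroup.inclusion hPQ x), hle hx⟩ = _
      refine (?_ : _ = χ ⟨_, _⟩).trans (h2.trans ?_)
      · congr 1
        exact Subtype.ext h1
      · rw [hv ⟨φ x, hφQ x⟩ (hom_apply_mem hψ₀ _)]
        congr 2
        exact Subtype.ext hx0
    · intro h
      have hinv : ∀ (P : Subgroup Ω) (hPT : P ≤ T) (φ : P →* Ω), φ ∈ E.Hom P → ∀ α ∈ F.autGroup T,
          ∃ χ ∈ E.Hom ((P.subgroupOf T).map (T.subtype.comp α.toMonoidHom)),
            ∀ (x : P) (hφx : φ x ∈ T)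
              (hαx : ((α ⟨x, hPT x.2⟩ : T) : Ω) ∈ (P.subgroupOf T).map (T.subtype.comp α.toMonoidHom)),
              χ ⟨(α ⟨x, hPT x.2⟩ : T), hαx⟩ = ((α ⟨φ x, hφx⟩ : T) : Ω) := by
        intro P hPT φ hφ α hα
        obtain ⟨χ, hχ, hv⟩ := h P T hPT le_rfl φ hφ (hom_apply_mem hφ) (T.subtype.comp α.toMonoidHom)
          ((mem_autGroup_iff hT.1).1 hα)
        exact ⟨χ, hχ, fun x _ hαx => hv x hαx⟩
      have hA : AutInvariant E F := by
        intro Q f hf α hα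
        obtain ⟨χ, hχ, hv⟩ := hinv Q (hom_le hf) f hf α hα
        exact ⟨χ, hχ, fun x hxQ hfx hh => hv ⟨x, hxQ⟩ hfx hh⟩
      have hnorm : ∀ P : Subgroup Ω, P ≤ T → ∀ a ∈ E.autGroup P, ∀ b ∈ F.autGroup P,
          b * a * b⁻¹ ∈ E.autGroup P := by
        intro P hPT a ha b hb
        have hPS := hPT.trans hT.1
        obtain ⟨χ, hχ, hv⟩ := h P P le_rfl hPT _ ((mem_autGroup_iff hPT).1 ha) (fun x => (a x).2)
          (P.subtype.comp b.toMonoidHom) ((mem_autGroup_iff hPS).1 hb)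
        have hle : P ≤ (P.subgroupOf P).map (P.subtype.comp b.toMonoidHom) := fun y hy =>
          ⟨b⁻¹ ⟨y, hy⟩, (b⁻¹ ⟨y, hy⟩).2, by simp⟩
        refine (mem_autGroup_iff hPT).2 (hom_congr (restrict_mem hχ hle) fun y => ?_)
        obtain ⟨x, rfl⟩ := b.surjective y
        refine Eq.trans ?_ (hv x (hle (b x).2)).symm
        show (((b * a * b⁻¹) (b x) : P) : Ω) = _
        rw [MulAut.mul_apply, MulAut.mul_apply, MulAut.inv_apply_self]
        rfl
      refine ⟨hE, hT, hinv, fun P hPT φ hφ => ?_⟩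
      exact frattini_of_invariant hS hF hT hE hA hnorm _ P le_rfl hPT φ hφ

end Cfsg.Agent.S5119
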