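import Cfsg.Statements.S5125
import Cfsg.Agent.Lib.Fusion.NormalExtend

set_option autoImplicit false
open Cfsg CfsgLib.Fusion

namespace Cfsg.Agent.S5125

/-- Let F be a saturated fusion system over a finite p-group S and Q a subgroup strongly closed in F. If Q has a subgroup Q₁ that is normal in F, with Q/Q₁ abelian and Aut_F(Q₁) a p-group, then Q is normal in F. -/
theorem result {Ω : Type*} [Group Ω] {S : Subgroup Ω} [Finite S] (p : ℕ) [Fact p.Prime] (hS : IsPGroup p S) (F : Cfsg.FusionSystem S) (hF : F.IsSaturated p) (Q Q₁ : Subgroup Ω) (hQ : F.StronglyClosed Q) (hQ₁Q : Q₁ ≤ Q) (hQ₁ : F.IsNormal Q₁) (hab : ⁅Q, Q⁆ ≤ Q₁) (hAut : IsPGroup p ↥(F.autGroup Q₁)) : F.IsNormal Q := by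
  have hQ₁S := hQ₁.1
  have hQn : F.IsFullyNormalized Q₁ := ⟨hQ₁S, fun R hR => by
    obtain ⟨φ, hφ, rfl⟩ := hR
    rw [(StronglyClosed.weaklyClosed (IsNormal.stronglyClosed hQ₁)).2 φ hφ]⟩
  have := finite_mulAut_of_le (S := S) hQ₁S
  have hA : F.autGroup Q₁ ≤ Cfsg.autInducedBy S Q₁ := by
    obtain ⟨R, hR⟩ := (IsSaturated.fullyAutomized hS hF hQn).2
    have htop := R.is_maximal' (hAut.to_subgroup ⊤) le_top
    intro α hα
    exact (hR.le (htop.le (Subgroup.mem_top (⟨α, hα⟩ : F.autGroup Q₁))) : _)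
  let L : ℕ → Subgroup Ω := fun k => Nat.rec Q₁ (fun _ X => ⁅X, S⁆) k
  have hLsucc : ∀ k, L (k + 1) = ⁅L k, S⁆ := fun k => rfl
  have hLN : ∀ k : ℕ, S ≤ Subgroup.normalizer (SetLike.coe (L k)) := by
    intro k
    cases k with
    | zero => exact IsNormal.normal_in hQ₁
    | succ k => rw [hLsucc]; exact Subgroup.normalizer_commutator_ge_right _ _
  have hLanti : Antitone L := antitone_nat_of_succ_le fun k => by
    rw [hLsucc, ← Subgroup.le_normalizer_iff_commutator_le_left]
    exact hLN k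
  have hLle : ∀ k, L k ≤ Q₁ := fun k => hLanti (Nat.zero_le k)
  have hLlcs : ∀ k, L k ≤ Subgroup.lowerCentralSeries S k := by
    intro k
    induction k with
    | zero => exact hQ₁S
    | succ k ih => rw [hLsucc]; exact Subgroup.commutator_mono ih le_rfl
  have : Group.IsNilpotent S := hS.isNilpotent
  obtain ⟨n, hn⟩ := (Subgroup.isNilpotent_iff_lowerCentralSeries S).1 this
  have hLbot : L n = ⊥ := le_bot_iff.1 (hn ▸ hLlcs n)
  have hLsc : ∀ k, F.StronglyClosed (L k) := by
    intro k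
    refine ⟨(hLle k).trans hQ₁S, fun R hR φ hφ x => ?_⟩
    obtain ⟨α, hα, hαv⟩ := IsNormal.exists_aut hQ₁ (hR.trans (hLle k)) hφ
    obtain ⟨s, hs, hsv⟩ := mem_autInducedBy_iff.1 (hA hα)
    rw [← hαv x, hsv]
    exact conj_mem_of_mem_normalizer (hLN k hs) (hR x.2)
  let C : Fin (n + 2) → Subgroup Ω := fun i => if (i : ℕ) ≤ n then L (n - i) else Q
  have hC1 : ∀ i : Fin (n + 2), (i : ℕ) ≤ n → C i = L (n - i) := fun i h => by simp [C, h]
  have hC2 : ∀ i : Fin (n + 2), n < (i : ℕ) → C i = Q := fun i h => by simp [C, h.not_ge]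
  refine isNormal_of_series hS hF hQ C ?_ (hC2 _ (by simp)) ?_ ?_ ?_
  · rw [hC1 0 (by simp)]
    simpa using hLbot
  · intro a b hab
    rcases Nat.lt_or_ge n (b : ℕ) with hb | hb
    · rw [hC2 b hb]
      rcases Nat.lt_or_ge n (a : ℕ) with ha | ha
      · rw [hC2 a ha]
      · rw [hC1 a ha]; exact (hLle _).trans hQ₁Q
    · rw [hC1 a (le_trans hab hb), hC1 b hb]
      exact hLanti (Nat.sub_le_sub_left hab n)
  · intro i
    rw [hC1 i.castSucc (by simp; omega)]
    rcases Nat.lt_or_ge (i : ℕ) n with h | h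
    · rw [hC1 i.succ (by simp; omega)]
      refine (Subgroup.commutator_mono le_rfl hQ.1).trans (le_of_eq ?_)
      rw [← hLsucc]
      rw [show n - (i.succ : ℕ) + 1 = n - (i.castSucc : ℕ) by
        simp only [Fin.val_succ, Fin.val_castSucc]; omega]
    · rw [hC2 i.succ (by simp; omega)]
      have h0 : n - (i.castSucc : ℕ) = 0 := by
        have := i.isLt
        simp only [Fin.val_castSucc]
        omega
      rw [h0]
      exact hab
  · intro i
    rw [hC1 i.castSucc (by simp; omega)]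
    exact StronglyClosed.weaklyClosed (hLsc _)

end Cfsg.Agent.S5125
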