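import Cfsg.Statements.S5130
import Cfsg.Agent.Lib.Fusion.ClosedFactors

set_option autoImplicit false
open Cfsg CfsgLib.Fusion CfsgLib.Fusion.ClosedFactors Cfsg.FusionSystem

namespace Cfsg.Agent.S5130

/-- Let F be a saturated fusion system over a finite p-group S that is the direct product of two subgroups S₁ and S₂, each strongly closed in F. Let R be the full subsystem of F over S₁ (all maps of F between subgroups of S₁) and R′ the subsystem over S₁ of those maps that extend to the subgroup generated with S₂ fixing S₂ elementwise. Then R and R′ are saturated, R′ is normal in F and in R, and R is weakly normal in F. -/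
theorem result {Ω : Type*} [Group Ω] {S : Subgroup Ω} [Finite S] (p : ℕ) [Fact p.Prime] (hS : IsPGroup p S) (F : Cfsg.FusionSystem S) (hF : F.IsSaturated p) (S₁ S₂ : Subgroup Ω) (hprod : Cfsg.IsInternalDirectProduct S₁ S₂ S) (h₁ : F.StronglyClosed S₁) (h₂ : F.StronglyClosed S₂) (R R' : Cfsg.FusionSystem S₁) (hR : ∀ P : Subgroup Ω, P ≤ S₁ → R.Hom P = F.Hom P) (hR' : ∀ P : Subgroup Ω, P ≤ S₁ → R'.Hom P = F.centralizerHom S₂ P) : R.IsSaturated p ∧ R'.IsSaturated p ∧ R'.IsNormalIn F p ∧ R'.IsNormalIn R p ∧ R.IsWeaklyNormalIn F p := by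
  have := finite_le hprod.1
  have hRs := full_saturated hprod hS hF h₁ h₂ hR
  have hR's := fix_saturated hprod hS hF h₁ h₂ hR'
  have hRinv := full_invariant hprod hS hF h₁ h₂ hR
  have hR'inv := fix_invariant hprod hS hF h₁ h₂ hR'
  have hRF : ∀ P : Subgroup Ω, P ≤ S₁ → R'.Hom P ⊆ R.Hom P := fun P hP φ hφ =>
    (hR P hP).ge (fix_subsystem hR' P hφ)
  have hαF : ∀ α ∈ R'.autGroup S₁, α ∈ F.autGroup S₁ := fun α hα =>
    (mem_autGroup_iff h₁.1).2 (fix_subsystem hR' S₁ ((mem_autGroup_iff le_rfl).1 hα))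
  refine ⟨hRs, hR's, ⟨⟨hR's, hF, hR'inv⟩, ?_⟩, ⟨⟨hR's, hRs, ?_⟩, ?_⟩, hRs, hF, hRinv⟩
  · intro α hα
    have hM : S₁ ⊔ centralizerIn S S₁ = S := le_antisymm (sup_le hprod.1 (centralizerIn_le _))
      (hprod.2.2.2.2.ge.trans (sup_le_sup_left (right_le_centralizerIn hprod le_rfl) _))
    obtain ⟨-, -, -, ψ, hψ, hag, hfix⟩ :=
      (hR' S₁ le_rfl).le ((mem_autGroup_iff le_rfl).1 hα)
    have hle : S₁ ⊔ centralizerIn S S₁ ≤ S₁ ⊔ S₂ := hM.le.trans hprod.2.2.2.2.ge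
    obtain ⟨β, hβ, hβv⟩ := aut_of_hom (restrict_mem hψ hle)
      fun x => hM.ge (hom_apply_mem hψ _)
    refine ⟨β, hβ, fun x => (hβv _).trans (hag x), fun c hc => ?_⟩
    obtain ⟨z, hz, b, hb, hzb⟩ := exists_split hprod (centralizerIn_le _ hc)
    have hzc : z ∈ Subgroup.centralizer (S₁ : Set Ω) := by
      have : z = (c : Ω) * b⁻¹ := by rw [hzb, mul_inv_cancel_right]
      rw [this]
      exact mul_mem hc.2 (inv_mem (right_le_centralizerIn hprod le_rfl hb).2)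
    have hβc : ((β c : ↥(S₁ ⊔ centralizerIn S S₁)) : Ω) = ((α ⟨z, hz⟩ : S₁) : Ω) * b := by
      rw [hβv]
      have : Subgroup.inclusion hle c =
          Subgroup.inclusion le_sup_left ⟨z, hz⟩ * Subgroup.inclusion le_sup_right ⟨b, hb⟩ :=
        Subtype.ext hzb
      show ψ (Subgroup.inclusion hle c) = _
      rw [this, map_mul, hag, hfix]
      rfl
    have h1 : (c : Ω)⁻¹ * ((β c : ↥(S₁ ⊔ centralizerIn S S₁)) : Ω) =
        z⁻¹ * ((α ⟨z, hz⟩ : S₁) : Ω) := by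
      have hbz : ((α ⟨z, hz⟩ : S₁) : Ω) * b = b * ((α ⟨z, hz⟩ : S₁) : Ω) :=
        hprod.2.2.1 _ (α _).2 b hb
      rw [hβc, hbz, hzb, hprod.2.2.1 z hz b hb]
      group
    rw [h1]
    refine ⟨S₁.mul_mem (S₁.inv_mem hz) (α _).2,
      (Subgroup.centralizer _).mul_mem ((Subgroup.centralizer _).inv_mem hzc) ?_⟩
    rw [Subgroup.mem_centralizer_iff]
    intro y hy
    have h2 := Subgroup.mem_centralizer_iff.1 hzc ((α⁻¹ ⟨y, hy⟩ : S₁) : Ω) (α⁻¹ _).2
    have h3 : α⁻¹ ⟨y, hy⟩ * ⟨z, hz⟩ = ⟨z, hz⟩ * α⁻¹ ⟨y, hy⟩ := Subtype.ext h2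
    have h4 := congrArg (fun w => ((α w : S₁) : Ω)) h3
    simpa using h4
  · refine ⟨fun P φ hφ => hRF P (hom_le hφ) hφ, stronglyClosed_top, fun P hPT φ hφ α hα => ?_,
      fun P hP φ hφ => ?_⟩
    · exact hR'inv.2.2.1 P hPT φ hφ α ((mem_autGroup_iff h₁.1).2
        (full_subsystem hR S₁ ((mem_autGroup_iff le_rfl).1 hα)))
    · obtain ⟨α, hα, φ₀, hφ₀, hv⟩ := hR'inv.2.2.2 P hP φ (full_subsystem hR P hφ)
      exact ⟨α, (mem_autGroup_iff le_rfl).2 ((hR S₁ le_rfl).ge ((mem_autGroup_iff h₁.1).1 hα)),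
        φ₀, hφ₀, hv⟩
  · intro α hα
    have hM : S₁ ⊔ centralizerIn S₁ S₁ = S₁ := sup_eq_left.2 (centralizerIn_le _)
    obtain ⟨β, hβ, hβv⟩ := aut_of_hom
      (restrict_mem ((hR S₁ le_rfl).ge ((mem_autGroup_iff h₁.1).1 (hαF α hα))) hM.le)
      fun x => hM.ge (α _).2
    refine ⟨β, hβ, fun x => (hβv _).trans rfl, fun c hc => ?_⟩
    rw [hβv]
    refine ⟨S₁.mul_mem (S₁.inv_mem (hM.le c.2)) (α _).2,
      (Subgroup.centralizer _).mul_mem ((Subgroup.centralizer _).inv_mem hc.2) ?_⟩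
    rw [Subgroup.mem_centralizer_iff]
    intro y hy
    have h2 := Subgroup.mem_centralizer_iff.1 hc.2 ((α⁻¹ ⟨y, hy⟩ : S₁) : Ω) (α⁻¹ _).2
    have h3 : α⁻¹ ⟨y, hy⟩ * ⟨c, hM.le c.2⟩ = ⟨c, hM.le c.2⟩ * α⁻¹ ⟨y, hy⟩ := Subtype.ext h2
    have h4 := congrArg (fun w => ((α w : S₁) : Ω)) h3
    simp only [map_mul, MulAut.apply_inv_self, Subgroup.coe_mul] at h4
    exact h4

end Cfsg.Agent.S5130
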