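import Cfsg.Statements.S5135
import Cfsg.Agent.Lib.Fusion.Quotient

set_option autoImplicit false
open Cfsg CfsgLib.Fusion

namespace Cfsg.Agent.S5135

/-- Let G be a finite group, S a Sylow p-subgroup and H a normal subgroup of G. Then the fusion system of G/H on the image SH/H of S is the factor system of the fusion system of G on S modulo S ∩ H, read through the quotient map restricted to S: for each subgroup P' of SH/H, the conjugation maps by elements of G/H defined on P' with values in SH/H are exactly the homomorphisms induced by the conjugation maps by elements of G defined on the full preimage of P' in S with values in S. -/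
theorem result {G : Type*} [Group G] [Finite G] (p : ℕ) [Fact p.Prime] (S : Sylow p G) (H : Subgroup G) [H.Normal] : (Cfsg.groupFusionSystem (S : Subgroup G)).IsFactorSystem ((S : Subgroup G) ⊓ H) ((QuotientGroup.mk' H).comp (S : Subgroup G).subtype) (Cfsg.groupFusionSystem ((S : Subgroup G).map (QuotientGroup.mk' H))) := by
  set T := (S : Subgroup G) ⊓ H with hT
  set θ := (QuotientGroup.mk' H).comp (S : Subgroup G).subtype with hθ
  refine ⟨inf_le_left, fun s => ?_, ?_, fun P' φ' => ⟨?_, ?_⟩⟩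
  · show ((s : G) : G ⧸ H) = 1 ↔ _
    rw [QuotientGroup.eq_one_iff]
    exact ⟨fun h => ⟨s.2, h⟩, fun h => h.2⟩
  · rw [hθ, MonoidHom.range_comp, Subgroup.range_subtype]
  · rintro ⟨hP', hφ', γ, hγ⟩
    refine ⟨hP', ?_⟩
    set P := Cfsg.FusionSystem.preimageAlong θ P' with hP
    have hPS : P ≤ (S : Subgroup G) := Subgroup.map_subtype_le _
    have hmem : ∀ x ∈ P, QuotientGroup.mk' H x ∈ P' := by
      rintro _ ⟨s, hs, rfl⟩
      exact hs
    obtain ⟨g, hg⟩ := exists_lift_fusion S H hPS γ fun x hx => by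
      have := hφ' ⟨_, hmem x hx⟩
      rw [hγ] at this
      exact this
    refine ⟨conjHom P g, ⟨hPS, fun x => (hg x x.2).1, g, fun x => rfl⟩, hPS,
      fun x => (hg x x.2).1, fun x => hmem x x.2, fun x => ?_⟩
    exact (hγ _).trans (hg x x.2).2.symm
  · rintro ⟨hP', φ, ⟨hP, hφS, g, hg⟩, hP₀, hφ₀, hP₁, hind⟩
    have hsurj : ∀ y : P', ∃ x : Cfsg.FusionSystem.preimageAlong θ P',
        θ ⟨x, hP₀ x.2⟩ = (y : G ⧸ H) := by
      intro y
      obtain ⟨s, hs, hsy⟩ := hP' y.2
      have : (⟨s, hs⟩ : ↥(S : Subgroup G)) ∈ P'.comap θ := by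
        show QuotientGroup.mk' H s ∈ P'
        rw [hsy]
        exact y.2
      exact ⟨⟨s, ⟨s, hs⟩, this, rfl⟩, hsy⟩
    refine ⟨hP', fun y => ?_, QuotientGroup.mk g, fun y => ?_⟩
    · obtain ⟨x, hx⟩ := hsurj y
      have := hind x
      rw [show (⟨θ ⟨x, hP₀ x.2⟩, hP₁ x⟩ : P') = y from Subtype.ext hx] at this
      rw [this]
      exact ⟨_, hφ₀ x, rfl⟩
    · obtain ⟨x, hx⟩ := hsurj y
      have := hind x
      rw [show (⟨θ ⟨x, hP₀ x.2⟩, hP₁ x⟩ : P') = y from Subtype.ext hx] at this
      rw [this, ← hx]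
      show QuotientGroup.mk' H (φ x) = QuotientGroup.mk g * QuotientGroup.mk' H x * (QuotientGroup.mk g)⁻¹
      rw [hg x, map_mul, map_mul, map_inv]
      rfl

end Cfsg.Agent.S5135
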