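import Cfsg.Statements.S5147
import Cfsg.Agent.Lib.Fusion.SubnormalGroup
import Cfsg.Agent.Lib.Fusion.ConstrainedFactor
import Cfsg.Agent.S5135

set_option autoImplicit false
open Cfsg CfsgLib.Fusion

namespace Cfsg.Agent.S5147

/-- Let G be a finite group with Sylow 2-subgroup S whose 2-fusion system on S is constrained, and L a component of G (a subnormal quasisimple subgroup). Then the 2-fusion system of L/Z(L) on the image of S ∩ L is constrained. -/
theorem result {G : Type*} [Group G] [Finite G] (S : Sylow 2 G) (hF : (Cfsg.groupFusionSystem (S : Subgroup G)).IsConstrained 2) (L : Subgroup G) (hL : Cfsg.IsComponent L) : (Cfsg.groupFusionSystem (((S : Subgroup G).subgroupOf L).map (QuotientGroup.mk' (Subgroup.center L)))).IsConstrained 2 := by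
  have : Fact (Nat.Prime 2) := ⟨Nat.prime_two⟩
  obtain ⟨⟨R, hR⟩, h⟩ := constrained_of_subnormal S hF hL.1
  have hRc : (groupFusionSystem (R : Subgroup L)).IsConstrained 2 := by
    have := SysEquiv.isConstrained (fusionSystemOfSubgroup_sysEquiv inf_le_right) h
    rwa [← hR] at this
  have hR' : (R : Subgroup L) = (S : Subgroup G).subgroupOf L := by
    rw [hR, Subgroup.inf_subgroupOf_right]
  have hE := Cfsg.Agent.S5135.result 2 R (Subgroup.center L)
  have hcen : (groupFusionSystem (R : Subgroup L)).IsCentral ((R : Subgroup L) ⊓ Subgroup.center L) := by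
    refine (isCentral_iff R.isPGroup' hRc.1).2 ⟨inf_le_left, fun x hx y hy => ?_⟩
    obtain ⟨φ, ⟨-, -, g, hg⟩, rfl⟩ := hy
    rw [hg]
    show g * x * g⁻¹ = x
    rw [Subgroup.mem_center_iff.1 hx.2 g, mul_inv_cancel_right]
  have := isConstrained_factor_central R.isPGroup' hRc hcen hE
  rwa [hR'] at this

end Cfsg.Agent.S5147
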