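import Cfsg.Statements.S5148
import Cfsg.Agent.Lib.Fusion.Abelian
import Cfsg.Agent.Lib.Fusion.InnerQuot
import Cfsg.Agent.Lib.Fusion.Criterion
import Cfsg.Agent.Lib.Fusion.HyperfocalGen

set_option autoImplicit false
open Cfsg Cfsg.FusionSystem CfsgLib.Fusion

namespace Cfsg.Agent.S5148

/-- A quasisimple fusion system over a finite p-group S (saturated, equal to its p-residual subsystem, with simple — in particular nontrivial — factor system modulo its centre) has S nonabelian. -/
theorem result {Ω : Type*} [Group Ω] {S : Subgroup Ω} [Finite S] (p : ℕ) [Fact p.Prime] (hS : IsPGroup p S) (F : Cfsg.FusionSystem S) (hq : F.Quasisimple p) : ¬ IsMulCommutative S := by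
  intro hcomm
  have hab : ∀ x ∈ S, ∀ y ∈ S, x * y = y * x := fun x hx y hy =>
    congrArg Subtype.val (hcomm.is_comm.comm (⟨x, hx⟩ : S) ⟨y, hy⟩)
  obtain ⟨hF, hyp, hfac⟩ := hq
  have hfs : S ≤ F.focalSubgroup := by
    refine hyp.ge.trans ?_
    refine hyperfocal_le_of_coprime fun P α hP hα _ x => ?_
    exact Subgroup.subset_closure ⟨P, _, x, (mem_autGroup_iff hP).1 hα, rfl⟩
  have hZ : F.center = ⊥ := by
    rw [← (center_focal_of_abelian hS hF hab).1]
    exact (inf_eq_left.2 (center_le.trans hfs)).symm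
  set q := QuotientGroup.mk' (F.center.subgroupOf S) with hqdef
  have hθ : ∀ s : S, q s = 1 ↔ (s : Ω) ∈ F.center := fun s => QuotientGroup.eq_one_iff s
  have hr : q.range = ⊤ := MonoidHom.range_eq_top.2 (QuotientGroup.mk'_surjective _)
  have hsc := IsNormal.stronglyClosed (isCentral_isNormal (center_isCentral (F := F)))
  set E := factorSystem F hsc q hθ hr
  have hE : F.IsFactorSystem F.center q E := ⟨hsc.1, hθ, hr, fun _ _ => Iff.rfl⟩
  have hT : IsPGroup p (⊤ : Subgroup (S ⧸ F.center.subgroupOf S)) :=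
    (hS.to_quotient _).to_subgroup ⊤
  have hab' : ∀ x ∈ (⊤ : Subgroup (S ⧸ F.center.subgroupOf S)),
      ∀ y ∈ (⊤ : Subgroup (S ⧸ F.center.subgroupOf S)), x * y = y * x := by
    intro x _ y _
    obtain ⟨a, rfl⟩ := QuotientGroup.mk'_surjective _ x
    obtain ⟨b, rfl⟩ := QuotientGroup.mk'_surjective _ y
    rw [← map_mul, ← map_mul, hcomm.is_comm.comm a b]
  obtain ⟨hcard, hinn⟩ := (simple_of_abelian_iff hT (factor_saturated hS hF hsc hE) hab').1 (hfac E hE)
  have hQn := isCentral_isNormal (center_isCentral (F := F))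
  have hFinn := inner_of_factor_inner hS hF hQn (fun R _ _ b _ => ⟨1, S.one_mem, fun x hx => by
    rw [hZ, Subgroup.mem_bot] at hx
    rw [show x = 1 from Subtype.ext hx, map_one]
    simp⟩) hE (fusionSystem_ext hinn)
  have hSbot : S ≤ ⊥ := by
    refine hyp.ge.trans ?_
    refine hyperfocal_le_of_coprime fun P α hP hα hc x => ?_
    rw [coprime_aut_eq_one_of_inner hS hFinn hP hα hc]
    simp
  have hsub : Subsingleton S := ⟨fun a b => Subtype.ext
    ((Subgroup.mem_bot.1 (hSbot a.2)).trans (Subgroup.mem_bot.1 (hSbot b.2)).symm)⟩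
  have : Subsingleton (S ⧸ F.center.subgroupOf S) :=
    (QuotientGroup.mk'_surjective (F.center.subgroupOf S)).subsingleton
  rw [Nat.card_unique] at hcard
  exact (Fact.out : p.Prime).one_lt.ne hcard

end Cfsg.Agent.S5148
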