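import Cfsg.Statements.S5164
import Cfsg.Agent.Lib.Fusion.Alt.Strong

set_option autoImplicit false
open Cfsg CfsgLib.Fusion CfsgLib.Fusion.Alt

namespace Cfsg.Agent.S5164

/-- For n ≥ 6 and a prime p, a nontrivial Sylow p-subgroup of the alternating group of degree n is abelian if and only if n < p². -/
theorem result (n p : ℕ) (hn : 6 ≤ n) [Fact p.Prime] (S : Sylow p (alternatingGroup (Fin n))) (hS : (S : Subgroup (alternatingGroup (Fin n))) ≠ ⊥) : IsMulCommutative S ↔ n < p ^ 2 := by
    classical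
    have hpr := (Fact.out : p.Prime)
    obtain ⟨W, hW⟩ := exists_sylow_wreath (B := Fin (n / p)) (r := n % p) (Nat.mod_lt _ hpr.pos)
      (default : Sylow p (Equiv.Perm (Fin (n / p))))
    set P := (default : Sylow p (Equiv.Perm (Fin (n / p))))
    obtain ⟨S₀, hS₀⟩ := isSylowIn_inf_normal W (alternatingGroup (Pts (Fin (n / p)) p (n % p)))
    have hcard : Fintype.card (Pts (Fin (n / p)) p (n % p)) = Fintype.card (Fin n) := by
      simp [Fintype.card_sum, Fintype.card_prod, ZMod.card, Nat.div_add_mod' n p]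
    let e₁ := Equiv.altCongrHom (Fintype.equivOfCardEq hcard)
    obtain ⟨g, rfl⟩ := MulAction.exists_smul_eq (alternatingGroup (Fin n))
      (S₀.mapSurjective (f := e₁.toMonoidHom) e₁.surjective) S
    let e := e₁.trans (MulAut.conj g)
    have hSe : ((g • S₀.mapSurjective (f := e₁.toMonoidHom) e₁.surjective : Sylow p (alternatingGroup (Fin n))) :
        Subgroup (alternatingGroup (Fin n))) = (S₀ : Subgroup _).map e.toMonoidHom := by
      show Subgroup.map (MulAut.conj g).toMonoidHom (Subgroup.map e₁.toMonoidHom (S₀ : Subgroup _)) = _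
      rw [Subgroup.map_map]
      rfl
    have hmem : ∀ x : alternatingGroup (Pts (Fin (n / p)) p (n % p)), x ∈ (S₀ : Subgroup _) ↔ (x : Equiv.Perm (Pts (Fin (n / p)) p (n % p))) ∈
        wreath (n % p) p (P : Subgroup (Equiv.Perm (Fin (n / p)))) := fun x => by
      rw [hS₀, Subgroup.inf_subgroupOf_right, hW]; exact Subgroup.mem_subgroupOf
    have hmem' : ∀ x, x ∈ ((g • S₀.mapSurjective (f := e₁.toMonoidHom) e₁.surjective : Sylow p (alternatingGroup (Fin n))) :
        Subgroup (alternatingGroup (Fin n))) ↔ ∃ y ∈ (S₀ : Subgroup _), e y = x := fun x => by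
      rw [hSe]; exact Iff.rfl
    constructor
    · intro hcomm
      by_contra hnp
      push Not at hnp
      have hk : p ≤ n / p := (Nat.le_div_iff_mul_le hpr.pos).2 (by rw [← pow_two]; exact hnp)
      have hB : 3 ≤ Fintype.card (Fin (n / p)) := by
        rw [Fintype.card_fin]
        rcases eq_or_ne p 2 with hp | hp
        · simp only [hp]; omega
        · have := hpr.two_le; omega
      have hdvd : p ∣ Nat.card (P : Subgroup (Equiv.Perm (Fin (n / p)))) := by
        rw [Sylow.card_eq_multiplicity]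
        refine dvd_pow_self p (Nat.pos_iff_ne_zero.1 (hpr.factorization_pos_of_dvd Nat.card_pos.ne' ?_))
        rw [Nat.card_eq_fintype_card, Fintype.card_perm, Fintype.card_fin, hpr.dvd_factorial]
        exact hk
      obtain ⟨τ, hτ⟩ := exists_prime_orderOf_dvd_card' p hdvd
      have hτp : (τ : Equiv.Perm (Fin (n / p))) ^ p = 1 := by
        have h0 : τ ^ p = 1 := orderOf_dvd_iff_pow_eq_one.1 hτ.dvd
        exact congrArg Subtype.val h0
      have hτ1 : (τ : Equiv.Perm (Fin (n / p))) ≠ 1 := fun h => by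
        rw [← Subgroup.orderOf_coe, h, orderOf_one] at hτ
        exact hpr.one_lt.ne hτ
      have hsτ : Equiv.Perm.sign (blk (p := p) (r := n % p) (τ : Equiv.Perm (Fin (n / p)))) = 1 := by
        rw [sign_blk, ← map_pow, hτp, map_one]
      obtain ⟨a, ha⟩ : ∃ a, (τ : Equiv.Perm (Fin (n / p))) a ≠ a := by
        by_contra h
        push Not at h
        exact hτ1 (Equiv.ext h)
      obtain ⟨b, hba, hbt⟩ := exists_other hB a ((τ : Equiv.Perm (Fin (n / p))) a)
      let x : alternatingGroup (Pts (Fin (n / p)) p (n % p)) :=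
        ⟨blk (τ : Equiv.Perm (Fin (n / p))), Equiv.Perm.mem_alternatingGroup.2 hsτ⟩
      let y : alternatingGroup (Pts (Fin (n / p)) p (n % p)) :=
        ⟨shift (dlt a 1 + dlt b (1 : ZMod p)), Equiv.Perm.mem_alternatingGroup.2 (sign_shift_pair a b 1)⟩
      have hx := (hmem' (e x)).2 ⟨x, (hmem x).2 (blk_mem_wreath τ.2), rfl⟩
      have hy := (hmem' (e y)).2 ⟨y, (hmem y).2 (shift_mem_wreath _ _), rfl⟩
      have h1 : e x * e y = e y * e x := congrArg Subtype.val (hcomm.is_comm.comm ⟨_, hx⟩ ⟨_, hy⟩)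
      rw [← map_mul, ← map_mul] at h1
      have h2 : blk (p := p) (r := n % p) (τ : Equiv.Perm (Fin (n / p))) * shift (dlt a 1 + dlt b (1 : ZMod p)) =
          shift (dlt a 1 + dlt b (1 : ZMod p)) * blk (τ : Equiv.Perm (Fin (n / p))) :=
        congrArg Subtype.val (e.injective h1)
      have h3 := congrArg (fun f => f * (blk (p := p) (r := n % p) (τ : Equiv.Perm (Fin (n / p))))⁻¹) h2
      simp only [mul_inv_cancel_right, blk_shift] at h3
      have h4 := congrFun (shift_inj h3) ((τ : Equiv.Perm (Fin (n / p))) a)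
      simp [dlt, ha, hba.symm, hbt.symm] at h4
    · intro hnp
      have hk : n / p < p := (Nat.div_lt_iff_lt_mul hpr.pos).2 (by rw [← pow_two]; exact hnp)
      have hP : (P : Subgroup (Equiv.Perm (Fin (n / p)))) = ⊥ := by
        rw [← Subgroup.card_eq_one, Sylow.card_eq_multiplicity, Nat.card_eq_fintype_card,
          Fintype.card_perm, Fintype.card_fin, Nat.factorization_eq_zero_of_not_dvd, pow_zero]
        rw [hpr.dvd_factorial]
        exact not_le.2 hk
      refine ⟨⟨fun u v => Subtype.ext ?_⟩⟩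
      obtain ⟨x, hx, hxu⟩ := (hmem' (u : alternatingGroup (Fin n))).1 u.2
      obtain ⟨y, hy, hyv⟩ := (hmem' (v : alternatingGroup (Fin n))).1 v.2
      rw [Subgroup.coe_mul, Subgroup.coe_mul, ← hxu, ← hyv, ← map_mul, ← map_mul]
      congr 1
      obtain ⟨σ, hσ, f, hf⟩ := (hmem x).1 hx
      obtain ⟨σ', hσ', f', hf'⟩ := (hmem y).1 hy
      rw [hP, Subgroup.mem_bot] at hσ hσ'
      subst hσ hσ'
      refine Subtype.ext ?_
      rw [Subgroup.coe_mul, Subgroup.coe_mul, hf, hf']
      show shift f * shift f' = shift f' * shift f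
      rw [← shift_add, ← shift_add, add_comm]

end Cfsg.Agent.S5164
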