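import Cfsg.Statements.S5178
import Cfsg.Agent.Lib.Fusion.CentralTorus
import Cfsg.Agent.Lib.PGroups.ExtraspecialIndexP

set_option autoImplicit false
set_option maxHeartbeats 400000
universe u
open Cfsg

namespace Cfsg.Agent.S5178

/-- Let p be an odd prime, S a finite p-group containing an extraspecial subgroup Q of index p, and F a saturated fusion system over S whose largest subgroup normal in F is trivial. Then the centre of S equals the centre of Q. -/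
theorem result {Ω : Type u} [Group Ω] {S : Subgroup Ω} [Finite S] (p : ℕ) [Fact p.Prime] (hp : Odd p) (hS : IsPGroup p S)
    (Q : Subgroup Ω) (hQS : Q ≤ S) (hQ : Cfsg.IsExtraspecial p ↥Q) (hQi : (Q.subgroupOf S).index = p)
    (F : Cfsg.FusionSystem S) (hF : F.IsSaturated p) (hO : F.core = ⊥) :
    S ⊓ Subgroup.centralizer (S : Set Ω) = Q ⊓ Subgroup.centralizer (Q : Set Ω) := by
  classical
  have hcQ := CfsgLib.Fusion.finite_le hQS
  set ZQ : Subgroup Ω := Q ⊓ Subgroup.centralizer (Q : Set Ω)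
  have hmap : (Subgroup.center ↥Q).map Q.subtype = ZQ := by
    ext x
    constructor
    · rintro ⟨y, hy, rfl⟩
      exact ⟨y.2, Subgroup.mem_centralizer_iff.2 fun q hq =>
        congrArg Subtype.val (Subgroup.mem_center_iff.1 hy ⟨q, hq⟩)⟩
    · rintro ⟨hx, hxc⟩
      exact ⟨⟨x, hx⟩, Subgroup.mem_center_iff.2 fun q =>
        Subtype.ext (Subgroup.mem_centralizer_iff.1 hxc q q.2), rfl⟩
  have hcard : Nat.card ZQ = p := by rw [← hmap, Subgroup.card_subtype]; exact hQ.2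
  have hQn : (Q.subgroupOf S).Normal := CfsgLib.PGroups.normal_of_index_prime hS hQi
  have hconj : ∀ s ∈ S, ∀ q ∈ Q, s * q * s⁻¹ ∈ Q := fun s hs q hq =>
    Subgroup.mem_subgroupOf.1 (hQn.conj_mem ⟨q, hQS hq⟩ hq ⟨s, hs⟩)
  haveI : (ZQ.subgroupOf S).Normal := by
    refine ⟨fun z hz s => ?_⟩
    obtain ⟨hzQ, hzc⟩ := Subgroup.mem_inf.1 hz
    refine Subgroup.mem_inf.2 ⟨hconj s s.2 z hzQ, Subgroup.mem_centralizer_iff.2 fun q hq => ?_⟩
    have h := Subgroup.mem_centralizer_iff.1 hzc _ (hconj (s⁻¹ : Ω) (inv_mem s.2) q hq)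
    rw [inv_inv] at h
    change (s : Ω)⁻¹ * q * s * (z : Ω) = (z : Ω) * ((s : Ω)⁻¹ * q * s) at h
    show q * (s * z * (s : Ω)⁻¹) = s * z * (s : Ω)⁻¹ * q
    calc q * (s * z * (s : Ω)⁻¹) = s * ((s : Ω)⁻¹ * q * s * z) * (s : Ω)⁻¹ := by group
      _ = s * (z * ((s : Ω)⁻¹ * q * s)) * (s : Ω)⁻¹ := by rw [h]
      _ = s * z * (s : Ω)⁻¹ * q := by group
  have hZQS : ZQ ≤ S := inf_le_left.trans hQS
  have hcen := CfsgLib.PGroups.le_center_of_card_prime hS (N := ZQ.subgroupOf S)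
    (by rw [Nat.card_congr (Subgroup.subgroupOfEquivOfLe hZQS).toEquiv, hcard])
  have hle : ZQ ≤ S ⊓ Subgroup.centralizer (S : Set Ω) := fun z hz =>
    ⟨hZQS hz, Subgroup.mem_centralizer_iff.2 fun s hs =>
      congrArg Subtype.val (Subgroup.mem_center_iff.1 (hcen (show (⟨z, hZQS hz⟩ : S) ∈ ZQ.subgroupOf S from hz)) ⟨s, hs⟩)⟩
  refine le_antisymm (fun z hz => ?_) hle
  by_contra hzn
  obtain ⟨hzS, hzC⟩ := Subgroup.mem_inf.1 hz
  have hzQ : z ∉ Q := fun h => hzn ⟨h, fun q hq => hzC q (hQS hq)⟩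
  -- `S = Q Z(S)`
  haveI : (Subgroup.zpowers (⟨z, hzS⟩ : S)).Normal := ⟨fun w hw s => by
    obtain ⟨i, rfl⟩ := hw
    have hc : Commute s (⟨z, hzS⟩ : S) := Subtype.ext (hzC s s.2)
    dsimp only
    rw [(hc.zpow_right i).eq, mul_inv_cancel_right]
    exact zpow_mem (Subgroup.mem_zpowers _) i⟩
  set T := Q.subgroupOf S ⊔ Subgroup.zpowers (⟨z, hzS⟩ : S)
  have hT : T = ⊤ := by
    have hd : T.index ∣ p := hQi ▸ Subgroup.index_dvd_of_le le_sup_left
    rcases (Nat.dvd_prime Fact.out).1 hd with h | h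
    · exact Subgroup.index_eq_one.1 h
    · exfalso
      have h1 : Nat.card T = Nat.card (Q.subgroupOf S) := by
        have e1 := T.card_mul_index
        have e2 := (Q.subgroupOf S).card_mul_index
        rw [h] at e1
        rw [hQi] at e2
        exact Nat.eq_of_mul_eq_mul_right (Fact.out : p.Prime).pos (e1.trans e2.symm)
      have h2 : Q.subgroupOf S = T := Subgroup.eq_of_le_of_card_ge le_sup_left h1.le
      exact hzQ (h2.symm ▸ Subgroup.mem_sup_right (Subgroup.mem_zpowers _) : (⟨z, hzS⟩ : S) ∈ Q.subgroupOf S)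
  have hdec : ∀ s ∈ S, ∃ q ∈ Q, ∃ i : ℤ, s = q * z ^ i := by
    intro s hs
    have hm : (⟨s, hs⟩ : S) ∈ (T : Set S) := hT ▸ Subgroup.mem_top _
    rw [Subgroup.mul_normal] at hm
    obtain ⟨q, hq, w, ⟨i, rfl⟩, he⟩ := Set.mem_mul.1 hm
    exact ⟨q, hq, i, by simpa using (congrArg Subtype.val he).symm⟩
  obtain ⟨a, b, hab⟩ : ∃ a b : Q, a * b ≠ b * a := by
    by_contra h
    push Not at h
    exact CfsgLib.PGroups.IsExtraspecial.not_comm hQ ⟨⟨h⟩⟩
  refine CfsgLib.Fusion.CentralTorus.core_ne_bot (L := ZQ) ?_ hS hF hle hcard ?_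
    ⟨a, hQS a.2, b, hQS b.2, fun h => hab (Subtype.ext (mul_inv_eq_iff_eq_mul.1 (mul_inv_eq_one.1 h)))⟩
    (fun h => hzn (h.le hz)) hO
  · rintro rfl
    exact absurd hp (by decide)
  intro s hs u hu
  obtain ⟨q, hq, i, rfl⟩ := hdec s hs
  obtain ⟨q', hq', j, rfl⟩ := hdec u hu
  have hcq : ∀ (w : Ω) (k : ℤ), w ∈ S → Commute w (z ^ k) := fun w k hw =>
    (show Commute w z from hzC w hw).zpow_right k
  have hz1 : (q * z ^ i) * (q' * z ^ j) = (q * q') * (z ^ i * z ^ j) := by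
    rw [mul_assoc, ← mul_assoc (z ^ i), ← (hcq q' i (hQS hq')).eq]; group
  have hz2 : (q' * z ^ j) * (q * z ^ i) = (q' * q) * (z ^ i * z ^ j) := by
    rw [mul_assoc, ← mul_assoc (z ^ j), ← (hcq q j (hQS hq)).eq]; group
  have e : (q * z ^ i) * (q' * z ^ j) * (q * z ^ i)⁻¹ * (q' * z ^ j)⁻¹ = q * q' * q⁻¹ * q'⁻¹ := by
    rw [mul_assoc (q * z ^ i * (q' * z ^ j)), ← mul_inv_rev, hz1, hz2]; group
  rw [e]
  have h := CfsgLib.PGroups.IsExtraspecial.comm_mem hQ ⟨q, hq⟩ ⟨q', hq'⟩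
  rw [commutatorElement_def] at h
  exact hmap.le ⟨_, h, rfl⟩

end Cfsg.Agent.S5178
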