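import Cfsg.Statements.S5179
import Cfsg.Agent.Lib.Fusion.CentralTorus
import Cfsg.Agent.Lib.PGroups.ExtraspecialIndexP

set_option autoImplicit false
set_option maxHeartbeats 400000
universe u
open Cfsg

namespace Cfsg.Agent.S5179

/-- Let p be an odd prime, S a finite p-group of order at least p⁶ containing an extraspecial subgroup Q of index p, and F a saturated fusion system over S whose largest subgroup normal in F is trivial. Then no proper subgroup of Q is essential in F: an essential subgroup of F contained in Q equals Q. -/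
theorem result {Ω : Type u} [Group Ω] {S : Subgroup Ω} [Finite S] (p : ℕ) [Fact p.Prime] (hp : Odd p) (hS : IsPGroup p S)
    (Q : Subgroup Ω) (hQS : Q ≤ S) (hQ : Cfsg.IsExtraspecial p ↥Q) (hQi : (Q.subgroupOf S).index = p)
    (h6 : p ^ 6 ≤ Nat.card S)
    (F : Cfsg.FusionSystem S) (hF : F.IsSaturated p) (hO : F.core = ⊥)
    (E : Subgroup Ω) (hEQ : E ≤ Q) (hE : F.IsEssential p E) : E = Q := by
  classical
  open CfsgLib.Fusion in
  open CfsgLib.Fusion.CentralTorus in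
  have hES := hE.1.1
  have hcQ := CfsgLib.Fusion.finite_le hQS
  have := CfsgLib.Fusion.finite_le hES
  have := CfsgLib.Fusion.finite_mulAut_of_le (S := S) hES
  set ZQ : Subgroup Ω := Q ⊓ Subgroup.centralizer (Q : Set Ω) with hZQ
  have hmap : (Subgroup.center ↥Q).map Q.subtype = ZQ := by
    ext x
    constructor
    · rintro ⟨y, hy, rfl⟩
      exact ⟨y.2, Subgroup.mem_centralizer_iff.2 fun q hq =>
        congrArg Subtype.val (Subgroup.mem_center_iff.1 hy ⟨q, hq⟩)⟩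
    · rintro ⟨hx, hxc⟩
      exact ⟨⟨x, hx⟩, Subgroup.mem_center_iff.2 fun q =>
        Subtype.ext (Subgroup.mem_centralizer_iff.1 hxc q q.2), rfl⟩
  have hcard : Nat.card ZQ = p := by rw [← hmap, Subgroup.card_subtype]; exact hQ.2
  have := CfsgLib.Fusion.finite_le ((inf_le_left.trans hQS : ZQ ≤ S))
  have hZC : ZQ ≤ CfsgLib.Fusion.centerOf S := by
    haveI hQn : (Q.subgroupOf S).Normal := CfsgLib.PGroups.normal_of_index_prime hS hQi
    have hconj : ∀ s ∈ S, ∀ q ∈ Q, s * q * s⁻¹ ∈ Q := fun s hs q hq =>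
      Subgroup.mem_subgroupOf.1 (hQn.conj_mem ⟨q, hQS hq⟩ hq ⟨s, hs⟩)
    haveI : (ZQ.subgroupOf S).Normal := by
      refine ⟨fun z hz s => ?_⟩
      obtain ⟨hzQ, hzc⟩ := Subgroup.mem_inf.1 hz
      refine Subgroup.mem_inf.2 ⟨hconj s s.2 z hzQ, Subgroup.mem_centralizer_iff.2 fun q hq => ?_⟩
      have h := Subgroup.mem_centralizer_iff.1 hzc _ (hconj (s⁻¹ : Ω) (inv_mem s.2) q hq)
      rw [inv_inv] at h
      change (s : Ω)⁻¹ * q * s * (z : Ω) = (z : Ω) * ((s : Ω)⁻¹ * q * s) at h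
      show q * (s * z * (s : Ω)⁻¹) = s * z * (s : Ω)⁻¹ * q
      calc q * (s * z * (s : Ω)⁻¹) = s * ((s : Ω)⁻¹ * q * s * z) * (s : Ω)⁻¹ := by group
        _ = s * (z * ((s : Ω)⁻¹ * q * s)) * (s : Ω)⁻¹ := by rw [h]
        _ = s * z * (s : Ω)⁻¹ * q := by group
    have hZQS : ZQ ≤ S := inf_le_left.trans hQS
    have hcen := CfsgLib.PGroups.le_center_of_card_prime hS (N := ZQ.subgroupOf S)
      (by rw [Nat.card_congr (Subgroup.subgroupOfEquivOfLe hZQS).toEquiv, hcard])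
    exact fun z hz => ⟨hZQS hz, Subgroup.mem_centralizer_iff.2 fun s hs =>
      congrArg Subtype.val (Subgroup.mem_center_iff.1 (hcen (show (⟨z, hZQS hz⟩ : S) ∈ ZQ.subgroupOf S from hz)) ⟨s, hs⟩)⟩
  have hcomm : ∀ u ∈ Q, ∀ v ∈ Q, u * v * u⁻¹ * v⁻¹ ∈ ZQ := by
    intro u hu v hv
    have h := CfsgLib.PGroups.IsExtraspecial.comm_mem hQ ⟨u, hu⟩ ⟨v, hv⟩
    rw [commutatorElement_def] at h
    exact hmap.le ⟨_, h, rfl⟩
  have hZE : ZQ ≤ E := fun z hz => (CfsgLib.Fusion.centerOf_le_of_isCentric hE.1 (hZC hz)).1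
  have hQN : Q ≤ Subgroup.normalizer (E : Set Ω) := by
    rw [Subgroup.le_normalizer_iff]
    intro q hq x hx
    rw [show q * x * q⁻¹ = (q * x * q⁻¹ * x⁻¹) * x by group]
    exact mul_mem (hZE (hcomm q hq x (hEQ hx))) hx
  have hfixZ : ∀ a ∈ Cfsg.autInducedBy Q E, ∀ x : E, (x : Ω) ∈ ZQ → a x = x := by
    intro a ha x hx
    obtain ⟨q, hq, h⟩ := CfsgLib.Fusion.mem_autInducedBy_iff.1 ha
    exact Subtype.ext (by rw [h, CfsgLib.Fusion.centerOf_comm (hZC hx) (hQS hq), mul_inv_cancel_right])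
  have hcommA : ∀ a ∈ Cfsg.autInducedBy Q E, ∀ x : E, ((x⁻¹ * a x : E) : Ω) ∈ ZQ := by
    intro a ha x
    obtain ⟨q, hq, h⟩ := CfsgLib.Fusion.mem_autInducedBy_iff.1 ha
    rw [Subgroup.coe_mul, h, Subgroup.coe_inv]
    have := hcomm (x : Ω)⁻¹ (inv_mem (hEQ x.2)) q hq
    rwa [inv_inv, mul_assoc ((x : Ω)⁻¹ * q), mul_assoc (x : Ω)⁻¹, ← mul_assoc q] at this
  set Ze := ZQ.subgroupOf E with hZe
  have hcardZe : Nat.card Ze = p := by
    rw [Nat.card_congr (Subgroup.subgroupOfEquivOfLe hZE).toEquiv, hcard]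
  have hAG : Cfsg.autInducedBy Q E ≤ F.autGroup E :=
    (CfsgLib.Fusion.autInducedBy_mono hQS).trans (CfsgLib.Fusion.autInducedBy_le_autGroup hES)
  by_contra hne
  obtain ⟨q₀, hq₀, hq₀E⟩ : ∃ q ∈ Q, q ∉ E := by
    by_contra h
    push Not at h
    exact hne (le_antisymm hEQ h)
  have hga : ∀ q ∈ Q, ∃ gq : Cfsg.FusionSystem.normalizerIn S E, (gq : Ω) = q ∧
      CfsgLib.Fusion.conjAut gq ∈ Cfsg.autInducedBy Q E := fun q hq =>
    ⟨⟨q, hQS hq, hQN hq⟩, rfl, CfsgLib.Fusion.mem_autInducedBy_iff.2 ⟨q, hq, fun _ => rfl⟩⟩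
  -- `E` is abelian
  have hab : ∀ u v : E, u * v = v * u := by
    by_contra h
    push Not at h
    obtain ⟨u, v, huv⟩ := h
    have hcm : ∀ u v : E, u * v * u⁻¹ * v⁻¹ ∈ Ze := fun u v => hcomm u (hEQ u.2) v (hEQ v.2)
    have hc1 : (⟨u * v * u⁻¹ * v⁻¹, hcm u v⟩ : Ze) ≠ 1 := fun h =>
      huv (mul_inv_eq_iff_eq_mul.1 (mul_inv_eq_one.1 (congrArg Subtype.val h)))
    have hinv : ∀ g : MulAut E, ∀ x ∈ Ze, g x ∈ Ze := by
      intro g x hx
      obtain ⟨i, hi⟩ := mem_zpowers_of_prime_card (g' := (⟨x, hx⟩ : Ze)) hcardZe hc1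
      have hxi : x = (u * v * u⁻¹ * v⁻¹) ^ i := (congrArg Subtype.val hi).symm
      rw [hxi, map_zpow, map_mul, map_mul, map_mul, map_inv, map_inv]
      exact zpow_mem (hcm _ _) i
    set T := CfsgLib.Fusion.CentralTorus.stab (F.autGroup E) Ze Ze le_rfl with hT
    have hAT : Cfsg.autInducedBy Q E ≤ T := fun a ha =>
      ⟨hAG ha, fun x hx => hfixZ a ha x hx, fun x _ => hcommA a ha x, fun x => hcommA a ha x⟩
    have hTp : IsPGroup p T := CfsgLib.Fusion.CentralTorus.isPGroup_of_chain (hS.to_le hES) T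
      (fun β hβ => hβ.2.1) (fun β hβ => hβ.2.2.1) (fun β hβ => hβ.2.2.2)
    haveI : (T.subgroupOf (F.autGroup E)).Normal := by
      refine ⟨fun β hβ g => ?_⟩
      obtain ⟨hb, b1, -, b3⟩ := Subgroup.mem_subgroupOf.1 hβ
      have hall : ∀ y : E, y⁻¹ * ((g : MulAut E) * β * (g : MulAut E)⁻¹) y ∈ Ze := fun y => by
        have e : y⁻¹ * ((g : MulAut E) * β * (g : MulAut E)⁻¹) y =
            (g : MulAut E) (((g : MulAut E)⁻¹ y)⁻¹ * (β : MulAut E) ((g : MulAut E)⁻¹ y)) := by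
          rw [map_mul, map_inv, MulAut.apply_inv_self, MulAut.mul_apply, MulAut.mul_apply]
        rw [e]
        exact hinv _ _ (b3 _)
      refine ⟨mul_mem (mul_mem g.2 β.2) (inv_mem g.2), fun x hx => ?_, fun x _ => hall x, hall⟩
      show ((g : MulAut E) * β * (g : MulAut E)⁻¹) x = x
      rw [MulAut.mul_apply, MulAut.mul_apply, b1 _ (hinv _ x hx), MulAut.apply_inv_self]
    have hle := CfsgLib.Core.le_pCore (p := p) (N := T.subgroupOf (F.autGroup E))
      (CfsgLib.Fusion.isPGroup_subgroupOf (fun β hβ => hβ.1) hTp)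
    obtain ⟨gq, hgq, hgA⟩ := hga q₀ hq₀
    refine hq₀E (hgq ▸ CfsgLib.Fusion.mem_of_conjAut_inn hE.1 gq ?_)
    rw [← (CfsgLib.Fusion.IsEssential.isRadical hS hE).2]
    exact ⟨⟨_, hAG hgA⟩, hle (hAT hgA), rfl⟩
  have hInn : Cfsg.Inn E = ⊥ := by
    refine (Subgroup.eq_bot_iff_forall _).2 ?_
    rintro _ ⟨u, rfl⟩
    refine MulEquiv.ext fun x => ?_
    show u * x * u⁻¹ = x
    rw [hab u x, mul_inv_cancel_right]
  -- an element of `Q` outside `E` centralising a given element of `E`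
  have hex : ∀ m : E, ∃ q ∈ Q, q ∉ E ∧ q * (m : Ω) * q⁻¹ = m := by
    intro m
    by_contra h
    push Not at h
    let f : Q →* ZQ :=
      MonoidHom.mk' (fun q => ⟨(q : Ω) * m * (q : Ω)⁻¹ * (m : Ω)⁻¹, hcomm q q.2 m (hEQ m.2)⟩)
        fun q r => Subtype.ext (by
          show ((q : Ω) * r) * m * ((q : Ω) * r)⁻¹ * (m : Ω)⁻¹ =
            ((q : Ω) * m * (q : Ω)⁻¹ * (m : Ω)⁻¹) * ((r : Ω) * m * (r : Ω)⁻¹ * (m : Ω)⁻¹)
          have hz := CfsgLib.Fusion.centerOf_comm (hZC (hcomm r r.2 m (hEQ m.2))) (hQS q.2)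
          have hz' := CfsgLib.Fusion.centerOf_comm (hZC (hcomm r r.2 m (hEQ m.2)))
            (hES (inv_mem m.2))
          set c := (r : Ω) * m * (r : Ω)⁻¹ * (m : Ω)⁻¹ with hc
          have hz'' : (q : Ω)⁻¹ * c = c * (q : Ω)⁻¹ := ((show Commute (q : Ω) c from hz).inv_left).eq
          calc ((q : Ω) * r) * m * ((q : Ω) * r)⁻¹ * (m : Ω)⁻¹
              = (q : Ω) * c * m * (q : Ω)⁻¹ * (m : Ω)⁻¹ := by rw [hc]; group
            _ = c * ((q : Ω) * m * (q : Ω)⁻¹ * (m : Ω)⁻¹) := by rw [hz]; group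
            _ = _ := (CfsgLib.Fusion.centerOf_comm (hZC (hcomm r r.2 m (hEQ m.2)))
                (hQS (mul_mem (mul_mem (mul_mem q.2 (hEQ m.2)) (inv_mem q.2)) (inv_mem (hEQ m.2))))).symm)
    have hker : f.ker ≤ E.subgroupOf Q := by
      intro q hq
      by_contra hqE
      exact h q q.2 hqE (mul_inv_eq_one.1 (congrArg Subtype.val (MonoidHom.mem_ker.1 hq)))
    set Ee := E.subgroupOf Q
    have hEelt : Ee ≠ ⊤ := fun ht => hne (le_antisymm hEQ (Subgroup.subgroupOf_eq_top.1 ht))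
    have hp1 := (Fact.out : p.Prime).one_lt
    have hQc : Nat.card Q = Nat.card f.ker * Nat.card f.range := by
      rw [← Subgroup.index_ker, Subgroup.card_mul_index]
    have h1 : Nat.card Q ≤ Nat.card Ee * p := by
      rw [hQc]
      exact Nat.mul_le_mul (Subgroup.card_le_of_le hker)
        (hcard ▸ Nat.card_le_card_of_injective _ f.range.subtype_injective)
    have hidx : Ee.index = p := by
      have h2 := Ee.card_mul_index
      have hpos : 0 < Nat.card Ee := Nat.card_pos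
      have h3 : Ee.index ≤ p := Nat.le_of_mul_le_mul_left (h2.le.trans h1) hpos
      obtain ⟨k, hk⟩ := (Nat.dvd_prime_pow Fact.out).1
        (show Ee.index ∣ p ^ (IsPGroup.iff_card.1 (hS.to_le hQS)).choose from
          (IsPGroup.iff_card.1 (hS.to_le hQS)).choose_spec ▸ Ee.index_dvd_card)
      rcases k with _ | _ | k
      · exact absurd (Subgroup.index_eq_one.1 (by rw [hk.2, pow_zero])) hEelt
      · rw [hk.2, pow_one]
      · exfalso
        have h4 : p ^ 2 ≤ Ee.index := hk.2 ▸ Nat.pow_le_pow_right (by omega) (by omega)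
        nlinarith
    have hcE : Subgroup.centralizer (Ee : Set Q) = Ee := by
      refine le_antisymm (fun x hx => ?_) fun x hx => Subgroup.mem_centralizer_iff.2 fun y hy =>
        Subtype.ext (show (y : Ω) * x = x * y from congrArg Subtype.val (hab ⟨y, hy⟩ ⟨x, hx⟩))
      exact hE.1.2 E (CfsgLib.Fusion.isConj_refl hES) (CfsgLib.Fusion.mem_centralizerIn.2
        ⟨hQS x.2, fun y hy => congrArg Subtype.val
          (Subgroup.mem_centralizer_iff.1 hx ⟨y, hEQ hy⟩ hy)⟩)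
    have h5 := CfsgLib.PGroups.IsExtraspecial.card_centralizer_mul_card hQ (A := Ee)
      (fun z hz => hZE (hmap.le ⟨z, hz, rfl⟩))
    rw [hcE] at h5
    have h6 := Ee.card_mul_index
    rw [hidx] at h6
    have hEc : Nat.card Ee = p * p := by
      have hpos : 0 < Nat.card Ee := Nat.card_pos
      nlinarith
    have hSc : Nat.card S = Nat.card Q * p := by
      rw [← (Q.subgroupOf S).card_mul_index, hQi,
        Nat.card_congr (Subgroup.subgroupOfEquivOfLe hQS).toEquiv]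
    rw [← h6, hEc] at hSc
    have h6' := hSc ▸ (by assumption : p ^ 6 ≤ Nat.card S)
    exact absurd h6' (not_le.2 (by
      calc p * p * p * p = p ^ 4 := by ring
        _ < p ^ 6 := Nat.pow_lt_pow_right hp1 (by omega)))
  -- the strongly embedded subgroup contains all conjugates of the transvections
  obtain ⟨hN, H, hH⟩ := hE.2.2
  obtain ⟨hHne, hHd, hHc⟩ := CfsgLib.LocalEven.stronglyPEmbedded_iff.1 hH
  set G := F.autGroup E
  set π := QuotientGroup.mk' ((Cfsg.Inn E).subgroupOf G) with hπ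
  have hπinj : Function.Injective π := by
    rw [← MonoidHom.ker_eq_bot_iff, hπ, QuotientGroup.ker_mk', hInn, Subgroup.bot_subgroupOf]
  set H0 := H.comap π with hH0
  have hH0c : CfsgLib.LocalEven.ContainsPNormalizers p H0 := by
    intro A hA hAp hA1 g hg
    refine hHc (A.map π) (Subgroup.map_le_iff_le_comap.2 hA) (hAp.map π)
      (fun hb => hA1 ((Subgroup.map_eq_bot_iff_of_injective A hπinj).1 hb)) ?_
    exact Subgroup.le_normalizer_map π ⟨g, hg, rfl⟩
  set A0 := (Cfsg.autInducedBy Q E).subgroupOf G with hA0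
  have hA0p : IsPGroup p A0 := CfsgLib.Fusion.isPGroup_subgroupOf hAG
    (CfsgLib.Fusion.isPGroup_autInducedBy (hS.to_le hQS))
  obtain ⟨g₀, hg₀⟩ : ∃ g₀ : G, ∀ a ∈ A0, g₀ * a * g₀⁻¹ ∈ H0 := by
    obtain ⟨P, hPH, -⟩ := CfsgLib.LocalEven.exists_sylow_le hHc hHd
    obtain ⟨P', hP'⟩ := (hA0p.map π).exists_le_sylow
    obtain ⟨c, hc⟩ := MulAction.exists_smul_eq (G ⧸ (Cfsg.Inn E).subgroupOf G) P' P
    obtain ⟨g₁, hg₁⟩ := QuotientGroup.mk'_surjective ((Cfsg.Inn E).subgroupOf G) c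
    refine ⟨g₁, fun a ha => hPH ?_⟩
    subst hg₁
    rw [← hc, Sylow.coe_subgroup_smul, map_mul, map_mul, map_inv]
    exact ⟨π a, hP' ⟨a, ha, rfl⟩, rfl⟩
  obtain ⟨z₁, hz₁⟩ : ∃ z : Ze, z ≠ 1 := by
    haveI : Nontrivial Ze := Finite.one_lt_card_iff_nontrivial.1
      (by rw [hcardZe]; exact (Fact.out : p.Prime).one_lt)
    exact exists_ne 1
  have hall : ∀ g : G, ∀ a ∈ A0, g * a * g⁻¹ ∈ H0 := by
    intro g a ha
    set h : G := g₀⁻¹ * g with hh
    set M := Ze.map (h : MulAut E).toMonoidHom with hM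
    set K := Ze ⊔ M with hK
    set W := (CfsgLib.Fusion.CentralTorus.stab G K K le_rfl).subgroupOf G with hW
    have hWp : IsPGroup p W := CfsgLib.Fusion.isPGroup_subgroupOf (fun β hβ => hβ.1)
      (CfsgLib.Fusion.CentralTorus.isPGroup_of_chain (hS.to_le hES) _ (fun β hβ => hβ.2.1)
        (fun β hβ => hβ.2.2.1) (fun β hβ => hβ.2.2.2))
    obtain ⟨q, hq, hqE, hqm⟩ := hex ((h : MulAut E) z₁)
    obtain ⟨gq, hgq, hgA⟩ := hga q hq
    set a1 : G := ⟨CfsgLib.Fusion.conjAut gq, hAG hgA⟩ with ha1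
    have ha1m : ∀ y ∈ M, (a1 : MulAut E) y = y := by
      rintro _ ⟨x, hx, rfl⟩
      obtain ⟨i, hi⟩ := mem_zpowers_of_prime_card (g := z₁) (g' := (⟨x, hx⟩ : Ze)) hcardZe hz₁
      have hxi : x = (z₁ : E) ^ i := (congrArg Subtype.val hi).symm
      show (a1 : MulAut E) ((h : MulAut E) x) = (h : MulAut E) x
      rw [hxi, map_zpow, map_zpow]
      congr 1
      apply Subtype.ext
      show (gq : Ω) * _ * (gq : Ω)⁻¹ = _
      rw [hgq]
      exact hqm
    have ha1W : a1 ∈ W := by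
      have hK' : ∀ x ∈ K, (a1 : MulAut E) x = x := fun x hx =>
        (sup_le (fun y hy => hfixZ _ hgA y hy) ha1m : K ≤
          MonoidHom.eqLocus (a1 : MulAut E).toMonoidHom (MonoidHom.id E)) hx
      have hd : ∀ x, x⁻¹ * (a1 : MulAut E) x ∈ K := fun x => le_sup_left (a := Ze) (hcommA _ hgA x)
      exact ⟨a1.2, hK', fun x _ => hd x, hd⟩
    have ha1ne : g₀ * a1 * g₀⁻¹ ≠ 1 := by
      intro h1
      refine hqE (hgq ▸ CfsgLib.Fusion.mem_of_conjAut_inn hE.1 gq ?_)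
      rw [show CfsgLib.Fusion.conjAut gq = 1 from congrArg Subtype.val (conj_eq_one_iff.1 h1)]
      exact one_mem _
    set Wg := W.map (MulAut.conj g₀).toMonoidHom with hWg
    have hWgH : Wg ≤ H0 := by
      refine CfsgLib.LocalEven.le_of_meet_ne_bot hH0c (hWp.map _) fun hb => ha1ne ?_
      exact Subgroup.mem_bot.1 (hb.le ⟨⟨a1, ha1W, rfl⟩, hg₀ a1 hgA⟩)
    have hWgne : Wg ≠ ⊥ := fun hb => ha1ne (Subgroup.mem_bot.1 (hb.le ⟨a1, ha1W, rfl⟩))
    -- `h a h⁻¹` normalises `W`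
    set b : G := h * a * h⁻¹ with hb
    have hbK : ∀ x ∈ K, (b : MulAut E) x ∈ K := by
      intro x hx
      have hd : ∀ y : E, y⁻¹ * (b : MulAut E) y ∈ M := fun y =>
        ⟨((h : MulAut E)⁻¹ y)⁻¹ * (a : MulAut E) ((h : MulAut E)⁻¹ y), hcommA _ ha _, by
          show (h : MulAut E) (((h : MulAut E)⁻¹ y)⁻¹ * (a : MulAut E) ((h : MulAut E)⁻¹ y)) = _
          rw [map_mul, map_inv, MulAut.apply_inv_self, hb]
          simp only [Subgroup.coe_mul, Subgroup.coe_inv, MulAut.mul_apply]⟩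
      have e : (b : MulAut E) x = x * (x⁻¹ * (b : MulAut E) x) := (mul_inv_cancel_left _ _).symm
      rw [e]
      exact mul_mem hx (le_sup_right (a := Ze) (hd x))
    have hbW : ∀ w ∈ W, b * w * b⁻¹ ∈ W := by
      intro w hw
      obtain ⟨-, w1, -, w3⟩ := Subgroup.mem_subgroupOf.1 hw
      have hd : ∀ y : E, y⁻¹ * ((b * w * b⁻¹ : G) : MulAut E) y ∈ K := fun y => by
        have e : y⁻¹ * ((b * w * b⁻¹ : G) : MulAut E) y =
            (b : MulAut E) (((b : MulAut E)⁻¹ y)⁻¹ * (w : MulAut E) ((b : MulAut E)⁻¹ y)) := by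
          rw [map_mul, map_inv, MulAut.apply_inv_self]
          simp only [Subgroup.coe_mul, Subgroup.coe_inv, MulAut.mul_apply]
        rw [e]
        exact hbK _ (w3 _)
      refine ⟨(b * w * b⁻¹).2, fun x hx => ?_, fun x _ => hd x, hd⟩
      have := CfsgLib.Fusion.finite_le hES
      have hsurj : K.map (b : MulAut E).toMonoidHom = K :=
        Subgroup.eq_of_le_of_card_ge (Subgroup.map_le_iff_le_comap.2 fun y hy => hbK y hy)
          (le_of_eq (Subgroup.card_map_of_injective (MulEquiv.injective _)).symm)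
      obtain ⟨y, hy, rfl⟩ := hsurj.ge hx
      show ((b * w * b⁻¹ : G) : MulAut E) ((b : MulAut E) y) = (b : MulAut E) y
      simp only [Subgroup.coe_mul, Subgroup.coe_inv, MulAut.mul_apply, MulAut.inv_apply_self,
        w1 y hy]
    have hmem : g₀ * b * g₀⁻¹ ∈ Subgroup.normalizer (Wg : Set G) := by
      rw [Subgroup.mem_normalizer_iff_map_conj_eq]
      refine Subgroup.eq_of_le_of_card_ge ?_
        (le_of_eq (Subgroup.card_map_of_injective (MulEquiv.injective _)).symm)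
      rintro _ ⟨_, ⟨w, hw, rfl⟩, rfl⟩
      refine ⟨b * w * b⁻¹, hbW w hw, ?_⟩
      show g₀ * (b * w * b⁻¹) * g₀⁻¹ = g₀ * b * g₀⁻¹ * (g₀ * w * g₀⁻¹) * (g₀ * b * g₀⁻¹)⁻¹
      group
    have h1 := hH0c Wg hWgH (hWp.map _) hWgne hmem
    rwa [show g₀ * b * g₀⁻¹ = g * a * g⁻¹ by rw [hb, hh]; group] at h1
  -- the normal closure lies in `H0`, so `H0` is everything
  set N := Subgroup.normalClosure (A0 : Set G) with hNdef
  have hNH : N ≤ H0 := by
    rw [hNdef, Subgroup.normalClosure, Subgroup.closure_le]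
    intro x hx
    obtain ⟨a, ha, hax⟩ := Group.mem_conjugatesOfSet_iff.1 hx
    obtain ⟨c, rfl⟩ := isConj_iff.1 hax
    exact hall c a ha
  obtain ⟨q, hq, hqE, -⟩ := hex 1
  obtain ⟨gq, hgq, hgA⟩ := hga q hq
  have ha : (⟨_, hAG hgA⟩ : G) ∈ A0 := hgA
  have hne1 : (⟨_, hAG hgA⟩ : G) ≠ 1 := fun h1 => hqE (hgq ▸
    CfsgLib.Fusion.mem_of_conjAut_inn hE.1 gq (by
      rw [show CfsgLib.Fusion.conjAut gq = 1 from congrArg Subtype.val h1]; exact one_mem _))
  have hdvd : p ∣ Nat.card N := by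
    obtain ⟨k, hk⟩ := IsPGroup.iff_orderOf.1 hA0p ⟨_, ha⟩
    rw [Subgroup.orderOf_mk] at hk
    have h2 := Subgroup.orderOf_dvd_natCard _ (Subgroup.subset_normalClosure ha : _ ∈ N)
    rw [hk] at h2
    refine (dvd_pow_self p fun h0 => hne1 ?_).trans h2
    rw [← orderOf_eq_one_iff, hk, h0, pow_zero]
  obtain ⟨T⟩ : Nonempty (Sylow p N) := inferInstance
  have hT1 : (T : Subgroup N).map N.subtype ≠ ⊥ := fun hb => T.ne_bot_of_dvd_card hdvd
    ((Subgroup.map_eq_bot_iff_of_injective _ N.subtype_injective).1 hb)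
  have hTH : (T : Subgroup N).map N.subtype ≤ H0 := (Subgroup.map_subtype_le _).trans hNH
  have htop : H0 = ⊤ := top_le_iff.1 ((Sylow.normalizer_sup_eq_top T).ge.trans
    (sup_le (hH0c _ hTH (T.2.map _) hT1) hNH))
  refine hHne ?_
  rw [← Subgroup.map_comap_eq_self_of_surjective (QuotientGroup.mk'_surjective _) H]
  show H0.map π = ⊤
  rw [htop, Subgroup.map_top_of_surjective π (QuotientGroup.mk'_surjective _)]

end Cfsg.Agent.S5179
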