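import Cfsg.Statements.S5181
import Cfsg.Agent.Lib.Fusion.NormalEssential.Main

set_option autoImplicit false
universe u
open Cfsg
open CfsgLib.Fusion CfsgLib.Fusion.RankThree CfsgLib.Fusion.NormalEssential

namespace Cfsg.Agent.S5181

/-- Let p be an odd prime, S a finite p-group of sectional p-rank exactly 3, and F a saturated fusion system over S whose largest subgroup normal in F is trivial. Then either S is isomorphic to a Sylow p-subgroup of Sp(4,p), or some essential subgroup of F is not normal in S. -/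
theorem result {Ω : Type u} [Group Ω] {S : Subgroup Ω} [Finite S] (p : ℕ) [Fact p.Prime] (hp : Odd p) (hS : IsPGroup p S) (hsr : Cfsg.SectionalPRankLE p 3 ↥S ∧ ¬ Cfsg.SectionalPRankLE p 2 ↥S)
    (F : Cfsg.FusionSystem S) (hF : F.IsSaturated p) (hO : F.core = ⊥) :
    (∃ P : Sylow p ↥(Matrix.symplecticGroup (Fin 2) (ZMod p)),
        Nonempty (↥S ≃* ↥(P : Subgroup ↥(Matrix.symplecticGroup (Fin 2) (ZMod p))))) ∨
      ∃ E : Subgroup Ω, F.IsEssential p E ∧ ¬ S ≤ Subgroup.normalizer (E : Set Ω) := by
  have hp2 : p ≠ 2 := fun h => by subst h; exact absurd hp (by decide)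
  by_cases hn : ∀ P : Subgroup Ω, F.IsEssential p P → S ≤ Subgroup.normalizer (P : Set Ω)
  · left
    have hsec := secLE_of_sectional hsr.1
    obtain ⟨P, Q, hP, hQ, z, hz, hzP⟩ := exists_center_notMem hS hp2 hsec hsr.2 hF hO hn
    exact exists_sylow_of_shape hp2
      (shape_of_center hS hp2 hsec (lt_card hS hF hsr.2 hP) hF (family_of_core hS hF hO)
        (step hS hsec hF hP (hn P hP)) hQ hP hz hzP).1
  · right
    push Not at hn
    exact hn

end Cfsg.Agent.S5181
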