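import Cfsg.Statements.S5186
import Cfsg.Agent.Lib.Fusion.EssentialFlag
import Cfsg.Agent.Lib.PGroups.Extraspecial
import Cfsg.Agent.Lib.TwoGroups.Recognition

set_option autoImplicit false
universe u
open Cfsg

namespace Cfsg.Agent.S5186

open CfsgLib.Fusion CfsgLib.PGroups
open scoped commutatorElement

open scoped commutatorElement in
/-- An invariant flag from a power map which is a homomorphism. -/
theorem no_pow_flag {Ω : Type*} [Group Ω] {S : Subgroup Ω} [Finite S] {p : ℕ} [Fact p.Prime]
    (hS : IsPGroup p S) {F : Cfsg.FusionSystem S} (hF : F.IsSaturated p) {H : Subgroup Ω}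
    (hH : F.IsEssential p H) (hcard : Nat.card H = p ^ 3) (hmul : ∀ a b : H, (a * b) ^ p = a ^ p * b ^ p)
    (hpp : ∀ a : H, (a ^ p) ^ p = 1) : ∀ a : H, a ^ p = 1 := by
  have hp := (Fact.out : p.Prime)
  have := finite_le hH.1.1
  let f : H →* H :=
    { toFun := fun a => a ^ p
      map_one' := one_pow p
      map_mul' := hmul }
  by_contra hne
  push Not at hne
  obtain ⟨a₀, ha₀⟩ := hne
  have hle : f.range ≤ f.ker := by
    rintro _ ⟨a, rfl⟩
    exact hpp a
  have h := f.ker.card_mul_index
  rw [Subgroup.index_ker, hcard] at h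
  have hHp : IsPGroup p H := IsPGroup.of_card hcard
  obtain ⟨i, hi⟩ := (hHp.to_subgroup f.range).exists_card_eq
  obtain ⟨j, hj⟩ := (hHp.to_subgroup f.ker).exists_card_eq
  have hi0 : i ≠ 0 := fun h0 => ha₀ (by
    rw [h0, pow_zero] at hi
    exact Subgroup.mem_bot.1 (Subgroup.card_eq_one.1 hi ▸ ⟨a₀, rfl⟩))
  have hij : i ≤ j := (Nat.pow_le_pow_iff_right hp.one_lt).1
    (hi ▸ hj ▸ Subgroup.card_le_of_le hle)
  rw [hi, hj, ← pow_add] at h
  have hsum := Nat.pow_right_injective hp.two_le h
  have hi1 : i = 1 := by omega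
  exact essential_no_flag hS hF hH hcard f.range f.ker hle (by rw [hi, hi1, pow_one])
    (by rw [hj, show j = 2 by omega]) (fun σ e ⟨a, ha⟩ => ⟨σ a, by rw [← ha]; exact (map_pow σ a p).symm⟩)
    fun σ e he => by
      show σ e ^ p = 1
      rw [← map_pow, show e ^ p = 1 from he, map_one]

/-- Let F be a saturated fusion system over a finite p-group S and H an essential subgroup of order p³. Then H is elementary abelian, or p is odd and H is extraspecial of exponent p, or p = 2 and H is the quaternion group of order 8. -/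
theorem result {Ω : Type u} [Group Ω] {S : Subgroup Ω} [Finite S] (p : ℕ) [Fact p.Prime] (hS : IsPGroup p S)
    (F : Cfsg.FusionSystem S) (hF : F.IsSaturated p) (H : Subgroup Ω) (hH : F.IsEssential p H) (hcard : Nat.card H = p ^ 3) :
    Cfsg.IsElementaryAbelian p H ∨ (Odd p ∧ Cfsg.IsExtraspecial p ↥H ∧ ∀ x ∈ H, x ^ p = 1) ∨
      (p = 2 ∧ Nonempty (↥H ≃* QuaternionGroup 2)) := by
  classical
  have hpp := (Fact.out : p.Prime)
  have := CfsgLib.Fusion.finite_le hH.1.1
  have hHp : IsPGroup p H := hS.to_le hH.1.1
  have hncyc := essential_not_cyclic hS hF hH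
  have hsq : ∀ a : H, (a ^ p) ^ p = 1 := fun a => by
    obtain ⟨k, hk⟩ := IsPGroup.iff_orderOf.1 hHp a
    have hd : p ^ k ∣ p ^ 3 := hk ▸ hcard ▸ orderOf_dvd_natCard a
    have hk3 := (Nat.pow_dvd_pow_iff_le_right hpp.one_lt).1 hd
    have hk2 : k ≤ 2 := by
      by_contra h
      exact hncyc (isCyclic_of_orderOf_eq_card a (by rw [hk, hcard, show k = 3 by omega]))
    rw [← pow_mul, ← pow_two]
    exact orderOf_dvd_iff_pow_eq_one.1 (hk ▸ pow_dvd_pow p hk2)
  by_cases hab : IsMulCommutative H
  · refine Or.inl ⟨hab, fun a ha => ?_⟩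
    exact congrArg Subtype.val (no_pow_flag hS hF hH hcard
      (fun a b => (show Commute a b from hab.is_comm.comm a b).mul_pow p) hsq ⟨a, ha⟩)
  have hEx : Cfsg.IsExtraspecial p H := isExtraspecial_of_card_cube hab hcard
  rcases hpp.eq_two_or_odd' with rfl | hodd
  · refine Or.inr (Or.inr ⟨rfl, ?_⟩)
    set C := Subgroup.closure {a : H | orderOf a = 4} with hC
    have h4 : ∃ a : H, orderOf a = 4 := by
      by_contra hno
      push Not at hno
      refine hab ⟨⟨fun a b => ?_⟩⟩
      have h2 : ∀ a : H, a * a = 1 := fun a => by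
        have h : a ^ 2 = 1 := by
          by_contra h2
          have := orderOf_eq_prime_pow (p := 2) (n := 1) (x := a) (by simpa using h2)
            (by show a ^ (2 ^ 2) = 1; rw [show 2 ^ 2 = 2 * 2 from rfl, pow_mul]; exact hsq a)
          exact hno a this
        rwa [pow_two] at h
      calc a * b = (a * b)⁻¹ := (inv_eq_of_mul_eq_one_right (h2 _)).symm
        _ = b * a := by rw [mul_inv_rev, inv_eq_of_mul_eq_one_right (h2 a), inv_eq_of_mul_eq_one_right (h2 b)]
    obtain ⟨a, ha⟩ := h4
    by_cases hcom : ∀ b : H, orderOf b = 4 → Commute a b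
    · exfalso
      have hpow2 : ∀ x : H, x ^ 2 ∈ Subgroup.center H := IsExtraspecial.pow_mem_center hEx
      have hCle : C ≤ Subgroup.zpowers a := by
        have hcen : C ≤ Subgroup.centralizer ({a} : Set H) :=
          (Subgroup.closure_le _).2 fun b hb => Subgroup.mem_centralizer_singleton_iff.2 (hcom b hb).eq.symm
        refine hcen.trans ?_
        refine (Subgroup.eq_of_le_of_card_ge
          (Subgroup.zpowers_le.2 (Subgroup.mem_centralizer_singleton_iff.2 rfl)) ?_).ge
        rw [Nat.card_zpowers, ha]
        have h1 := (Subgroup.centralizer ({a} : Set H)).card_mul_index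
        have hne : (Subgroup.centralizer ({a} : Set H)).index ≠ 1 := fun h => by
          rw [Subgroup.index_eq_one] at h
          have hac : a ∈ Subgroup.center H := Subgroup.mem_center_iff.2 fun g =>
            Subgroup.mem_centralizer_singleton_iff.1 (h ▸ Subgroup.mem_top g)
          have := Subgroup.orderOf_coe (⟨a, hac⟩ : Subgroup.center H) ▸
            orderOf_dvd_natCard (⟨a, hac⟩ : Subgroup.center H)
          rw [ha, IsExtraspecial.card_center hEx] at this
          omega
        have h0 := Subgroup.index_ne_zero_of_finite (H := Subgroup.centralizer ({a} : Set H))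
        rw [hcard] at h1
        have h2 : 2 ≤ (Subgroup.centralizer ({a} : Set H)).index := by omega
        have h3 := Nat.mul_le_mul_left (Nat.card (Subgroup.centralizer ({a} : Set H))) h2
        rw [show (2 : ℕ) ^ 3 = 8 from rfl] at h1
        omega
      have hC4 : Nat.card C = 4 := by
        have h1 : Subgroup.zpowers a ≤ C := Subgroup.zpowers_le.2 (Subgroup.subset_closure ha)
        rw [le_antisymm hCle h1, Nat.card_zpowers, ha]
      have hZC : Subgroup.center H ≤ C := by
        have hz : a ^ 2 ∈ Subgroup.center H := hpow2 a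
        have hle : Subgroup.zpowers (a ^ 2) ≤ Subgroup.center H := Subgroup.zpowers_le.2 hz
        have : Nat.card (Subgroup.zpowers (a ^ 2)) = 2 := by
          rw [Nat.card_zpowers, orderOf_pow' a (by norm_num), ha]; norm_num
        rw [← Subgroup.eq_of_le_of_card_ge hle (by rw [this, IsExtraspecial.card_center hEx])]
        exact Subgroup.zpowers_le.2 (C.pow_mem (Subgroup.subset_closure (k := {a : H | orderOf a = 4}) ha) 2)
      refine essential_no_flag hS hF hH hcard (Subgroup.center H) C hZC
        (IsExtraspecial.card_center hEx) (by rw [hC4]; norm_num) (fun σ e he => ?_) fun σ e he => ?_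
      · exact (Subgroup.characteristic_iff_map_le.1 inferInstance σ) ⟨e, he, rfl⟩
      · have : C.map σ.toMonoidHom ≤ C := by
          rw [hC, MonoidHom.map_closure]
          refine Subgroup.closure_mono ?_
          rintro _ ⟨x, hx, rfl⟩
          exact (orderOf_injective σ.toMonoidHom σ.injective x).trans hx
        exact this ⟨e, he, rfl⟩
    · push Not at hcom
      obtain ⟨b, hb, hab'⟩ := hcom
      obtain ⟨z, hz, hz1⟩ : ∃ z ∈ Subgroup.center H, z ≠ 1 := by
        by_contra h
        push Not at h
        have := IsExtraspecial.card_center hEx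
        rw [(Subgroup.eq_bot_iff_forall _).2 h, Subgroup.card_bot] at this
        omega
      have huniq : ∀ y ∈ Subgroup.center H, y ≠ 1 → y = z := fun y hy hy1 => by
        obtain ⟨u, v, -, huv⟩ := Nat.card_eq_two_iff.1 (IsExtraspecial.card_center hEx)
        have hmem : ∀ w : Subgroup.center H, w = u ∨ w = v := fun w => by
          have : w ∈ ({u, v} : Set (Subgroup.center H)) := huv ▸ Set.mem_univ w
          simpa using this
        rcases hmem 1 with h1 | h1 <;> rcases hmem ⟨y, hy⟩ with h2 | h2 <;>
          rcases hmem ⟨z, hz⟩ with h3 | h3 <;>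
          first
          | exact congrArg Subtype.val (h2.trans h3.symm)
          | exact absurd (congrArg Subtype.val (h2.trans h1.symm)) hy1
          | exact absurd (congrArg Subtype.val (h3.trans h1.symm)) hz1
      have hsq' : ∀ c : H, orderOf c = 4 → c ^ 2 = z := fun c hc =>
        huniq _ (IsExtraspecial.pow_mem_center hEx c) fun h => by
          have := orderOf_dvd_of_pow_eq_one h
          rw [hc] at this
          omega
      have hba : b ∉ Subgroup.zpowers a := fun h => by
        obtain ⟨k, rfl⟩ := h
        exact hab' (Commute.self_zpow a k)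
      refine CfsgLib.TwoGroups.nonempty_mulEquiv_quaternionGroup (n := 2) (a := a) (b := b)
        (by rw [ha]) (by rw [← pow_two, hsq' b hb, hsq' a ha]) hba ?_ (by rw [hcard]; norm_num)
      have hc : ⁅b, a⁆ = z := huniq _ (IsExtraspecial.comm_mem hEx b a) fun h =>
        hab' (commutatorElement_eq_one_iff_mul_comm.1 h).symm
      rw [show b * a * b⁻¹ = ⁅b, a⁆ * a by rw [commutatorElement_def]; group, hc, ← hsq' a ha]
      refine eq_inv_of_mul_eq_one_left ?_
      rw [← pow_succ, ← pow_succ, show 2 + 1 + 1 = 4 from rfl, ← ha]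
      exact pow_orderOf_eq_one a
  · refine Or.inr (Or.inl ⟨hodd, hEx, fun x hx => ?_⟩)
    refine congrArg Subtype.val (no_pow_flag hS hF hH hcard (fun a b => ?_) hsq ⟨x, hx⟩)
    exact CfsgLib.PGroups.mul_pow_of_central_odd (IsExtraspecial.comm_mem hEx _ _) hodd
      (IsExtraspecial.comm_pow hEx _ _)

end Cfsg.Agent.S5186
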