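import Cfsg.Statements.S5187
import Cfsg.Agent.Lib.Fusion.SupersolubleChain
import Cfsg.Agent.Lib.Fusion.RankTwoResistant
import Cfsg.Agent.Lib.Fusion.EssentialFlag

set_option autoImplicit false
universe u
open Cfsg

namespace Cfsg.Agent.S5187

open CfsgLib.Fusion

/-- An abelian group with small Frattini quotient is metacyclic. -/
theorem isMetacyclic_of_index {X : Type*} [Group X] [Finite X] {p : ℕ} [Fact p.Prime]
    (hX : IsPGroup p X) (hc : ∀ a b : X, a * b = b * a) (h2 : (frattini X).index ≤ p ^ 2) :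
    Cfsg.IsMetacyclic X := by
  have hp : p.Prime := Fact.out
  have hnorm : ∀ H : Subgroup X, H.Normal := fun H => ⟨fun x hx g => by
    rw [hc g x, mul_inv_cancel_right]; exact hx⟩
  by_cases htop : frattini X = ⊤
  · have hbot : (⊥ : Subgroup X) = ⊤ := frattini_nongenerating (by rw [bot_sup_eq, htop])
    have : Subsingleton X := Subgroup.subsingleton_iff.1 ⟨fun A B => by
      rw [eq_bot_iff.2 (hbot ▸ le_top : A ≤ ⊥), eq_bot_iff.2 (hbot ▸ le_top : B ≤ ⊥)]⟩
    exact ⟨⊥, inferInstance, inferInstance, isCyclic_of_subsingleton⟩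
  obtain ⟨a, -, ha⟩ := SetLike.exists_of_lt (lt_top_iff_ne_top.2 htop)
  have := hnorm (Subgroup.zpowers a)
  refine ⟨Subgroup.zpowers a, inferInstance, Subgroup.isCyclic_zpowers a, ?_⟩
  set M := frattini X ⊔ Subgroup.zpowers a with hM
  have := hnorm M
  have hlt : frattini X < M := left_lt_sup.2 fun h => ha (h (Subgroup.mem_zpowers a))
  have hidx : M.index ≤ p := by
    obtain ⟨k, hk⟩ := hX.index (frattini X)
    obtain ⟨m, hm⟩ := hX.index M
    have h1 := Subgroup.index_strictAnti hlt
    rw [hk, hm] at h1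
    rw [hk] at h2
    have h3 := (Nat.pow_lt_pow_iff_right hp.one_lt).1 h1
    have h4 := (Nat.pow_le_pow_iff_right hp.one_lt).1 h2
    rw [hm]
    exact (Nat.pow_le_pow_right hp.pos (show m ≤ 1 by omega)).trans_eq (pow_one p)
  obtain ⟨b, hb⟩ : ∃ b : X, M ⊔ Subgroup.zpowers b = ⊤ := by
    by_cases hMt : M = ⊤
    · exact ⟨1, by rw [hMt, top_sup_eq]⟩
    obtain ⟨b, -, hb⟩ := SetLike.exists_of_lt (lt_top_iff_ne_top.2 hMt)
    refine ⟨b, Subgroup.index_eq_one.1 ?_⟩
    obtain ⟨m, hm⟩ := hX.index (M ⊔ Subgroup.zpowers b)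
    have h1 := (Subgroup.index_strictAnti (left_lt_sup.2 fun h => hb (h (Subgroup.mem_zpowers b))))
    rw [hm] at h1 ⊢
    rcases Nat.eq_zero_or_pos m with h0 | h0
    · rw [h0, pow_zero]
    · exact absurd (lt_of_le_of_lt (Nat.le_self_pow h0.ne' p) h1) (by omega)
  have hK : Subgroup.zpowers a ⊔ Subgroup.zpowers b = ⊤ := frattini_nongenerating (by
    rw [sup_comm, ← sup_assoc]; exact hb)
  refine ⟨⟨(b : X ⧸ Subgroup.zpowers a), fun q => ?_⟩⟩
  obtain ⟨x, rfl⟩ := QuotientGroup.mk_surjective q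
  have hx : x ∈ Subgroup.zpowers a ⊔ Subgroup.zpowers b := hK ▸ Subgroup.mem_top x
  obtain ⟨u, hu, v, hv, rfl⟩ := Subgroup.mem_sup_of_normal_left.1 hx
  obtain ⟨k, rfl⟩ := Subgroup.mem_zpowers_iff.1 hv
  refine Subgroup.mem_zpowers_iff.2 ⟨k, ?_⟩
  rw [QuotientGroup.mk_mul, (QuotientGroup.eq_one_iff u).2 hu, one_mul, QuotientGroup.mk_zpow]

/-- Let F be a saturated fusion system over a finite p-group S and H an abelian essential subgroup that can be generated by two elements (its Frattini quotient has order at most p²). Then H is elementary abelian of order p², or p ≤ 3 and H is homocyclic of rank two, that is isomorphic to C_{pᵏ} × C_{pᵏ} for some k. -/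
theorem result {Ω : Type u} [Group Ω] {S : Subgroup Ω} [Finite S] (p : ℕ) [Fact p.Prime] (hS : IsPGroup p S)
    (F : Cfsg.FusionSystem S) (hF : F.IsSaturated p) (H : Subgroup Ω) (hH : F.IsEssential p H) (hab : IsMulCommutative ↥H) (hrk : (frattini ↥H).index ≤ p ^ 2) :
    (Cfsg.IsElementaryAbelian p H ∧ Nat.card H = p ^ 2) ∨
      (p ≤ 3 ∧ ∃ k : ℕ, Nonempty (↥H ≃* Multiplicative (ZMod (p ^ k) × ZMod (p ^ k)))) := by
  have hp : p.Prime := Fact.out
  have hHS := hH.1.1
  have := CfsgLib.Fusion.finite_le hHS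
  have hHp : IsPGroup p H := hS.to_le hHS
  have hc : ∀ a b : H, a * b = b * a := fun a b => hab.is_comm.comm a b
  have hne := isEssential_ne_self hS hF hH
  have hr := IsEssential.isRadical hS hH
  have : Nontrivial H := by
    by_contra h
    rw [not_nontrivial_iff_subsingleton] at h
    exact essential_not_cyclic hS hF hH isCyclic_of_subsingleton
  by_cases hh : ∃ n : ℕ, 0 < n ∧
      Nonempty (H ≃* Multiplicative (ZMod (p ^ n)) × Multiplicative (ZMod (p ^ n)))
  · obtain ⟨n, hn, ⟨e⟩⟩ := hh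
    let e' : H ≃* Multiplicative (ZMod (p ^ n) × ZMod (p ^ n)) :=
      e.trans (MulEquiv.prodMultiplicative _ _).symm
    rcases Nat.lt_or_ge 1 n with hn2 | hn1
    · by_cases hp3 : p ≤ 3
      · exact Or.inr ⟨hp3, n, ⟨e'⟩⟩
      exfalso
      have hp5 : 5 ≤ p := by
        rcases Nat.lt_or_ge p 5 with h | h
        · have h4 : p = 4 := by omega
          exact absurd (h4 ▸ hp) (by norm_num)
        · exact h
      obtain ⟨g, hgR, hgp⟩ := exists_step hS hHS hne
      letI : CommGroup H := { (inferInstance : Group H) with mul_comm := hc }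
      have hu : conjAut g ^ p = 1 := MulEquiv.ext fun x => Subtype.ext (by
        rw [conjAut_pow, MulAut.one_apply]
        have h1 : ((g : Ω) ^ p) * x = x * (g : Ω) ^ p := congrArg Subtype.val (hc ⟨_, hgp⟩ x)
        rw [h1, mul_inv_cancel_right])
      have hker : ∀ x : H, x ^ p = 1 → ∃ y, x = y ^ p := fun x hx => by
        obtain ⟨w, hw⟩ := homocyclic_root (n := n) hn2 (e x) (by rw [← map_pow, hx, map_one])
        exact ⟨e.symm w, by rw [← map_pow, ← hw, e.symm_apply_apply]⟩
      exact not_frattiniFix hS hH.1 hr hgR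
        (homocyclic_stabilizes hp5 hHp hrk hker (conjAut g) hu)
    · have h1 : n = 1 := by omega
      subst h1
      refine Or.inl ⟨⟨hab, fun a ha => ?_⟩, ?_⟩
      · have key : ∀ z : Multiplicative (ZMod (p ^ 1)), z ^ p = 1 := fun z => by
          apply Multiplicative.toAdd.injective
          rw [toAdd_pow, toAdd_one, nsmul_eq_mul, show (p : ZMod (p ^ 1)) = 0 by
            rw [ZMod.natCast_eq_zero_iff, pow_one], zero_mul]
        exact congrArg Subtype.val (e.injective (show e (⟨a, ha⟩ ^ p) = e 1 by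
          rw [map_pow, map_one]; exact Prod.ext (key _) (key _)))
      · rw [Nat.card_congr e.toEquiv, Nat.card_prod, Nat.card_congr Multiplicative.toAdd,
          Nat.card_zmod, pow_one, pow_two]
  · exfalso
    obtain ⟨M, hMc, hMi⟩ := exists_char_index_p_abelian hHp
      (isMetacyclic_of_index hHp hc hrk) hc hh
    exact no_char_line hS hH.1 hr hne hMi (frattini_le_of_index hMi) hrk

end Cfsg.Agent.S5187
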