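import Cfsg.Statements.S5182
import Cfsg.Agent.Lib.Fusion.NormalEssential.Main
import Cfsg.Agent.Lib.Fusion.Pearl.Main
import Cfsg.Agent.S5186
import Cfsg.Agent.S5187

set_option autoImplicit false
universe u
open Cfsg
open CfsgLib.Fusion CfsgLib.Fusion.RankThree CfsgLib.Fusion.NormalEssential

namespace Cfsg.Agent.S5182

/-- Let p ≥ 5 be a prime, S a finite p-group of sectional p-rank exactly 3, and F a saturated fusion system over S whose largest subgroup normal in F is trivial. Then F has an essential subgroup that is either elementary abelian of order p² or extraspecial of order p³ and exponent p. -/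
theorem result {Ω : Type u} [Group Ω] {S : Subgroup Ω} [Finite S] (p : ℕ) [Fact p.Prime] (hp : 5 ≤ p) (hS : IsPGroup p S) (hsr : Cfsg.SectionalPRankLE p 3 ↥S ∧ ¬ Cfsg.SectionalPRankLE p 2 ↥S)
    (F : Cfsg.FusionSystem S) (hF : F.IsSaturated p) (hO : F.core = ⊥) :
    ∃ E : Subgroup Ω, (F.IsEssential p E ∧ ((Cfsg.IsElementaryAbelian p E ∧ Nat.card E = p ^ 2) ∨
        (Cfsg.IsExtraspecial p ↥E ∧ Nat.card E = p ^ 3 ∧ ∀ x ∈ E, x ^ p = 1))) := by
  have hp' := (Fact.out : p.Prime)
  have hp2 : p ≠ 2 := by omega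
  have hsec := secLE_of_sectional hsr.1
  have extra : ∀ E : Subgroup Ω, F.IsEssential p E → Nat.card E = p ^ 3 → ¬ IsMulCommutative E →
      Cfsg.IsExtraspecial p ↥E ∧ Nat.card E = p ^ 3 ∧ ∀ x ∈ E, x ^ p = 1 := by
    intro E hE hc hn
    rcases Cfsg.Agent.S5186.result p hS F hF E hE hc with h | h | h
    · exact absurd h.1 hn
    · exact ⟨h.2.1, hc, h.2.2⟩
    · exact absurd h.1 hp2
  by_cases hn : ∀ P : Subgroup Ω, F.IsEssential p P → S ≤ Subgroup.normalizer (P : Set Ω)
  · obtain ⟨P, Q, hP, hQ, z, hz, hzP⟩ := exists_center_notMem hS hp2 hsec hsr.2 hF hO hn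
    obtain ⟨-, -, -, hc, hnc⟩ :=
      shape_of_center hS hp2 hsec (lt_card hS hF hsr.2 hP) hF (family_of_core hS hF hO)
        (step hS hsec hF hP (hn P hP)) hQ hP hz hzP
    exact ⟨P, hP, Or.inr (extra P hP hc hnc)⟩
  · push Not at hn
    obtain ⟨P, hP, hPn⟩ := hn
    have hPS := hP.1.1
    have := finite_le hPS
    have h3 := index_frattini_le hS hsec hPS
    have h2 : (frattini P).index ≤ p ^ 2 := by
      obtain ⟨k, hk⟩ := (hS.to_le hPS).index (frattini P)
      rw [hk] at h3 ⊢
      have := (Nat.pow_le_pow_iff_right hp'.one_lt).1 h3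
      have hk3 : k ≠ 3 := fun h =>
        hPn (essential_normal hS hsr.1 hF hP hp (by rw [hk, h]))
      exact Nat.pow_le_pow_right hp'.pos (by omega)
    refine ⟨P, hP, ?_⟩
    by_cases hab : IsMulCommutative P
    · rcases Cfsg.Agent.S5187.result p hS F hF P hP hab h2 with h | h
      · exact Or.inl h
      · omega
    · exact Or.inr (extra P hP
        (CfsgLib.Fusion.Pearl.card_of_nonabelian hS hp hsec hF hP h2 hPn hab) hab)

end Cfsg.Agent.S5182
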