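import Cfsg.Statements.S5185
import Cfsg.Agent.Lib.Fusion.EssentialFlag
import Cfsg.Agent.Lib.OddLocal.RankTwoAut
import Cfsg.Agent.Lib.Classical.SL2Structure
import Cfsg.Agent.Lib.Classical.SL2Pair

set_option autoImplicit false
universe u
open Cfsg

namespace Cfsg.Agent.S5185

open CfsgLib.Fusion Matrix

/-- A subgroup of `SL(2, p)` with two Sylow `p`-subgroups contains an isomorphic copy of it. -/
theorem exists_full {p : ℕ} [hp : Fact p.Prime] (H : Subgroup (SpecialLinearGroup (Fin 2) (ZMod p)))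
    (hH : 1 < Nat.card (Sylow p H)) :
    ∃ ψ : SpecialLinearGroup (Fin 2) (ZMod p) →* SpecialLinearGroup (Fin 2) (ZMod p),
      Function.Injective ψ ∧ ψ.range ≤ H := by
  by_cases h2 : p = 2
  swap
  · exact CfsgLib.Classical.Two.exists_sl_two_prime_of_two_sylows h2 H hH
  subst h2
  refine ⟨MonoidHom.id _, Function.injective_id, ?_⟩
  have htop : H = ⊤ := by
    have hcard : Nat.card (SpecialLinearGroup (Fin 2) (ZMod 2)) = 6 := by
      rw [CfsgLib.Classical.SL2Pair.card_SL_two, ZMod.card]; norm_num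
    obtain ⟨P⟩ := (inferInstance : Nonempty (Sylow 2 H))
    have h1 : Nat.card (Sylow 2 H) ∣ 6 :=
      P.card_dvd_index.trans ((P : Subgroup H).index_dvd_card.trans
        (hcard ▸ Subgroup.card_subgroup_dvd_card H))
    have h2 : Nat.card (Sylow 2 H) % 2 = 1 := card_sylow_modEq_one 2 H
    have h3 := P.card_dvd_index
    have h4 := (P : Subgroup H).card_mul_index
    have hP : 2 ∣ Nat.card (P : Subgroup H) := by
      obtain ⟨k, hk⟩ := P.isPGroup'.exists_card_eq
      rw [hk]
      refine dvd_pow_self 2 fun h0 => ?_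
      rw [h0, pow_zero, Subgroup.card_eq_one] at hk
      have : ∀ Q : Sylow 2 H, Q = P := fun Q => Sylow.ext (by
        obtain ⟨j, hj⟩ := Q.isPGroup'.exists_card_eq
        have hc := Q.card_eq_multiplicity.trans P.card_eq_multiplicity.symm
        rw [hk, Subgroup.card_bot, Subgroup.card_eq_one] at hc
        rw [hc, hk])
      haveI hnt := Finite.one_lt_card_iff_nontrivial.1 hH
      obtain ⟨A, B, hAB⟩ := exists_pair_ne (Sylow 2 H)
      exact hAB ((this A).trans (this B).symm)
    have h6 : Nat.card (Sylow 2 H) = 3 := by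
      have hle := Nat.le_of_dvd (by norm_num) h1
      interval_cases hn : Nat.card (Sylow 2 H) <;> omega
    rw [h6] at h3
    have h7 : 2 * 3 ∣ Nat.card H := h4 ▸ Nat.mul_dvd_mul hP h3
    refine Subgroup.eq_top_of_le_card _ ?_
    rw [hcard]
    exact Nat.le_of_dvd Nat.card_pos h7
  rw [htop]
  exact le_top

/-- Let F be a saturated fusion system over a finite p-group S and H an essential subgroup of order p². Then H is elementary abelian (isomorphic to C_p × C_p) and its F-automorphism group contains a subgroup isomorphic to SL(2,p). -/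
theorem result {Ω : Type u} [Group Ω] {S : Subgroup Ω} [Finite S] (p : ℕ) [Fact p.Prime] (hS : IsPGroup p S)
    (F : Cfsg.FusionSystem S) (hF : F.IsSaturated p) (H : Subgroup Ω) (hH : F.IsEssential p H) (hcard : Nat.card H = p ^ 2) :
    Cfsg.IsElementaryAbelian p H ∧
      ∃ K : Subgroup ↥(F.autGroup H), Nonempty (↥K ≃* Matrix.SpecialLinearGroup (Fin 2) (ZMod p)) := by
  classical
  have hpp := (Fact.out : p.Prime)
  have hHS := hH.1.1
  have := CfsgLib.Fusion.finite_le hHS
  have := CfsgLib.Fusion.finite_mulAut_of_le (S := S) hHS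
  have hab : IsMulCommutative H := IsPGroup.isMulCommutative_of_card_eq_prime_sq hcard
  have hexp : ∀ a : H, a ^ p = 1 := fun a => by
    obtain ⟨k, hk⟩ := IsPGroup.iff_orderOf.1 (hS.to_le hHS) a
    have hk2 := (Nat.pow_dvd_pow_iff_le_right hpp.one_lt).1 (hk ▸ hcard ▸ orderOf_dvd_natCard a)
    have hk1 : k ≤ 1 := by
      by_contra h
      exact essential_not_cyclic hS hF hH
        (isCyclic_of_orderOf_eq_card a (by rw [hk, hcard, show k = 2 by omega]))
    refine orderOf_dvd_iff_pow_eq_one.1 (hk ▸ ?_)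
    simpa using pow_dvd_pow p hk1
  refine ⟨⟨hab, fun a ha => congrArg Subtype.val (hexp ⟨a, ha⟩)⟩, ?_⟩
  letI : CommGroup H := { (inferInstance : Group H) with mul_comm := hab.is_comm.comm }
  obtain ⟨χ, hχ⟩ := CfsgLib.OddLocal.RankTwoAut.exists_hom_GL (p := p) (V := H) hexp hcard
  set Γ := F.autGroup H with hΓ
  let ρ : Γ →* GL (Fin 2) (ZMod p) := χ.comp Γ.subtype
  let d : Γ →* (ZMod p)ˣ := GeneralLinearGroup.det.comp ρ
  let ι : d.ker →* SpecialLinearGroup (Fin 2) (ZMod p) :=
    { toFun := fun g => ⟨((ρ g : GL (Fin 2) (ZMod p)) : Matrix (Fin 2) (Fin 2) (ZMod p)),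
        congrArg Units.val (MonoidHom.mem_ker.1 g.2)⟩
      map_one' := Subtype.ext (by simp)
      map_mul' := fun g h => Subtype.ext (congrArg Units.val (map_mul ρ (g : Γ) h)) }
  have hι : Function.Injective ι := fun g h e => Subtype.ext (Γ.subtype_injective
    (hχ (Units.ext (congrArg Subtype.val e))))
  have hpker : ∀ g : Γ, ∀ k : ℕ, g ^ p ^ k = 1 → g ∈ d.ker := fun g k hk => by
    refine MonoidHom.mem_ker.2 (orderOf_eq_one_iff.1 (Nat.dvd_one.1 ?_))
    have h1 : orderOf (d g) ∣ p ^ k := orderOf_dvd_of_pow_eq_one (by rw [← map_pow, hk, map_one])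
    have h2 : orderOf (d g) ∣ p - 1 := by
      have := orderOf_dvd_natCard (d g)
      rwa [Nat.card_eq_fintype_card, ZMod.card_units] at this
    have hco : Nat.Coprime (p ^ k) (p - 1) := Nat.Coprime.pow_left _
      ((hpp.coprime_iff_not_dvd).2 fun h => by
        have := hpp.two_le
        have := Nat.le_of_dvd (by omega) h
        omega)
    exact hco ▸ Nat.dvd_gcd h1 h2
  have hsyl : 1 < Nat.card (Sylow p ι.range) := by
    by_contra hle
    have : Subsingleton (Sylow p ι.range) := Finite.card_le_one_iff_subsingleton.1 (not_lt.1 hle)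
    obtain ⟨P⟩ := (inferInstance : Nonempty (Sylow p ι.range))
    let M : Subgroup Γ := ((P : Subgroup ι.range).comap ι.rangeRestrict).map d.ker.subtype
    have hall : ∀ g : Γ, ∀ k : ℕ, g ^ p ^ k = 1 → g ∈ M := by
      intro g k hk
      refine ⟨⟨g, hpker g k hk⟩, ?_, rfl⟩
      set y := ι.rangeRestrict ⟨g, hpker g k hk⟩
      have hy : y ^ p ^ k = 1 := by
        rw [← map_pow, show (⟨g, hpker g k hk⟩ : d.ker) ^ p ^ k = 1 from Subtype.ext hk, map_one]
      obtain ⟨j, -, hj⟩ := (Nat.dvd_prime_pow hpp).1 (orderOf_dvd_of_pow_eq_one hy)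
      obtain ⟨T, hT⟩ := (IsPGroup.of_card (p := p) (G := Subgroup.zpowers y) (n := j)
        (by rw [Nat.card_zpowers, hj])).exists_le_sylow
      exact Subsingleton.elim T P ▸ hT (Subgroup.mem_zpowers y)
    have hMp : IsPGroup p M :=
      (P.isPGroup'.comap_of_injective ι.rangeRestrict
        (fun a b h => hι (congrArg Subtype.val h))).map _
    have hMn : M.Normal := ⟨fun m hm g => by
      obtain ⟨k, hk⟩ := hMp ⟨m, hm⟩
      refine hall _ k ?_
      rw [conj_pow, show m ^ p ^ k = 1 from congrArg Subtype.val hk, mul_one, mul_inv_cancel]⟩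
    obtain ⟨g, hg, hgH⟩ := exists_mem_normalizerIn_not_mem hS
      (lt_of_le_of_ne hHS (isEssential_ne_self hS hF hH))
    refine hgH (mem_of_conjAut_inn hH.1 ⟨g, hg⟩ ?_)
    have hmem := autInducedBy_le_autGroup (F := F) hHS
      (conjAut_mem (⟨g, hg⟩ : Cfsg.FusionSystem.normalizerIn S H))
    refine (isRadical_iff_le hS hHS).1 (IsEssential.isRadical hS hH) (CfsgLib.Core.le_pCore hMp
      (show (⟨_, hmem⟩ : Γ) ∈ M from ?_))
    obtain ⟨k, hk⟩ := (isPGroup_autInducedBy hS) ⟨_, conjAut_mem (⟨g, hg⟩ : Cfsg.FusionSystem.normalizerIn S H)⟩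
    exact hall _ k (Subtype.ext (congrArg Subtype.val hk :))
  obtain ⟨ψ, hψ, hψr⟩ := exists_full ι.range hsyl
  let θ : SpecialLinearGroup (Fin 2) (ZMod p) →* Γ :=
    d.ker.subtype.comp ((MonoidHom.ofInjective hι).symm.toMonoidHom.comp
      (ψ.codRestrict ι.range fun x => hψr ⟨x, rfl⟩))
  have hθ : Function.Injective θ := by
    intro a b h
    have h1 := (MonoidHom.ofInjective hι).symm.injective (d.ker.subtype_injective h)
    exact hψ (congrArg Subtype.val h1)
  exact ⟨θ.range, ⟨(MonoidHom.ofInjective hθ).symm⟩⟩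

end Cfsg.Agent.S5185
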