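import Cfsg.Statements.S5189
import Cfsg.Agent.Lib.Fusion.TwoEssential.Main
import Cfsg.Agent.S5186

set_option autoImplicit false
universe u
open Cfsg
open CfsgLib.Fusion CfsgLib.Fusion.RankThree CfsgLib.Fusion.NormalEssential CfsgLib.Fusion.TwoEssential

namespace Cfsg.Agent.S5189

/-- Let p be an odd prime, S a finite p-group of sectional p-rank exactly 3, and F a saturated fusion system over S whose largest subgroup normal in F is trivial. Suppose S has two distinct essential subgroups E₁, E₂ each of which is invariant under every F-automorphism of S. Then S is isomorphic to a Sylow p-subgroup of Sp(4,p), and one of E₁, E₂ is extraspecial of order p³ and exponent p while the other is elementary abelian of order p³. -/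
theorem result {Ω : Type u} [Group Ω] {S : Subgroup Ω} [Finite S] (p : ℕ) [Fact p.Prime] (hp : Odd p) (hS : IsPGroup p S)
    (hsr : Cfsg.SectionalPRankLE p 3 ↥S ∧ ¬ Cfsg.SectionalPRankLE p 2 ↥S)
    (F : Cfsg.FusionSystem S) (hF : F.IsSaturated p) (hO : F.core = ⊥)
    (E₁ E₂ : Subgroup Ω) (hne : E₁ ≠ E₂) (hE₁ : F.IsEssential p E₁) (hE₂ : F.IsEssential p E₂)
    (hc₁ : (∀ φ : MulAut ↥S, φ ∈ F.autGroup S → (E₁.subgroupOf S).map φ.toMonoidHom = E₁.subgroupOf S))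
    (hc₂ : (∀ φ : MulAut ↥S, φ ∈ F.autGroup S → (E₂.subgroupOf S).map φ.toMonoidHom = E₂.subgroupOf S)) :
    (∃ P : Sylow p ↥(Matrix.symplecticGroup (Fin 2) (ZMod p)),
        Nonempty (↥S ≃* ↥(P : Subgroup ↥(Matrix.symplecticGroup (Fin 2) (ZMod p))))) ∧
      ((Cfsg.IsExtraspecial p ↥E₁ ∧ Nat.card E₁ = p ^ 3 ∧ (∀ x ∈ E₁, x ^ p = 1) ∧
          Cfsg.IsElementaryAbelian p E₂ ∧ Nat.card E₂ = p ^ 3) ∨
        (Cfsg.IsExtraspecial p ↥E₂ ∧ Nat.card E₂ = p ^ 3 ∧ (∀ x ∈ E₂, x ^ p = 1) ∧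
          Cfsg.IsElementaryAbelian p E₁ ∧ Nat.card E₁ = p ^ 3)) := by
  have hp2 : p ≠ 2 := fun h => by subst h; exact absurd hp (by decide)
  have hsec := secLE_of_sectional hsr.1
  have hlt := lt_card hS hF hsr.2 hE₁
  have ha₁ := inv_of_map hE₁.1.1 hc₁
  have ha₂ := inv_of_map hE₂.1.1 hc₂
  have hd₁ := step hS hsec hF hE₁ (ha₁.normS hE₁.1.1)
  have hd₂ := step hS hsec hF hE₂ (ha₂.normS hE₂.1.1)
  have key : ∀ A B : Subgroup Ω, F.IsEssential p A → Step p S A → Step p S B →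
      ∀ z ∈ omegaCenter p B, z ∉ A →
      (∃ P : Sylow p ↥(Matrix.symplecticGroup (Fin 2) (ZMod p)),
        Nonempty (↥S ≃* ↥(P : Subgroup ↥(Matrix.symplecticGroup (Fin 2) (ZMod p))))) ∧
        (Cfsg.IsExtraspecial p ↥A ∧ Nat.card A = p ^ 3 ∧ (∀ x ∈ A, x ^ p = 1) ∧
          Cfsg.IsElementaryAbelian p B ∧ Nat.card B = p ^ 3) := by
    intro A B hA hdA hdB z hz hzA
    obtain ⟨hsh, hel, hcB, hcA, hnc⟩ :=
      shape_of_center hS hp2 hsec hlt hF (family_of_core hS hF hO) hdA hdB hA hz hzA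
    refine ⟨exists_sylow_of_shape hp2 hsh, ?_⟩
    rcases Cfsg.Agent.S5186.result p hS F hF A hA hcA with h | ⟨-, hx, he⟩ | ⟨h, -⟩
    · exact absurd h.1 hnc
    · exact ⟨hx, hcA, he, hel, hcB⟩
    · exact absurd h hp2
  rcases exists_notMem hS hp2 hsec hlt hF hE₁ hE₂ hd₁ hd₂ hne ha₁ ha₂ with ⟨z, hz, hzE⟩ | ⟨z, hz, hzE⟩
  · exact ⟨(key E₁ E₂ hE₁ hd₁ hd₂ z hz hzE).1, Or.inl (key E₁ E₂ hE₁ hd₁ hd₂ z hz hzE).2⟩
  · exact ⟨(key E₂ E₁ hE₂ hd₂ hd₁ z hz hzE).1, Or.inr (key E₂ E₁ hE₂ hd₂ hd₁ z hz hzE).2⟩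

end Cfsg.Agent.S5189
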