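import Cfsg.Statements.S5196
import Cfsg.Agent.Lib.Fusion.WeakClosureApps

set_option autoImplicit false
universe u
open Cfsg CfsgLib.Fusion

namespace Cfsg.Agent.S5196

/-- Let p be an odd prime and W a positive characteristic p-functor: W assigns to every finite p-group Q (in a fixed universe) a subgroup W(Q), nontrivial when Q is, carried to W(R) by every isomorphism Q ≅ R; assume also Z(Q) ≤ W(Q) for every finite p-group Q. Suppose W satisfies the local condition: for every finite group G with Sylow p-subgroup P, O_p(G) ∩ Z(G) = O_p(G) ∩ Z(N_G(W(P))). Then W controls weak closure of elements in every saturated fusion system F over a finite p-group S: the centre of the normalizer fusion system of W(S) in F equals the centre of F. (For p = 2 no functor satisfies the local condition, so p is taken odd.) -/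
theorem result {p : ℕ} [Fact p.Prime] (hp : p ≠ 2) (W : ∀ (Q : Type u) [Group Q], Subgroup Q) (hW1 : ∀ (Q : Type u) [Group Q] [Finite Q], IsPGroup p Q → Nontrivial Q → W Q ≠ ⊥) (hW2 : ∀ (Q R : Type u) [Group Q] [Group R] [Finite Q], IsPGroup p Q → ∀ φ : Q ≃* R, (W Q).map φ.toMonoidHom = W R) (hWZ : ∀ (Q : Type u) [Group Q] [Finite Q], IsPGroup p Q → Subgroup.center Q ≤ W Q) (hC : ∀ (G : Type u) [Group G] [Finite G] (P : Sylow p G), Cfsg.pCore p G ⊓ Subgroup.center G = Cfsg.pCore p G ⊓ (Subgroup.center ↥(Subgroup.normalizer (((W ↥(P : Subgroup G)).map (P : Subgroup G).subtype : Subgroup G) : Set G))).map (Subgroup.normalizer (((W ↥(P : Subgroup G)).map (P : Subgroup G).subtype : Subgroup G) : Set G)).subtype) {Ω : Type u} [Group Ω] {S : Subgroup Ω} [Finite S] (hS : IsPGroup p S) (F : Cfsg.FusionSystem S) (hF : F.IsSaturated p) (N : Cfsg.FusionSystem (Cfsg.FusionSystem.normalizerIn S ((W ↥S).map S.subtype))) (hN : F.IsNormalizerSystem ((W ↥S).map S.subtype) N) : N.center = F.center := by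
  refine le_antisymm (fun x hx => ?_) ?_
  · refine mem_center_of_functor hS hF hW2 hWZ (fun _ _ _ _ => True)
      (fun G _ _ P y _ hy _ hfix g => ?_) (fun _ _ => True) (fun _ _ _ _ => trivial)
      (fun _ _ _ _ _ _ => trivial) trivial hN hx
    set NN := Subgroup.normalizer
      (((W ↥(P : Subgroup G)).map (P : Subgroup G).subtype : Subgroup G) : Set G)
    have hyN : y ∈ NN := by
      have := normalizer_le_normalizer_functorOf (p := p) hW2 (P : Subgroup G)
        (Subgroup.le_normalizer (CfsgLib.Core.pCore_le_sylow P hy))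
      rwa [functorOf_eq P.isPGroup'] at this
    have h1 : y ∈ Cfsg.pCore p G ⊓ (Subgroup.center ↥NN).map NN.subtype :=
      ⟨hy, ⟨⟨y, hyN⟩, Subgroup.mem_center_iff.2 fun h =>
        Subtype.ext (mul_inv_eq_iff_eq_mul.1 (hfix h h.2)), rfl⟩⟩
    rw [← hC G P] at h1
    rw [Subgroup.mem_center_iff.1 h1.2 g, mul_inv_cancel_right]
  · have hST := Subgroup.le_normalizer.trans (normalizer_le_normalizer_functorOf (p := p) hW2 S)
    rw [functorOf_eq hS] at hST
    exact center_le_normalizer_center hST hN

end Cfsg.Agent.S5196
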