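import Cfsg.Statements.S5201
import Cfsg.Agent.Lib.Fusion.EnvelopeApps

set_option autoImplicit false
open Cfsg CfsgLib.Fusion Cfsg.FusionSystem

namespace Cfsg.Agent.S5201

/-- A reduction to normal subsystems. Let F be a saturated fusion system over a finite p-group S and E a normal subsystem of F over T whose centralizer in S lies in T (every subgroup Y of C_S(T) with E contained in the centralizer fusion system of Y in F satisfies Y ≤ T), and suppose Aut_F(T)/Aut_E(T) is p-solvable. Then F and E have the same residual limit: if F∞ is the residual limit of F (reached by alternately passing to the p-residual and the p'-residual subsystem until nothing changes) and E∞ that of E, then F∞ and E∞ have the same maps. -/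
theorem result {Ω : Type*} [Group Ω] {S : Subgroup Ω} [Finite S] (p : ℕ) [Fact p.Prime] (hS : IsPGroup p S) (F : Cfsg.FusionSystem S) (hF : F.IsSaturated p) {T : Subgroup Ω} (E : Cfsg.FusionSystem T) (hE : E.IsNormalIn F p) (hCE : ∀ Y : Subgroup Ω, Y ≤ Cfsg.FusionSystem.centralizerIn S T → (∀ C : Cfsg.FusionSystem (Cfsg.FusionSystem.centralizerIn S Y), F.IsCentralizerSystem Y C → E.IsSubsystemOf C) → Y ≤ T) [hn : ((E.autGroup T).subgroupOf (F.autGroup T)).Normal] (hsolv : Cfsg.IsPSolvable p (↥(F.autGroup T) ⧸ (E.autGroup T).subgroupOf (F.autGroup T))) {U V : Subgroup Ω} (Finf : Cfsg.FusionSystem U) (hFinf : Finf.IsResidualLimitOf F p) (Einf : Cfsg.FusionSystem V) (hEinf : Einf.IsResidualLimitOf E p) : ∀ P : Subgroup Ω, Finf.Hom P = Einf.Hom P := by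
  intro P
  have hq : p.Prime := Fact.out
  have hT := hE.1.2.2.2.1
  have := finite_mulAut_of_le (S := S) hT.1
  have hfinT := finite_le hT.1
  have hTp := hS.to_le hT.1
  have hle : centOf F E ≤ T := hCE _ (centBy_centOf hS hE).1 fun C hC Q φ hφ => by
    rw [hC Q]
    exact (centBy_centOf hS hE).2 Q hφ
  obtain ⟨D, hD⟩ := exists_envelope _ hS hE (splits_of_pSolvable hsolv) le_rfl
    (T ⊔ centralizerIn S T) rfl
  have hRS := hD.closed.1
  have hEs := hE.1.1
  obtain ⟨h1, h2, h3, -, h5⟩ := residualLimit_facts hFinf hq inferInstance hS hF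
  have hi := h5 F inferInstance hS hF isInvariantIn_refl
  have hsub : Finf.IsSubsystemOf D := hD.perfect Finf h1 hi h2 h3
  have hUR : U ≤ T ⊔ centralizerIn S T := IsSubsystemOf.le hsub
  have := finite_le hRS
  have hUT : U ≤ T := h2.ge.trans ((hyperfocal_mono hsub hUR).trans
    (hyperfocal_le_of_focal_le (envelope_focal_le hS hE hle hD)))
  have hEiD := invariant_inherit hS hD.cand.1 hD.cand.2.1 hE.1.2.2 hD.cand.2.2.1
  have hsubE : Finf.IsSubsystemOf E := by
    intro Q φ hφ
    obtain ⟨β, hβ, e, he, hv⟩ := hEiD.2.2.2 Q ((hom_le hφ).trans hUT) φ (hsub Q hφ)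
    exact comp_mem' he ((mem_autGroup_iff le_rfl).1 (hD.cand.2.2.2 hβ)) (hom_apply_mem he)
      fun x => hv x (hom_apply_mem he x)
  obtain ⟨k1, k2, k3, -, k5⟩ := residualLimit_facts hEinf hq hfinT hTp hEs
  exact Set.Subset.antisymm
    (perfect_le_limit hEinf hq hfinT hTp hEs Finf h1
      (invariant_inherit hS hEs hE.1.2.2.1 hi hsubE) h2 h3 P)
    (perfect_le_limit hFinf hq inferInstance hS hF Einf k1
      (k5 F inferInstance hS hF hE.1.2.2) k2 k3 P)

end Cfsg.Agent.S5201
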