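import Cfsg.Statements.S5215
import Cfsg.Agent.Lib.Fusion.TwoTypes.Simple

set_option autoImplicit false
open Cfsg

namespace Cfsg.Agent.S5215

/-- Let S be a finite 2-group of 2-rank 2 (an elementary abelian subgroup of order 4, none of order 8) and F a simple saturated fusion system over S. Then S is dihedral, semidihedral or wreathed, and F is the fusion system of the projective special linear group PSL₂(q) for some odd prime power q ≡ ±1 (mod 8) or of PSL₃(q) for some odd prime power q: it is realized by an injective homomorphism of S into that group whose image is a Sylow 2-subgroup. -/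
theorem result {Ω : Type*} [Group Ω] {S : Subgroup Ω} [Finite S] (hS : IsPGroup 2 S) (F : Cfsg.FusionSystem S) (hF : F.IsSaturated 2) (hr : Cfsg.PRankAtLeast 2 2 ↥S ∧ ¬ Cfsg.PRankAtLeast 2 3 ↥S) (hsimple : F.IsSimple 2) : ((∃ m : ℕ, Nonempty (↥S ≃* DihedralGroup m)) ∨ Cfsg.IsQuasiDihedral ↥S ∨ Cfsg.IsWreathed ↥S) ∧ ∃ (K : Type) (_ : Field K) (_ : Fintype K) (q : ℕ), Fintype.card K = q ∧ Odd q ∧ (((q % 8 = 1 ∨ q % 8 = 7) ∧ ∃ ι : ↥S →* Matrix.ProjectiveSpecialLinearGroup (Fin 2) K, F.IsRealizedBy ι ∧ ∃ T : Sylow 2 (Matrix.ProjectiveSpecialLinearGroup (Fin 2) K), (T : Subgroup (Matrix.ProjectiveSpecialLinearGroup (Fin 2) K)) = ι.range) ∨ (∃ ι : ↥S →* Matrix.ProjectiveSpecialLinearGroup (Fin 3) K, F.IsRealizedBy ι ∧ ∃ T : Sylow 2 (Matrix.ProjectiveSpecialLinearGroup (Fin 3) K), (T : Subgroup (Matrix.ProjectiveSpecialLinearGroup (Fin 3) K)) = ι.range)) := by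
  haveI : Fact (Nat.Prime 2) := ⟨Nat.prime_two⟩
  obtain ⟨⟨A, hAc, hA2, hA4⟩, hr3⟩ := id hr
  have h4 : 4 ≤ Nat.card S := hA4.trans A.card_le_card_group
  have hZ := CfsgLib.Fusion.TwoTypes.center_eq_bot hS h4 hsimple
  have hnn := CfsgLib.Fusion.TwoTypes.not_normal hS h4 hsimple
  obtain ⟨K₀, _, _, hK₀⟩ : ∃ (K : Type) (_ : Field K) (_ : Fintype K), Fintype.card K = 16 := by
    haveI : Fintype (GaloisField 2 4) := Fintype.ofFinite _
    refine ⟨GaloisField 2 4, inferInstance, inferInstance, ?_⟩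
    rw [← Nat.card_eq_fintype_card, GaloisField.card 2 4 (by norm_num)]
    norm_num
  rcases Cfsg.Agent.S5213.result hS F hF hr hZ hK₀ with
    ⟨m, ⟨e⟩⟩ | h | h | ⟨n, k, ⟨e⟩⟩ | ⟨T, ⟨e⟩⟩
  · obtain ⟨k, hk⟩ := IsPGroup.iff_card.1 hS
    have hm := hk
    rw [Nat.card_congr e.toEquiv, DihedralGroup.nat_card] at hm
    have hk2 : 2 ≤ k := by
      by_contra hlt
      have := Nat.pow_le_pow_right two_pos (show k ≤ 1 by omega)
      omega
    obtain ⟨j, rfl⟩ : ∃ j, k = j + 2 := ⟨k - 2, by omega⟩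
    obtain rfl : m = 2 ^ (j + 1) := by rw [pow_succ] at hm; omega
    rcases Nat.eq_zero_or_pos j with rfl | hj
    · exfalso
      refine hnn (CfsgLib.Fusion.TwoTypes.isNormal_of_abelian hS hF fun x hx y hy => ?_)
      have hD : ∀ a b : DihedralGroup (2 ^ (0 + 1)), a * b = b * a := by decide
      exact congrArg Subtype.val (e.injective (by rw [map_mul, map_mul]; exact hD _ _) :
        (⟨x, hx⟩ : S) * ⟨y, hy⟩ = ⟨y, hy⟩ * ⟨x, hx⟩)
    obtain ⟨K, i1, i2, q, hq, hodd, h8, h⟩ :=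
      CfsgLib.Fusion.TwoTypes.dihedral_realise hsimple (n := j + 1) (by omega) e
    exact ⟨Or.inl ⟨_, ⟨e⟩⟩, K, i1, i2, q, hq, hodd, Or.inl ⟨h8, h⟩⟩
  · obtain ⟨m, -, ⟨e⟩⟩ := CfsgLib.TwoGroups.SemiDihedral.of_isQuasiDihedral h
    obtain ⟨K, i1, i2, q, hq, hodd, h'⟩ := CfsgLib.Fusion.TwoTypes.semidihedral_realise hsimple e
    exact ⟨Or.inr (Or.inl h), K, i1, i2, q, hq, hodd, Or.inr h'⟩
  · obtain ⟨m, -, ⟨e⟩⟩ := CfsgLib.TwoGroups.WreathTwo.of_isWreathed h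
    obtain ⟨K, i1, i2, q, hq, hodd, h'⟩ := CfsgLib.Fusion.TwoTypes.wreathed_realise hsimple e
    exact ⟨Or.inr (Or.inr h), K, i1, i2, q, hq, hodd, Or.inr h'⟩
  · exfalso
    refine hnn (CfsgLib.Fusion.TwoTypes.isNormal_of_abelian hS hF fun x hx y hy => ?_)
    exact congrArg Subtype.val (e.injective (by rw [map_mul, map_mul, mul_comm]) :
      (⟨x, hx⟩ : S) * ⟨y, hy⟩ = ⟨y, hy⟩ * ⟨x, hx⟩)
  · exfalso
    obtain ⟨-, -, hsz⟩ := Cfsg.Agent.S1141.result (n := 2) le_rfl (by rw [hK₀]; norm_num) T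
    exact hnn (Cfsg.Agent.S5214.result hS F hF
      (CfsgLib.Fusion.TwoTypes.isSuzukiTwoGroup_congr e.symm hsz))

end Cfsg.Agent.S5215
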