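import Cfsg.Statements.S5219
import Cfsg.Agent.Lib.Fusion.CenterPowers

set_option autoImplicit false
set_option linter.unusedVariables false
open Cfsg CfsgLib.Fusion

namespace Cfsg.Agent.S5219

/-- Let p be a prime, n a natural number, S a nontrivial finite p-group of nilpotence class at most n(p−1)+1, and F a saturated fusion system over S with no nontrivial normal subgroup (O_p(F) = 1). Then S has exponent dividing p^(n²(p−1)+n). -/
theorem result {Ω : Type*} [Group Ω] {S : Subgroup Ω} [Finite S] (p : ℕ) [Fact p.Prime] (hS : IsPGroup p S) (F : Cfsg.FusionSystem S) (hF : F.IsSaturated p) (n : ℕ) (hS1 : S ≠ ⊥) (hcl : Subgroup.lowerCentralSeries S (n * (p - 1) + 1) = ⊥) (hcore : F.core = ⊥) : Monoid.exponent ↥S ∣ p ^ (n ^ 2 * (p - 1) + n) := by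
    have hV := le_core (isNormal_powerClosure_center hS hF n hcl)
    rw [hcore, le_bot_iff] at hV
    have hz : ∀ z ∈ Subgroup.center ↥S, z ^ p ^ n = 1 := by
      intro z hz
      have : (z : Ω) ^ p ^ n ∈ Cfsg.powerClosure p n (centerOf S) :=
        Subgroup.subset_closure ⟨z, ⟨z.2, Subgroup.mem_centralizer_iff.2 fun y hy =>
          congrArg Subtype.val (Subgroup.mem_center_iff.1 hz ⟨y, hy⟩)⟩, rfl⟩
      rw [hV, Subgroup.mem_bot] at this
      exact Subtype.ext (by simpa using this)
    have hc : Subgroup.upperCentralSeries ↥S (n * (p - 1) + 1) = ⊤ := by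
      have h1 : (⊤ : Subgroup ↥S).lowerCentralSeries (n * (p - 1) + 1) = ⊥ := by
        apply Subgroup.map_injective S.subtype_injective
        rw [Subgroup.top_subtype_lowerCentralSeries, hcl, Subgroup.map_bot]
      exact Subgroup.lowerCentralSeries_eq_bot_iff_upperCentralSeries_eq_top.1 h1
    rw [show p ^ (n ^ 2 * (p - 1) + n) = (p ^ n) ^ (n * (p - 1) + 1) by rw [← pow_mul]; ring_nf]
    exact exponent_dvd_pow_of_center hz hc

end Cfsg.Agent.S5219
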