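import Cfsg.Statements.S5221
import Cfsg.Agent.Lib.Fusion.CharCriterion
import Cfsg.Agent.Lib.Fusion.CriterionZJ

set_option autoImplicit false
open Cfsg Cfsg.FusionSystem CfsgLib.Fusion

namespace Cfsg.Agent.S5221

/-- Let F be a sparse fusion system over a finite p-group S: a saturated fusion system, not the inner fusion system of S, whose only saturated fusion systems over S contained in it are F itself and the inner one. If p is odd, or F is S₄-free (the symmetric group of degree 4 is not involved in any model of the normalizer system of a fully normalized F-centric subgroup), then F is constrained. -/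
theorem result {Ω : Type*} [Group Ω] {S : Subgroup Ω} [Finite S] (p : ℕ) [Fact p.Prime] (hS : IsPGroup p S) (F : Cfsg.FusionSystem S) (hF : F.IsSaturated p) (hsp : ¬ (∀ P : Subgroup Ω, F.Hom P = (Cfsg.innerFusionSystem S).Hom P) ∧ ∀ E : Cfsg.FusionSystem S, E.IsSaturated p → E.IsSubsystemOf F → (∀ P : Subgroup Ω, E.Hom P = F.Hom P) ∨ (∀ P : Subgroup Ω, E.Hom P = (Cfsg.innerFusionSystem S).Hom P)) (hp : p ≠ 2 ∨ F.IsSectionFree p (Equiv.Perm (Fin 4))) : F.IsConstrained p := by
  obtain ⟨hne, hmin⟩ := hsp
  have hne' : F ≠ innerFusionSystem S := fun h => hne fun P => by rw [h]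
  have hfree : p ≠ 2 ∨ FourFree F := hp.imp id fun hh => FourFree.of_sectionFree hS hF hh
  obtain ⟨E, hEF, hEc, P, hP⟩ := exists_constrained hS hF (exists_bad_normal_free hS hF hfree hne')
    fun N Q hNF hN _ _ _ _ _ _ E hS' hEs hE hEne => exists_bad_normal_free hS' hEs
      (hfree.imp id fun hf => (hf.mono hNF le_rfl).factor (p := p) hE) hEne
  rcases hmin E hEc.1 hEF with h | h
  · have hEeq : E = F := fusionSystem_ext h
    exact hEeq ▸ hEc
  · exact absurd (h P) hP

end Cfsg.Agent.S5221
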