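import Cfsg.Statements.S5222
import Cfsg.Agent.Lib.Fusion.InnerModel
import Cfsg.Agent.Lib.Fusion.KNormalizer

set_option autoImplicit false
open Cfsg Cfsg.FusionSystem CfsgLib.Fusion
open scoped commutatorElement

namespace Cfsg.Agent.S5222

/-- Let F be a saturated fusion system over a finite p-group S whose normalizer fusion system of S is the inner fusion system of S (Aut_F(S) is a p-group). Then for every subgroup Q of S with [S, S] ≤ Q ≤ Φ(S), the normalizer fusion system of Q in F is the inner fusion system of N_S(Q) = S. -/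
theorem result {Ω : Type*} [Group Ω] {S : Subgroup Ω} [Finite S] (p : ℕ) [Fact p.Prime] (hS : IsPGroup p S) (F : Cfsg.FusionSystem S) (hF : F.IsSaturated p) (hN : ∀ N : Cfsg.FusionSystem (Cfsg.FusionSystem.normalizerIn S S), F.IsNormalizerSystem S N → ∀ P : Subgroup Ω, N.Hom P = (Cfsg.innerFusionSystem (Cfsg.FusionSystem.normalizerIn S S)).Hom P) (Q : Subgroup Ω) (h1 : (commutator ↥S).map S.subtype ≤ Q) (h2 : Q ≤ (frattini ↥S).map S.subtype) : ∀ N : Cfsg.FusionSystem (Cfsg.FusionSystem.normalizerIn S Q), F.IsNormalizerSystem Q N → ∀ P : Subgroup Ω, N.Hom P = (Cfsg.innerFusionSystem (Cfsg.FusionSystem.normalizerIn S Q)).Hom P := by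
    have hQS : Q ≤ S := h2.trans (Subgroup.map_subtype_le _)
    have hab : ∀ a ∈ S, ∀ b ∈ S, ⁅a, b⁆ ∈ Q := fun a ha b hb =>
      h1 ⟨⁅(⟨a, ha⟩ : S), (⟨b, hb⟩ : S)⁆,
        Subgroup.commutator_mem_commutator (Subgroup.mem_top _) (Subgroup.mem_top _),
        map_commutatorElement S.subtype _ _⟩
    have hSN : normalizerIn S Q = S := by
      have h : ∀ g ∈ S, ∀ y ∈ Q, g * y * g⁻¹ ∈ Q := fun g hg y hy => by
        have h := Q.mul_mem (hab g hg y (hQS hy)) hy
        rwa [commutatorElement_def, inv_mul_cancel_right] at h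
      refine le_antisymm (normalizerIn_le Q) fun g hg => ⟨hg, ?_⟩
      refine Subgroup.mem_normalizer_iff.2 fun y => ⟨h g hg y, fun hy => ?_⟩
      simpa [mul_assoc] using h g⁻¹ (S.inv_mem hg) _ hy
    have hfn : F.IsFullyNormalized Q := ⟨hQS, fun Q' _ => by
      rw [hSN]
      exact Subgroup.card_le_of_le (normalizerIn_le Q')⟩
    intro N hNQ P
    have hNn : N.IsNormal Q := by
      refine ⟨hQS.trans hSN.ge, fun R φ hφ => ?_⟩
      rw [hNQ R] at hφ
      obtain ⟨-, hR, -, ψ, hψ, hψR, hψQ⟩ := hφ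
      have hle : R ⊔ Q ≤ normalizerIn S Q := sup_le hR (hQS.trans hSN.ge)
      refine ⟨ψ, ?_, hψR, hψQ⟩
      rw [hNQ]
      refine ⟨hψ, hle, fun x => hSN.ge (hom_apply_mem hψ x),
        ψ.comp (Subgroup.inclusion (sup_le le_rfl le_sup_right)), restrict_mem hψ _, fun x => rfl, ?_⟩
      ext y
      constructor
      · rintro ⟨x, hx, rfl⟩
        exact hψQ.le ⟨_, hx, rfl⟩
      · intro hy
        obtain ⟨x, hx, rfl⟩ := hψQ.ge hy
        exact ⟨⟨x, Subgroup.mem_sup_left x.2⟩, hx, rfl⟩
    have hinn : ∀ φ ∈ N.Hom (normalizerIn S Q), ∃ g ∈ normalizerIn S Q,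
        ∀ x, φ x = g * (x : Ω) * g⁻¹ := by
      intro φ hφ
      rw [hNQ] at hφ
      have hφF := hφ.1
      have hSS : normalizerIn S Q ≤ normalizerIn S S := fun g hg =>
        ⟨hg.1, Subgroup.le_normalizer hg.1⟩
      have hSS' : normalizerIn S S ≤ normalizerIn S Q := fun g hg => hSN.ge hg.1
      set φ' := φ.comp (Subgroup.inclusion hSS') with hφ'
      have hφ'F : φ' ∈ F.Hom (normalizerIn S S) := restrict_mem hφF hSS'
      have hsup : normalizerIn S S ⊔ S ≤ normalizerIn S S := sup_le le_rfl (le_normalizerIn le_rfl)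
      have hmem : φ' ∈ (normSystem F S le_rfl).Hom (normalizerIn S S) := by
        refine ⟨hφ'F, le_rfl, fun x => le_normalizerIn le_rfl (hom_apply_mem hφ'F x),
          φ'.comp (Subgroup.inclusion hsup), restrict_mem hφ'F hsup, fun x => rfl, ?_⟩
        refine Subgroup.eq_of_le_of_card_ge ?_ ?_
        · rintro _ ⟨x, -, rfl⟩
          exact hom_apply_mem hφ'F _
        · exact (card_img (F.injective_of_mem (restrict_mem hφ'F hsup)) le_sup_right).ge
      rw [hN _ (normSystem_isNormalizerSystem F S le_rfl)] at hmem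
      obtain ⟨-, g, hg, hv⟩ := hmem
      exact ⟨g, hSS' hg, fun x => hv (Subgroup.inclusion hSS x)⟩
    have : Finite ↥(normalizerIn S Q) := finite_le (normalizerIn_le Q)
    have hinner := eq_inner_of_normal_mod (p := p) (hS.to_le (normalizerIn_le Q))
      (normalizerSystem_saturated hS hF hfn hNQ) hinn hNn
      (fun a ha b hb => hab a ha.1 b hb.1) (fun x hx => by
        let e : S ≃* ↥(normalizerIn S Q) := MulEquiv.subgroupCongr hSN.symm
        obtain ⟨s, hs, hsx⟩ := h2 hx
        rw [show x = e s from Subtype.ext hsx.symm]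
        exact frattini_le_comap_frattini_of_surjective (φ := e.toMonoidHom) e.surjective hs)
    rw [hinner]

end Cfsg.Agent.S5222
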