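import Cfsg.Statements.S5223
import Cfsg.Agent.Lib.Fusion.CoprimeCriterion

set_option autoImplicit false
open Cfsg Cfsg.FusionSystem CfsgLib.Fusion

namespace Cfsg.Agent.S5223

/-- Let F be a saturated fusion system over a finite p-group S. Suppose there are subgroups Q₀ = S, Q₁, …, Qₙ = 1 (not required to be nested) such that for each i < n the focal subgroup of Qᵢ (generated by the elements x⁻¹φ(x), x ∈ Qᵢ, φ a map of F defined on the cyclic group generated by x) lies in Qᵢ₊₁. Then F is the inner fusion system of S. -/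
theorem result {Ω : Type*} [Group Ω] {S : Subgroup Ω} [Finite S] (p : ℕ) [Fact p.Prime] (hS : IsPGroup p S) (F : Cfsg.FusionSystem S) (hF : F.IsSaturated p) (n : ℕ) (Q : Fin (n + 1) → Subgroup Ω) (hQ0 : Q 0 = S) (hQn : Q (Fin.last n) = ⊥) (hstep : ∀ i : Fin n, Subgroup.closure {y : Ω | ∃ x ∈ Q i.castSucc, ∃ φ ∈ F.Hom (Subgroup.zpowers x), y = x⁻¹ * φ ⟨x, Subgroup.mem_zpowers x⟩} ≤ Q i.succ) : ∀ P : Subgroup Ω, F.Hom P = (Cfsg.innerFusionSystem S).Hom P := by
    intro P
    rw [eq_inner_of_coprime_trivial hS hF ?_]
    intro R hR b hb hbc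
    have hfinR := finite_le hR
    have key : ∀ (k : ℕ) (i : Fin (n + 1)), n - (i : ℕ) ≤ k → ∀ x : R, (x : Ω) ∈ Q i → b x = x := by
      intro k
      induction k with
      | zero =>
          intro i hi x hx
          rw [show i = Fin.last n from Fin.ext (by have := i.2; simp; omega), hQn,
            Subgroup.mem_bot] at hx
          rw [show x = 1 from Subtype.ext hx, map_one]
      | succ k ih =>
          intro i hi x hx
          rcases Fin.eq_castSucc_or_eq_last i with ⟨j, rfl⟩ | rfl
          · refine CfsgLib.Transfer.eq_of_fixed_diff (hS.to_le hR) b hbc (pow_orderOf_eq_one b)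
              (ih j.succ ?_ _ ?_)
            · simp only [Fin.val_succ]
              simp only [Fin.val_castSucc] at hi
              omega
            · refine hstep j (Subgroup.subset_closure ⟨x, hx, ?_⟩)
              exact ⟨_, restrict_mem ((mem_autGroup_iff hR).1 hb) (Subgroup.zpowers_le.2 x.2), rfl⟩
          · rw [hQn, Subgroup.mem_bot] at hx
            rw [show x = 1 from Subtype.ext hx, map_one]
    exact MulEquiv.ext fun x => key n 0 (by simp) x (by rw [hQ0]; exact hR x.2)

end Cfsg.Agent.S5223
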