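import Cfsg.Statements.S5225
import Cfsg.Agent.Lib.Fusion.Yoshida

set_option autoImplicit false
open Cfsg

namespace Cfsg.Agent.S5225

open Cfsg.FusionSystem CfsgLib.Fusion

/-- Yoshida's Theorem for fusion systems. Let F be a saturated fusion system over a finite p-group S and N the normalizer fusion system of S in F. If the focal subgroups of F and N differ (N does not control transfer in F), then S has a quotient isomorphic to the wreath product C_p ≀ C_p (realised as a Sylow p-subgroup of the symmetric group of degree p²). -/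
theorem result {Ω : Type*} [Group Ω] {S : Subgroup Ω} [Finite S] (p : ℕ) [Fact p.Prime] (hS : IsPGroup p S) (F : Cfsg.FusionSystem S) (hF : F.IsSaturated p) (N : Cfsg.FusionSystem (Cfsg.FusionSystem.normalizerIn S S)) (hN : F.IsNormalizerSystem S N) (hne : N.focalSubgroup ≠ F.focalSubgroup) : ∃ (W : Sylow p (Equiv.Perm (Fin (p ^ 2)))) (f : ↥S →* ↥(W : Subgroup (Equiv.Perm (Fin (p ^ 2))))), Function.Surjective f := by
  classical
  by_contra hno
  have hnS : S ≤ normalizerIn S S := le_inf le_rfl Subgroup.le_normalizer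
  have hNsub : ∀ (P : Subgroup Ω), N.Hom P ⊆ F.Hom P := fun P φ hφ => by
    rw [hN P] at hφ; exact hφ.1
  have hfocS : F.focalSubgroup ≤ S := by
    rw [FusionSystem.focalSubgroup, Subgroup.closure_le]
    rintro _ ⟨P, φ, x, hφ, rfl⟩
    exact S.mul_mem (S.inv_mem (hom_le hφ x.2)) (hom_apply_mem hφ x)
  have hNF : N.focalSubgroup ≤ F.focalSubgroup := by
    rw [FusionSystem.focalSubgroup, Subgroup.closure_le]
    rintro _ ⟨P, φ, x, hφ, rfl⟩
    exact Subgroup.subset_closure ⟨P, φ, x, hNsub P hφ, rfl⟩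
  have hmemN : ∀ φ ∈ F.Hom S, ∀ x : S, (x : Ω)⁻¹ * φ x ∈ N.focalSubgroup := fun φ hφ x =>
    Subgroup.subset_closure ⟨S, φ, x, by rw [hN S]; exact mem_normalizerHom_self hφ, rfl⟩
  have hder : ⁅S, S⁆ ≤ N.focalSubgroup := Subgroup.commutator_le.2 fun a ha b hb => by
    have := hmemN (conjHom S b) (F.conj_mem le_rfl hb) ⟨a⁻¹, S.inv_mem ha⟩
    simpa [commutatorElement_def, conjHom, mul_assoc] using this
  have hNn : ∀ s ∈ S, ∀ y ∈ N.focalSubgroup, s * y * s⁻¹ ∈ N.focalSubgroup := fun s hs y hy => by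
    have h := hder (Subgroup.commutator_mem_commutator hs (hfocS (hNF hy)))
    rw [commutatorElement_def] at h
    have := N.focalSubgroup.mul_mem h hy
    simpa [mul_assoc] using this
  set T := F.hyperfocalSubgroup p with hT
  have e1 := focal_eq_hyperfocal_sup hS hF
  -- a character of exponent `p`
  have hnormal : (N.focalSubgroup.subgroupOf S).Normal := ⟨fun a ha b => hNn b b.2 a ha⟩
  set K := N.focalSubgroup.subgroupOf S ⊔ frattini S with hK
  have hKc : commutator S ≤ K := (CfsgLib.PGroups.commutator_le_frattini' hS).trans le_sup_right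
  have hcomm : IsMulCommutative (S ⧸ K) :=
    Subgroup.Normal.quotient_commutative_iff_commutator_le.mpr hKc
  have hKsup : F.focalSubgroup ≤ N.focalSubgroup ⊔ (frattini S).map S.subtype := by
    intro y hy
    letI : CommGroup (S ⧸ K) := { (inferInstance : Group (S ⧸ K)) with mul_comm := fun a b => hcomm.is_comm.comm a b }
    have hexp : ∀ a : S ⧸ K, a ^ p = 1 := fun a => by
      induction a using QuotientGroup.induction_on with
      | _ z =>
        rw [← QuotientGroup.mk_pow, QuotientGroup.eq_one_iff]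
        exact Subgroup.mem_sup_right (CfsgLib.PGroups.pow_mem_frattini hS z)
    have h := focal_le_ker_of_no_wreath hS hF hno hexp (QuotientGroup.mk' K)
      (fun φ hφ x => (QuotientGroup.eq.2 (Subgroup.mem_sup_left
        (show ((x : S)⁻¹ * ⟨φ x, hom_apply_mem hφ x⟩ : S) ∈ N.focalSubgroup.subgroupOf S from
          hmemN φ hφ x))).symm) (y := ⟨y, hfocS hy⟩) hy
    have hyK : (⟨y, hfocS hy⟩ : S) ∈ K := (QuotientGroup.eq_one_iff _).1 h
    have hm := Subgroup.mem_map_of_mem S.subtype hyK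
    rw [hK, Subgroup.map_sup, Subgroup.subgroupOf_map_subtype] at hm
    exact (show (N.focalSubgroup ⊓ S) ⊔ (frattini S).map S.subtype ≤ N.focalSubgroup ⊔ (frattini S).map S.subtype from sup_le_sup_right inf_le_left _) hm
  have hdecomp : N.focalSubgroup ≤ (T ⊓ N.focalSubgroup) ⊔ ⁅S, S⁆ := by
    conv_lhs => rw [FusionSystem.focalSubgroup]
    rw [Subgroup.closure_le]
    rintro _ ⟨P, φ, x, hφ, rfl⟩
    rw [hN P] at hφ
    obtain ⟨hφF, hP, -, ψ, hψ, hψv, -⟩ := hφ
    have hPS : P ⊔ S = S := sup_eq_right.2 (hom_le hφF)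
    have hψS : ψ.comp (Subgroup.inclusion hPS.ge) ∈ F.Hom S := restrict_mem hψ hPS.ge
    have hr : (ψ.comp (Subgroup.inclusion hPS.ge)).range = S :=
      Subgroup.eq_of_le_of_card_ge (hom_range_le hψS)
        (Nat.card_congr (MonoidHom.ofInjective (F.injective_of_mem hψS)).toEquiv).le
    obtain ⟨α, hα, hαv⟩ := exists_iso hψS hr
    have hαF : (α : MulAut S) ∈ F.autGroup S := (mem_autGroup_iff_isoIn le_rfl).2 hα
    have := finite_mulAut_of_le (S := S) (P := S) le_rfl
    obtain ⟨R, hR⟩ := (IsSaturated.fullyAutomized hS hF isFullyNormalized_self).2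
    obtain ⟨a, ha, k, hk, hak⟩ := CfsgLib.Transfer.exists_mul_mem_pResidual R (⟨α, hαF⟩ : F.autGroup S)
    rw [hR] at ha
    obtain ⟨g, hg, hgv⟩ := mem_autInducedBy_iff.1 (Subgroup.mem_subgroupOf.1 ha)
    let xS : S := ⟨x, hom_le hφF x.2⟩
    set y : S := (k : MulAut S) xS with hy
    have h1 : (xS : Ω)⁻¹ * (y : Ω) ∈ T ⊓ N.focalSubgroup :=
      ⟨Subgroup.subset_closure ⟨S, k, xS, le_rfl, hk, rfl⟩,
        hmemN _ ((mem_autGroup_iff le_rfl).1 k.2) xS⟩
    have h2 : (y : Ω)⁻¹ * (g * (y : Ω) * g⁻¹) ∈ ⁅S, S⁆ := by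
      have h := Subgroup.commutator_mem_commutator (S.inv_mem y.2) hg
      rw [commutatorElement_def, inv_inv] at h
      simpa [mul_assoc] using h
    have h3 : φ x = g * (y : Ω) * g⁻¹ := by
      have e2 : φ x = ((α xS : S) : Ω) := by
        rw [hαv, ← hψv x]
        exact congrArg ψ (Subtype.ext rfl)
      rw [e2, ← hgv y, hy]
      exact congrArg (fun z : MulAut S => ((z xS : S) : Ω)) (congrArg Subtype.val hak)
    show (x : Ω)⁻¹ * φ x ∈ _
    rw [h3, show (x : Ω)⁻¹ * (g * (y : Ω) * g⁻¹) = ((x : Ω)⁻¹ * (y : Ω)) * ((y : Ω)⁻¹ * (g * (y : Ω) * g⁻¹)) by group]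
    exact mul_mem (Subgroup.mem_sup_left h1) (Subgroup.mem_sup_right h2)
  have hT2 : T ≤ T ⊓ N.focalSubgroup := by
    refine hyperfocal_le_of_sup_frattini hS hF inf_le_left
      (fun s hs y hy => ⟨hyperfocal_conj_mem hs hy.1, hNn s hs y hy.2⟩) ?_
    have h1 : T ≤ N.focalSubgroup ⊔ (frattini S).map S.subtype :=
      (le_sup_left.trans e1.ge).trans hKsup
    refine (h1.trans (sup_le_sup_right hdecomp _)).trans ?_
    rw [sup_assoc]
  exact hne (le_antisymm hNF (e1.le.trans (sup_le (hT2.trans inf_le_right) hder)))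

end Cfsg.Agent.S5225
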