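import Cfsg.Statements.S5236
import Cfsg.Agent.Lib.Fusion.CoprimeCriterion
import Cfsg.Agent.Lib.Fusion.NormalExtend

set_option autoImplicit false
open Cfsg Cfsg.FusionSystem CfsgLib.Fusion
open scoped commutatorElement Pointwise

namespace Cfsg.Agent.S5236

/-- Let p be an odd prime, F a saturated fusion system over a finite p-group S and P a subgroup of S strongly closed in F. Then P is normal in F if and only if Ω₁(P) (the subgroup generated by the elements of order p of P) has a chain of subgroups 1 = Q₀ ≤ Q₁ ≤ ⋯ ≤ Qₙ = Ω₁(P), each strongly closed in F, with [Qᵢ₊₁, P] ≤ Qᵢ for all i. -/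
theorem result {Ω : Type*} [Group Ω] {S : Subgroup Ω} [Finite S] (p : ℕ) [Fact p.Prime] (hS : IsPGroup p S) (F : Cfsg.FusionSystem S) (hF : F.IsSaturated p) (hp : p ≠ 2) (P : Subgroup Ω) (hP : F.StronglyClosed P) : F.IsNormal P ↔ ∃ (n : ℕ) (Q : Fin (n + 1) → Subgroup Ω), Q 0 = ⊥ ∧ Q (Fin.last n) = Cfsg.omegaOne p P ∧ Monotone Q ∧ (∀ i : Fin (n + 1), F.StronglyClosed (Q i)) ∧ ∀ i : Fin n, ⁅Q i.succ, P⁆ ≤ Q i.castSucc := by
    have hPS : P ≤ S := hP.1
    constructor
    · intro hN
      obtain ⟨n, C, h0, hlast, hmono, hsc, hcomm⟩ := CfsgLib.Fusion.IsNormal.exists_series hS hN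
      set W := Cfsg.omegaOne p P with hW
      have hWP : W ≤ P := (Subgroup.closure_le _).2 fun x hx => hx.1
      have hWsc : F.StronglyClosed W := by
        refine ⟨hWP.trans hPS, fun R hR φ hφ x => ?_⟩
        obtain ⟨α, hα, hαv⟩ := CfsgLib.Fusion.IsNormal.exists_aut hN (hR.trans hWP) hφ
        have hle : W ≤ ((W.subgroupOf P).comap α.toMonoidHom).map P.subtype := by
          conv_lhs => rw [hW]
          rw [Cfsg.omegaOne, Subgroup.closure_le]
          rintro y ⟨hy, hyp⟩
          refine ⟨⟨y, hy⟩, Subgroup.subset_closure ⟨(α ⟨y, hy⟩).2, ?_⟩, rfl⟩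
          show (((α ⟨y, hy⟩ : P)) : Ω) ^ p = 1
          rw [← Subgroup.coe_pow, ← map_pow, show (⟨y, hy⟩ : P) ^ p = 1 from Subtype.ext hyp, map_one]
          rfl
        obtain ⟨z, hz, hzx⟩ := hle (hR x.2)
        rw [← hαv x, show Subgroup.inclusion (hR.trans hWP) x = z from Subtype.ext hzx.symm]
        exact hz
      refine ⟨n, fun i => C i ⊓ W, by simp [h0], by simp [hlast, hWP], fun a b hab =>
        inf_le_inf_right _ (hmono hab), fun i => ⟨inf_le_left.trans (hsc i).1, fun R hR φ hφ x =>
        ⟨(hsc i).2 R (hR.trans inf_le_left) φ hφ x, hWsc.2 R (hR.trans inf_le_right) φ hφ x⟩⟩,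
        fun i => le_inf ((Subgroup.commutator_mono inf_le_left le_rfl).trans (hcomm i)) ?_⟩
      rw [Subgroup.commutator_le]
      intro x hx y hy
      rw [commutatorElement_def, show x * y * x⁻¹ * y⁻¹ = x * (y * x⁻¹ * y⁻¹) by group]
      exact W.mul_mem hx.2 (conj_mem_of_mem_normalizer
        (CfsgLib.Fusion.StronglyClosed.normal_in hWsc (hPS hy)) (W.inv_mem hx.2))
    · rintro ⟨n, Q, h0, hlast, -, hsc, hcomm⟩
      refine (isNormal_iff_stronglyClosed_le hS hF).2 ⟨hP, fun R hc hr => ?_⟩
      by_contra hnle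
      have hRS := hc.1
      have hsup : R ⊔ P ≤ S := sup_le hRS hPS
      have := finite_le hsup
      have hfinR := finite_le hRS
      obtain ⟨g, hg, hgR⟩ := exists_mem_normalizerIn_not_mem (hS.to_le hsup) (left_lt_sup.2 hnle)
      have hgmem : g ∈ (R : Set Ω) * (P : Set Ω) := by
        rw [← Subgroup.coe_mul_of_left_le_normalizer_right R P
          (hRS.trans (CfsgLib.Fusion.StronglyClosed.normal_in hP))]
        exact hg.1
      obtain ⟨r, hr', q, hqP, rfl⟩ := hgmem
      have hqN : q ∈ Subgroup.normalizer (R : Set Ω) := by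
        have := mul_mem (inv_mem (Subgroup.le_normalizer (H := R) hr')) hg.2
        simpa using this
      have hqS : q ∈ normalizerIn S R := ⟨hPS hqP, hqN⟩
      set A := F.autGroup R with hA
      have hmem : ∀ {U : Subgroup Ω}, F.StronglyClosed U → ∀ (a : A) (x : R), (x : Ω) ∈ U →
          (((a : MulAut R) x : R) : Ω) ∈ U := fun hU a x hx =>
        CfsgLib.Fusion.StronglyClosed.apply_mem hU ((mem_autGroup_iff hRS).1 a.2) hx
      let K : Subgroup A :=
        { carrier := {a | (∀ x : R, ((x⁻¹ * (a : MulAut R) x : R) : Ω) ∈ P) ∧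
            ∀ (i : Fin n) (x : R), (x : Ω) ∈ Q i.succ →
              ((x⁻¹ * (a : MulAut R) x : R) : Ω) ∈ Q i.castSucc}
          one_mem' := ⟨fun x => by simp, fun i x _ => by simp⟩
          mul_mem' := fun {a b} ha hb => by
            have e : ∀ x : R, x⁻¹ * ((a * b : A) : MulAut R) x =
                (x⁻¹ * (b : MulAut R) x) * (((b : MulAut R) x)⁻¹ * (a : MulAut R) ((b : MulAut R) x)) :=
              fun x => by rw [Subgroup.coe_mul, MulAut.mul_apply]; group
            refine ⟨fun x => ?_, fun i x hx => ?_⟩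
            · rw [e, Subgroup.coe_mul]; exact P.mul_mem (hb.1 x) (ha.1 _)
            · rw [e, Subgroup.coe_mul]
              exact (Q i.castSucc).mul_mem (hb.2 i x hx) (ha.2 i _ (hmem (hsc _) b x hx))
          inv_mem' := fun {a} ha => by
            have e : ∀ x : R, x⁻¹ * ((a⁻¹ : A) : MulAut R) x =
                ((((a⁻¹ : A) : MulAut R) x)⁻¹ * (a : MulAut R) (((a⁻¹ : A) : MulAut R) x))⁻¹ :=
              fun x => by
                rw [Subgroup.coe_inv, MulAut.apply_inv_self]; group
            refine ⟨fun x => ?_, fun i x hx => ?_⟩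
            · rw [e, Subgroup.coe_inv]; exact P.inv_mem (ha.1 _)
            · rw [e, Subgroup.coe_inv]
              exact (Q i.castSucc).inv_mem (ha.2 i _ (hmem (hsc _) a⁻¹ x hx)) }
      have hKn : K.Normal := ⟨fun a ha b => by
        refine ⟨fun x => ?_, fun i x hx => ?_⟩
        · have := hmem hP b _ (ha.1 ((b : MulAut R)⁻¹ x))
          simpa [map_mul, map_inv] using this
        · have := hmem (hsc _) b _ (ha.2 i ((b : MulAut R)⁻¹ x) (by simpa using hmem (hsc _) b⁻¹ x hx))
          simpa [map_mul, map_inv] using this⟩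
      refine hgR (R.mul_mem hr' (mem_of_kernel hS hc hr K ?_ ⟨q, hqS⟩ ?_))
      · intro b hb hbc
        refine Subtype.ext (eq_one_of_fixes_small_in hS hRS (by rwa [Subgroup.orderOf_coe]) hb.1
          fun L hL hLs => ?_)
        suffices key : ∀ (i : Fin (n + 1)) (x : R), (x : Ω) ∈ Q i → (b : MulAut R) x = x from
          fun x hx => key (Fin.last n) x (by
            rw [hlast]
            exact Subgroup.subset_closure ⟨(hLs x hx).1, (hLs x hx).2.resolve_right fun h => hp h.1⟩)
        intro i
        induction i using Fin.induction with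
        | zero =>
            intro x hx
            rw [h0, Subgroup.mem_bot] at hx
            rw [show x = 1 from Subtype.ext hx, map_one]
        | succ i ih =>
            intro x hx
            exact CfsgLib.Transfer.eq_of_fixed_diff (hS.to_le hRS) (b : MulAut R)
              (m := orderOf (b : MulAut R)) (by rwa [Subgroup.orderOf_coe]) (pow_orderOf_eq_one _)
              (ih _ (hb.2 i x hx))
      · refine ⟨fun x => ?_, fun i x hx => ?_⟩
        · show (x : Ω)⁻¹ * (q * (x : Ω) * q⁻¹) ∈ P
          rw [← mul_assoc, ← mul_assoc]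
          refine P.mul_mem ?_ (P.inv_mem hqP)
          have := conj_mem_of_mem_normalizer
            (CfsgLib.Fusion.StronglyClosed.normal_in hP (S.inv_mem (hRS x.2))) hqP
          simpa using this
        · show (x : Ω)⁻¹ * (q * (x : Ω) * q⁻¹) ∈ Q i.castSucc
          have := hcomm i (Subgroup.commutator_mem_commutator ((Q i.succ).inv_mem hx) hqP)
          simpa [commutatorElement_def, mul_assoc] using this

end Cfsg.Agent.S5236
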