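import Cfsg.Statements.S5238
import Cfsg.Agent.S4143
import Cfsg.Agent.Lib.ClassSizes.MaxClassPowers
import Cfsg.Agent.Lib.Fusion.Basic

set_option autoImplicit false
open Cfsg

namespace Cfsg.Agent.S5238

theorem exists_gen_le {p : ℕ} [hp : Fact p.Prime] {Q : Type*} [Group Q] [Finite Q] (hQ : IsPGroup p Q)
    (k : ℕ) (hk : Nat.card Q ≤ p ^ k) :
    ∃ T : Finset Q, T.card ≤ k ∧ Subgroup.closure (T : Set Q) = ⊤ := by
  classical
  have key : ∀ m, ∃ T : Finset Q, T.card ≤ m ∧
      (Subgroup.closure (T : Set Q) = ⊤ ∨ p ^ m ≤ Nat.card (Subgroup.closure (T : Set Q))) := by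
    intro m
    induction m with
    | zero => exact ⟨∅, le_rfl, Or.inr (by rw [pow_zero]; exact Nat.card_pos)⟩
    | succ m ih =>
      obtain ⟨T, hT, h⟩ := ih
      by_cases htop : Subgroup.closure (T : Set Q) = ⊤
      · exact ⟨T, hT.trans (Nat.le_succ m), Or.inl htop⟩
      obtain ⟨g, hg⟩ : ∃ g, g ∉ Subgroup.closure (T : Set Q) := by
        by_contra hall
        push Not at hall
        exact htop (eq_top_iff.2 fun x _ => hall x)
      refine ⟨insert g T, (Finset.card_insert_le g T).trans (Nat.succ_le_succ hT), Or.inr ?_⟩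
      have hlt : Subgroup.closure (T : Set Q) < Subgroup.closure ((insert g T : Finset Q) : Set Q) := by
        refine lt_of_le_of_ne (Subgroup.closure_mono (by simp)) fun e => hg ?_
        rw [e]
        exact Subgroup.subset_closure (by simp)
      obtain ⟨a, ha⟩ := (hQ.to_subgroup (Subgroup.closure (T : Set Q))).exists_card_eq
      obtain ⟨b, hb⟩ := (hQ.to_subgroup (Subgroup.closure ((insert g T : Finset Q) : Set Q))).exists_card_eq
      have h1 := h.resolve_left htop
      rw [ha] at h1
      have hab : a < b := by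
        by_contra hle
        exact hlt.ne (Subgroup.eq_of_le_of_card_ge hlt.le
          (ha ▸ hb ▸ Nat.pow_le_pow_right hp.out.pos (not_lt.1 hle)))
      rw [hb]
      exact Nat.pow_le_pow_right hp.out.pos
        (Nat.succ_le_of_lt (lt_of_le_of_lt ((Nat.pow_le_pow_iff_right hp.out.one_lt).1 h1) hab))
  obtain ⟨T, hT, h⟩ := key k
  exact ⟨T, hT, h.elim id fun h => Subgroup.eq_top_of_card_eq _
    (le_antisymm (Subgroup.card_le_card_group _) (hk.trans h))⟩

theorem exists_gen_of_powers {p : ℕ} [hp : Fact p.Prime] {H : Type*} [Group H] [Finite H]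
    (hH : IsPGroup p H) (h : (Subgroup.closure {y : H | ∃ x : H, y = x ^ p}).index ≤ p ^ p) :
    ∃ T : Finset H, T.card ≤ p ∧ Subgroup.closure (T : Set H) = ⊤ := by
  classical
  have hle : Subgroup.closure {y : H | ∃ x : H, y = x ^ p} ≤ frattini H := (Subgroup.closure_le _).2
    (by rintro _ ⟨x, rfl⟩; exact CfsgLib.PGroups.pow_mem_frattini hH x)
  have hQ : Nat.card (H ⧸ frattini H) ≤ p ^ p := by
    rw [← Subgroup.index_eq_card]
    exact (Nat.le_of_dvd (Nat.pos_of_ne_zero Subgroup.index_ne_zero_of_finite)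
      (Subgroup.index_dvd_of_le hle)).trans h
  obtain ⟨T, hT, hgen⟩ := exists_gen_le (hH.to_quotient _) p hQ
  refine ⟨T.image Quotient.out, Finset.card_image_le.trans hT,
    CfsgLib.PGroups.closure_eq_top_of_sup_frattini ?_⟩
  have h1 : (Subgroup.closure ((T.image Quotient.out : Finset H) : Set H)).map
      (QuotientGroup.mk' (frattini H)) = ⊤ := by
    rw [MonoidHom.map_closure, Finset.coe_image, Set.image_image]
    simpa using hgen
  have h2 := congrArg (Subgroup.comap (QuotientGroup.mk' (frattini H))) h1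
  rwa [Subgroup.comap_map_eq, QuotientGroup.ker_mk', Subgroup.comap_top] at h2

/-- Let p be an odd prime and F a saturated fusion system over a finite p-group S having a pearl: an F-essential subgroup E that is elementary abelian of order p² or nonabelian of order p³. Then S has maximal nilpotency class (if S has order pⁿ with n ≥ 3, the term of index n − 2 of its lower central series, counting S itself as the term of index 0, is nontrivial), and every subgroup of S can be generated by at most p elements (the sectional rank of S is at most p). -/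
theorem result {Ω : Type*} [Group Ω] {S : Subgroup Ω} [Finite S] (p : ℕ) [Fact p.Prime] (hS : IsPGroup p S) (F : Cfsg.FusionSystem S) (hF : F.IsSaturated p) (hp : p ≠ 2) (E : Subgroup Ω) (hE : F.IsEssential p E) (hpearl : (Nat.card E = p ^ 2 ∧ ∀ x ∈ E, x ^ p = 1 ∧ IsMulCommutative ↥E) ∨ (Nat.card E = p ^ 3 ∧ ¬ IsMulCommutative ↥E)) : (∀ n : ℕ, Nat.card S = p ^ n → 3 ≤ n → Subgroup.lowerCentralSeries S (n - 2) ≠ ⊥) ∧ ∀ H : Subgroup Ω, H ≤ S → ∃ T : Finset Ω, T.card ≤ p ∧ Subgroup.closure (T : Set Ω) = H := by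
  classical
  have hp' : p.Prime := Fact.out
  obtain ⟨n, hn⟩ := hS.exists_card_eq
  have hES : E ≤ S := hE.1.1
  have hCE : Subgroup.centralizer ((E.subgroupOf S : Subgroup S) : Set S) ≤ E.subgroupOf S :=
    fun g hg => hE.1.2 E (CfsgLib.Fusion.isConj_refl hES) (CfsgLib.Fusion.mem_centralizerIn.2
      ⟨g.2, fun y hy => congrArg Subtype.val (Subgroup.mem_centralizer_iff.1 hg ⟨y, hES hy⟩ hy)⟩)
  have hcardE : Nat.card (E.subgroupOf S) = Nat.card E :=
    Nat.card_congr (Subgroup.subgroupOfEquivOfLe hES).toEquiv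
  have hclass : Group.nilpotencyClass S = n - 1 := by
    rcases hpearl with ⟨hc, hab⟩ | ⟨hc, hna⟩
    · haveI := (hab 1 E.one_mem).2
      refine CfsgLib.Transfer.class_eq_of_self_centralizing n S hn (E.subgroupOf S)
        (hcardE.trans hc) (le_antisymm hCE fun g hg => Subgroup.mem_centralizer_iff.2 fun y hy =>
          Subtype.ext ?_)
      exact congrArg (fun w : E => (w : Ω)) (IsMulCommutative.is_comm.comm (⟨y.1, hy⟩ : E) ⟨g.1, hg⟩)
    · refine Cfsg.Agent.S4143.result n hn (E.subgroupOf S) (hcardE.trans hc) (fun h => hna ?_) hCE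
      exact ⟨⟨fun a b => Subtype.ext (congrArg (fun w : E.subgroupOf S => ((w : S) : Ω))
        (h.is_comm.comm ⟨⟨a, hES a.2⟩, a.2⟩ ⟨⟨b, hES b.2⟩, b.2⟩))⟩⟩
  haveI := hS.isNilpotent
  refine ⟨fun m hm h3 hbot => ?_, fun H hH => ?_⟩
  · obtain rfl : m = n := Nat.pow_right_injective hp'.two_le (hm.symm.trans hn)
    have h1 : ((⊤ : Subgroup S).lowerCentralSeries (m - 2)).map S.subtype = ⊥ := by
      rw [Subgroup.map_lowerCentralSeries, ← MonoidHom.range_eq_map, Subgroup.range_subtype]
      exact hbot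
    rw [Subgroup.map_eq_bot_iff_of_injective _ S.subtype_injective,
      Subgroup.lowerCentralSeries_eq_bot_iff_nilpotencyClass_le, hclass] at h1
    omega
  · haveI := CfsgLib.Fusion.finite_le hH
    set K := H.subgroupOf S
    let e : K ≃* H := Subgroup.subgroupOfEquivOfLe hH
    suffices h : ∃ T : Finset K, T.card ≤ p ∧ Subgroup.closure (T : Set K) = ⊤ by
      obtain ⟨T, hT, hgen⟩ := h
      refine ⟨T.image (fun k : K => ((k : S) : Ω)), Finset.card_image_le.trans hT, ?_⟩
      rw [Finset.coe_image, show (fun k : K => ((k : S) : Ω)) = ⇑(S.subtype.comp K.subtype) from rfl,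
        ← MonoidHom.map_closure, hgen, ← MonoidHom.range_eq_map, MonoidHom.range_comp,
        Subgroup.range_subtype, Subgroup.subgroupOf_map_subtype, inf_eq_left.2 hH]
    refine exists_gen_of_powers (hS.to_subgroup K) ?_
    by_cases hn2 : 2 ≤ n
    · have hrel : (Subgroup.closure {y : S | ∃ h ∈ K, y = h ^ p}).relIndex K ≤ p ^ p := by
        rcases Nat.lt_or_ge n 3 with h | h
        · exact (Nat.le_of_dvd Nat.card_pos (Subgroup.index_dvd_card _)).trans
            ((Subgroup.card_le_card_group K).trans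
              (hn ▸ Nat.pow_le_pow_right hp'.pos (by have := hp'.two_le; omega)))
        · exact (CfsgLib.ClassSizes.MaxClass.Data.of h hn hclass).relIndex_powers_le K
      refine le_trans (le_of_eq ?_) hrel
      rw [Subgroup.relIndex]
      congr 1
      refine Subgroup.map_injective K.subtype_injective ?_
      rw [MonoidHom.map_closure, Subgroup.subgroupOf_map_subtype, inf_eq_left.2
        ((Subgroup.closure_le _).2 (by rintro _ ⟨h, hh, rfl⟩; exact K.pow_mem hh p))]
      congr 1
      ext y
      constructor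
      · rintro ⟨_, ⟨x, rfl⟩, rfl⟩; exact ⟨x, x.2, Subgroup.coe_pow _ _ _⟩
      · rintro ⟨h, hh, rfl⟩; exact ⟨⟨h, hh⟩ ^ p, ⟨_, rfl⟩, rfl⟩
    · exact (Nat.le_of_dvd Nat.card_pos (Subgroup.index_dvd_card _)).trans
        ((Subgroup.card_le_card_group K).trans
          (hn ▸ Nat.pow_le_pow_right hp'.pos (by have := hp'.two_le; omega)))

end Cfsg.Agent.S5238
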