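import Cfsg.Statements.S5239
import Cfsg.Agent.S4143
import Cfsg.Agent.Lib.PGroups.MaxClassThree
import Cfsg.Agent.Lib.Fusion.CenterIndexSquareOdd

set_option autoImplicit false
open Cfsg

namespace Cfsg.Agent.S5239

open scoped Pointwise commutatorElement

theorem class_of_pearl {Ω : Type*} [Group Ω] {S : Subgroup Ω} [Finite S] {p : ℕ} [Fact p.Prime]
    {F : Cfsg.FusionSystem S} {E : Subgroup Ω} (hE : F.IsEssential p E) {n : ℕ}
    (hn : Nat.card S = p ^ n)
    (hpearl : (Nat.card E = p ^ 2 ∧ IsMulCommutative ↥E) ∨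
      (Nat.card E = p ^ 3 ∧ ¬ IsMulCommutative ↥E)) : Group.nilpotencyClass S = n - 1 := by
  have hES : E ≤ S := hE.1.1
  have hCE : Subgroup.centralizer ((E.subgroupOf S : Subgroup S) : Set S) ≤ E.subgroupOf S :=
    fun g hg => hE.1.2 E (CfsgLib.Fusion.isConj_refl hES) (CfsgLib.Fusion.mem_centralizerIn.2
      ⟨g.2, fun y hy => congrArg Subtype.val (Subgroup.mem_centralizer_iff.1 hg ⟨y, hES hy⟩ hy)⟩)
  have hcardE : Nat.card (E.subgroupOf S) = Nat.card E :=
    Nat.card_congr (Subgroup.subgroupOfEquivOfLe hES).toEquiv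
  rcases hpearl with ⟨hc, hab⟩ | ⟨hc, hna⟩
  · refine CfsgLib.Transfer.class_eq_of_self_centralizing n S hn (E.subgroupOf S)
      (hcardE.trans hc) (le_antisymm hCE fun g hg => Subgroup.mem_centralizer_iff.2 fun y hy =>
        Subtype.ext ?_)
    exact congrArg (fun w : E => (w : Ω)) (IsMulCommutative.is_comm.comm (⟨y.1, hy⟩ : E) ⟨g.1, hg⟩)
  · refine Cfsg.Agent.S4143.result n hn (E.subgroupOf S) (hcardE.trans hc) (fun h => hna ?_) hCE
    exact ⟨⟨fun a b => Subtype.ext (congrArg (fun w : E.subgroupOf S => ((w : S) : Ω))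
      (h.is_comm.comm ⟨⟨a, hES a.2⟩, a.2⟩ ⟨⟨b, hES b.2⟩, b.2⟩))⟩⟩

theorem sylow_perm_nine {G : Type*} [Group G] [Finite G] (hG : Nat.card G = 81)
    (A : Subgroup G) (hA : Nat.card A = 27) (hexp : ∀ a ∈ A, a ^ 3 = 1) (hAc : IsMulCommutative A)
    (hZ : Nat.card (Subgroup.center G) = 3) :
    ∃ W : Sylow 3 (Equiv.Perm (Fin 9)), Nonempty (G ≃* ↥(W : Subgroup (Equiv.Perm (Fin 9)))) := by
  classical
  have : Fact (Nat.Prime 3) := ⟨Nat.prime_three⟩
  have hGp : IsPGroup 3 G := IsPGroup.of_card (n := 4) hG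
  have habA : ∀ a ∈ A, ∀ b ∈ A, a * b = b * a := fun a ha b hb =>
    congrArg Subtype.val (hAc.is_comm.comm (⟨a, ha⟩ : A) ⟨b, hb⟩)
  obtain ⟨z, hz⟩ := exists_prime_orderOf_dvd_card' (G := Subgroup.center G) 3 (by rw [hZ])
  have hzo : orderOf (z : G) = 3 := by rw [Subgroup.orderOf_coe, hz]
  have hzc : ∀ g : G, g * (z : G) = (z : G) * g := Subgroup.mem_center_iff.1 z.2
  have hzA : (z : G) ∈ A := by
    by_contra hzA
    have htop : A ⊔ Subgroup.center G = ⊤ := by
      refine Subgroup.eq_top_of_le_card _ ?_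
      obtain ⟨e, he⟩ := (hGp.to_subgroup (A ⊔ Subgroup.center G)).exists_card_eq
      have hlt : Nat.card A < Nat.card (A ⊔ Subgroup.center G : Subgroup G) :=
        lt_of_le_of_ne (Subgroup.card_le_of_le le_sup_left) fun h => hzA (by
          rw [Subgroup.eq_of_le_of_card_ge (le_sup_left : A ≤ A ⊔ Subgroup.center G) h.ge]
          exact Subgroup.mem_sup_right z.2)
      rw [hA, he, show (27 : ℕ) = 3 ^ 3 by norm_num, Nat.pow_lt_pow_iff_right (by norm_num)] at hlt
      rw [hG, he, show (81 : ℕ) = 3 ^ 4 by norm_num]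
      exact Nat.pow_le_pow_right (by norm_num) (by omega)
    have hall : (⊤ : Subgroup G) ≤ Subgroup.centralizer (A : Set G) := by
      rw [← htop]
      exact sup_le (fun a ha => Subgroup.mem_centralizer_iff.2 fun b hb => habA b hb a ha)
        (Subgroup.center_le_centralizer _)
    have hle : A ≤ Subgroup.center G := fun a ha => Subgroup.mem_center_iff.2 fun g =>
      (Subgroup.mem_centralizer_iff.1 (hall (Subgroup.mem_top g)) a ha).symm
    have := Subgroup.card_le_of_le hle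
    omega
  obtain ⟨B, ⟨hBA, hzB⟩, hmax⟩ := (Set.toFinite
    {B : Subgroup G | B ≤ A ∧ (z : G) ∉ B}).exists_maximal ⟨⊥, bot_le, fun h => by
      rw [Subgroup.mem_bot] at h; rw [h, orderOf_one] at hzo; omega⟩
  have hdec : ∀ a ∈ A, ∃ i : ℕ, ∃ b ∈ B, a = (z : G) ^ i * b := by
    intro a ha
    by_cases haB : a ∈ B
    · exact ⟨0, a, haB, by simp⟩
    by_cases hzin : (z : G) ∈ B ⊔ Subgroup.zpowers a
    · have hnorm : B ≤ Subgroup.normalizer (Subgroup.zpowers a : Set G) := fun b hb => by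
        rw [Subgroup.mem_normalizer_iff]
        intro x
        constructor
        · intro hx
          rw [habA b (hBA hb) x ((Subgroup.zpowers_le.2 ha) hx), mul_inv_cancel_right]
          exact hx
        · intro hx
          have hxA : x ∈ A := by
            have := (Subgroup.zpowers_le.2 ha) hx
            simpa [mul_assoc] using A.mul_mem (A.mul_mem (A.inv_mem (hBA hb)) this) (hBA hb)
          rwa [habA b (hBA hb) x hxA, mul_inv_cancel_right] at hx
      obtain ⟨b, hb, q, hq, hbq⟩ : (z : G) ∈ (B : Set G) * (Subgroup.zpowers a : Set G) := by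
        rw [← Subgroup.coe_mul_of_left_le_normalizer_right B _ hnorm]; exact hzin
      obtain ⟨n, hn⟩ := mem_powers_iff_mem_zpowers.2 hq
      have hn' : ¬ 3 ∣ n := fun ⟨c, hc⟩ => hzB (by
        rw [← hbq, ← hn]
        show b * a ^ n ∈ B
        rw [hc, pow_mul, hexp a ha, one_pow, mul_one]
        exact hb)
      obtain ⟨m, -, hm⟩ := Nat.exists_mul_mod_eq_one_of_coprime
        ((Nat.prime_three).coprime_iff_not_dvd.2 hn').symm (by norm_num)
      refine ⟨m, (b ^ m)⁻¹, B.inv_mem (B.pow_mem hb m), ?_⟩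
      have hba : Commute b q := habA b (hBA hb) q ((Subgroup.zpowers_le.2 ha) hq)
      rw [← hbq, hba.mul_pow, ← hn]
      show a = b ^ m * (a ^ n) ^ m * (b ^ m)⁻¹
      rw [habA _ (A.pow_mem (hBA hb) m) _ (A.pow_mem (A.pow_mem ha n) m), mul_inv_cancel_right,
        ← pow_mul, pow_eq_pow_mod _ (hexp a ha), hm, pow_one]
    · exact absurd (hmax ⟨sup_le hBA (Subgroup.zpowers_le.2 ha), hzin⟩ le_sup_left
        (Subgroup.mem_sup_right (Subgroup.mem_zpowers a))) haB
  have hB9 : 27 ≤ 3 * Nat.card B := by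
    let f : Fin 3 × B → A := fun t => ⟨(z : G) ^ (t.1 : ℕ) * t.2, A.mul_mem (A.pow_mem hzA _) (hBA t.2.2)⟩
    have hf : Function.Surjective f := by
      rintro ⟨a, ha⟩
      obtain ⟨i, b, hb, rfl⟩ := hdec a ha
      refine ⟨(⟨i % 3, Nat.mod_lt _ (by norm_num)⟩, ⟨b, hb⟩), Subtype.ext ?_⟩
      show (z : G) ^ (i % 3) * b = (z : G) ^ i * b
      rw [← hzo, pow_mod_orderOf]
    have := Nat.card_le_card_of_surjective f hf
    rw [hA, Nat.card_prod, Nat.card_fin] at this
    exact this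
  have hBlt : Nat.card B < 27 := by
    rw [← hA]
    exact lt_of_le_of_ne (Subgroup.card_le_of_le hBA) fun h =>
      hzB (Subgroup.eq_of_le_of_card_ge hBA h.ge ▸ hzA)
  have hB : Nat.card B = 9 := by
    obtain ⟨e, he⟩ := (hGp.to_subgroup B).exists_card_eq
    rw [he] at hB9 hBlt ⊢
    have h1 : e < 3 := (Nat.pow_lt_pow_iff_right (by norm_num : 1 < 3)).1 (by norm_num; omega)
    interval_cases e <;> first | rfl | omega
  have hcore : B.normalCore = ⊥ := by
    by_contra hne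
    have hmeet := CfsgLib.PGroups.inf_center_ne_bot hGp (N := B.normalCore) hne
    have hle : B.normalCore ⊓ Subgroup.center G = Subgroup.center G := by
      refine Subgroup.eq_of_le_of_card_ge inf_le_right ?_
      rw [hZ]
      obtain ⟨e, he⟩ := (hGp.to_subgroup (B.normalCore ⊓ Subgroup.center G : Subgroup G)).exists_card_eq
      rw [he]
      refine Nat.le_self_pow (fun h0 => hmeet ?_) 3
      rw [h0, pow_zero] at he
      exact Subgroup.card_eq_one.1 he
    exact hzB (B.normalCore_le (hle.ge z.2).1)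
  have hidx : Nat.card (G ⧸ B) = 9 := by
    have := B.card_eq_card_quotient_mul_card_subgroup
    rw [hG, hB] at this
    omega
  let e : G ⧸ B ≃ Fin 9 := hidx ▸ Finite.equivFin (G ⧸ B)
  let ρ : G →* Equiv.Perm (Fin 9) :=
    (Equiv.permCongrHom e).toMonoidHom.comp (MulAction.toPermHom G (G ⧸ B))
  have hρ : Function.Injective ρ := by
    rw [← MonoidHom.ker_eq_bot_iff, eq_bot_iff, ← hcore]
    intro g hg
    rw [Subgroup.normalCore_eq_ker]
    exact (Equiv.permCongrHom e).injective ((MonoidHom.mem_ker.1 hg).trans (map_one _).symm)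
  have hcard : Nat.card ρ.range = 81 := by
    rw [← Nat.card_congr (MonoidHom.ofInjective hρ).toEquiv, hG]
  refine ⟨{ toSubgroup := ρ.range
            isPGroup' := IsPGroup.of_card (n := 4) (by rw [hcard]; rfl)
            is_maximal' := fun {Q} hQ hle => (Subgroup.eq_of_le_of_card_ge hle ?_).symm },
    ⟨MonoidHom.ofInjective hρ⟩⟩
  rw [hcard]
  obtain ⟨k, hk⟩ := hQ.exists_card_eq
  rw [hk, show (81 : ℕ) = 3 ^ 4 by norm_num]
  refine Nat.pow_le_pow_right (by norm_num) ?_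
  by_contra hk5
  have h5 : 3 ^ 5 ∣ Nat.card (Equiv.Perm (Fin 9)) :=
    (pow_dvd_pow 3 (show 5 ≤ k by omega)).trans (hk ▸ Subgroup.card_subgroup_dvd_card Q)
  rw [Nat.card_perm, Nat.card_fin] at h5
  norm_num [Nat.factorial] at h5

open CfsgLib.Fusion in
theorem exponent_three {Ω : Type*} [Group Ω] {S : Subgroup Ω} [Finite S] [Fact (Nat.Prime 3)]
    (hS : IsPGroup 3 S) {F : Cfsg.FusionSystem S} (hF : F.IsSaturated 3) {E : Subgroup Ω}
    (hE : F.IsEssential 3 E) (hE9 : ∀ e ∈ E, e ^ 3 = 1) (hna : ¬ IsMulCommutative S)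
    (hcard : Nat.card S = 27) : ∀ s ∈ S, s ^ 3 = 1 := by
  have hidx : (Subgroup.center S).index ≤ 3 ^ 2 := by
    obtain ⟨k, hk, hk'⟩ := IsPGroup.card_center_eq_prime_pow (p := 3) (n := 3) hcard (by norm_num)
    have h := (Subgroup.center S).card_mul_index
    rw [hk', hcard] at h
    have : 3 ≤ 3 ^ k := Nat.le_self_pow (by omega) 3
    nlinarith
  obtain ⟨z, hz⟩ := exists_centerSquare hS hna hidx
  have hZ : centerOf S = Subgroup.zpowers z := by
    have hc3 : Nat.card (Subgroup.center S) = 3 := by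
      have h := (Subgroup.center S).card_mul_index
      rw [hcard, le_antisymm hidx (CfsgLib.PGroups.sq_le_index_center hS hna)] at h
      omega
    have h1 : (Subgroup.center S).map S.subtype = centerOf S := by
      ext a
      constructor
      · rintro ⟨s, hs, rfl⟩
        exact (mem_centerOf_iff s).2 hs
      · intro ha
        exact ⟨⟨a, centerOf_le S ha⟩, (mem_centerOf_iff _).1 ha, rfl⟩
    haveI := finite_le (S := S) (centerOf_le S)
    refine (Subgroup.eq_of_le_of_card_ge (Subgroup.zpowers_le.2 hz.mem) ?_).symm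
    rw [← h1, Subgroup.card_subtype, hc3, Nat.card_zpowers, hz.order]
  intro x hx
  by_cases hxE : x ∈ E
  · exact hE9 x hxE
  obtain ⟨hZE, hab', -, hx'⟩ := ess_facts hS hF hz hE
  obtain ⟨u, zE, hzE, hab, huG, huval, hu, huz, hzp, hmax, -, ⟨γ, hγ, hγt⟩, hext⟩ :=
    ess_action hS hF hz hE hx hxE
  have := finite_le hE.1.1
  obtain ⟨τ, hτG, hτz, -, -, hτu⟩ :=
    CfsgLib.PGroups.Transvections.exists_inverting hab hzp huG hu huz hmax hγ hγt
  obtain ⟨σ, hσ, hσv⟩ := hext τ hτG (MulEquiv.ext hτu)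
  set xS : S := ⟨x, hx⟩
  set c : S := xS⁻¹ * σ xS with hc
  have hcE : (c : Ω) ∈ E := by
    refine hE.1.2 E (isConj_refl hE.1.1) (mem_centralizerIn.2 ⟨c.2, fun e he => ?_⟩)
    set eS : E := τ⁻¹ ⟨e, he⟩ with heS
    have h1 : σ (xS * ⟨eS, hE.1.1 eS.2⟩ * xS⁻¹) =
        xS * ⟨(τ eS : E), hE.1.1 (τ eS).2⟩ * xS⁻¹ := by
      rw [show xS * (⟨eS, hE.1.1 eS.2⟩ : S) * xS⁻¹ = ⟨(u eS : E), hE.1.1 (u eS).2⟩ from
        Subtype.ext (huval eS).symm]
      refine Subtype.ext ?_
      rw [hσv, hτu, huval]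
      rfl
    have h2 : (⟨(τ eS : E), hE.1.1 (τ eS).2⟩ : S) = ⟨e, hE.1.1 he⟩ :=
      Subtype.ext (by rw [heS, MulAut.apply_inv_self])
    rw [map_mul, map_mul, map_inv,
      show σ (⟨eS, hE.1.1 eS.2⟩ : S) = ⟨(τ eS : E), hE.1.1 (τ eS).2⟩ from Subtype.ext (hσv eS),
      h2] at h1
    have h3 : Commute c (⟨e, hE.1.1 he⟩ : S) := by
      refine mul_inv_eq_iff_eq_mul.1 ?_
      calc c * ⟨e, hE.1.1 he⟩ * c⁻¹ = xS⁻¹ * (σ xS * ⟨e, hE.1.1 he⟩ * (σ xS)⁻¹) * xS := by
            rw [hc]; group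
        _ = _ := by rw [h1]; group
    exact congrArg Subtype.val h3.symm.eq
  have hcom : ⁅c, xS⁆ ∈ Subgroup.center S :=
    (mem_centerOf_iff _).1 ((Subgroup.zpowers_le.2 hz.mem) (hz.comm c c.2 x hx))
  have hcom3 : (⁅c, xS⁆ : S) ^ 3 = 1 := by
    obtain ⟨k, hk⟩ := hz.comm c c.2 x hx
    refine Subtype.ext ?_
    show ⁅(c : Ω), x⁆ ^ 3 = 1
    rw [← hk]
    show (z ^ k) ^ 3 = 1
    rw [← zpow_natCast (z ^ k), zpow_comm, zpow_natCast, hz.pow_eq_one, one_zpow]
  have hx3 : σ (xS ^ 3) = xS ^ 3 := by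
    rw [map_pow, show σ xS = xS * c by rw [hc, mul_inv_cancel_left],
      CfsgLib.PGroups.mul_pow_of_central_odd hcom (by decide) hcom3,
      show c ^ 3 = 1 from Subtype.ext (hE9 c hcE), mul_one]
  have hxc : x ^ 3 ∈ Subgroup.zpowers z := hZ ▸ hz.pow x hx
  obtain ⟨k, hk⟩ := hxc
  set zS : S := ⟨z, hz.mem_S⟩
  have hxk : xS ^ 3 = zS ^ k := Subtype.ext hk.symm
  have hσz : σ zS = zS⁻¹ := by
    refine Subtype.ext ?_
    subst hzE
    exact (hσv zE).trans (congrArg (fun w : E => (w : Ω)) hτz)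
  rw [hxk, map_zpow, hσz, inv_zpow, inv_eq_iff_mul_eq_one, ← hxk, ← pow_add] at hx3
  have h6 : xS ^ 9 = 1 := by
    rw [show 9 = 3 * 3 by norm_num, pow_mul, hxk, ← zpow_natCast, zpow_comm, zpow_natCast,
      show zS ^ 3 = 1 from Subtype.ext hz.pow_eq_one, one_zpow]
  have h9 : xS ^ 3 = 1 := by
    rw [show 9 = 3 + 6 by norm_num, pow_add, show 6 = 3 + 3 by norm_num, hx3, mul_one] at h6
    exact h6
  exact congrArg Subtype.val h9

/-- Let F be a saturated fusion system over a finite 3-group S having a pearl: an F-essential subgroup E that is elementary abelian of order 9 or nonabelian of order 27. Then either S is extraspecial of order 27 and exponent 3, or S has order at least 81 and every subgroup of S can be generated by at most two elements, or S is isomorphic to the wreath product C₃ ≀ C₃ (a Sylow 3-subgroup of the symmetric group of degree 9). -/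
theorem result {Ω : Type*} [Group Ω] {S : Subgroup Ω} [Finite S] (hS : IsPGroup 3 S) (F : Cfsg.FusionSystem S) (hF : F.IsSaturated 3) [Fact (Nat.Prime 3)] (E : Subgroup Ω) (hE : F.IsEssential 3 E) (hpearl : (Nat.card E = 9 ∧ ∀ x ∈ E, x ^ 3 = 1 ∧ IsMulCommutative ↥E) ∨ (Nat.card E = 27 ∧ ¬ IsMulCommutative ↥E)) : (Cfsg.IsExtraspecial 3 ↥S ∧ Nat.card S = 27 ∧ Monoid.exponent ↥S = 3) ∨ (81 ≤ Nat.card S ∧ ∀ H : Subgroup Ω, H ≤ S → ∃ T : Finset Ω, T.card ≤ 2 ∧ Subgroup.closure (T : Set Ω) = H) ∨ (∃ W : Sylow 3 (Equiv.Perm (Fin 9)), Nonempty (↥S ≃* ↥(W : Subgroup (Equiv.Perm (Fin 9))))) := by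
  classical
  have hS27 : 27 ≤ Nat.card S ∧ (Nat.card S = 27 → Nat.card E = 9) := by
    have hne : E ≠ S := CfsgLib.Fusion.isEssential_ne_self hS hF hE
    have hlt : Nat.card E < Nat.card S := lt_of_le_of_ne (Subgroup.card_le_of_le hE.1.1) fun h =>
      hne (Subgroup.eq_of_le_of_card_ge hE.1.1 h.ge)
    obtain ⟨k, hk⟩ := hS.exists_card_eq
    rw [hk] at hlt ⊢
    rcases hpearl with ⟨h, -⟩ | ⟨h, -⟩
    · rw [h, show (9 : ℕ) = 3 ^ 2 by norm_num, Nat.pow_lt_pow_iff_right (by norm_num)] at hlt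
      exact ⟨(show (27 : ℕ) = 3 ^ 3 by norm_num) ▸ Nat.pow_le_pow_right (by norm_num) hlt, fun _ => h⟩
    · rw [h, show (27 : ℕ) = 3 ^ 3 by norm_num, Nat.pow_lt_pow_iff_right (by norm_num)] at hlt
      have h4 : 3 ^ 4 ≤ 3 ^ k := Nat.pow_le_pow_right (by norm_num) hlt
      exact ⟨by omega, fun h' => by omega⟩
  obtain ⟨n, hn⟩ := hS.exists_card_eq
  have hn3 : 3 ≤ n := (Nat.pow_le_pow_iff_right (by norm_num : 1 < 3)).1 (hn ▸ hS27.1)
  have hclass : Group.nilpotencyClass S = n - 1 := by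
    refine class_of_pearl hE hn ?_
    rcases hpearl with ⟨h, hab⟩ | ⟨h, hna⟩
    · exact Or.inl ⟨h.trans (by norm_num), (hab 1 E.one_mem).2⟩
    · exact Or.inr ⟨h.trans (by norm_num), hna⟩
  haveI := hS.isNilpotent
  rcases Nat.lt_or_ge n 4 with hn4 | hn4
  · have hcard : Nat.card S = 27 := by rw [hn, show n = 3 by omega]; norm_num
    have hna : ¬ IsMulCommutative S := fun h => by
      have hc : Group.nilpotencyClass S ≤ 1 := by
        rw [← Subgroup.lowerCentralSeries_eq_bot_iff_nilpotencyClass_le,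
          Subgroup.top_lowerCentralSeries_one, _root_.commutator_def,
          Subgroup.commutator_eq_bot_iff_le_centralizer]
        exact fun a _ => Subgroup.mem_centralizer_iff.2 fun b _ => h.is_comm.comm b a
      omega
    have hE9 : ∀ e ∈ E, e ^ 3 = 1 := by
      rcases hpearl with ⟨-, h⟩ | ⟨h, -⟩
      · exact fun e he => (h e he).1
      · exact absurd (hS27.2 hcard) (by omega)
    have hexp := exponent_three hS hF hE hE9 hna hcard
    refine Or.inl ⟨CfsgLib.PGroups.isExtraspecial_of_card_cube hna (by rw [hcard]; norm_num), hcard, ?_⟩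
    refine ((Nat.dvd_prime Nat.prime_three).1 (Monoid.exponent_dvd_of_forall_pow_eq_one fun s =>
      Subtype.ext (hexp s s.2))).resolve_left fun h => hna ⟨⟨fun a b => ?_⟩⟩
    have := Monoid.pow_exponent_eq_one a
    rw [h, pow_one] at this
    rw [this, one_mul, mul_one]
  have h81 : 81 ≤ Nat.card S := by
    rw [hn, show (81 : ℕ) = 3 ^ 4 by norm_num]; exact Nat.pow_le_pow_right (by norm_num) hn4
  have D := CfsgLib.ClassSizes.MaxClass.Data.of hn3 hn hclass
  have hlift : (∀ K : Subgroup S, ∃ T : Finset S, T.card ≤ 2 ∧ Subgroup.closure (T : Set S) = K) →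
      ∀ H : Subgroup Ω, H ≤ S → ∃ T : Finset Ω, T.card ≤ 2 ∧ Subgroup.closure (T : Set Ω) = H := by
    intro h H hH
    obtain ⟨T, hT, hgen⟩ := h (H.subgroupOf S)
    refine ⟨T.image (fun s : S => (s : Ω)), Finset.card_image_le.trans hT, ?_⟩
    rw [Finset.coe_image, show (fun s : S => (s : Ω)) = ⇑S.subtype from rfl, ← MonoidHom.map_closure,
      hgen, Subgroup.subgroupOf_map_subtype, inf_eq_left.2 hH]
  rcases Nat.lt_or_ge n 5 with hn5 | hn5
  · obtain rfl : n = 4 := by omega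
    rcases CfsgLib.PGroups.MaxClassThree.gen_two_or_elementary D with h | ⟨A, hA, hAe, hAc⟩
    · exact Or.inr (Or.inl ⟨h81, hlift h⟩)
    · exact Or.inr (Or.inr (sylow_perm_nine (hn.trans (by norm_num)) A hA hAe hAc
        (CfsgLib.Transfer.card_center_of_class (by norm_num) hn hclass).1))
  · exact Or.inr (Or.inl ⟨h81, hlift (CfsgLib.PGroups.MaxClassThree.gen_two_of_five_le D hn5)⟩)

end Cfsg.Agent.S5239
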