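import Cfsg.Statements.S5244
import Cfsg.Agent.Lib.Fusion.AbelianIndexP

set_option autoImplicit false
open Cfsg

namespace Cfsg.Agent.S5244

open CfsgLib.Fusion

open scoped commutatorElement in
theorem maximalClass {Ω : Type*} [Group Ω] {S A : Subgroup Ω} [Finite S] {p : ℕ} [hp : Fact p.Prime]
    (hA : AbIndex S A p) (hidx : (A.subgroupOf S).index = p) {x : Ω} (hx : x ∈ S) (hxA : x ∉ A)
    (hZ : Nat.card (centerOf S) = p) {n : ℕ} (hn : Nat.card S = p ^ n) (h3 : 3 ≤ n) :
    Subgroup.lowerCentralSeries S (n - 2) ≠ ⊥ := by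
  intro hbot
  have := finite_le hA.le
  let f : A →* A :=
    { toFun := fun a => ⟨⁅(a : Ω), x⁆, hA.br_mem a.2 hx⟩
      map_one' := Subtype.ext (commutatorElement_one_left x)
      map_mul' := fun a b => Subtype.ext (hA.br_mul a.2 b.2 hx) }
  have hker : Nat.card f.ker ≤ p := by
    rw [← hZ]
    have := finite_le (S := S) (centerOf_le S)
    refine Nat.card_le_card_of_injective (fun a : f.ker => (⟨(a : A), hA.fix_mem hx hxA (a : A).2
      (commutatorElement_eq_one_iff_mul_comm.1 (congrArg Subtype.val (MonoidHom.mem_ker.1 a.2)))⟩ :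
        centerOf S)) fun a b h => Subtype.ext (Subtype.ext (congrArg Subtype.val h :))
  have hiter : ∀ k, ∀ a : A, ((f^[k]) a : Ω) ∈ Subgroup.lowerCentralSeries S k := by
    intro k
    induction k with
    | zero => exact fun a => hA.le a.2
    | succ k ih =>
      intro a
      rw [Function.iterate_succ_apply']
      exact Subgroup.commutator_mem_commutator (ih a) hx
  have hK : ∀ k, ∃ K : Subgroup A, Nat.card K ≤ p ^ k ∧ ∀ a : A, (f^[k]) a = 1 → a ∈ K := by
    intro k
    induction k with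
    | zero => exact ⟨⊥, by simp, fun a ha => ha⟩
    | succ k ih =>
      obtain ⟨K, hK, hKm⟩ := ih
      refine ⟨K.comap f, ?_, fun a ha => hKm _ (by rwa [← Function.iterate_succ_apply])⟩
      let g : K.comap f →* K := (f.comp (K.comap f).subtype).codRestrict K fun a => a.2
      have h1 := g.ker.card_mul_index
      rw [Subgroup.index_ker] at h1
      have h2 : Nat.card g.ker ≤ Nat.card f.ker :=
        Nat.card_le_card_of_injective (fun a : g.ker => (⟨((a : K.comap f) : A),
          MonoidHom.mem_ker.2 (congrArg Subtype.val (MonoidHom.mem_ker.1 a.2) :)⟩ : f.ker))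
          fun a b h => Subtype.ext (Subtype.ext (congrArg Subtype.val h :))
      have h3 := Subgroup.card_le_card_group g.range
      rw [← h1, pow_succ']
      exact Nat.mul_le_mul (h2.trans hker) (h3.trans hK)
  obtain ⟨K, hK, hKm⟩ := hK (n - 2)
  have htop : Nat.card A ≤ Nat.card K := by
    refine Nat.card_le_card_of_injective (fun a : A => (⟨a, hKm a (Subtype.ext ?_)⟩ : K))
      fun a b h => congrArg Subtype.val h
    exact Subgroup.mem_bot.1 (hbot ▸ hiter (n - 2) a)
  have h := (A.subgroupOf S).card_mul_index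
  rw [hidx, Nat.card_congr (Subgroup.subgroupOfEquivOfLe hA.le).toEquiv, hn,
    show n = n - 1 + 1 by omega, pow_succ] at h
  have hA' := Nat.eq_of_mul_eq_mul_right hp.out.pos h
  rw [hA'] at htop
  have := (Nat.pow_le_pow_iff_right hp.out.one_lt).1 (htop.trans hK)
  omega

/-- Let p be an odd prime, S a finite nonabelian p-group with a unique abelian subgroup A of index p, and F a saturated fusion system over S with no nontrivial normal subgroup (O_p(F) = 1) in which A is not F-essential. Then some subgroup Z(S)⟨x⟩ with x ∈ S outside A is F-essential, the centre Z(S) is contained in the commutator subgroup of S, and S has maximal nilpotency class (if S has order pⁿ with n ≥ 3, the term of index n − 2 of its lower central series, counting S itself as the term of index 0, is nontrivial). -/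
theorem result {Ω : Type*} [Group Ω] {S : Subgroup Ω} [Finite S] (p : ℕ) [Fact p.Prime] (hS : IsPGroup p S) (F : Cfsg.FusionSystem S) (hF : F.IsSaturated p) (hp : p ≠ 2) (hna : ¬ IsMulCommutative ↥S) (A : Subgroup Ω) (hA : A ≤ S ∧ IsMulCommutative ↥A ∧ (A.subgroupOf S).index = p) (huniq : ∀ B : Subgroup Ω, B ≤ S → IsMulCommutative ↥B → (B.subgroupOf S).index = p → B = A) (hcore : F.core = ⊥) (hAe : ¬ F.IsEssential p A) : (∃ x ∈ S, x ∉ A ∧ F.IsEssential p ((S ⊓ Subgroup.centralizer (S : Set Ω)) ⊔ Subgroup.zpowers x)) ∧ (S ⊓ Subgroup.centralizer (S : Set Ω)) ≤ (commutator ↥S).map S.subtype ∧ ∀ n : ℕ, Nat.card S = p ^ n → 3 ≤ n → Subgroup.lowerCentralSeries S (n - 2) ≠ ⊥ := by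
  classical
  obtain ⟨hAS, hAc, hidx⟩ := hA
  have hX : AbIndex S A p := exists_abIndex hS hna hAS hAc hidx
  have hZne : centerOf S ≠ ⊥ := fun h => hX.centerDerived_ne_bot hS
    (le_bot_iff.1 (h ▸ inf_le_left))
  have hSinv : ∀ α : MulAut S, ((centerOf S).subgroupOf S).map α.toMonoidHom =
      (centerOf S).subgroupOf S := fun α => map_subgroupOf_eq le_rfl (by
    rintro _ ⟨c, hc, rfl⟩
    exact aut_centerOf hc)
  obtain ⟨E, hE, hab⟩ : ∃ E, F.IsEssential p E ∧ ∀ a ∈ E, ∀ b ∈ E, a * b = b * a := by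
    by_contra h
    push Not at h
    refine hZne (le_bot_iff.1 (hcore ▸ le_core (isNormal_of_invariant hS hF fun P hP => ?_)))
    rcases hP with rfl | hP
    · exact ⟨centerOf_le P, fun α _ => hSinv α⟩
    obtain ⟨hZP, x, hxP, -, -, hnab⟩ := hX.ess_shape hP fun h => hAe (h ▸ hP)
    obtain ⟨hcen, -⟩ := hnab (fun hc => by
      obtain ⟨a, ha, b, hb, hne⟩ := h P hP
      exact hne (hc a ha b hb))
    refine ⟨hZP, fun α _ => map_subgroupOf_eq hP.1.1 ?_⟩
    rintro _ ⟨c, hc, rfl⟩
    refine Subgroup.mem_subgroupOf.2 (hcen _ (α c).2 fun y hy => ?_)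
    have h1 : c * α⁻¹ ⟨y, hy⟩ = α⁻¹ ⟨y, hy⟩ * c :=
      Subtype.ext (centerOf_comm (Subgroup.mem_subgroupOf.1 hc) (hP.1.1 (α⁻¹ ⟨y, hy⟩).2)).symm
    have h2 := congrArg α h1
    rw [map_mul, map_mul, MulAut.apply_inv_self] at h2
    exact congrArg Subtype.val h2
  obtain ⟨hZE, x, hxE, hxA, hEx, -⟩ := hX.ess_shape hE fun h => hAe (h ▸ hE)
  have hxS : x ∈ S := hE.1.1 hxE
  obtain ⟨hW, -, hsplit, -⟩ := hX.ess_abelian hS hF hAe hp hE hab
  let D : Subgroup Ω :=
    { carrier := {c | c ∈ centerOf S ∧ ∀ σ, InvertsCenter F σ → ∀ h : c ∈ S, σ ⟨c, h⟩ = ⟨c, h⟩}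
      one_mem' := ⟨(centerOf S).one_mem, fun σ _ _ => map_one σ⟩
      mul_mem' := by
        rintro a b ⟨ha, ha'⟩ ⟨hb, hb'⟩
        refine ⟨(centerOf S).mul_mem ha hb, fun σ hσ h => ?_⟩
        rw [show (⟨a * b, h⟩ : S) = ⟨a, ha.1⟩ * ⟨b, hb.1⟩ from rfl, map_mul, ha' σ hσ, hb' σ hσ]
      inv_mem' := by
        rintro a ⟨ha, ha'⟩
        refine ⟨(centerOf S).inv_mem ha, fun σ hσ h => ?_⟩
        rw [show (⟨a⁻¹, h⟩ : S) = (⟨a, ha.1⟩ : S)⁻¹ from rfl, map_inv, ha' σ hσ] }
  have hDS : ∀ α ∈ F.autGroup S, ∀ c : S, (c : Ω) ∈ D → ((α c : S) : Ω) ∈ D := by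
    rintro α hα c ⟨hc, hc'⟩
    refine ⟨aut_centerOf hc, fun σ hσ _ => ?_⟩
    have hconj : InvertsCenter F (α⁻¹ * σ * α) := by
      refine ⟨mul_mem (mul_mem (inv_mem hα) hσ.1) hα, fun w hw => ?_, fun w hw => ?_⟩
      · rw [MulAut.mul_apply, MulAut.mul_apply, hσ.2.1 _ (aut_centerDerived hw), map_inv,
          MulAut.inv_apply_self]
      · have h1 := aut_centerDerived (σ := α⁻¹) (hσ.2.2 _ (aut_centerOf (σ := α) hw))
        rwa [map_mul, map_inv, MulAut.inv_apply_self] at h1
    have h2 := hc' _ hconj c.2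
    rw [MulAut.mul_apply, MulAut.mul_apply] at h2
    have h3 := congrArg α h2
    rw [MulAut.apply_inv_self] at h3
    exact h3
  have hDn : F.IsNormal D := by
    refine isNormal_of_invariant hS hF fun P hP => ?_
    rcases hP with rfl | hP
    · refine ⟨fun c hc => hc.1.1, fun α hα => map_subgroupOf_eq le_rfl ?_⟩
      rintro _ ⟨c, hc, rfl⟩
      exact hDS α hα c hc
    obtain ⟨hZP, y, hyP, hyA, -, hnab⟩ := hX.ess_shape hP fun h => hAe (h ▸ hP)
    refine ⟨fun c hc => hZP hc.1, fun α hα => map_subgroupOf_eq hP.1.1 ?_⟩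
    rintro _ ⟨c, hc, rfl⟩
    by_cases hPab : ∀ a ∈ P, ∀ b ∈ P, a * b = b * a
    · obtain ⟨-, -, -, hiff⟩ := hX.ess_abelian hS hF hAe hp hP hPab
      refine (hiff (α c)).1 fun δ hδ => ?_
      exact (hiff c).2 hc (δ * α) (mul_mem hδ hα)
    · obtain ⟨-, b, hbP, hbA, hbZ⟩ := hnab hPab
      have := finite_le hP.1.1
      have hle : centerOf S ⊔ Subgroup.zpowers b ≤ P := sup_le hZP (Subgroup.zpowers_le.2 hbP)
      have := finite_le (S := S) (hle.trans hP.1.1)
      have hcard : p * Nat.card (centerOf S) < Nat.card P := by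
        have h1 : Nat.card (centerOf S) < Nat.card (centerOf S ⊔ Subgroup.zpowers b : Subgroup Ω) :=
          lt_of_le_of_ne (Subgroup.card_le_of_le le_sup_left) fun h => hbZ (by
            rw [Subgroup.eq_of_le_of_card_ge
              (le_sup_left : centerOf S ≤ centerOf S ⊔ Subgroup.zpowers b) h.ge]
            exact Subgroup.mem_sup_right (Subgroup.mem_zpowers b))
        have h2 : Nat.card (centerOf S ⊔ Subgroup.zpowers b : Subgroup Ω) < Nat.card P :=
          lt_of_le_of_ne (Subgroup.card_le_of_le hle) fun h => hyA (by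
            have := Subgroup.eq_of_le_of_card_ge hle h.ge
            exact (sup_le hX.center_le (Subgroup.zpowers_le.2 hbA) : _) (this.symm ▸ hyP))
        have := finite_le (S := S) (centerOf_le S)
        obtain ⟨i, hi⟩ := (hS.to_le (centerOf_le S)).exists_card_eq
        obtain ⟨j, hj⟩ := (hS.to_le (hle.trans hP.1.1)).exists_card_eq
        rw [hi, hj] at h1
        rw [hj] at h2
        rw [hi, ← pow_succ']
        exact lt_of_le_of_lt (Nat.pow_le_pow_right (Fact.out : p.Prime).pos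
          ((Nat.pow_lt_pow_iff_right (Fact.out : p.Prime).one_lt).1 h1)) h2
      obtain ⟨σ, hσ, hσv⟩ := hX.map_center hS hF hAe ((mem_autGroup_iff hP.1.1).1 hα) hZP hcard
      refine Subgroup.mem_subgroupOf.2 ?_
      have h1 : ((α c : P) : Ω) = _ := hσv c c.2 (hP.1.1 c.2) hc.1
      exact h1.symm ▸ hDS σ hσ ⟨c, hP.1.1 c.2⟩ hc
  have hZW : centerOf S ≤ centerDerived S := by
    intro c hc
    obtain ⟨d, hd, w, hw, rfl, hfix⟩ := hsplit c hc
    have : d = 1 := Subgroup.mem_bot.1 (hcore ▸ le_core hDn (show d ∈ D from ⟨hd, hfix⟩))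
    rw [this, one_mul]
    exact hw
  have hcardZ : Nat.card (centerOf S) = p := by
    rw [le_antisymm hZW inf_le_left, hW]
  refine ⟨⟨x, hxS, hxA, ?_⟩, fun c hc => (hZW hc).2, fun n hn h3 =>
    maximalClass hX hidx hxS hxA hcardZ hn h3⟩
  show F.IsEssential p (centerOf S ⊔ Subgroup.zpowers x)
  rw [← hEx hab]
  exact hE

end Cfsg.Agent.S5244
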