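import Cfsg.Statements.S5245
import Cfsg.Agent.Lib.Fusion.ChainObstruction
import Cfsg.Agent.Lib.Fusion.CenterIndexSquare
import Cfsg.Agent.Lib.PGroups.Transvections
import Mathlib.GroupTheory.SemidirectProduct

set_option autoImplicit false
open Cfsg

namespace Cfsg.Agent.S5245

open CfsgLib.Fusion

/-- The system of `T ⋊ ⟨β⟩` inside a system containing the automorphism `β` of prime order. -/
theorem exists_subsystem {Ω : Type*} [Group Ω] {S : Subgroup Ω} [Finite S] {p : ℕ} [hp : Fact p.Prime]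
    (hS : IsPGroup p S) (F : Cfsg.FusionSystem S) {T : Subgroup Ω} (hTS : T ≤ S) {β : MulAut T}
    (hβ : β ∈ F.autGroup T) {q : ℕ} (hq : q.Prime) (hqp : q ≠ p) (hord : orderOf β = q) :
    ∃ E : Cfsg.FusionSystem T, E.IsSaturated p ∧ E.IsSubsystemOf F ∧
      (∀ α ∈ E.autGroup T, α ∈ Cfsg.Inn T ⊔ Subgroup.zpowers β) ∧
      ¬ ∀ P : Subgroup Ω, E.Hom P = (Cfsg.innerFusionSystem T).Hom P := by
  have := finite_le hTS
  have := finite_mulAut_of_le (S := S) hTS
  let G := T ⋊[(Subgroup.zpowers β).subtype] (Subgroup.zpowers β)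
  let ι : T →* G := SemidirectProduct.inl
  have hι : Function.Injective ι := SemidirectProduct.inl_injective
  have : Finite G := Finite.of_equiv _ SemidirectProduct.equivProd.symm
  have hconj : ∀ (g : G) (a : T),
      g * ι a * g⁻¹ = ι (g.left * ((g.right : MulAut T) a) * g.left⁻¹) := by
    intro g a
    conv_lhs => rw [← SemidirectProduct.inl_left_mul_inr_right g]
    show SemidirectProduct.inl g.left * SemidirectProduct.inr g.right * SemidirectProduct.inl a *
      (SemidirectProduct.inl g.left * SemidirectProduct.inr g.right)⁻¹ = _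
    rw [mul_inv_rev, ← map_inv, show SemidirectProduct.inl g.left * SemidirectProduct.inr g.right *
      SemidirectProduct.inl a * (SemidirectProduct.inr g.right⁻¹ * (SemidirectProduct.inl g.left)⁻¹)
      = SemidirectProduct.inl g.left * (SemidirectProduct.inr g.right * SemidirectProduct.inl a *
        SemidirectProduct.inr g.right⁻¹) * (SemidirectProduct.inl g.left)⁻¹ by group,
      ← SemidirectProduct.inl_aut, ← map_inv, ← map_mul, ← map_mul]
    rfl
  obtain ⟨k, hk⟩ := (hS.to_le hTS).exists_card_eq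
  have hcard : Nat.card G = p ^ k * q := by
    rw [Nat.card_congr SemidirectProduct.equivProd, Nat.card_prod, Nat.card_zpowers, hk, hord]
  have hrange : Nat.card ι.range = p ^ (Nat.card G).factorization p := by
    rw [← Nat.card_congr (MonoidHom.ofInjective hι).toEquiv, hk, hcard,
      Nat.factorization_mul (pow_ne_zero _ hp.out.ne_zero) hq.ne_zero, Finsupp.add_apply,
      hp.out.factorization_pow, Finsupp.single_eq_same, hq.factorization,
      Finsupp.single_eq_of_ne' hqp, add_zero]
  have hE := realizedSystem_isRealizedBy T ι hι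
  refine ⟨realizedSystem T ι hι, saturated_of_isRealizedBy hE (Sylow.ofCard ι.range hrange)
    (Sylow.coe_ofCard _ _), fun P φ ⟨hP, hφ, g, hg⟩ => ?_, fun α hα => ?_, fun h => ?_⟩
  · have hα : MulAut.conj g.left * (g.right : MulAut T) ∈ F.autGroup T :=
      mul_mem (inn_le_autGroup hTS ⟨g.left, rfl⟩) ((Subgroup.zpowers_le.2 hβ) g.right.2)
    refine restrict_mem' ((mem_autGroup_iff hTS).1 hα) hP fun x => ?_
    exact congrArg Subtype.val (hι ((hg x).trans (hconj g _)))
  · obtain ⟨hP, hφ, g, hg⟩ := (mem_autGroup_iff le_rfl).1 hα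
    have : α = MulAut.conj g.left * (g.right : MulAut T) := MulEquiv.ext fun x =>
      hι (((congrArg ι (Subtype.ext rfl)).trans (hg x)).trans (hconj g _))
    rw [this]
    exact Subgroup.mul_mem_sup ⟨g.left, rfl⟩ g.right.2
  · have hmem : T.subtype.comp β.toMonoidHom ∈ (realizedSystem T ι hι).Hom T := by
      refine ⟨le_rfl, fun x => (β x).2, SemidirectProduct.inr ⟨β, Subgroup.mem_zpowers β⟩, fun x => ?_⟩
      rw [← map_inv, ← SemidirectProduct.inl_aut]
      rfl
    rw [h T] at hmem
    obtain ⟨-, t, ht, htv⟩ := hmem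
    have hβt : β = MulAut.conj (⟨t, ht⟩ : T) := MulEquiv.ext fun x => Subtype.ext (htv x)
    have hd : q ∣ p ^ k := by
      rw [← hord, ← hk, hβt]
      exact (orderOf_map_dvd MulAut.conj _).trans (orderOf_dvd_natCard _)
    exact hqp ((Nat.prime_dvd_prime_iff_eq hq hp.out).1 (hq.dvd_of_dvd_pow hd))

theorem exists_prime_element {G : Type*} [Group G] [Finite G] {p : ℕ} [hp : Fact p.Prime]
    (h : ¬ IsPGroup p G) : ∃ (q : ℕ) (g : G), q.Prime ∧ q ≠ p ∧ orderOf g = q := by
  by_contra hno
  push Not at hno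
  refine h (IsPGroup.of_card (n := (Nat.card G).primeFactorsList.length)
    (Nat.eq_prime_pow_of_unique_prime_dvd Nat.card_pos.ne' fun {q} hq hd => ?_))
  by_contra hne
  have : Fact q.Prime := ⟨hq⟩
  obtain ⟨g, hg⟩ := exists_prime_orderOf_dvd_card' (G := G) q hd
  exact hno q g hq hne hg

/-- Let F be an extremely sparse fusion system over a finite p-group S (saturated, not the inner system, and every saturated fusion system over any subgroup T of S contained in F is F itself or the inner system of T). Then S is normal in F, the focal and hyperfocal subgroups of F are both S, and Aut_F(S) is generated by the inner automorphisms of S together with a single automorphism of prime order q ≠ p (F is the fusion system of the semidirect product of S by a cyclic group of prime order). -/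
theorem result {Ω : Type*} [Group Ω] {S : Subgroup Ω} [Finite S] (p : ℕ) [Fact p.Prime] (hS : IsPGroup p S) (F : Cfsg.FusionSystem S) (hF : F.IsSaturated p) (hxs : ¬ (∀ P : Subgroup Ω, F.Hom P = (Cfsg.innerFusionSystem S).Hom P) ∧ ∀ (T : Subgroup Ω) (E : Cfsg.FusionSystem T), E.IsSaturated p → E.IsSubsystemOf F → (T = S ∧ ∀ P : Subgroup Ω, E.Hom P = F.Hom P) ∨ (∀ P : Subgroup Ω, E.Hom P = (Cfsg.innerFusionSystem T).Hom P)) : F.IsNormal S ∧ F.focalSubgroup = S ∧ F.hyperfocalSubgroup p = S ∧ ∃ (q : ℕ) (β : MulAut ↥S), q.Prime ∧ q ≠ p ∧ β ∈ F.autGroup S ∧ orderOf β = q ∧ (F.autGroup S : Subgroup (MulAut ↥S)) = Cfsg.Inn ↥S ⊔ Subgroup.zpowers β := by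
  classical
  have hp := (Fact.out : p.Prime)
  obtain ⟨hni, hmin⟩ := hxs
  have haut : ∀ (P : Subgroup Ω), P ≤ S → P ≠ S → IsPGroup p (F.autGroup P) := by
    intro P hP hne
    by_contra h
    have := CfsgLib.Fusion.finite_mulAut_of_le (S := S) hP
    obtain ⟨q, b, hq, hqp, hb⟩ := exists_prime_element h
    rw [← Subgroup.orderOf_coe] at hb
    obtain ⟨E, hE, hEF, -, hEni⟩ := exists_subsystem hS F hP b.2 hq hqp hb
    rcases hmin P E hE hEF with h' | h'
    · exact hne h'.1
    · exact hEni h'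
  have := CfsgLib.Fusion.finite_mulAut_of_le (S := S) le_rfl
  have hnp : ¬ IsPGroup p (F.autGroup S) := fun h => hni fun P => by
    rw [CfsgLib.Fusion.eq_inner_of_isPGroup_autGroup hS hF fun P hP => by
      by_cases hPS : P = S
      · exact hPS ▸ h
      · exact haut P hP hPS]
  obtain ⟨q, b, hq, hqp, hb⟩ := exists_prime_element hnp
  rw [← Subgroup.orderOf_coe] at hb
  set β : MulAut S := (b : MulAut S) with hβdef
  obtain ⟨E, hE, hEF, hEaut, hEni⟩ := exists_subsystem hS F le_rfl b.2 hq hqp hb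
  have hEeq : ∀ P, E.Hom P = F.Hom P := by
    rcases hmin S E hE hEF with h | h
    · exact h.2
    · exact absurd h hEni
  have hnormal : F.IsNormal S := by
    refine CfsgLib.Fusion.isNormal_of_invariant hS hF fun P hP => ?_
    rcases hP with rfl | hP
    · exact ⟨le_rfl, fun α _ => CfsgLib.Fusion.map_subgroupOf_eq le_rfl fun y _ => y.2⟩
    · exact absurd hP (CfsgLib.Fusion.not_isEssential_of_isPGroup
        (haut P hP.1.1 (CfsgLib.Fusion.isEssential_ne_self hS hF hP)))
  -- the commutator subgroup `[S, β]`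
  set T₀ := Subgroup.closure {y : Ω | ∃ x : S, y = (x : Ω)⁻¹ * ((β x : S) : Ω)} with hT₀
  have hT₀S : T₀ ≤ S := (Subgroup.closure_le _).2 (by
    rintro _ ⟨x, rfl⟩
    exact S.mul_mem (S.inv_mem x.2) (β x).2)
  have hT₀eq : T₀ = S := by
    have hinv : ∀ y : S, (y : Ω) ∈ T₀ → ((β y : S) : Ω) ∈ T₀ := by
      intro y hy
      have hle : T₀ ≤ ((T₀.subgroupOf S).comap β.toMonoidHom).map S.subtype :=
        (Subgroup.closure_le _).2 (by
          rintro _ ⟨x, rfl⟩
          refine ⟨x⁻¹ * β x, ?_, rfl⟩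
          show ((β (x⁻¹ * β x) : S) : Ω) ∈ T₀
          rw [map_mul, map_inv]
          exact Subgroup.subset_closure ⟨β x, rfl⟩)
      obtain ⟨y', hy', he⟩ := hle hy
      obtain rfl : y' = y := Subtype.ext he
      exact hy'
    let ψ : T₀ →* T₀ :=
      ((S.subtype.comp β.toMonoidHom).comp (Subgroup.inclusion hT₀S)).codRestrict T₀
        fun x => hinv _ x.2
    have := CfsgLib.Fusion.finite_le hT₀S
    have hψ : Function.Bijective ψ := by
      refine Finite.injective_iff_bijective.1 fun a b h => ?_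
      exact Subgroup.inclusion_injective hT₀S
        (β.injective (Subtype.ext (congrArg Subtype.val h :)))
    let β₀ : MulAut T₀ := MulEquiv.ofBijective ψ hψ
    have hβ₀ : β₀ ∈ F.autGroup T₀ := (CfsgLib.Fusion.mem_autGroup_iff hT₀S).2
      (CfsgLib.Fusion.restrict_mem' ((CfsgLib.Fusion.mem_autGroup_iff le_rfl).1 b.2) hT₀S
        fun x => rfl)
    have hval : ∀ (m : ℕ) (y : T₀),
        (((β₀ ^ m) y : T₀) : Ω) = (((β ^ m) ⟨y, hT₀S y.2⟩ : S) : Ω) := by
      intro m
      induction m with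
      | zero => exact fun y => rfl
      | succ m ih =>
        intro y
        rw [pow_succ', pow_succ', MulAut.mul_apply, MulAut.mul_apply]
        exact congrArg (fun w : S => ((β w : S) : Ω))
          (Subtype.ext (ih y) : (⟨((β₀ ^ m) y : T₀), hT₀S ((β₀ ^ m) y).2⟩ : S) = _)
    have hβq : β ^ q = 1 := hb ▸ pow_orderOf_eq_one β
    have hne1 : β₀ ≠ 1 := by
      intro h
      have hfix : ∀ y : S, (y : Ω) ∈ T₀ → β y = y := fun y hy => Subtype.ext (by
        have := hval 1 ⟨y, hy⟩
        rw [pow_one, pow_one, h, MulAut.one_apply] at this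
        exact this.symm)
      obtain ⟨k, hk⟩ := hS.exists_card_eq
      have hpk : β ^ p ^ k = 1 := MulEquiv.ext fun e =>
        CfsgLib.PGroups.Transvections.pow_fix (v := e⁻¹ * β e) (by rw [mul_inv_cancel_left])
          (hfix _ (Subgroup.subset_closure ⟨e, rfl⟩)) (by rw [← hk]; exact pow_card_eq_one')
      have hd : q ∣ p ^ k := hb ▸ orderOf_dvd_of_pow_eq_one hpk
      exact hqp ((Nat.prime_dvd_prime_iff_eq hq hp).1 (hq.dvd_of_dvd_pow hd))
    have : Fact q.Prime := ⟨hq⟩
    have hord₀ : orderOf β₀ = q := orderOf_eq_prime (MulEquiv.ext fun y => Subtype.ext (by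
      rw [hval q y, hβq]; rfl)) hne1
    obtain ⟨E₀, hE₀, hEF₀, -, hEni₀⟩ := exists_subsystem hS F hT₀S hβ₀ hq hqp hord₀
    rcases hmin T₀ E₀ hE₀ hEF₀ with h | h
    · exact h.1
    · exact absurd h hEni₀
  refine ⟨hnormal, le_antisymm ?_ ?_, le_antisymm ?_ ?_, q, β, hq, hqp, b.2, hb, le_antisymm ?_ ?_⟩
  · refine (Subgroup.closure_le _).2 ?_
    rintro _ ⟨P, φ, x, hφ, rfl⟩
    exact S.mul_mem (S.inv_mem ((F.le_of_mem hφ).1 x.2)) ((F.le_of_mem hφ).2 x)
  · refine hT₀eq.symm.le.trans ((Subgroup.closure_le _).2 ?_)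
    rintro _ ⟨x, rfl⟩
    exact Subgroup.subset_closure ⟨S, S.subtype.comp β.toMonoidHom, x,
      (CfsgLib.Fusion.mem_autGroup_iff le_rfl).1 b.2, rfl⟩
  · refine (Subgroup.closure_le _).2 ?_
    rintro _ ⟨P, α, x, hP, -, rfl⟩
    exact S.mul_mem (S.inv_mem (hP x.2)) (hP ((α : MulAut P) x).2)
  · refine hT₀eq.symm.le.trans ((Subgroup.closure_le _).2 ?_)
    rintro _ ⟨x, rfl⟩
    refine Subgroup.subset_closure ⟨S, b, x, le_rfl, Subgroup.subset_closure ?_, rfl⟩
    show (orderOf b).Coprime p
    rw [← Subgroup.orderOf_coe, ← hβdef, hb]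
    exact (Nat.coprime_primes hq hp).2 hqp
  · intro α hα
    refine hEaut α ((CfsgLib.Fusion.mem_autGroup_iff le_rfl).2 ?_)
    rw [hEeq S]
    exact (CfsgLib.Fusion.mem_autGroup_iff le_rfl).1 hα
  · exact sup_le (CfsgLib.Fusion.inn_le_autGroup le_rfl) (Subgroup.zpowers_le.2 b.2)

end Cfsg.Agent.S5245
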