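import Cfsg.Statements.S5246
import Cfsg.Agent.Lib.PLocal.SLTwo.StableFusionSystem

set_option autoImplicit false
open Cfsg

namespace Cfsg.Agent.S5246

open Subgroup CfsgLib.Fusion CfsgLib.PLocal.SLTwo
open scoped commutatorElement

/-- Let p be an odd prime, G a finite group and P a Sylow p-subgroup. Call a fusion system F p-stable when, for every fully normalized subgroup Q and every χ ∈ Aut_F(Q) acting quadratically on Q (that is, χ fixes a⁻¹χ(a) for every a ∈ Q; equivalently χ(a⁻¹)·a·χ(a⁻¹)·χ(χ(a)) = 1), χ lies in O_p(Aut_F(Q)). Then G is p-stable in the normalizer form (for every p-subgroup Q and x ∈ N_G(Q) with [Q, x, x] = 1, the image of x lies in O_p(N_G(Q)/C_G(Q))) if and only if the fusion system of G on P is p-stable. -/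
theorem result {Ω : Type*} [Group Ω] [Finite Ω] {p : ℕ} [Fact p.Prime] (hp : p ≠ 2) (P : Sylow p Ω) : Cfsg.IsNormalizerPStable p Ω ↔ (∀ Q : Subgroup Ω, (Cfsg.groupFusionSystem (P : Subgroup Ω)).IsFullyNormalized Q → ∀ χ : MulAut ↥Q, χ ∈ (Cfsg.groupFusionSystem (P : Subgroup Ω)).autGroup Q → (∀ a : ↥Q, (χ a⁻¹) * a * (χ a⁻¹) * (χ (χ a)) = 1) → χ ∈ ((Cfsg.pCore p ↥((Cfsg.groupFusionSystem (P : Subgroup Ω)).autGroup Q)).map ((Cfsg.groupFusionSystem (P : Subgroup Ω)).autGroup Q).subtype : Subgroup (MulAut ↥Q))) := by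
  refine ⟨fun hst Q hQ χ hχ hquad => ?_, fun h => nStable_of_fusion P h⟩
  set F := Cfsg.groupFusionSystem (P : Subgroup Ω) with hF
  set A := F.autGroup Q with hA
  obtain ⟨-, -, g, hg⟩ := (mem_autGroup_iff hQ.1).1 hχ
  have hgv : ∀ a : Q, ((χ a : Q) : Ω) = g * a * g⁻¹ := hg
  have hgN : g ∈ normalizer (Q : Set Ω) := by
    refine Subgroup.mem_normalizer_iff.2 fun a => ⟨fun ha => ?_, fun ha => ?_⟩
    · exact hgv ⟨a, ha⟩ ▸ (χ ⟨a, ha⟩).2
    · have h1 := hgv (χ.symm ⟨_, ha⟩)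
      rw [MulEquiv.apply_symm_apply] at h1
      rw [show a = ((χ.symm ⟨_, ha⟩ : Q) : Ω) from mul_left_cancel (mul_right_cancel h1)]
      exact SetLike.coe_mem _
  have hq : ⁅⁅Q, zpowers g⁆, zpowers g⁆ = ⊥ := by
    rw [commutator_eq_bot_iff_le_centralizer, zpowers_eq_closure, centralizer_closure, ← zpowers_eq_closure,
      commutator_le]
    intro a ha b hb
    obtain ⟨j, rfl⟩ := mem_zpowers_iff.1 hb
    set c := a * g * a⁻¹ * g⁻¹ with hc
    have hcg : Commute g c := by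
      have h1 : ((χ (⟨a, ha⟩ : Q)⁻¹⁻¹ * (⟨a, ha⟩ : Q)⁻¹ * χ (⟨a, ha⟩ : Q)⁻¹⁻¹ * χ (χ (⟨a, ha⟩ : Q)⁻¹) : Q) : Ω) = 1 :=
        congrArg Subtype.val (hquad (⟨a, ha⟩ : Q)⁻¹)
      simp only [inv_inv, Subgroup.coe_mul, Subgroup.coe_inv, hgv] at h1
      refine commutatorElement_eq_one_iff_mul_comm.1 ?_
      rw [commutatorElement_def, hc]
      have key : g * (a * g * a⁻¹ * g⁻¹) * g⁻¹ * (a * g * a⁻¹ * g⁻¹)⁻¹ =
          (g * a * g⁻¹ * a⁻¹)⁻¹ * (g * a * g⁻¹ * a⁻¹ * (g * a * g⁻¹) * (g * (g * a⁻¹ * g⁻¹) * g⁻¹)) * (g * a * g⁻¹ * a⁻¹) := by group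
      rw [key, h1]
      group
    have e : a * g ^ j * a⁻¹ * (g ^ j)⁻¹ = c ^ j := by
      have hconj : a * g ^ j * a⁻¹ = (c * g) ^ j := by
        rw [hc, inv_mul_cancel_right, conj_zpow]
      rw [hconj, hcg.symm.mul_zpow, mul_inv_cancel_right]
    show a * g ^ j * a⁻¹ * (g ^ j)⁻¹ ∈ centralizer ({g} : Set Ω)
    rw [e]
    exact zpow_mem (mem_centralizer_singleton_iff.2 hcg.symm.eq) j
  obtain ⟨D, hDN, hND, hpow, hgD⟩ := isNormalizerPStable_iff.1 hst Q (P.isPGroup'.to_le hQ.1) g hgN hq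
  have hmemA : ∀ x : normalizer (Q : Set Ω), Q.normalizerMonoidHom x ∈ A := fun x =>
    (mem_autGroup_iff hQ.1).2 ⟨hQ.1, fun a => hQ.1 (Q.normalizerMonoidHom x a).2, x.1, fun a => rfl⟩
  set e := Q.normalizerMonoidHom.codRestrict A hmemA with he
  have hsurj : Function.Surjective e := by
    rintro ⟨α, hα⟩
    obtain ⟨-, -, x, hx⟩ := (mem_autGroup_iff hQ.1).1 hα
    have hxN : x ∈ normalizer (Q : Set Ω) := by
      refine Subgroup.mem_normalizer_iff.2 fun a => ⟨fun ha => ?_, fun ha => ?_⟩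
      · have := hx ⟨a, ha⟩; exact this ▸ (α ⟨a, ha⟩).2
      · have h1 : ((α (α.symm ⟨_, ha⟩) : Q) : Ω) = x * (α.symm ⟨_, ha⟩ : Q) * x⁻¹ := hx _
        rw [MulEquiv.apply_symm_apply] at h1
        rw [show a = ((α.symm ⟨_, ha⟩ : Q) : Ω) from mul_left_cancel (mul_right_cancel h1)]
        exact SetLike.coe_mem _
    exact ⟨⟨x, hxN⟩, Subtype.ext (MulEquiv.ext fun a => Subtype.ext (hx a).symm)⟩
  haveI : (D.subgroupOf (normalizer (Q : Set Ω))).Normal :=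
    (normal_subgroupOf_iff_le_normalizer hDN).2 hND
  haveI : ((D.subgroupOf (normalizer (Q : Set Ω))).map e).Normal := ‹(D.subgroupOf _).Normal›.map e hsurj
  have hle : (D.subgroupOf (normalizer (Q : Set Ω))).map e ≤ Cfsg.pCore p A := by
    refine CfsgLib.Core.le_pCore ?_
    rintro ⟨_, d, hd, rfl⟩
    obtain ⟨k, hk⟩ := hpow d hd
    refine ⟨k, Subtype.ext ?_⟩
    rw [SubgroupClass.coe_pow, ← map_pow]
    refine Subtype.ext ?_
    show Q.normalizerMonoidHom (d ^ p ^ k) = 1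
    rw [← MonoidHom.mem_ker, normalizerMonoidHom_ker, mem_subgroupOf]
    simpa using hk
  refine ⟨e ⟨g, hgN⟩, hle (mem_map_of_mem e (show (⟨g, hgN⟩ : normalizer (Q : Set Ω)) ∈ D.subgroupOf _ from hgD)), ?_⟩
  exact MulEquiv.ext fun a => Subtype.ext (hgv a).symm

end Cfsg.Agent.S5246
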