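import Cfsg.Statements.S5248
import Cfsg.Agent.Lib.Fusion.TwoRank.Count

set_option autoImplicit false
open Cfsg

namespace Cfsg.Agent.S5248

/-- Let S be a finite 2-group that is dihedral of order at least 8, generalized quaternion of order at least 8, semidihedral, or wreathed, and let F be a saturated fusion system over S. Then F has at most two F-conjugacy classes of F-essential subgroups (among any three essential subgroups two are joined by a map of F), and F is realizable: it is the fusion system of a finite group on a Sylow 2-subgroup. -/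
theorem result {Ω : Type*} [Group Ω] {S : Subgroup Ω} [Finite S] (hS : IsPGroup 2 S) (F : Cfsg.FusionSystem S) (hF : F.IsSaturated 2) (hshape : ((∃ m : ℕ, 4 ≤ m ∧ Nonempty (↥S ≃* DihedralGroup m)) ∨ (∃ m : ℕ, 2 ≤ m ∧ Nonempty (↥S ≃* QuaternionGroup m)) ∨ Cfsg.IsQuasiDihedral ↥S ∨ Cfsg.IsWreathed ↥S)) : (∀ E₁ E₂ E₃ : Subgroup Ω, F.IsEssential 2 E₁ → F.IsEssential 2 E₂ → F.IsEssential 2 E₃ → (∃ φ ∈ F.Hom E₁, φ.range = E₂) ∨ (∃ φ ∈ F.Hom E₁, φ.range = E₃) ∨ (∃ φ ∈ F.Hom E₂, φ.range = E₃)) ∧ F.IsRealizable 2 := by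
  have : Fact (Nat.Prime 2) := ⟨Nat.prime_two⟩
  rcases hshape with ⟨m, hm, ⟨e⟩⟩ | ⟨m, hm, ⟨e⟩⟩ | h | h
  · obtain ⟨j, hj⟩ := IsPGroup.iff_card.1 hS
    rw [Nat.card_congr e.toEquiv, DihedralGroup.nat_card] at hj
    obtain ⟨n, rfl⟩ : ∃ n, j = n + 1 := ⟨j - 1, by
      rcases Nat.eq_zero_or_pos j with rfl | h
      · norm_num at hj
      · omega⟩
    obtain rfl : m = 2 ^ n := by rw [pow_succ] at hj; omega
    have hn : 2 ≤ n := by
      by_contra h
      have := Nat.pow_le_pow_right two_pos (show n ≤ 1 by omega)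
      omega
    exact ⟨CfsgLib.Fusion.TwoRank.three_joined hS hF e (CfsgLib.Fusion.TwoRank.twoClasses_dihedral hn),
      CfsgLib.Fusion.TwoTypes.Dihedral.isRealizable hS hF hn e⟩
  · have hne : NeZero m := ⟨by omega⟩
    obtain ⟨j, hj⟩ := IsPGroup.iff_card.1 hS
    rw [Nat.card_congr e.toEquiv, Nat.card_eq_fintype_card, QuaternionGroup.card] at hj
    obtain ⟨n, rfl⟩ : ∃ n, j = n + 2 := ⟨j - 2, by
      by_contra h
      have := Nat.pow_le_pow_right two_pos (show j ≤ 2 by omega)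
      omega⟩
    obtain rfl : m = 2 ^ n := by rw [pow_add] at hj; omega
    match n, hm with
    | 0, hm => exact absurd hm (by norm_num)
    | 1, _ =>
      exact ⟨CfsgLib.Fusion.TwoRank.three_joined hS hF e CfsgLib.Fusion.TwoRank.twoClasses_eight,
        CfsgLib.Fusion.TwoRank.isRealizable_eight hS hF e⟩
    | k + 2, _ =>
      exact ⟨CfsgLib.Fusion.TwoRank.three_joined hS hF e (CfsgLib.Fusion.TwoRank.twoClasses_quaternion k),
        CfsgLib.Fusion.TwoRank.Quat.isRealizable hS hF e⟩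
  · obtain ⟨m, -, ⟨e⟩⟩ := CfsgLib.TwoGroups.SemiDihedral.of_isQuasiDihedral h
    exact ⟨CfsgLib.Fusion.TwoRank.three_joined hS hF e (CfsgLib.Fusion.TwoRank.twoClasses_semiDihedral m),
      CfsgLib.Fusion.TwoTypes.SD.isRealizable hS hF e⟩
  · obtain ⟨m, -, ⟨e⟩⟩ := CfsgLib.TwoGroups.WreathTwo.of_isWreathed h
    exact ⟨CfsgLib.Fusion.TwoRank.three_joined hS hF e (CfsgLib.Fusion.TwoRank.twoClasses_wreath m),
      CfsgLib.Fusion.TwoTypes.W.isRealizable hS hF e⟩

end Cfsg.Agent.S5248
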