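import Cfsg.Statements.S5251
import Cfsg.Agent.Lib.Fusion.NormalCriterion
import Cfsg.Agent.Lib.Fusion.StronglyClosedSub
import Cfsg.Agent.Lib.Fusion.Centric

set_option autoImplicit false
open Cfsg Cfsg.FusionSystem CfsgLib.Fusion

namespace Cfsg.Agent.S5251

/-- Let F be a saturated fusion system over a finite p-group S, E a normal subsystem of F over T, and P an F-centric subgroup of S such that P ∩ T is not E-centric. Then some F-conjugate P* of P satisfies Out_S(P*) ∩ O_p(Out_F(P*)) ≠ 1: there is an element of N_S(P*) outside P* whose conjugation action on P* lies in O_p(Aut_F(P*)). In particular P is not both centric and radical in F. -/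
theorem result {Ω : Type*} [Group Ω] {S : Subgroup Ω} [Finite S] (p : ℕ) [Fact p.Prime] (hS : IsPGroup p S) (F : Cfsg.FusionSystem S) (hF : F.IsSaturated p) {T : Subgroup Ω} (E : Cfsg.FusionSystem T) (hE : E.IsNormalIn F p) (P : Subgroup Ω) (hP : F.IsCentric P) (hPT : ¬ E.IsCentric (P ⊓ T)) : (∃ φ ∈ F.Hom P, ∃ x ∈ S ⊓ Subgroup.normalizer (φ.range : Set Ω), x ∉ φ.range ∧ ∃ α ∈ ((Cfsg.pCore p ↥(F.autGroup φ.range)).map (F.autGroup φ.range).subtype : Subgroup (MulAut ↥φ.range)), ∀ y : ↥φ.range, ((α y : ↥φ.range) : Ω) = x * (y : Ω) * x⁻¹) ∧ ¬ F.IsRadical p P := by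
    obtain ⟨⟨-, -, hsub, hT, -⟩, -⟩ := hE
    have hPS := hP.1
    set Q := P ⊓ T with hQdef
    have hQS : Q ≤ S := inf_le_left.trans hPS
    have hQT : Q ≤ T := inf_le_right
    obtain ⟨Qs, hQQs, hQsn⟩ := exists_fullyNormalized (F := F) hQS
    have h₁ := IsSaturated.fullyAutomized hS hF hQsn
    have h₂ := IsSaturated.receptive hS hF (IsSaturated.fullyCentralized hS hF hQsn)
    have hC : ¬ centralizerIn T Qs ≤ Qs := by
      intro hle
      refine hPT ⟨hQT, fun R hR => ?_⟩
      obtain ⟨f, hf, -, himg⟩ := exists_normalizer_map hS h₁ h₂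
        (isConj_trans (isConj_symm (isConj_of_subsystem hsub hR)) hQQs)
      intro x hx
      have hxN : x ∈ normalizerIn S R :=
        centralizerIn_le_normalizerIn R ⟨hT.1 hx.1, hx.2⟩
      have h1 : f ⟨x, hxN⟩ ∈ centralizerIn T Qs :=
        ⟨CfsgLib.Fusion.StronglyClosed.apply_mem hT hf hx.1,
          (normalizer_map_centralizer hf himg ⟨x, hxN⟩ ⟨hT.1 hx.1, hx.2⟩).2⟩
      have h2 := hle h1
      rw [← himg] at h2
      obtain ⟨z, hz, hzv⟩ := mem_img.1 h2
      have := congrArg Subtype.val (F.injective_of_mem hf hzv)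
      exact (show (z : Ω) = x from this) ▸ hz
    obtain ⟨f, hf, hfN, himg⟩ := exists_normalizer_map hS h₁ h₂ hQQs
    have hPN : P ≤ normalizerIn S Q := by
      refine le_inf hPS fun y hy => ?_
      show y ∈ Subgroup.normalizer (Q : Set Ω)
      have hyT := CfsgLib.Fusion.StronglyClosed.normal_in hT (hPS hy)
      rw [Subgroup.mem_normalizer_iff]
      intro x
      have h1 : x ∈ P ↔ y * x * y⁻¹ ∈ P :=
        ⟨fun hx => P.mul_mem (P.mul_mem hy hx) (P.inv_mem hy), fun hx => by
          have := P.mul_mem (P.mul_mem (P.inv_mem hy) hx) hy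
          simpa [mul_assoc] using this⟩
      exact and_congr h1 (Subgroup.mem_normalizer_iff.1 hyT x)
    set φ := f.comp (Subgroup.inclusion hPN) with hφdef
    have hφ : φ ∈ F.Hom P := restrict_mem hf hPN
    set P' := φ.range with hP'
    have hP'S : P' ≤ S := hom_range_le hφ
    have hQsP : Qs ≤ P' := by
      rw [← himg]
      rintro _ ⟨z, hz, rfl⟩
      exact ⟨⟨z, (hz : (z : Ω) ∈ Q).1⟩, rfl⟩
    obtain ⟨ψ, hψ, -, hψv, -⟩ := exists_inv hφ rfl
    have hcap : ∀ y ∈ P', y ∈ T → y ∈ Qs := by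
      rintro _ ⟨x, rfl⟩ hy
      have h1 := CfsgLib.Fusion.StronglyClosed.apply_mem hT hψ
        (x := (⟨φ x, x, rfl⟩ : φ.range)) hy
      rw [show ψ ⟨φ x, MonoidHom.mem_range.2 ⟨x, rfl⟩⟩ = (x : Ω) from hψv x _] at h1
      rw [← himg]
      exact ⟨Subgroup.inclusion hPN x, ⟨x.2, h1⟩, rfl⟩
    have hQsT : Qs ≤ T := by
      rw [← himg]
      rintro _ ⟨z, hz, rfl⟩
      exact CfsgLib.Fusion.StronglyClosed.apply_mem hT hf (hz : (z : Ω) ∈ Q).2
    have hP'norm : P' ≤ Subgroup.normalizer (Qs : Set Ω) := by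
      rintro _ ⟨x, rfl⟩
      exact (hfN _).2
    -- find an element of the centralizer outside `P'` normalizing it
    set C := centralizerIn T Qs with hCdef
    have hCP : ¬ C ≤ P' := fun h => hC fun c hc => hcap c (h hc) hc.1
    have hCS : C ≤ S := inf_le_left.trans hT.1
    have hM : P' ⊔ C ≤ S := sup_le hP'S hCS
    have := finite_le hM
    obtain ⟨g, hg, hgP⟩ := exists_mem_normalizerIn_not_mem (hS.to_le hM)
      (lt_of_le_of_ne le_sup_left fun h => hCP (le_sup_right.trans h.ge))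
    have hPC : P' ≤ Subgroup.normalizer (C : Set Ω) := by
      rw [Subgroup.le_normalizer_iff]
      intro y hy c hc
      refine ⟨conj_mem_of_mem_normalizer (CfsgLib.Fusion.StronglyClosed.normal_in hT (hP'S hy)) hc.1,
        Subgroup.mem_centralizer_iff.2 fun q hq => ?_⟩
      have hq' := conj_mem_of_mem_normalizer (inv_mem (hP'norm hy)) hq
      rw [inv_inv] at hq'
      have := Subgroup.mem_centralizer_iff.1 hc.2 _ hq'
      calc q * (y * c * y⁻¹) = y * (y⁻¹ * q * y * c) * y⁻¹ := by group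
        _ = y * (c * (y⁻¹ * q * y)) * y⁻¹ := by rw [this]
        _ = y * c * y⁻¹ * q := by group
    have hgmem : g ∈ (↑(P' ⊔ C) : Set Ω) := hg.1
    rw [Subgroup.coe_mul_of_left_le_normalizer_right P' C hPC] at hgmem
    obtain ⟨y, hy, c, hc, hyc⟩ := hgmem
    replace hyc : y * c = g := hyc
    have hcP : c ∉ P' := fun h => hgP (hyc ▸ P'.mul_mem hy h)
    have hcN : c ∈ Subgroup.normalizer (P' : Set Ω) := by
      rw [show c = y⁻¹ * g by rw [← hyc, inv_mul_cancel_left]]
      exact mul_mem (inv_mem (Subgroup.le_normalizer hy)) hg.2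
    have hcS : c ∈ S := hCS hc
    set A := F.autGroup P' with hA
    have hfin := finite_mulAut_of_le (S := S) hP'S
    have hfinP' := finite_le hP'S
    have hQinv : ∀ (a : A) (z : P'), (z : Ω) ∈ Qs → (((a : MulAut P') z : P') : Ω) ∈ Qs :=
      fun a z hz => hcap _ ((a : MulAut P') z).2
        (CfsgLib.Fusion.StronglyClosed.apply_mem hT ((mem_autGroup_iff hP'S).1 a.2) (hQsT hz))
    let K : Subgroup A :=
      { carrier := {a | (∀ z : P', (z : Ω) ∈ Qs → (a : MulAut P') z = z) ∧
          ∀ z : P', ((z⁻¹ * (a : MulAut P') z : P') : Ω) ∈ Qs}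
        one_mem' := ⟨fun z _ => rfl, fun z => by simp⟩
        mul_mem' := fun {a b} ha hb => ⟨fun z hz => by
            rw [Subgroup.coe_mul, MulAut.mul_apply, hb.1 z hz, ha.1 z hz],
          fun z => by
            have : (z⁻¹ * ((a * b : A) : MulAut P') z : P') =
                (z⁻¹ * (a : MulAut P') z) * (a : MulAut P') (z⁻¹ * (b : MulAut P') z) := by
              simp only [Subgroup.coe_mul, MulAut.mul_apply, map_mul, map_inv]; group
            rw [this]
            exact Qs.mul_mem (ha.2 z) (hQinv a _ (hb.2 z))⟩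
        inv_mem' := fun {a} ha => ⟨fun z hz => by
            have h := congrArg (⇑((a : MulAut P')⁻¹)) (ha.1 z hz)
            rw [MulAut.inv_apply_self] at h
            exact h.symm,
          fun z => by
            have := Qs.inv_mem (ha.2 ((a : MulAut P')⁻¹ z))
            rw [MulAut.apply_inv_self] at this
            simpa [mul_assoc] using this⟩ }
    have hKn : K.Normal := ⟨fun a ha b => ⟨fun z hz => by
        simp only [Subgroup.coe_mul, MulAut.mul_apply, Subgroup.coe_inv]
        rw [ha.1 _ (by have := hQinv b⁻¹ z hz; simpa using this), MulAut.apply_inv_self],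
      fun z => by
        have := hQinv b _ (ha.2 ((b : MulAut P')⁻¹ z))
        simpa [map_mul, map_inv] using this⟩⟩
    have hKp : IsPGroup p K := by
      intro a
      have hpow : ∀ (n : ℕ) (z : P'), ((a : A) : MulAut P') (z⁻¹ * ((a : A) : MulAut P') z) =
          z⁻¹ * ((a : A) : MulAut P') z ∧
          ((((a : A) : MulAut P') ^ n) z) = z * (z⁻¹ * ((a : A) : MulAut P') z) ^ n := by
        intro n z
        have hfix := a.2.1 _ (a.2.2 z)
        refine ⟨hfix, ?_⟩
        induction n with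
        | zero => simp
        | succ n ih =>
            rw [pow_succ', MulAut.mul_apply, ih, map_mul, map_pow, hfix, pow_succ']
            rw [← mul_assoc, mul_inv_cancel_left]
      obtain ⟨m, hm⟩ := IsPGroup.iff_card.1 (hS.to_le hP'S)
      refine ⟨m, Subtype.ext <| Subtype.ext <| MulEquiv.ext fun z => ?_⟩
      show ((((a : A) : MulAut P') ^ p ^ m) z) = z
      rw [(hpow _ z).2, ← hm, pow_card_eq_one', mul_one]
    obtain ⟨α, hα, hαv⟩ : ∃ α : MulAut P', α ∈ A ∧
        ∀ z : P', ((α z : P') : Ω) = c * (z : Ω) * c⁻¹ :=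
      ⟨P'.normalizerMonoidHom ⟨c, hcN⟩, autInducedBy_le_autGroup hP'S
        (mem_autInducedBy_iff.2 ⟨c, hcS, fun z => rfl⟩), fun z => rfl⟩
    have hαK : (⟨α, hα⟩ : A) ∈ K := by
      refine ⟨fun z hz => Subtype.ext ?_, fun z => ?_⟩
      · rw [hαv, ← Subgroup.mem_centralizer_iff.1 hc.2 z hz, mul_inv_cancel_right]
      · refine hcap _ (z⁻¹ * α z).2 ?_
        show (z : Ω)⁻¹ * ((α z : P') : Ω) ∈ T
        rw [hαv, ← mul_assoc, ← mul_assoc]
        refine T.mul_mem ?_ (T.inv_mem hc.1)
        have := conj_mem_of_mem_normalizer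
          (CfsgLib.Fusion.StronglyClosed.normal_in hT (S.inv_mem (hP'S z.2))) hc.1
        simpa using this
    have hαcore : (⟨α, hα⟩ : A) ∈ pCore p A := CfsgLib.Core.le_pCore hKp hαK
    refine ⟨⟨φ, hφ, c, ⟨hcS, hcN⟩, hcP, α, ⟨_, hαcore, rfl⟩, hαv⟩, fun hrad => ?_⟩
    -- transport to `P`
    obtain ⟨e, he, hev⟩ := exists_iso hφ (rfl : φ.range = P')
    let t : A →* F.autGroup P :=
      ((MulAut.congr e.symm).toMonoidHom.comp A.subtype).codRestrict _
        fun a => (IsoIn.congr_autGroup he.symm).le ⟨_, a.2, rfl⟩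
    have ht : Function.Surjective t := fun b => by
      obtain ⟨a, ha, hab⟩ := (IsoIn.congr_autGroup he.symm).ge b.2
      exact ⟨⟨a, ha⟩, Subtype.ext hab⟩
    have hcore : t ⟨α, hα⟩ ∈ pCore p (F.autGroup P) :=
      CfsgLib.Core.map_pCore_le t ht ⟨_, hαcore, rfl⟩
    obtain ⟨u, hu⟩ := (isRadical_iff_le hS hPS).1 hrad hcore
    refine hcP (mem_of_conjAut_inn (isCentric_of_isConj hP ⟨φ, hφ, rfl⟩) ⟨c, hcS, hcN⟩ ⟨e u, ?_⟩)
    refine MulEquiv.ext fun z => Subtype.ext ?_
    rw [conjAut_apply, ← hαv]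
    have h3 : (MulAut.conj u : MulAut P) (e.symm z) = e.symm (α z) :=
      (congrArg (fun w : MulAut P => w (e.symm z)) hu).trans (by simp [t, MulAut.congr])
    have h4 := congrArg e h3
    rw [MulEquiv.apply_symm_apply] at h4
    rw [← h4]
    simp [MulAut.conj_apply]

end Cfsg.Agent.S5251
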