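import Cfsg.Statements.S5253
import Cfsg.Agent.Lib.Fusion.QuadraticCenter

set_option autoImplicit false
universe u
open Cfsg CfsgLib.Fusion

namespace Cfsg.Agent.S5253

/-- Let p be a prime and W a positive characteristic p-functor with Z(Q) ≤ W(Q): W assigns to every finite p-group Q (in a fixed universe) a subgroup W(Q), nontrivial when Q is, carried to W(R) by every isomorphism Q ≅ R, and containing the centre of Q. Suppose that for every finite group G with Sylow p-subgroup P in which W(P) is not normal there is g ∈ P outside O_p(G) with [Z(O_p(G)), g, g] = 1. Then for every saturated fusion system F over a finite p-group S and every normalizer fusion system N of W(S) in F, every p-th power of an element of Z(S) that lies in the centre of N lies in the centre of F. -/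
theorem result {p : ℕ} [Fact p.Prime] (W : ∀ (Q : Type u) [Group Q], Subgroup Q) (hW1 : ∀ (Q : Type u) [Group Q] [Finite Q], IsPGroup p Q → Nontrivial Q → W Q ≠ ⊥) (hW2 : ∀ (Q R : Type u) [Group Q] [Group R] [Finite Q], IsPGroup p Q → ∀ φ : Q ≃* R, (W Q).map φ.toMonoidHom = W R) (hWZ : ∀ (Q : Type u) [Group Q] [Finite Q], IsPGroup p Q → Subgroup.center Q ≤ W Q) (hq : ∀ (G : Type u) [Group G] [Finite G] (P : Sylow p G), ¬ (((W ↥(P : Subgroup G)).map (P : Subgroup G).subtype : Subgroup G)).Normal → ∃ g : G, g ∈ (P : Subgroup G) ∧ g ∉ Cfsg.pCore p G ∧ ⁅⁅Subgroup.center ↥(Cfsg.pCore p G) |>.map (Cfsg.pCore p G).subtype, Subgroup.zpowers g⁆, Subgroup.zpowers g⁆ = ⊥) {Ω : Type u} [Group Ω] {S : Subgroup Ω} [Finite S] (hS : IsPGroup p S) (F : Cfsg.FusionSystem S) (hF : F.IsSaturated p) (N : Cfsg.FusionSystem (Cfsg.FusionSystem.normalizerIn S ((W ↥S).map S.subtype))) (hN : F.IsNormalizerSystem ((W ↥S).map S.subtype) N) : Subgroup.closure ((fun z => z ^ p)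 '' ((S ⊓ Subgroup.centralizer (S : Set Ω) : Subgroup Ω) : Set Ω)) ⊓ N.center ≤ F.center := by
  rintro x ⟨hx, hxN⟩
  obtain ⟨z, hz, hzx⟩ := exists_pow_of_mem_closure (fun a ha b hb => centerOf_comm hb ha.1) hx
  refine mem_center_of_functor hS hF hW2 hWZ
    (fun G _ P y => ∃ z ∈ P, (∀ t ∈ P, t * z = z * t) ∧ z ^ p = y)
    (fun G _ _ P y hcc _ hy hfix g => ?_) (fun T _ => ∃ z ∈ centerOf T, z ^ p = x)
    (fun ⟨w, hw, hwx⟩ hTS hZ _ => ⟨w,
      ⟨hZ hw, Subgroup.centralizer_le (SetLike.coe_subset_coe.2 hTS) hw.2⟩, hwx⟩)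
    (fun {T} _ hxT ⟨w, hw, hwx⟩ L _ ι => ?_) ⟨z, hz, hzx⟩ hN hxN
  · obtain ⟨w, hw, hwC, rfl⟩ := hy
    exact fixed_of_quadratic W hW2 hq _ G rfl P w hcc hw hwC
      (fun h hh => hfix h (by rwa [functorOf_eq P.isPGroup'] at hh)) g
  · refine ⟨ι ⟨w, hw.1⟩, ⟨_, rfl⟩, ?_, ?_⟩
    · rintro _ ⟨s, rfl⟩
      rw [← map_mul, ← map_mul]
      exact congrArg ι (Subtype.ext (centerOf_comm hw s.2))
    · rw [← map_pow]
      exact congrArg ι (Subtype.ext hwx)

end Cfsg.Agent.S5253
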