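import Cfsg.Statements.S5255
import Cfsg.Agent.Lib.Fusion.ClosedProduct

set_option autoImplicit false
open Cfsg CfsgLib.Fusion

namespace Cfsg.Agent.S5255

/-- Let F be a saturated fusion system over a finite p-group S and T a subgroup of S strongly closed in F. Then T·C_S(T) is strongly closed in F. -/
theorem result {Ω : Type*} [Group Ω] {S : Subgroup Ω} [Finite S] (p : ℕ) [Fact p.Prime] (hS : IsPGroup p S) (F : Cfsg.FusionSystem S) (hF : F.IsSaturated p) (T : Subgroup Ω) (hT : F.StronglyClosed T) : F.StronglyClosed (T ⊔ Cfsg.FusionSystem.centralizerIn S T) := by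
    refine stronglyClosed_sup_of hS hF hT (centralizerIn_le T) fun P φ hφ hTP x hx =>
      Subgroup.mem_sup_right (mem_centralizerIn.2 ⟨hom_apply_mem hφ x, fun y hy => ?_⟩)
    obtain ⟨t, ht⟩ := ((StronglyClosed.weaklyClosed hT).2 _ (restrict_mem hφ hTP)).ge hy
    rw [MonoidHom.comp_apply] at ht
    rw [← ht, ← map_mul, ← map_mul]
    congr 1
    exact Subtype.ext ((mem_centralizerIn.1 hx).2 t t.2)

end Cfsg.Agent.S5255
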