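import Cfsg.Statements.S5256
import Cfsg.Agent.Lib.Fusion.HyperfocalGen

set_option autoImplicit false
open Cfsg Cfsg.FusionSystem CfsgLib.Fusion

namespace Cfsg.Agent.S5256

/-- Let F be a saturated fusion system over a finite p-group S, T a subgroup of S strongly closed in F, and E a factor system F/T realised along a homomorphism θ of S with kernel T. Then the hyperfocal subgroup of E is the image under θ of the hyperfocal subgroup of F (hyp(F/T) = T·hyp(F)/T). -/
theorem result {Ω : Type*} [Group Ω] {S : Subgroup Ω} [Finite S] (p : ℕ) [Fact p.Prime] (hS : IsPGroup p S) (F : Cfsg.FusionSystem S) (hF : F.IsSaturated p) (T : Subgroup Ω) (hT : F.StronglyClosed T) {Ω' : Type*} [Group Ω'] {S' : Subgroup Ω'} (θ : ↥S →* Ω') (E : Cfsg.FusionSystem S') (hE : F.IsFactorSystem T θ E) : E.hyperfocalSubgroup p = ((F.hyperfocalSubgroup p).subgroupOf S).map θ := by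
    obtain ⟨hTS, hθ, hS', hiff⟩ := hE
    have hE' : F.IsFactorSystem T θ E := ⟨hTS, hθ, hS', hiff⟩
    have hEsat := factor_saturated hS hF hT hE'
    have hmor := factor_isSurjectiveMorphism hS hF hT hE'
    have hfinS' : Finite S' := Finite.of_surjective (fun s => (⟨θ s, hS' ▸ ⟨s, rfl⟩⟩ : S'))
      fun y => by
        obtain ⟨s, hs⟩ := hS'.ge y.2
        exact ⟨s, Subtype.ext hs⟩
    set U := ((F.hyperfocalSubgroup p).subgroupOf S).map θ with hU
    refine le_antisymm (hyperfocal_le_of_coprime fun P' b hP' hb hbc y => ?_) ?_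
    · set P := preimageAlong θ P' with hP
      obtain ⟨-, φ, hφ, hind⟩ := (hiff P' _).1 ((mem_autGroup_iff hP').1 hb)
      have hPS : P ≤ S := preimageAlong_le θ P'
      have hfinP := finite_le hPS
      have hθP : ∀ x : P, θ ⟨x, hPS x.2⟩ ∈ P' := fun x => mem_preimageAlong.1 x.2
      have hφv : ∀ x : P, θ ⟨φ x, hom_apply_mem hφ x⟩ = (b ⟨_, hθP x⟩ : Ω') := fun x =>
        (inducedAlong_apply hind x (hPS x.2) (hom_apply_mem hφ x) (hθP x)).symm
      have hr : φ.range = P := by
        refine Subgroup.eq_of_le_of_card_ge ?_ ?_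
        · rintro _ ⟨x, rfl⟩
          refine (mem_preimageAlong (θ := θ) (P' := P') (x := ⟨φ x, hom_apply_mem hφ x⟩)).2 ?_
          rw [hφv]
          exact (b _).2
        · exact (Nat.card_congr (MonoidHom.ofInjective (F.injective_of_mem hφ)).toEquiv).le
      obtain ⟨a, ha, hav⟩ := exists_iso hφ hr
      set a' : MulAut P := a with ha'
      have haF : a' ∈ F.autGroup P := (mem_autGroup_iff_isoIn hPS).2 ha
      have hpow : ∀ (i : ℕ) (x : P), θ ⟨(a' ^ i) x, hPS ((a' ^ i) x).2⟩ = ((b ^ i) ⟨_, hθP x⟩ : Ω') := by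
        intro i
        induction i with
        | zero => intro x; rfl
        | succ i ih =>
            intro x
            have h1 : θ ⟨a' ((a' ^ i) x), hPS (a' ((a' ^ i) x)).2⟩ = (b ⟨_, hθP ((a' ^ i) x)⟩ : Ω') := by
              rw [← hφv]
              congr 1
              exact Subtype.ext (hav _)
            refine Eq.trans ?_ (h1.trans ?_)
            · congr 1
              exact Subtype.ext (by rw [pow_succ', MulAut.mul_apply])
            · rw [pow_succ', MulAut.mul_apply]
              congr 2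
              exact Subtype.ext (ih x)
      have hfin := finite_mulAut_of_le (S := S) hPS
      obtain ⟨n, hn1, hn2⟩ := exists_coprime_pow (p := p) a' (orderOf_pos a') hbc
      obtain ⟨x, hx⟩ := exists_preimage (hP'.trans hS'.ge) y
      rw [show y = ⟨_, hθP x⟩ from Subtype.ext hx.symm]
      have h2 := hpow n x
      rw [hn1 b (pow_orderOf_eq_one b)] at h2
      refine ⟨⟨x, hPS x.2⟩⁻¹ * ⟨(a' ^ n) x, hPS ((a' ^ n) x).2⟩,
        mem_hyperfocal_of_coprime hPS (Subgroup.pow_mem _ haF n) hn2 x, ?_⟩
      rw [map_mul, map_inv, h2]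
    · rintro _ ⟨s, hs, rfl⟩
      have hle : F.hyperfocalSubgroup p ≤ preimageAlong θ (E.hyperfocalSubgroup p) := by
        refine hyperfocal_le_of_coprime fun P α hP hα hc x => ?_
        set P' := imageAlong θ P with hP'
        obtain ⟨φ', hφ', hind⟩ := hmor.1.2 P _ ((mem_autGroup_iff hP).1 hα)
        have hP'S : P' ≤ S' := hom_le hφ'
        have hθP : ∀ z : P, θ ⟨z, hP z.2⟩ ∈ P' := fun z => ⟨⟨z, hP z.2⟩, z.2, rfl⟩
        have hφv : ∀ z : P, φ' ⟨_, hθP z⟩ = θ ⟨α z, hP (α z).2⟩ := fun z =>
          inducedAlong_apply hind z (hP z.2) (hP (α z).2) (hθP z)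
        have hfinP : Finite P' := finite_le hP'S
        have hr : φ'.range = P' := by
          refine Subgroup.eq_of_le_of_card_ge ?_ ?_
          · rintro _ ⟨⟨_, w, hw, rfl⟩, rfl⟩
            have := hφv ⟨w, hw⟩
            rw [show (⟨θ w, _⟩ : P') = ⟨_, hθP ⟨w, hw⟩⟩ from rfl, this]
            exact hθP (α ⟨w, hw⟩)
          · exact (Nat.card_congr (MonoidHom.ofInjective (E.injective_of_mem hφ')).toEquiv).le
        obtain ⟨b, hb, hbv⟩ := exists_iso hφ' hr
        set b' : MulAut P' := b with hb'
        have hbF : b' ∈ E.autGroup P' := (mem_autGroup_iff_isoIn hP'S).2 hb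
        have hpow : ∀ (i : ℕ) (z : P), ((b' ^ i) ⟨_, hθP z⟩ : Ω') = θ ⟨(α ^ i) z, hP ((α ^ i) z).2⟩ := by
          intro i
          induction i with
          | zero => intro z; rfl
          | succ i ih =>
              intro z
              rw [pow_succ', MulAut.mul_apply]
              rw [show (b' ^ i) ⟨_, hθP z⟩ = ⟨_, hθP ((α ^ i) z)⟩ from Subtype.ext (ih z), hbv, hφv]
              congr 1
              exact Subtype.ext (by rw [pow_succ', MulAut.mul_apply])
        have hbc : (orderOf b').Coprime p := by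
          refine hc.coprime_dvd_left (orderOf_dvd_of_pow_eq_one (MulEquiv.ext fun w => Subtype.ext ?_))
          obtain ⟨_, v, hv, rfl⟩ := w
          refine ((hpow (orderOf α) ⟨v, hv⟩).trans ?_)
          rw [MulAut.one_apply]
          show θ _ = θ v
          congr 1
          refine Subtype.ext ?_
          rw [pow_orderOf_eq_one]
          rfl
        refine (mem_preimageAlong (θ := θ) (P' := E.hyperfocalSubgroup p)
          (x := ⟨x, hP x.2⟩⁻¹ * ⟨α x, hP (α x).2⟩)).2 ?_
        rw [map_mul, map_inv, ← hφv x, ← hbv]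
        exact mem_hyperfocal_of_coprime hP'S hbF hbc ⟨_, hθP x⟩
      exact mem_preimageAlong.1 (hle hs)

end Cfsg.Agent.S5256
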