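import Cfsg.Statements.S5257
import Cfsg.Agent.Lib.Fusion.AbelianIndexPEss

set_option autoImplicit false
open Cfsg

namespace Cfsg.Agent.S5257

open CfsgLib.Fusion

open scoped commutatorElement in
theorem maximalClassMod {Ω : Type*} [Group Ω] {S A : Subgroup Ω} [Finite S] {p : ℕ} [hp : Fact p.Prime]
    (hA : AbIndex S A p) (hidx : (A.subgroupOf S).index = p) {x : Ω} (hx : x ∈ S) (hxA : x ∉ A)
    (hW : Nat.card (centerDerived S) = p) {m : ℕ}
    (hm : ((centerOf S).subgroupOf S).index = p ^ m) (h3 : 3 ≤ m) :
    ¬ Subgroup.lowerCentralSeries S (m - 2) ≤ centerOf S := by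
  intro hle
  have hAf := finite_le hA.le
  have := finite_le (S := S) (centerOf_le S)
  set f := hA.brHom hx with hf
  set Z := (centerOf S).subgroupOf A with hZ
  have hiter : ∀ k, ∀ a : A, ((f^[k]) a : Ω) ∈ Subgroup.lowerCentralSeries S k := by
    intro k
    induction k with
    | zero => exact fun a => hA.le a.2
    | succ k ih =>
      intro a
      rw [Function.iterate_succ_apply']
      exact Subgroup.commutator_mem_commutator (ih a) hx
  set D := (commutator S).map S.subtype with hD
  -- the preimages of the centre inside the derived subgroup grow by `p` at most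
  have hK : ∀ k, ∃ K : Subgroup Ω, Nat.card (K ⊓ D : Subgroup Ω) ≤ p ^ (k + 1) ∧
      ∀ a : A, (f^[k]) a ∈ Z → (a : Ω) ∈ K := by
    intro k
    induction k with
    | zero => exact ⟨centerOf S, by rw [zero_add, pow_one]; exact hW.le, fun a ha => ha⟩
    | succ k ih =>
      obtain ⟨K, hK, hKm⟩ := ih
      refine ⟨((K.subgroupOf A).comap f).map A.subtype, ?_, fun a ha =>
        ⟨a, hKm _ (by rwa [← Function.iterate_succ_apply]), rfl⟩⟩
      set C := ((K.subgroupOf A).comap f).map A.subtype ⊓ D with hC
      have hCA : C ≤ A := inf_le_left.trans (Subgroup.map_subtype_le _)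
      let g : C.subgroupOf A →* A := f.comp (C.subgroupOf A).subtype
      have h1 := g.ker.card_mul_index
      rw [Subgroup.index_ker, Nat.card_congr (Subgroup.subgroupOfEquivOfLe hCA).toEquiv] at h1
      have h2 : Nat.card g.ker ≤ p := by
        rw [← hW]
        have := finite_le (S := S) (P := centerDerived S) (fun w hw => hw.1.1)
        refine Nat.card_le_card_of_injective (fun a : g.ker =>
          (⟨(((a : C.subgroupOf A) : A) : Ω),
            Subgroup.mem_subgroupOf.1 ((hA.brHom_ker hx hxA).le (MonoidHom.mem_ker.1 a.2)),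
            ((a : C.subgroupOf A).2 : _ ∈ C).2⟩ : centerDerived S)) fun a b h => ?_
        exact Subtype.ext (Subtype.ext (Subtype.ext (congrArg Subtype.val h :)))
      have h3 : Nat.card g.range ≤ p ^ (k + 1) := by
        refine le_trans ?_ hK
        have : Finite (K ⊓ D : Subgroup Ω) :=
          finite_le (S := S) (inf_le_right.trans (Subgroup.map_subtype_le _))
        refine Nat.card_le_card_of_injective (fun b : g.range =>
          (⟨((b : A) : Ω), by
            obtain ⟨a, ha⟩ := b.2
            rw [← ha]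
            obtain ⟨⟨e, he, hea⟩, -⟩ := (a.2 : ((a : A) : Ω) ∈ C)
            have hfe : f e ∈ K.subgroupOf A := he
            refine ⟨?_, hA.br_derived (a : A).2 hx⟩
            rw [show g a = f e from congrArg f (Subtype.ext hea.symm)]
            exact hfe⟩ : (K ⊓ D : Subgroup Ω))) fun a b h => ?_
        exact Subtype.ext (Subtype.ext (congrArg Subtype.val h :))
      rw [← h1, pow_succ']
      exact Nat.mul_le_mul h2 h3
  obtain ⟨K, hK, hKm⟩ := hK (m - 3)
  have hall : ∀ a : A, (f a : Ω) ∈ K := fun a => hKm _ (by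
    rw [← Function.iterate_succ_apply, show Nat.succ (m - 3) = m - 2 by omega]
    exact hle (hiter (m - 2) a))
  have hcomap : Nat.card A ≤ Nat.card ((K.subgroupOf A).comap f) := by
    rw [show (K.subgroupOf A).comap f = ⊤ from eq_top_iff.2 fun a _ => hall a, Subgroup.card_top]
  rw [hA.card_comap hx hxA] at hcomap
  have h := (A.subgroupOf S).card_mul_index
  rw [hidx, Nat.card_congr (Subgroup.subgroupOfEquivOfLe hA.le).toEquiv] at h
  have h' := ((centerOf S).subgroupOf S).card_mul_index
  rw [hm, Nat.card_congr (Subgroup.subgroupOfEquivOfLe (centerOf_le S)).toEquiv, ← h,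
    show m = m - 1 + 1 by omega, pow_succ, ← mul_assoc] at h'
  rw [← Nat.eq_of_mul_eq_mul_right hp.out.pos h'] at hcomap
  have h5 := (Nat.le_of_mul_le_mul_left hcomap Nat.card_pos).trans hK
  have := (Nat.pow_le_pow_iff_right hp.out.one_lt).1 h5
  omega

/-- Let p be an odd prime, S a finite nonabelian p-group with a unique abelian subgroup A of index p, and F a saturated fusion system over S having an F-essential subgroup other than A. Then the second centre Z₂(S) lies in A; Z(S) ∩ [S, S] has order p; Z(S)[S, S] has index p in A; Z(S) has index p in Z₂(S); and S/Z(S) has maximal nilpotency class (if S/Z(S) has order pᵐ with m ≥ 3 then the term of index m − 2 of the lower central series of S, counting S as index 0, is not contained in Z(S)). -/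
theorem result {Ω : Type*} [Group Ω] {S : Subgroup Ω} [Finite S] (p : ℕ) [Fact p.Prime] (hS : IsPGroup p S) (F : Cfsg.FusionSystem S) (hF : F.IsSaturated p) (hp : p ≠ 2) (hna : ¬ IsMulCommutative ↥S) (A : Subgroup Ω) (hA : A ≤ S ∧ IsMulCommutative ↥A ∧ (A.subgroupOf S).index = p) (huniq : ∀ B : Subgroup Ω, B ≤ S → IsMulCommutative ↥B → (B.subgroupOf S).index = p → B = A) (P : Subgroup Ω) (hP : F.IsEssential p P) (hPA : P ≠ A) : ((upperCentralSeries ↥S 2).map S.subtype) ≤ A ∧ Nat.card ↥((S ⊓ Subgroup.centralizer (S : Set Ω)) ⊓ ((commutator ↥S).map S.subtype)) = p ∧ (((S ⊓ Subgroup.centralizer (S : Set Ω)) ⊔ ((commutator ↥S).map S.subtype)).subgroupOf A).index = p ∧ (((S ⊓ Subgroup.centralizer (S : Set Ω))).subgroupOf ((upperCentralSeries ↥S 2).map S.subtype)).index = p ∧ ∀ m : ℕ, ((S ⊓ Subgroup.centralizer (S : Set Ω)).subgroupOf S).index = p ^ m → 3 ≤ m → ¬ Subgroup.lowerCentralSeries S (m - 2) ≤ (S ⊓ Subgroup.centralizer (S : Set Ω)) := by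
  classical
  obtain ⟨hAS, hAc, hidx⟩ := hA
  have hX : AbIndex S A p := exists_abIndex hS hna hAS hAc hidx
  obtain ⟨hW, hZ2, x, hx, hxA, -, -⟩ := hX.ess_structure hS hF hidx huniq hP hPA
  have := finite_le (S := S) (centerOf_le S)
  have := finite_le hAS
  have hpos : 0 < Nat.card (centerOf S) := Nat.card_pos
  refine ⟨hZ2.le.trans inf_le_right, hW, ?_, ?_,
    fun m hm h3 => maximalClassMod hX hidx hx hxA hW hm h3⟩
  · set D := (commutator S).map S.subtype with hD
    have hDA : D ≤ A := fun w hw => by
      obtain ⟨a, ha, rfl⟩ := hX.derived_le hx hxA hw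
      exact hX.br_mem ha hx
    have h1 := ((centerOf S).subgroupOf A).card_mul_index
    rw [← hX.brHom_ker hx hxA, Subgroup.index_ker, hX.brHom_range hx hxA, hX.brHom_ker hx hxA,
      Nat.card_congr (Subgroup.subgroupOfEquivOfLe hX.center_le).toEquiv,
      Nat.card_congr (Subgroup.subgroupOfEquivOfLe hDA).toEquiv] at h1
    have hle : centerOf S ⊔ D ≤ A := sup_le hX.center_le hDA
    have := finite_le (hle.trans hAS)
    have := finite_le (S := S) (hDA.trans hAS)
    set T := (centerOf S ⊔ D) with hT
    have hTcard : Nat.card T * p = Nat.card (centerOf S) * Nat.card D := by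
      have h2 := Subgroup.relIndex_mul_relIndex ⊥ D T bot_le le_sup_right
      rw [Subgroup.relIndex_bot_left, Subgroup.relIndex_bot_left] at h2
      have h3 : D.relIndex T = D.relIndex (centerOf S) := by
        have : (D.subgroupOf A).Normal := ⟨fun d hd a => by
          rw [show a * d * a⁻¹ = d from Subtype.ext (by
            show (a : Ω) * d * (a : Ω)⁻¹ = d
            rw [hX.comm a a.2 d d.2, mul_inv_cancel_right])]
          exact hd⟩
        rw [hT, ← Subgroup.relIndex_subgroupOf hle, ← Subgroup.relIndex_subgroupOf hX.center_le,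
          Subgroup.subgroupOf_sup hX.center_le hDA, Subgroup.relIndex_sup_right]
      have h4 := Subgroup.relIndex_mul_relIndex ⊥ (centerOf S ⊓ D) (centerOf S) bot_le inf_le_left
      rw [Subgroup.relIndex_bot_left, Subgroup.relIndex_bot_left, inf_comm, Subgroup.inf_relIndex_right,
        show D ⊓ centerOf S = centerDerived S from inf_comm _ _, hW] at h4
      rw [← h2, h3, ← h4, mul_assoc, mul_comm p, mul_comm (Nat.card D)]
    have h5 := (T.subgroupOf A).card_mul_index
    rw [Nat.card_congr (Subgroup.subgroupOfEquivOfLe hle).toEquiv, ← h1, ← hTcard] at h5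
    exact Nat.eq_of_mul_eq_mul_left Nat.card_pos h5
  · have hle : centerOf S ≤ (Subgroup.upperCentralSeries S 2).map S.subtype := fun c hc =>
      hZ2.ge ((hX.mem_centerTwo hx hxA).2 ⟨hX.center_le hc, by
        rw [commutatorElement_eq_one_iff_mul_comm.2 (centerOf_comm hc hx).symm]; exact one_mem _⟩)
    have h1 := ((centerOf S).subgroupOf ((Subgroup.upperCentralSeries S 2).map S.subtype)).card_mul_index
    rw [Nat.card_congr (Subgroup.subgroupOfEquivOfLe hle).toEquiv, hZ2,
      hX.card_centerTwo hx hxA, hW] at h1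
    exact (congrArg (fun U => ((centerOf S).subgroupOf U).index) hZ2).trans
      (Nat.eq_of_mul_eq_mul_left hpos h1)

end Cfsg.Agent.S5257
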