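import Cfsg.Statements.S5265
import Cfsg.Agent.Lib.Fusion.CenterIndexSquareTwo
import Cfsg.Agent.Lib.Fusion.Series

set_option autoImplicit false
open Cfsg

namespace Cfsg.Agent.S5265

/-- Let p be a prime, S a nontrivial finite p-group whose centre has index at most p², and F a saturated fusion system over S with no nontrivial normal subgroup and with hyperfocal subgroup equal to S. Then S is extraspecial of order p³; for odd p it has exponent p, and for p = 2 it is dihedral of order 8. -/
theorem result {Ω : Type*} [Group Ω] {S : Subgroup Ω} [Finite S] (p : ℕ) [Fact p.Prime] (hS : IsPGroup p ↥S) (F : Cfsg.FusionSystem S) (hF : F.IsSaturated p) (hS1 : S ≠ ⊥) (hcore : F.core = ⊥) (hhyp : F.hyperfocalSubgroup p = S) (hZ : (Subgroup.center ↥S).index ≤ p ^ 2) : Cfsg.IsExtraspecial p ↥S ∧ Nat.card S = p ^ 3 ∧ (p ≠ 2 → Monoid.exponent ↥S = p) ∧ (p = 2 → Nonempty (↥S ≃* DihedralGroup 4)) := by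
  have hp' : p.Prime := Fact.out
  have hna : ¬ IsMulCommutative S := fun hab => hS1 (le_bot_iff.1 (hcore ▸
    CfsgLib.Fusion.le_core (CfsgLib.Fusion.isNormal_of_stronglyClosed_abelian hS hF
      CfsgLib.Fusion.stronglyClosed_top hab)))
  obtain ⟨z, hz⟩ := CfsgLib.Fusion.exists_centerSquare hS hna hZ
  by_cases hp2 : p = 2
  · subst hp2
    obtain ⟨hcard, hD⟩ := CfsgLib.Fusion.centerIndexSquare_two hS hF hz hcore hhyp
    exact ⟨CfsgLib.PGroups.isExtraspecial_of_card_cube hna hcard, hcard, fun h => absurd rfl h,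
      fun _ => hD⟩
  · obtain ⟨hZ', hexp⟩ := CfsgLib.Fusion.centerIndexSquare_odd hS hF hz hcore hp2
    have hcardZ : Nat.card (Subgroup.center S) = p := by
      have h1 : (Subgroup.center S).map S.subtype = CfsgLib.Fusion.centerOf S := by
        ext a
        constructor
        · rintro ⟨s, hs, rfl⟩
          exact (CfsgLib.Fusion.mem_centerOf_iff s).2 hs
        · intro ha
          exact ⟨⟨a, CfsgLib.Fusion.centerOf_le S ha⟩,
            (CfsgLib.Fusion.mem_centerOf_iff _).1 ha, rfl⟩
      rw [← Subgroup.card_subtype S (Subgroup.center S), h1, hZ', Nat.card_zpowers, hz.order]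
    have hidx : (Subgroup.center S).index = p ^ 2 :=
      le_antisymm hZ (CfsgLib.PGroups.sq_le_index_center hS hna)
    have hcard : Nat.card S = p ^ 3 := by
      rw [← (Subgroup.center S).card_mul_index, hcardZ, hidx, ← pow_succ']
    refine ⟨CfsgLib.PGroups.isExtraspecial_of_card_cube hna hcard, hcard, fun _ => ?_,
      fun h => absurd h hp2⟩
    refine ((Nat.dvd_prime hp').1 (Monoid.exponent_dvd_of_forall_pow_eq_one fun s =>
      Subtype.ext (hexp s s.2))).resolve_left fun h => hna ⟨⟨fun a b => ?_⟩⟩
    have := Monoid.pow_exponent_eq_one a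
    rw [h, pow_one] at this
    rw [this, one_mul, mul_one]

end Cfsg.Agent.S5265
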