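import Cfsg.Statements.S5270
import Cfsg.Agent.Lib.Fusion.MaxClassAmbient
import Cfsg.Agent.Lib.Fusion.NormalCriterion
import Cfsg.Agent.Lib.LocalEven.StronglyEmbedded

set_option autoImplicit false
open Cfsg

namespace Cfsg.Agent.S5270

open CfsgLib.Fusion CfsgLib.ClassSizes.MaxClass CfsgLib.PGroups.MaxClassRank Cfsg.FusionSystem
open scoped commutatorElement

theorem coatom_of_prime_index {G : Type*} [Group G] [Finite G] {H : Subgroup G}
    (h : H.index.Prime) : IsCoatom H := by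
  refine ⟨fun e => by rw [e, Subgroup.index_top] at h; exact Nat.not_prime_one h, fun M hM => ?_⟩
  rcases (Nat.dvd_prime h).1 (Subgroup.index_dvd_of_le hM.le) with e | e
  · exact Subgroup.index_eq_one.1 e
  · refine absurd (Subgroup.eq_of_le_of_card_ge hM.le (le_of_eq ?_)) hM.ne
    exact Nat.eq_of_mul_eq_mul_right h.pos
      (((congrArg (Nat.card M * ·) e.symm).trans M.card_mul_index).trans H.card_mul_index.symm)

theorem spe_of_sylow_card_prime {X : Type*} [Group X] [Finite X] {p : ℕ} [Fact p.Prime] (T : Sylow p X)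
    (hT : Nat.card T = p) (hn : ¬ (T : Subgroup X).Normal) :
    Cfsg.IsStronglyPEmbedded p (Subgroup.normalizer ((T : Subgroup X) : Set X)) := by
  refine CfsgLib.LocalEven.stronglyPEmbedded_iff.2
    ⟨fun h => hn (Subgroup.normalizer_eq_top_iff.1 h),
      hT.symm.dvd.trans (Subgroup.card_dvd_of_le Subgroup.le_normalizer), fun A hA hAp hA1 => ?_⟩
  have hAT : A ≤ (T : Subgroup X) :=
    (le_sup_left : A ≤ A ⊔ (T : Subgroup X)).trans
      (T.is_maximal' (IsPGroup.to_sup_of_normal_right' hAp T.2 hA) le_sup_right).le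
  have : A = (T : Subgroup X) := by
    refine Subgroup.eq_of_le_of_card_ge hAT ?_
    obtain ⟨k, hk⟩ := IsPGroup.iff_card.1 hAp
    have hk0 : k ≠ 0 := fun h => hA1 (Subgroup.eq_bot_of_card_eq _ (by rw [hk, h, pow_zero]))
    rw [hk, show Nat.card ↥(T : Subgroup X) = p from hT]
    exact Nat.le_self_pow hk0 p
  rw [this]

/-- Let p ≥ 5 be a prime, S a finite p-group of maximal class of order p^n with n ≥ 4, and F a saturated fusion system over S. If some map of F defined on the second centre Z₂(S) with image Z₂(S) does not carry Z(S) into itself, then the centralizer C_S(Z₂(S)) is an F-essential subgroup. -/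
theorem result {Ω : Type*} [Group Ω] {S : Subgroup Ω} [Finite S] (p : ℕ) [Fact p.Prime] (hS : IsPGroup p ↥S) (n : ℕ) (hn : Nat.card S = p ^ n) (h4 : 4 ≤ n) (hmax : Subgroup.lowerCentralSeries S (n - 2) ≠ ⊥) (F : Cfsg.FusionSystem S) (hF : F.IsSaturated p) (hp : 5 ≤ p) (φ : ↥((Subgroup.upperCentralSeries ↥S 2).map S.subtype) →* Ω) (hφ : φ ∈ F.Hom ((Subgroup.upperCentralSeries ↥S 2).map S.subtype)) (hφZ : φ.range = ((Subgroup.upperCentralSeries ↥S 2).map S.subtype)) (hmove : ∃ (z : Ω) (hz : z ∈ ((Subgroup.upperCentralSeries ↥S 2).map S.subtype)), z ∈ ((Subgroup.center ↥S).map S.subtype) ∧ φ ⟨z, hz⟩ ∉ ((Subgroup.center ↥S).map S.subtype)) : F.IsEssential p (S ⊓ Subgroup.centralizer (((Subgroup.upperCentralSeries ↥S 2).map S.subtype) : Set Ω)) := by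
  classical
  have hp' : p.Prime := Fact.out
  have D := maxClassData hS hn (by omega) hmax
  haveI := finite_mulAut_of_le (S := S) (le_refl S)
  generalize hZ2 : (Subgroup.upperCentralSeries ↥S 2).map S.subtype = Z2 at φ hφ hφZ hmove ⊢
  set C := S ⊓ Subgroup.centralizer (Z2 : Set Ω) with hC
  have hZ2S : Z2 ≤ S := hZ2 ▸ Subgroup.map_subtype_le _
  have hCS : C ≤ S := inf_le_left
  have hu := maxClass_ucs_two D h4
  have hmemC : ∀ s : S, (s : Ω) ∈ C ↔ s ∈ twoStep (S := S) (n - 3) := by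
    intro s
    rw [maxClass_mem_twoStep_last D h4]
    constructor
    · intro h x hx
      exact Subtype.ext (Subgroup.mem_centralizer_iff.1 h.2 x (hZ2 ▸ ⟨x, hu.ge hx, rfl⟩))
    · intro h
      refine ⟨s.2, Subgroup.mem_centralizer_iff.2 ?_⟩
      intro y hy
      obtain ⟨x, hx, rfl⟩ := Subgroup.mem_map.1 (hZ2.ge hy)
      exact congrArg Subtype.val (h x (hu.le hx))
  have hCsub : C.subgroupOf S = twoStep (S := S) (n - 3) := Subgroup.ext hmemC
  have hidx : (C.subgroupOf S).index = p := by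
    rw [hCsub]; exact maxClass_twoStep_index D (by omega) (by omega)
  have hsconj : ∀ g ∈ S, ∀ w ∈ Z2, g * w * g⁻¹ ∈ Z2 := by
    intro g hg w hw
    obtain ⟨x, hx, hxw⟩ := Subgroup.mem_map.1 (hZ2.ge hw)
    have hnm : ((⊤ : Subgroup S).lowerCentralSeries (n - 3)).Normal := inferInstance
    refine hZ2.le (Subgroup.mem_map.2 ⟨(⟨g, hg⟩ : S) * x * (⟨g, hg⟩ : S)⁻¹,
      hu.ge (hnm.conj_mem x (hu.le hx) ⟨g, hg⟩), ?_⟩)
    rw [← hxw]
    simp
  have hSN2 : S ≤ Subgroup.normalizer (Z2 : Set Ω) := Subgroup.le_normalizer_iff.2 hsconj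
  have hSNC : S ≤ Subgroup.normalizer (C : Set Ω) := by
    refine Subgroup.le_normalizer_iff.2 fun g hg c hc => ⟨S.mul_mem (S.mul_mem hg hc.1) (S.inv_mem hg),
      Subgroup.mem_centralizer_iff.2 fun w hw => ?_⟩
    have h := Subgroup.mem_centralizer_iff.1 hc.2 _ (hsconj g⁻¹ (S.inv_mem hg) w hw)
    rw [inv_inv] at h
    calc w * (g * c * g⁻¹) = g * (g⁻¹ * w * g * c) * g⁻¹ := by group
      _ = g * (c * (g⁻¹ * w * g)) * g⁻¹ := by rw [h]
      _ = g * c * g⁻¹ * w := by group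
  have hnormC : normalizerIn S C = S := le_antisymm inf_le_left (le_inf le_rfl hSNC)
  have hnorm2 : normalizerIn S Z2 = S := le_antisymm inf_le_left (le_inf le_rfl hSN2)
  have hfnC : F.IsFullyNormalized C :=
    ⟨hCS, fun Q _ => by rw [hnormC]; exact Subgroup.card_le_of_le (normalizerIn_le Q)⟩
  have hfn2 : F.IsFullyNormalized Z2 :=
    ⟨hZ2S, fun Q _ => by rw [hnorm2]; exact Subgroup.card_le_of_le (normalizerIn_le Q)⟩
  have hcen : F.IsCentric C := by
    refine ⟨hCS, fun Q hQ g hg => ?_⟩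
    have hQS := isConj_le_right hQ
    have hQi : (Q.subgroupOf S).index = p := by
      have h1 := (Q.subgroupOf S).card_mul_index
      have h2 := (C.subgroupOf S).card_mul_index
      rw [Nat.card_congr (Subgroup.subgroupOfEquivOfLe hQS).toEquiv, ← isConj_card hQ] at h1
      rw [Nat.card_congr (Subgroup.subgroupOfEquivOfLe hCS).toEquiv, hidx, ← h1] at h2
      haveI := finite_le hCS
      exact (Nat.eq_of_mul_eq_mul_left Nat.card_pos h2).symm
    obtain ⟨hgS, hgc⟩ := mem_centralizerIn.1 hg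
    by_contra hgQ
    have hfr : frattini S ≤ Q.subgroupOf S :=
      frattini_le_coatom (coatom_of_prime_index (hQi.symm ▸ hp'))
    have hz : (⟨g, hgS⟩ : S) ∈ Subgroup.center S := by
      refine Subgroup.mem_center_iff.2 fun a => ?_
      have hle : (Q.subgroupOf S) ⊔ Subgroup.zpowers (⟨g, hgS⟩ : S) ≤
          Subgroup.centralizer ({⟨g, hgS⟩} : Set S) := by
        refine sup_le (fun q hq => ?_) (Subgroup.zpowers_le.2 ?_) <;>
          rw [Subgroup.mem_centralizer_singleton_iff]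
        exact Subtype.ext (hgc _ hq)
      have htop : (Q.subgroupOf S) ⊔ Subgroup.zpowers (⟨g, hgS⟩ : S) = ⊤ :=
        (coatom_of_prime_index (hQi.symm ▸ hp')).2 _ (left_lt_sup.2 fun h =>
          hgQ (Subgroup.mem_subgroupOf.1 (h (Subgroup.mem_zpowers _))))
      exact Subgroup.mem_centralizer_singleton_iff.1 (hle (htop.ge (Subgroup.mem_top a)))
    rw [maxClass_center_eq D] at hz
    exact hgQ (Subgroup.mem_subgroupOf.1 (hfr (D.hfrat.ge
      (Subgroup.lowerCentralSeries_antitone _ (show 1 ≤ n - 2 by omega) hz))))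
  haveI := finite_mulAut_of_le (S := S) hCS
  haveI := finite_le hCS
  haveI hI : (innIn F C).Normal := inn_subgroupOf_normal F
  refine ⟨hcen, hfnC, hI, ?_⟩
  set π := QuotientGroup.mk' (innIn F C) with hπ
  obtain ⟨-, R, hR⟩ := IsSaturated.fullyAutomized hS hF hfnC
  let f : S →* F.autGroup C ⧸ innIn F C := π.comp
    ((C.normalizerMonoidHom.comp (Subgroup.inclusion hSNC)).codRestrict (F.autGroup C) fun g =>
      autInducedBy_le_autGroup hCS (mem_autInducedBy_iff.2 ⟨g, g.2, fun _ => rfl⟩))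
  have hker : f.ker = C.subgroupOf S := by
    ext g
    rw [MonoidHom.mem_ker]
    refine Iff.trans (QuotientGroup.eq_one_iff _) ?_
    constructor
    · intro h
      exact mem_of_conjAut_inn hcen (⟨g, hnormC.ge g.2⟩ : normalizerIn S C) h
    · intro h
      exact ⟨⟨g, h⟩, MulEquiv.ext fun _ => Subtype.ext rfl⟩
  let T := R.mapSurjective (QuotientGroup.mk'_surjective (innIn F C))
  have hT : (T : Subgroup (F.autGroup C ⧸ innIn F C)) = f.range := by
    rw [Sylow.coe_mapSurjective, hR]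
    refine le_antisymm ?_ ?_
    · rintro _ ⟨a, ha, rfl⟩
      obtain ⟨g, hg, h⟩ := mem_autInducedBy_iff.1 (Subgroup.mem_subgroupOf.1 ha)
      refine ⟨⟨g, hg⟩, congrArg π (Subtype.ext (MulEquiv.ext fun x => Subtype.ext ?_))⟩
      exact (h x).symm
    · rintro _ ⟨g, rfl⟩
      exact ⟨_, Subgroup.mem_subgroupOf.2 (mem_autInducedBy_iff.2 ⟨g, g.2, fun _ => rfl⟩), rfl⟩
  have hTc : Nat.card T = p := by
    show Nat.card (T : Subgroup (F.autGroup C ⧸ innIn F C)) = p
    rw [hT, ← Subgroup.index_ker, hker, hidx]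
  refine ⟨_, spe_of_sylow_card_prime T hTc fun hTn => ?_⟩
  -- an extension of `φ`
  obtain ⟨e, he, hev⟩ := exists_iso hφ hφZ
  have hrec := IsSaturated.receptive hS hF (IsSaturated.fullyCentralized hS hF hfn2)
  have hcc : ∀ x ∈ Z2, ∀ y ∈ Z2, x * y = y * x := by
    intro x₀ hx₀ y₀ hy₀
    obtain ⟨x, hx, rfl⟩ := Subgroup.mem_map.1 (hZ2.ge hx₀)
    obtain ⟨y, hy, rfl⟩ := Subgroup.mem_map.1 (hZ2.ge hy₀)
    have h : ⁅x, y⁆ ∈ (⊤ : Subgroup S).lowerCentralSeries (n - 3 + (n - 3) + 1) :=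
      CfsgLib.PGroups.lowerCentralSeries_commutator_le _ _ (Subgroup.commutator_mem_commutator (hu.le hx) (hu.le hy))
    have h' := Subgroup.lowerCentralSeries_antitone _ (show n - 1 ≤ n - 3 + (n - 3) + 1 by omega) h
    rw [D.hbot, Subgroup.mem_bot] at h'
    exact congrArg Subtype.val (commutatorElement_eq_one_iff_mul_comm.1 h')
  have hZC : Z2 ≤ C := fun w hw => ⟨hZ2S hw, Subgroup.mem_centralizer_iff.2 fun y hy => hcc y hy w hw⟩
  obtain ⟨ψ, hψ, hag⟩ := exists_extension hrec he hZC centralizerIn_le_extender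
  have hψC : ψ.range = C := by
    refine Subgroup.eq_of_le_of_card_ge ?_ (le_of_eq ?_)
    · rintro _ ⟨g, rfl⟩
      exact extension_mem_centralizerIn hψ hZC hag g g.2
    · rw [← img_self ψ, card_img (F.injective_of_mem hψ) le_rfl]
  obtain ⟨a, ha, hav⟩ := exists_iso hψ hψC
  set α : F.autGroup C := ⟨a, (mem_autGroup_iff_isoIn hCS).2 ha⟩ with hα
  obtain ⟨x, hx, hxC⟩ : ∃ x : S, x ∈ (⊤ : Subgroup S) ∧ x ∉ C.subgroupOf S := by
    refine SetLike.exists_of_lt (lt_top_iff_ne_top.2 fun h => ?_)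
    rw [h, Subgroup.index_top] at hidx
    exact hp'.one_lt.ne hidx
  obtain ⟨z, hz, hzZ, hzm⟩ := hmove
  have h1 : π α * f x * (π α)⁻¹ ∈ f.range := by
    rw [← hT]
    exact hTn.conj_mem _ (hT.ge ⟨x, rfl⟩) _
  obtain ⟨g, hg⟩ := h1
  set w : Ω := φ ⟨z, hz⟩ with hw
  have hwZ2 : w ∈ Z2 := hφZ.le ⟨⟨z, hz⟩, rfl⟩
  -- `g` acts on `C` as the conjugate of `x`
  set cx : F.autGroup C := ⟨_, conjAut_mem (⟨(x : Ω), hnormC.ge x.2⟩ : normalizerIn S C) |>
    autInducedBy_le_autGroup hCS⟩ with hcx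
  set cg : F.autGroup C := ⟨_, conjAut_mem (⟨(g : Ω), hnormC.ge g.2⟩ : normalizerIn S C) |>
    autInducedBy_le_autGroup hCS⟩ with hcg
  have hq : π cg = π (α * cx * α⁻¹) := by
    rw [map_mul, map_mul, map_inv]
    exact hg
  obtain ⟨⟨i, _⟩, hi, hiq⟩ := (QuotientGroup.mk'_eq_mk' _).1 hq
  obtain ⟨u, rfl⟩ := Subgroup.mem_subgroupOf.1 hi
  have hzc : (z : Ω) ∈ C := hZC hz
  have key : (g : Ω) * (u : Ω) * w * ((g : Ω) * (u : Ω))⁻¹ = w := by
    have h := congrArg (fun b : F.autGroup C => (((b : MulAut C) ⟨w, hZC hwZ2⟩ : C) : Ω)) hiq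
    have haz : a ⟨z, hzc⟩ = ⟨w, hZC hwZ2⟩ := Subtype.ext
      ((hav ⟨z, hzc⟩).trans ((hag ⟨z, hz⟩).trans (hev ⟨z, hz⟩)))
    have hainv : a⁻¹ ⟨w, hZC hwZ2⟩ = ⟨z, hzc⟩ := by
      rw [← haz, MulAut.inv_apply_self]
    simp only [Subgroup.coe_mul, InvMemClass.coe_inv, MulAut.mul_apply] at h
    rw [show (α : MulAut C) = a from rfl, hainv] at h
    have hfix : ((cx : MulAut C) ⟨z, hzc⟩ : C) = ⟨z, hzc⟩ := by
      obtain ⟨z', hz', hzz⟩ := hzZ
      refine Subtype.ext ?_
      show (x : Ω) * z * (x : Ω)⁻¹ = z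
      have := congrArg Subtype.val (Subgroup.mem_center_iff.1 hz' x)
      simp only [Subgroup.coe_mul] at this
      rw [← hzz, Subgroup.coe_subtype, this, mul_inv_cancel_right]
    rw [hfix, haz] at h
    simp only [hcg, conjAut_apply, MulAut.conj_apply, Subgroup.coe_mul, InvMemClass.coe_inv] at h
    simpa [mul_assoc] using h
  have hgC : (g : Ω) ∈ C := by
    obtain ⟨w', hw', hww⟩ := Subgroup.mem_map.1 (hZ2.ge hwZ2)
    have hnot : w' ∉ (⊤ : Subgroup S).lowerCentralSeries (n - 3 + 1) := by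
      rw [show n - 3 + 1 = n - 2 by omega, ← maxClass_center_eq D]
      exact fun h => hzm ⟨w', h, hww⟩
    have hcom : Commute w' (g * ⟨u, u.2.1⟩ : S) := Subtype.ext (by
      have h2 : ((g : Ω) * u) * w = w * ((g : Ω) * u) := mul_inv_eq_iff_eq_mul.1 key
      simp only [Subgroup.coe_mul]
      rw [show (w' : Ω) = w from hww]
      exact h2.symm)
    have h3 := D.mem_twoStep_of_commute (j := n - 3) (by omega) (hu.le hw') hnot
      (hcom.map (QuotientGroup.mk' _))
    rw [← hmemC] at h3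
    simpa using C.mul_mem h3 (C.inv_mem u.2)
  refine hxC ?_
  have hgker : f g = 1 := MonoidHom.mem_ker.1 (hker ▸ Subgroup.mem_subgroupOf.2 hgC)
  rw [hgker] at hg
  have hx1 : f x = 1 := by
    have := congrArg (fun t => (π α)⁻¹ * t * π α) hg
    simpa [mul_assoc] using this.symm
  rw [← hker]
  exact hx1

end Cfsg.Agent.S5270
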