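import Cfsg.Statements.S5273
import Cfsg.Agent.Lib.Fusion.SmallControl

set_option autoImplicit false
open Cfsg Cfsg.FusionSystem CfsgLib.Fusion

namespace Cfsg.Agent.S5273

/-- Small-exponent abelian subgroups control fusion. Let E and F be saturated fusion systems over the same finite p-group S with E contained in F. Suppose that E and F have the same maps between A and B for all subgroups A, B of S that are elementary abelian when p is odd, respectively abelian of exponent dividing 4 when p = 2. Then E = F (they have the same maps on every subgroup). -/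
theorem result {Ω : Type*} [Group Ω] {S : Subgroup Ω} [Finite S] (p : ℕ) [Fact p.Prime] (hS : IsPGroup p ↥S) (E F : Cfsg.FusionSystem S) (hE : E.IsSaturated p) (hF : F.IsSaturated p) (hEF : E.IsSubsystemOf F) (hodd : p ≠ 2 → ∀ A B : Subgroup Ω, A ≤ S → B ≤ S → Cfsg.IsElementaryAbelian p A → Cfsg.IsElementaryAbelian p B → E.homSet A B = F.homSet A B) (htwo : p = 2 → ∀ A B : Subgroup Ω, A ≤ S → B ≤ S → IsMulCommutative ↥A → IsMulCommutative ↥B → (∀ a ∈ A, a ^ 4 = 1) → (∀ b ∈ B, b ^ 4 = 1) → E.homSet A B = F.homSet A B) : ∀ P : Subgroup Ω, E.Hom P = F.Hom P := by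
    refine fun P => Set.Subset.antisymm (hEF P) ?_
    have hp : p.Prime := Fact.out
    rcases eq_or_ne p 2 with h2 | h2
    · subst h2
      refine le_of_small_abelian hS hF hE hEF (n := 2) stronglyClosed_top
        (fun Q α hQ hα _ x => S.mul_mem (S.inv_mem (hQ x.2)) (hQ (α x).2)) (by norm_num)
        (fun x hx => ?_) (fun A hA hAab hAe φ hφ => ?_) P
      · rcases hx with h | ⟨-, h⟩
        · rw [show 2 ^ 2 = 2 * 2 from rfl, pow_mul, h, one_pow]
        · exact h
      · have hB : IsMulCommutative φ.range := ⟨⟨by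
          rintro ⟨_, x, rfl⟩ ⟨_, y, rfl⟩
          refine Subtype.ext ?_
          show φ x * φ y = φ y * φ x
          rw [← map_mul, ← map_mul, hAab.is_comm.comm x y]⟩⟩
        have heq := htwo rfl A φ.range hA (hom_range_le hφ) hAab hB hAe (by
          rintro _ ⟨x, rfl⟩
          rw [← map_pow, show x ^ 4 = 1 from Subtype.ext (hAe x x.2), map_one])
        exact (heq.ge (show φ ∈ F.homSet A φ.range from ⟨hφ, fun x => ⟨x, rfl⟩⟩)).1
    · refine le_of_small_abelian hS hF hE hEF (n := 1) stronglyClosed_top
        (fun Q α hQ hα _ x => S.mul_mem (S.inv_mem (hQ x.2)) (hQ (α x).2)) (by rwa [pow_one])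
        (fun x hx => ?_) (fun A hA hAab hAe φ hφ => ?_) P
      · rw [pow_one]
        exact hx.resolve_right fun h => h2 h.1
      · have heq := hodd h2 A φ.range hA (hom_range_le hφ) ⟨hAab, fun x hx => ?_⟩
          ⟨⟨⟨?_⟩⟩, ?_⟩
        · exact (heq.ge (show φ ∈ F.homSet A φ.range from ⟨hφ, fun x => ⟨x, rfl⟩⟩)).1
        · simpa using hAe x hx
        · rintro ⟨_, x, rfl⟩ ⟨_, y, rfl⟩
          refine Subtype.ext ?_
          show φ x * φ y = φ y * φ x
          rw [← map_mul, ← map_mul, hAab.is_comm.comm x y]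
        · rintro _ ⟨x, rfl⟩
          show φ x ^ p = 1
          rw [← map_pow, show x ^ p = 1 from Subtype.ext (by simpa using hAe x x.2), map_one]

end Cfsg.Agent.S5273
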