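import Cfsg.Statements.S5274
import Cfsg.Agent.Lib.Fusion.Series

set_option autoImplicit false
set_option maxHeartbeats 400000
open Cfsg

namespace Cfsg.Agent.S5274

open Cfsg.FusionSystem CfsgLib.Fusion

variable {Ω : Type*} [Group Ω] {S : Subgroup Ω} [Finite S] {F : Cfsg.FusionSystem S}

/-- An element of `S` inverted by `S` is an involution or trivial. -/
theorem sq_of_inverted (hS : IsPGroup 2 ↥S) (hF : F.IsSaturated 2)
    (h : ∀ x ∈ S, ∃ z ∈ S ⊓ Subgroup.centralizer (S : Set Ω), F.IsConjElt x z)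
    {c g : Ω} (hc : c ∈ S) (hg : g ∈ S) (hgc : g * c * g⁻¹ = c⁻¹) : c * c = 1 := by
  haveI : Fact (Nat.Prime 2) := ⟨Nat.prime_two⟩
  obtain ⟨z, hz, φ, hφ, hφz⟩ := h c hc
  obtain ⟨hzS, hzC⟩ := Subgroup.mem_inf.1 hz
  obtain ⟨ψ, hψ, hψr, hψl, -⟩ := exists_inv hφ rfl
  have hzQ : z ∈ φ.range := ⟨_, hφz⟩
  -- the map `z ↦ z⁻¹`
  have hψmem : ∀ y : φ.range, ψ y ∈ Subgroup.zpowers c := fun y => hψr.le ⟨y, rfl⟩
  have hconj : ∀ u ∈ Subgroup.zpowers c, g * u * g⁻¹ ∈ Subgroup.zpowers c := by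
    rintro _ ⟨i, rfl⟩
    refine ⟨-i, ?_⟩
    show c ^ (-i) = g * c ^ i * g⁻¹
    rw [← conj_zpow, hgc, inv_zpow, zpow_neg]
  have hcz : Subgroup.zpowers c ≤ S := Subgroup.zpowers_le.2 hc
  have hm1 : (Cfsg.conjHom (Subgroup.zpowers c) g).comp (ψ.codRestrict _ hψmem) ∈ F.Hom φ.range :=
    F.comp_mem hψ (F.conj_mem hcz hg) hψmem
  have hm2 : ∀ y : φ.range, ((Cfsg.conjHom (Subgroup.zpowers c) g).comp (ψ.codRestrict _ hψmem)) y ∈
      Subgroup.zpowers c := fun y => hconj _ (hψmem y)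
  set χ := φ.comp (((Cfsg.conjHom (Subgroup.zpowers c) g).comp (ψ.codRestrict _ hψmem)).codRestrict _ hm2)
    with hχd
  have hχ : χ ∈ F.Hom φ.range := F.comp_mem hm1 hφ hm2
  have hχz : χ ⟨z, hzQ⟩ = z⁻¹ := by
    have h1 : ψ ⟨z, hzQ⟩ = c := by
      have := hψl ⟨c, Subgroup.mem_zpowers c⟩ ⟨_, rfl⟩
      refine (congrArg ψ (Subtype.ext ?_)).trans this
      exact hφz.symm
    have e : (⟨_, hm2 ⟨z, hzQ⟩⟩ : Subgroup.zpowers c) =
        (⟨c, Subgroup.mem_zpowers c⟩ : Subgroup.zpowers c)⁻¹ := Subtype.ext (by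
      show g * ψ ⟨z, hzQ⟩ * g⁻¹ = c⁻¹
      rw [h1, hgc])
    show φ ⟨_, hm2 ⟨z, hzQ⟩⟩ = z⁻¹
    rw [e, map_inv, hφz]
  -- it extends to an automorphism of `S`
  have hQ : φ.range ≤ Subgroup.centralizer (S : Set Ω) := by
    rintro _ ⟨⟨u, i, rfl⟩, rfl⟩
    have : φ (⟨c, Subgroup.mem_zpowers c⟩ ^ i) = z ^ i := by rw [map_zpow, hφz]
    exact this.symm ▸ zpow_mem hzC i
  have hall : ∀ R : Subgroup Ω, R ≤ Subgroup.centralizer (S : Set Ω) → centralizerIn S R = S :=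
    fun R hR => le_antisymm (centralizerIn_le R) fun s hs =>
      mem_centralizerIn.2 ⟨hs, fun y hy => (Subgroup.mem_centralizer_iff.1 (hR hy) s hs).symm⟩
  have hχr : χ.range ≤ φ.range := by
    rintro _ ⟨y, rfl⟩
    exact ⟨_, rfl⟩
  obtain ⟨e, he, hev⟩ := exists_iso hχ rfl
  have hfc : F.IsFullyCentralized χ.range := by
    refine ⟨hom_range_le hχ, fun R _ => ?_⟩
    rw [hall _ (hχr.trans hQ)]
    exact Subgroup.card_le_of_le (centralizerIn_le R)
  obtain ⟨η, hη, hag⟩ := exists_extension (IsSaturated.receptive hS hF hfc) he (hom_le hχ)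
    ((hall _ hQ).ge.trans centralizerIn_le_extender)
  obtain ⟨a, ha, hav⟩ := exists_iso hη (hom_range_eq_self hη)
  set α : MulAut S := a
  have hα : α ∈ F.autGroup S := (mem_autGroup_iff_isoIn le_rfl).2 ha
  have hαz : α ⟨z, hzS⟩ = (⟨z, hzS⟩ : S)⁻¹ := by
    apply Subtype.ext
    show ((a ⟨z, hzS⟩ : S) : Ω) = z⁻¹
    rw [hav, ← hχz, ← hev]
    exact hag ⟨z, hzQ⟩
  -- an odd power of `α` is inner
  have := finite_mulAut_of_le (S := S) (le_refl S)
  obtain ⟨R, hR⟩ := IsSaturated.top_autGroup_sylow hS hF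
  haveI : (R : Subgroup (F.autGroup S)).Normal := hR ▸ (Cfsg.innNormal ↥S).subgroupOf _
  set A : F.autGroup S := ⟨α, hα⟩
  obtain ⟨k, m, hm, he2⟩ := Nat.exists_eq_two_pow_mul_odd (orderOf_pos A).ne'
  have hp : IsPGroup 2 (Subgroup.zpowers (A ^ m)) := by
    refine IsPGroup.of_card (n := k) ?_
    rw [Nat.card_zpowers, orderOf_pow_of_dvd hm.pos.ne' ⟨2 ^ k, by rw [he2, mul_comm]⟩, he2,
      Nat.mul_div_cancel _ hm.pos]
  obtain ⟨R', hR'⟩ := hp.exists_le_sylow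
  haveI := Sylow.unique_of_normal R inferInstance
  have hmem : (A ^ m : F.autGroup S) ∈ (R : Subgroup (F.autGroup S)) :=
    (Subsingleton.elim R' R) ▸ hR' (Subgroup.mem_zpowers _)
  rw [hR] at hmem
  obtain ⟨s, hs⟩ := (Subgroup.mem_subgroupOf.1 hmem : ((A ^ m : F.autGroup S) : MulAut S) ∈ Cfsg.Inn S)
  obtain ⟨j, hj⟩ := hm
  have h2 : (α ^ 2) ⟨z, hzS⟩ = ⟨z, hzS⟩ := by
    rw [sq, MulAut.mul_apply, hαz, map_inv, hαz, inv_inv]
  have h3 : ∀ i : ℕ, ((α ^ 2) ^ i) ⟨z, hzS⟩ = ⟨z, hzS⟩ := by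
    intro i
    induction i with
    | zero => rfl
    | succ i ih => rw [pow_succ', MulAut.mul_apply, ih, h2]
  have h4 : (α ^ m) ⟨z, hzS⟩ = (⟨z, hzS⟩ : S)⁻¹ := by
    rw [hj, pow_succ', MulAut.mul_apply, pow_mul, h3, hαz]
  rw [show α ^ m = ((A ^ m : F.autGroup S) : MulAut S) from rfl, ← hs] at h4
  have h5 : (s : Ω) * z * (s : Ω)⁻¹ = z⁻¹ := congrArg Subtype.val h4
  rw [Subgroup.mem_centralizer_iff.1 hzC _ s.2, mul_inv_cancel_right] at h5
  have hz2 : z * z = 1 := by nth_rewrite 2 [h5]; exact mul_inv_cancel z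
  have h6 : φ (⟨c, Subgroup.mem_zpowers c⟩ * ⟨c, Subgroup.mem_zpowers c⟩) = φ 1 := by
    rw [map_mul, hφz, map_one, hz2]
  exact congrArg Subtype.val (F.injective_of_mem hφ h6)

/-- A normal subgroup of the system is centralised by every element of `S`. -/
theorem normal_central (h : ∀ x ∈ S, ∃ z ∈ S ⊓ Subgroup.centralizer (S : Set Ω), F.IsConjElt x z)
    {N : Subgroup Ω} (hN : F.IsNormal N) {x n : Ω} (hx : x ∈ S) (hn : n ∈ N) : x * n = n * x := by
  obtain ⟨z, hz, φ, hφ, hφz⟩ := h x hx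
  obtain ⟨ψ, hψ, hag, hmap⟩ := hN.2 _ φ hφ
  have h1 : ψ (Subgroup.inclusion le_sup_left ⟨x, Subgroup.mem_zpowers x⟩) = z := by rw [hag, hφz]
  have hnm : n ∈ Subgroup.zpowers x ⊔ N := le_sup_right (a := Subgroup.zpowers x) hn
  have h2 : ψ ⟨n, hnm⟩ ∈ S := hom_apply_mem hψ _
  have h3 : ψ ⟨n, hnm⟩ * z = z * ψ ⟨n, hnm⟩ :=
    Subgroup.mem_centralizer_iff.1 (Subgroup.mem_inf.1 hz).2 _ h2
  rw [← h1, ← map_mul, ← map_mul] at h3
  exact (congrArg Subtype.val (F.injective_of_mem hψ h3)).symm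


/-- Let F be a saturated fusion system over a finite 2-group S. Suppose that every element of S is F-conjugate to an element of the centre Z(S) (some map of F defined on the cyclic subgroup it generates sends it into Z(S)). Then S is abelian. -/
theorem result {Ω : Type*} [Group Ω] {S : Subgroup Ω} [Finite S] (hS : IsPGroup 2 ↥S) (F : Cfsg.FusionSystem S) (hF : F.IsSaturated 2) (h : ∀ x ∈ S, ∃ z ∈ S ⊓ Subgroup.centralizer (S : Set Ω), F.IsConjElt x z) : IsMulCommutative ↥S := by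
  haveI : Fact (Nat.Prime 2) := ⟨Nat.prime_two⟩
  suffices key : ∀ k : ℕ, ∀ x ∈ S, x ^ (2 ^ k) = 1 → ∀ y ∈ S, x * y = y * x by
    refine ⟨⟨fun u v => Subtype.ext ?_⟩⟩
    obtain ⟨k, hk⟩ := IsPGroup.iff_orderOf.1 hS u
    refine key k u u.2 ?_ v v.2
    rw [← hk, ← Subgroup.orderOf_coe, pow_orderOf_eq_one]
  intro k
  induction k with
  | zero =>
    intro x _ hx y _
    rw [pow_zero, pow_one] at hx
    rw [hx, one_mul, mul_one]
  | succ k ih =>
    -- the elements killed by `2 ^ k` and by `2 ^ (k + 1)`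
    let E : Subgroup Ω :=
      { carrier := {x | x ∈ S ∧ x ^ (2 ^ k) = 1}
        one_mem' := ⟨one_mem _, one_pow _⟩
        inv_mem' := fun hx => ⟨inv_mem hx.1, by rw [inv_pow, hx.2, inv_one]⟩
        mul_mem' := fun {a b} ha hb => ⟨mul_mem ha.1 hb.1, by
          rw [(show Commute a b from ih a ha.1 ha.2 b hb.1).mul_pow, ha.2, hb.2, one_mul]⟩ }
    have hmemE : ∀ x, x ∈ E ↔ x ∈ S ∧ x ^ (2 ^ k) = 1 := fun x => Iff.rfl
    have hsq : ∀ x ∈ S, x ^ (2 ^ (k + 1)) = 1 → x * x ∈ E := fun x hx h' =>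
      ⟨mul_mem hx hx, by rw [← sq, ← pow_mul, ← pow_succ', h']⟩
    -- commutators square to one
    have hc2 : ∀ x ∈ S, x ^ (2 ^ (k + 1)) = 1 → ∀ y ∈ S,
        (x * y * x⁻¹ * y⁻¹) * (x * y * x⁻¹ * y⁻¹) = 1 := by
      intro x hx h' y hy
      have hxx := ih _ (hsq x hx h').1 (hsq x hx h').2 y hy
      refine sq_of_inverted hS hF h (mul_mem (mul_mem (mul_mem hx hy) (inv_mem hx)) (inv_mem hy)) hx ?_
      calc x * (x * y * x⁻¹ * y⁻¹) * x⁻¹ = x * x * y * (x⁻¹ * (y⁻¹ * x⁻¹)) := by group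
        _ = y * (x * x) * (x⁻¹ * (y⁻¹ * x⁻¹)) := by rw [hxx]
        _ = (x * y * x⁻¹ * y⁻¹)⁻¹ := by group
    intro x hx hxk y hy
    rcases Nat.eq_zero_or_pos k with rfl | hk
    · -- involutions commute with each other
      rw [zero_add, pow_one] at hxk
      have hcomm : ∀ a b : Ω, a ∈ S → a ^ 2 = 1 → b ∈ S → b ^ 2 = 1 → a * b = b * a := by
        intro a b ha ha2 hb hb2
        rw [sq] at ha2 hb2
        have h1 := sq_of_inverted hS hF h (mul_mem ha hb) ha (by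
          calc a * (a * b) * a⁻¹ = (a * a) * b * a⁻¹ := by group
            _ = b⁻¹ * a⁻¹ := by rw [ha2, one_mul, inv_eq_of_mul_eq_one_right hb2]
            _ = (a * b)⁻¹ := by group)
        calc a * b = (a * b)⁻¹ := (inv_eq_of_mul_eq_one_right h1).symm
          _ = b * a := by rw [mul_inv_rev, inv_eq_of_mul_eq_one_right ha2, inv_eq_of_mul_eq_one_right hb2]
      let Q : Subgroup Ω :=
        { carrier := {u | u ∈ S ∧ u ^ 2 = 1}
          one_mem' := ⟨one_mem _, one_pow _⟩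
          inv_mem' := fun hu => ⟨inv_mem hu.1, by rw [inv_pow, hu.2, inv_one]⟩
          mul_mem' := fun {a b} ha hb => ⟨mul_mem ha.1 hb.1, by
            rw [(show Commute a b from hcomm a b ha.1 ha.2 hb.1 hb.2).mul_pow, ha.2, hb.2, one_mul]⟩ }
      have hQsc : F.StronglyClosed Q := by
        refine ⟨fun u hu => hu.1, fun R hR φ hφ u => ⟨hom_apply_mem hφ u, ?_⟩⟩
        rw [← map_pow, show u ^ 2 = 1 from Subtype.ext (hR u.2).2, map_one]
      have hQn := isNormal_of_stronglyClosed_abelian hS hF hQsc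
        ⟨⟨fun u v => Subtype.ext (hcomm u v u.2.1 u.2.2 v.2.1 v.2.2)⟩⟩
      exact (normal_central h hQn hy (show x ∈ Q from ⟨hx, hxk⟩)).symm
    have hcE : ∀ a ∈ S, a ^ (2 ^ (k + 1)) = 1 → ∀ b ∈ S, a * b * a⁻¹ * b⁻¹ ∈ E := by
      intro a ha hak b hb
      refine ⟨mul_mem (mul_mem (mul_mem ha hb) (inv_mem ha)) (inv_mem hb), ?_⟩
      obtain ⟨k', rfl⟩ : ∃ k', k = k' + 1 := ⟨k - 1, by omega⟩
      rw [pow_succ', pow_mul, sq, hc2 a ha hak b hb, one_pow]
    have hmul : ∀ a b, a ∈ S → a ^ (2 ^ (k + 1)) = 1 → b ∈ S → b ^ (2 ^ (k + 1)) = 1 →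
        (a * b) ^ (2 ^ (k + 1)) = 1 := by
      intro a b ha hak hb hbk
      have hc := hcE b hb hbk a ha
      have hcc := ih _ hc.1 hc.2
      have hab : (a * b) * (a * b) = (a * a) * ((b * a * b⁻¹ * a⁻¹) * (b * b)) := by
        have h1 := hcc (a) ha
        calc (a * b) * (a * b) = a * ((b * a * b⁻¹ * a⁻¹) * a) * (b * b) := by group
          _ = a * (a * (b * a * b⁻¹ * a⁻¹)) * (b * b) := by rw [h1]
          _ = (a * a) * ((b * a * b⁻¹ * a⁻¹) * (b * b)) := by group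
      rw [pow_succ', pow_mul, sq, hab]
      exact (E.mul_mem (hsq a ha hak) (E.mul_mem hc (hsq b hb hbk))).2
    let Q : Subgroup Ω :=
      { carrier := {u | u ∈ S ∧ u ^ (2 ^ (k + 1)) = 1}
        one_mem' := ⟨one_mem _, one_pow _⟩
        inv_mem' := fun hu => ⟨inv_mem hu.1, by rw [inv_pow, hu.2, inv_one]⟩
        mul_mem' := fun {a b} ha hb => ⟨mul_mem ha.1 hb.1, hmul a b ha.1 ha.2 hb.1 hb.2⟩ }
    have hsc : ∀ (j : ℕ) (P : Subgroup Ω), (∀ u, u ∈ P ↔ u ∈ S ∧ u ^ (2 ^ j) = 1) → F.StronglyClosed P := by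
      intro j P hP
      refine ⟨fun u hu => ((hP u).1 hu).1, fun R hR φ hφ u => (hP _).2 ⟨hom_apply_mem hφ u, ?_⟩⟩
      rw [← map_pow, show u ^ (2 ^ j) = 1 from Subtype.ext ((hP u).1 (hR u.2)).2, map_one]
    have hQsc : F.StronglyClosed Q := hsc (k + 1) Q fun u => Iff.rfl
    have hEsc : F.StronglyClosed E := hsc k E hmemE
    have hEQ : E ≤ Q := fun u hu => ⟨hu.1, by rw [pow_succ, pow_mul, hu.2, one_pow]⟩
    have hQn : F.IsNormal Q := by
      refine isNormal_of_series hS hF hQsc (n := 2) ![⊥, E, Q] rfl rfl ?_ ?_ ?_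
      · intro i j hij
        fin_cases i <;> fin_cases j <;> first | simp_all | exact bot_le | exact le_rfl | exact hEQ
      · intro i
        fin_cases i
        · show ⁅E, Q⁆ ≤ ⊥
          rw [Subgroup.commutator_le]
          intro u hu w hw
          rw [Subgroup.mem_bot, commutatorElement_eq_one_iff_mul_comm]
          exact ih u hu.1 hu.2 w hw.1
        · show ⁅Q, Q⁆ ≤ E
          rw [Subgroup.commutator_le]
          intro u hu w hw
          rw [commutatorElement_def]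
          exact hcE u hu.1 hu.2 w hw.1
      · intro i
        fin_cases i
        · exact StronglyClosed.weaklyClosed stronglyClosed_bot
        · exact StronglyClosed.weaklyClosed hEsc
    exact (normal_central h hQn hy (show x ∈ Q from ⟨hx, hxk⟩)).symm

end Cfsg.Agent.S5274
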