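import Cfsg.Statements.S5276
import Cfsg.Agent.Lib.Fusion.FrattiniInner

set_option autoImplicit false
open Cfsg CfsgLib.Fusion

namespace Cfsg.Agent.S5276

/-- Let p be a prime and F a saturated fusion system over a finite p-group S. Then F is the inner fusion system of S if and only if the normalizer fusion system of S itself in F is the inner fusion system (equivalently, Aut_F(S) is induced by S) and the Frattini subgroup Φ(S) is strongly closed in F. -/
theorem result {Ω : Type*} [Group Ω] {S : Subgroup Ω} [Finite S] (p : ℕ) [Fact p.Prime] (hS : IsPGroup p ↥S) (F : Cfsg.FusionSystem S) (hF : F.IsSaturated p) : (∀ P : Subgroup Ω, F.Hom P = (Cfsg.innerFusionSystem S).Hom P) ↔ (∀ N : Cfsg.FusionSystem (Cfsg.FusionSystem.normalizerIn S S), F.IsNormalizerSystem S N → ∀ P : Subgroup Ω, N.Hom P = (Cfsg.innerFusionSystem (Cfsg.FusionSystem.normalizerIn S S)).Hom P) ∧ F.StronglyClosed ((frattini ↥S).map S.subtype) := by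
  have hΦN : S ≤ Subgroup.normalizer (((frattini ↥S).map S.subtype : Subgroup Ω) : Set Ω) := by
    rw [Subgroup.le_normalizer_iff]
    rintro g hg _ ⟨y, hy, rfl⟩
    exact ⟨⟨g, hg⟩ * y * (⟨g, hg⟩ : ↥S)⁻¹,
      (inferInstance : (frattini ↥S).Normal).conj_mem y hy _, by simp⟩
  refine ⟨fun h => ⟨fun N hN => normalizer_inner_of_inner h le_rfl hN,
    stronglyClosed_of_inner (Subgroup.map_subtype_le _) hΦN h⟩, fun ⟨hN, hΦ⟩ P => ?_⟩
  rw [inner_of_frattini_stronglyClosed hS hF (fun φ hφ => ?_) hΦ]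
  have hsys := normSystem_isNormalizerSystem F S le_rfl
  have hST : S ≤ FusionSystem.normalizerIn S S := le_normalizerIn le_rfl
  have hmem : φ ∈ F.normalizerHom S S := by
    refine ⟨hφ, hST, fun x => hST (hom_apply_mem hφ x),
      φ.comp (Subgroup.inclusion (sup_le le_rfl le_rfl)), restrict_mem hφ _, fun x => rfl, ?_⟩
    refine Subgroup.eq_of_le_of_card_ge ?_
      (card_img (F.injective_of_mem (restrict_mem hφ _)) le_sup_right).ge
    rintro _ ⟨z, -, rfl⟩
    exact hom_apply_mem hφ _
  have h1 := (hN _ hsys S).le ((hsys S).ge hmem)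
  obtain ⟨-, g, hg, hv⟩ := h1
  exact ⟨le_rfl, g, hg.1, hv⟩

end Cfsg.Agent.S5276
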