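import Cfsg.Statements.S5286
import Cfsg.Agent.Lib.Fusion.PathGroup
import Cfsg.Agent.Lib.Fusion.Basic
import Mathlib.Data.Finite.Perm
import Mathlib.GroupTheory.Perm.Basic

set_option autoImplicit false
universe u
open Cfsg CfsgLib.Fusion CfsgLib.Fusion.PathGroup Cfsg.FusionSystem

namespace Cfsg.Agent.S5286

universe v

/-- The inverse right regular action. -/
def reg (G : Type*) [Group G] : G →* Equiv.Perm G where
  toFun s := Equiv.mulRight s⁻¹
  map_one' := Equiv.ext fun t => by simp
  map_mul' a b := Equiv.ext fun t => by simp [mul_assoc]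

theorem reg_injective (G : Type*) [Group G] : Function.Injective (reg G) := fun a b h => by
  have := congrArg (fun f : Equiv.Perm G => f 1) h
  simpa [reg] using this

/-- A group is the product of the representatives of the cosets of a subgroup by the subgroup. -/
noncomputable def outMul {G : Type*} [Group G] (X : Subgroup G) : (G ⧸ X) × X ≃ G :=
  Equiv.ofBijective (fun q => q.1.out * (q.2 : G))
    ⟨fun a b h => by
      have h' : a.1.out * (a.2 : G) = b.1.out * (b.2 : G) := h
      have h1 : a.1 = b.1 := by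
        rw [← QuotientGroup.out_eq' a.1, ← QuotientGroup.out_eq' b.1]
        have := congrArg (QuotientGroup.mk (s := X)) h'
        rwa [QuotientGroup.mk_mul_of_mem _ a.2.2, QuotientGroup.mk_mul_of_mem _ b.2.2] at this
      rw [h1] at h'
      exact Prod.ext h1 (Subtype.ext (mul_left_cancel h')),
    fun g => ⟨((g : G ⧸ X), ⟨(g : G ⧸ X).out⁻¹ * g,
      QuotientGroup.eq.1 (QuotientGroup.out_eq' (g : G ⧸ X))⟩), mul_inv_cancel_left _ _⟩⟩

/-- The right regular actions of isomorphic subgroups of a finite group are conjugate. -/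
theorem exists_conjugator {G : Type*} [Group G] [Finite G] {P : Type*} [Group P] (a b : P →* G)
    (ha : Function.Injective a) (hb : Function.Injective b) :
    ∃ π : Equiv.Perm G, ∀ x : P, π * reg G (a x) = reg G (b x) * π := by
  have hcard : Nat.card a.range = Nat.card b.range := by
    rw [← Nat.card_congr (MonoidHom.ofInjective ha).toEquiv,
      ← Nat.card_congr (MonoidHom.ofInjective hb).toEquiv]
  have hq : Nat.card (G ⧸ a.range) = Nat.card (G ⧸ b.range) := by
    have h1 := Subgroup.card_eq_card_quotient_mul_card_subgroup a.range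
    have h2 := Subgroup.card_eq_card_quotient_mul_card_subgroup b.range
    rw [hcard] at h1
    exact Nat.eq_of_mul_eq_mul_right Nat.card_pos (h1.symm.trans h2)
  let c : G ⧸ a.range ≃ G ⧸ b.range :=
    (Finite.equivFin _).trans ((finCongr hq).trans (Finite.equivFin _).symm)
  let e := (MonoidHom.ofInjective ha).symm.trans (MonoidHom.ofInjective hb)
  let π : Equiv.Perm G := (outMul a.range).symm.trans ((c.prodCongr e.toEquiv).trans (outMul b.range))
  refine ⟨π, fun x => Equiv.ext fun t => ?_⟩
  obtain ⟨⟨q, z⟩, rfl⟩ := (outMul a.range).surjective t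
  have h1 : reg G (a x) (outMul a.range (q, z)) =
      outMul a.range (q, z * (MonoidHom.ofInjective ha x)⁻¹) := by
    show q.out * (z : G) * (a x)⁻¹ = q.out * ((z : G) * (a x)⁻¹)
    rw [mul_assoc]
  have h2 : e (MonoidHom.ofInjective ha x) = MonoidHom.ofInjective hb x := by
    simp [e]
  rw [Equiv.Perm.mul_apply, Equiv.Perm.mul_apply, h1]
  show π (outMul a.range (q, _)) = reg G (b x) (π (outMul a.range (q, z)))
  simp only [π, Equiv.trans_apply, Equiv.symm_apply_apply, Equiv.prodCongr_apply, Prod.map]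
  show (c q).out * ((e (z * (MonoidHom.ofInjective ha x)⁻¹) : b.range) : G) =
    (c q).out * ((e z : b.range) : G) * (b x)⁻¹
  rw [map_mul, map_inv, h2, mul_assoc]
  rfl

/-- Every fusion system F over a finite p-group S, saturated or not, is realized by a possibly infinite group: there are a group G and an injective homomorphism ι of S into G such that the maps of F are exactly the conjugations by elements of G between subgroups of ι(S), every finite subgroup of G is conjugate to a subgroup of ι(S), and G has a free normal subgroup whose index divides (#S)!. -/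
theorem result {Ω : Type u} [Group Ω] {S : Subgroup Ω} [Finite S] (p : ℕ) [Fact p.Prime] (hS : IsPGroup p ↥S) (F : Cfsg.FusionSystem S) : ∃ (G : Type u) (_ : Group G) (ι : ↥S →* G), F.IsRealizedBy ι ∧ (∀ H : Subgroup G, Finite ↥H → ∃ g : G, ∀ h ∈ H, g * h * g⁻¹ ∈ ι.range) ∧ ∃ N : Subgroup G, N.Normal ∧ IsFreeGroup ↥N ∧ N.index ∣ (Nat.card ↥S).factorial := by
  classical
  let I : Type u := {x : Σ P : Subgroup Ω, P →* Ω // x.2 ∈ F.Hom x.1}
  let R : S →* Equiv.Perm S := reg S
  let src' : ∀ i : I, i.1.1 →* S := fun i => Subgroup.inclusion (hom_le i.2)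
  let img' : ∀ i : I, i.1.1 →* S := fun i => i.1.2.codRestrict S (hom_apply_mem i.2)
  have hex : ∀ i : I, ∃ π : Equiv.Perm S, ∀ x, π * R (src' i x) = R (img' i x) * π := fun i =>
    exists_conjugator _ _ (Subgroup.inclusion_injective _)
      fun a b h => F.injective_of_mem i.2 (congrArg Subtype.val h :)
  choose σ hσ using hex
  let A : I → Subgroup (Equiv.Perm S) := fun i => (R.comp (img' i)).range
  let B : Subgroup (Equiv.Perm S) := R.range
  have hd : Data A B σ := by
    refine ⟨fun i => ?_, fun i a ha => ?_⟩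
    · rintro _ ⟨x, rfl⟩; exact ⟨_, rfl⟩
    · obtain ⟨x, rfl⟩ := ha
      refine ⟨src' i x, ?_⟩
      rw [mul_assoc, MonoidHom.comp_apply, ← hσ, inv_mul_cancel_left]
  let G := grp A B σ
  let ι : S →* G := ((SemidirectProduct.inr : _ →* W A).comp R).codRestrict G
    fun s => inr_mem_grp A B σ ⟨s, rfl⟩
  have hιinj : Function.Injective ι := fun a b h =>
    reg_injective S (SemidirectProduct.inr_injective (congrArg Subtype.val h :))
  refine ⟨G, inferInstance, ι, ⟨hιinj, fun P hP φ hφ => ⟨fun hφF => ?_, fun ⟨g, hg⟩ => ?_⟩⟩,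
    fun H hH => ?_, ?_⟩
  · -- maps of the system
    let i : I := ⟨⟨P, φ⟩, hφF⟩
    refine ⟨⟨_, gen_mem_grp A B σ i⟩, fun x => eq_mul_inv_of_mul_eq (Subtype.ext ?_)⟩
    refine SemidirectProduct.ext ?_ (hσ i x).symm
    show (1 : FreeGroup (Edge A)) * act A (R (img' i x)) (FreeGroup.of (edge A i 1)) =
      FreeGroup.of (edge A i 1) * act A (σ i) 1
    rw [map_one, one_mul, mul_one, act_of, smul_edge, mul_one]
    exact congrArg FreeGroup.of (congrArg (fun r => (⟨i, r⟩ : Edge A))
      (QuotientGroup.eq.2 (by rw [mul_one]; exact inv_mem (MonoidHom.mem_range.2 ⟨x, rfl⟩))))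
  · -- conjugations are maps of the system
    have hy : ∀ x : P, (g : W A) * SemidirectProduct.inr (R ⟨x, hP x.2⟩) =
        SemidirectProduct.inr (R ⟨φ x, hφ x⟩) * (g : W A) := fun x => by
      have h1 : ι ⟨φ x, hφ x⟩ * g = g * ι ⟨x, hP x.2⟩ := by rw [hg x, inv_mul_cancel_right]
      exact (congrArg Subtype.val h1).symm
    have hright : ∀ x : P, (g : W A).right * R ⟨x, hP x.2⟩ = R ⟨φ x, hφ x⟩ * (g : W A).right :=
      fun x => congrArg SemidirectProduct.right (hy x)
    have hfix : ∀ x : P, ∀ l ∈ (g : W A).left.toWord, lact A (R ⟨φ x, hφ x⟩) l = l := by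
      intro x l hl
      have h1 := congrArg SemidirectProduct.left (hy x)
      simp only [SemidirectProduct.mul_left, SemidirectProduct.left_inr, SemidirectProduct.right_inr,
        map_one, mul_one, one_mul] at h1
      have h2 := congrArg FreeGroup.toWord h1
      rw [toWord_act] at h2
      exact (List.map_inj_left.1 (h2.symm.trans (List.map_id _).symm) l hl)
    -- follow the path
    have key : ∀ (L : List (Edge A × Bool)) (ρ π : Equiv.Perm S),
        IsPath hd (ρ : _ ⧸ B) L (π : _ ⧸ B) →
        (∀ x : P, ∀ l ∈ L, lact A (R ⟨φ x, hφ x⟩) l = l) →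
        (∃ ψ ∈ F.Hom P, ∀ (x : P) (h : ψ x ∈ S), π * R ⟨ψ x, h⟩ = R ⟨φ x, hφ x⟩ * π) →
        ∃ ψ ∈ F.Hom P, ∀ (x : P) (h : ψ x ∈ S), ρ * R ⟨ψ x, h⟩ = R ⟨φ x, hφ x⟩ * ρ := by
      have move : ∀ ρ π : Equiv.Perm S, (ρ : _ ⧸ B) = (π : _ ⧸ B) →
          (∃ ψ ∈ F.Hom P, ∀ (x : P) (h : ψ x ∈ S), π * R ⟨ψ x, h⟩ = R ⟨φ x, hφ x⟩ * π) →
          ∃ ψ ∈ F.Hom P, ∀ (x : P) (h : ψ x ∈ S), ρ * R ⟨ψ x, h⟩ = R ⟨φ x, hφ x⟩ * ρ := by
        rintro ρ π he ⟨ψ, hψ, hv⟩
        obtain ⟨b, hb⟩ := QuotientGroup.eq.1 he
        have hρ : π = ρ * R b := by rw [hb, mul_inv_cancel_left]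
        have hc : conjHom S (b : Ω) ∈ F.Hom S := F.conj_mem le_rfl b.2
        refine ⟨_, F.comp_mem hψ hc (hom_apply_mem hψ), fun x h => ?_⟩
        have h1 := hv x (hom_apply_mem hψ x)
        rw [hρ] at h1
        have h2 : (⟨_, h⟩ : S) = b * ⟨ψ x, hom_apply_mem hψ x⟩ * b⁻¹ := Subtype.ext rfl
        rw [h2, map_mul, map_mul, map_inv, ← mul_assoc, ← mul_assoc, h1]
        group
      intro L
      induction L with
      | nil => exact fun ρ π hp _ => move ρ π hp
      | cons l L ih =>
          intro ρ π hp hfx hend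
          obtain ⟨⟨i, q⟩, bb⟩ := l
          obtain ⟨k, rfl⟩ := QuotientGroup.mk_surjective q
          obtain ⟨hs, hrest⟩ := hp
          have hedge : ∀ x : P, ∃ z, R ⟨φ x, hφ x⟩ * k = k * R (img' i z) := by
            intro x
            have h1 := congrArg Prod.fst (hfx x _ List.mem_cons_self)
            change (⟨i, R ⟨φ x, hφ x⟩ • (k : _ ⧸ A i)⟩ : Edge A) = ⟨i, (k : _ ⧸ A i)⟩ at h1
            have h2 := eq_of_heq (Sigma.mk.inj h1).2
            rw [MulAction.Quotient.smul_coe, smul_eq_mul] at h2
            obtain ⟨z, hz⟩ := QuotientGroup.eq.1 h2.symm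
            refine ⟨z, ?_⟩
            change R (img' i z) = _ at hz
            rw [hz, mul_inv_cancel_left]
          have hfx' : ∀ x : P, ∀ l ∈ L, lact A (R ⟨φ x, hφ x⟩) l = l := fun x l hl =>
            hfx x l (List.mem_cons_of_mem _ hl)
          cases bb
          · -- backwards along the edge
            obtain ⟨ψ, hψ, hv⟩ := ih k π hrest hfx' hend
            obtain ⟨ρ', hρ', hinv, hl, -⟩ := exists_inv (φ := i.1.2) i.2 rfl
            have hmem : ∀ x : P, ψ x ∈ i.1.2.range := by
              intro x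
              obtain ⟨z, hz⟩ := hedge x
              rw [← hv x (hom_apply_mem hψ x)] at hz
              have := reg_injective S (mul_left_cancel hz)
              exact ⟨z, (congrArg Subtype.val this :).symm⟩
            refine move ρ (k * σ i) hs.symm ⟨_, F.comp_mem hψ hρ' hmem, fun x h => ?_⟩
            obtain ⟨z, hz⟩ := hmem x
            have h1 : (⟨_, h⟩ : S) = src' i z := by
              apply Subtype.ext
              show ρ' ⟨ψ x, hmem x⟩ = _
              simp only [← hz]
              exact hl z _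
            have h2 : (⟨ψ x, hom_apply_mem hψ x⟩ : S) = img' i z := Subtype.ext hz.symm
            rw [h1, mul_assoc, hσ, ← h2, ← mul_assoc, hv x, mul_assoc]
          · obtain ⟨ψ, hψ, hv⟩ := ih (k * σ i) π hrest hfx' hend
            have hz' : ∀ x : P, ∃ z, (⟨ψ x, hom_apply_mem hψ x⟩ : S) = src' i z ∧
                R ⟨φ x, hφ x⟩ * k = k * R (img' i z) := by
              intro x
              obtain ⟨z, hz⟩ := hedge x
              refine ⟨z, reg_injective S (mul_left_cancel (a := k * σ i) ?_), hz⟩
              rw [hv x, ← mul_assoc, hz, mul_assoc k (σ i), hσ, mul_assoc]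
            have hmem : ∀ x : P, ψ x ∈ i.1.1 := fun x => by
              obtain ⟨z, hz, -⟩ := hz' x
              rw [show ψ x = (z : Ω) from congrArg Subtype.val hz]
              exact z.2
            refine move ρ k hs.symm ⟨_, F.comp_mem hψ i.2 hmem, fun x h => ?_⟩
            obtain ⟨z, hz, hzk⟩ := hz' x
            rw [hzk]
            congr 2
            exact Subtype.ext (congrArg i.1.2 (Subtype.ext (congrArg Subtype.val hz :)))
    have hstart : ∃ ψ ∈ F.Hom P, ∀ (x : P) (h : ψ x ∈ S),
        (g : W A).right * R ⟨ψ x, h⟩ = R ⟨φ x, hφ x⟩ * (g : W A).right :=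
      ⟨P.subtype, incl_mem hP, fun x h => hright x⟩
    obtain ⟨ψ, hψ, hv⟩ := key _ 1 _ (isPath_of_mem hd g.2) hfix hstart
    refine hom_congr hψ fun x => ?_
    have := hv x (hom_apply_mem hψ x)
    rw [one_mul, mul_one] at this
    exact (congrArg Subtype.val (reg_injective S this) :).symm
  · -- finite subgroups
    have : Finite (H.map G.subtype) :=
      Finite.of_equiv H (H.equivMapOfInjective _ G.subtype_injective).toEquiv
    obtain ⟨g, hg, hgv⟩ := exists_conj_of_finite hd (H.map G.subtype) (Subgroup.map_subtype_le H)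
    refine ⟨(⟨g, hg⟩ : G)⁻¹, fun h hh => ?_⟩
    obtain ⟨_, ⟨s, rfl⟩, hs⟩ := hgv h ⟨h, hh, rfl⟩
    refine ⟨s, Subtype.ext ?_⟩
    simp only [Subgroup.coe_mul, InvMemClass.coe_inv, inv_inv]
    exact hs.symm
  · -- the free normal subgroup
    let π : G →* Equiv.Perm S := SemidirectProduct.rightHom.comp G.subtype
    refine ⟨π.ker, inferInstance, ?_, ?_⟩
    · let l : π.ker →* FreeGroup (Edge A) :=
        { toFun := fun x => ((x : G) : W A).left
          map_one' := rfl
          map_mul' := fun x y => by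
            show ((x : G) : W A).left * act A ((x : G) : W A).right ((y : G) : W A).left = _
            rw [show ((x : G) : W A).right = 1 from x.2, map_one]
            rfl }
      have hl : Function.Injective l := fun x y h => Subtype.ext (Subtype.ext
        (SemidirectProduct.ext h (((show ((x : G) : W A).right = 1 from x.2)).trans
          (show ((y : G) : W A).right = 1 from y.2).symm)))
      exact IsFreeGroup.ofMulEquiv (MonoidHom.ofInjective hl).symm
    · rw [Subgroup.index_ker, ← Nat.card_perm]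
      exact Subgroup.card_subgroup_dvd_card _

end Cfsg.Agent.S5286
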