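import Cfsg.Statements.S5290
import Cfsg.Agent.Lib.Fusion.NormalExtend

set_option autoImplicit false
open Cfsg CfsgLib.Fusion

namespace Cfsg.Agent.S5290

/-- Let F be a saturated fusion system over a finite p-group S and Q a subgroup of S. Then Q is normal in F (F = N_F(Q)) if and only if the inner fusion system of Q, consisting of the conjugations by elements of Q on subgroups of Q, is a weakly normal subsystem of F (both saturated, Q strongly closed, invariant under F-conjugation, with the Frattini property). -/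
theorem result {Ω : Type*} [Group Ω] {S : Subgroup Ω} [Finite S] (p : ℕ) [Fact p.Prime] (hS : IsPGroup p S)
    (F : Cfsg.FusionSystem S) (hF : F.IsSaturated p)
    (Q : Subgroup Ω) (hQ : Q ≤ S) :
    F.IsNormal Q ↔ (Cfsg.innerFusionSystem Q).IsWeaklyNormalIn F p := by
  constructor
  · intro hQN
    refine ⟨?_, hF, fun P φ hφ => ?_, IsNormal.stronglyClosed hQN, ?_, fun P hP φ hφ => ?_⟩
    · rw [innerFusionSystem_eq]
      have := finite_le hQ
      have hp := hS.to_le hQ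
      refine (fusionSystemOfSubgroup_sysEquiv (le_refl Q)).symm.saturated ?_
      obtain ⟨R, hR⟩ := isSylowIn_self hp
      rw [← hR]
      exact groupFusion_saturated R
    · obtain ⟨hP, g, hg, hv⟩ := hφ
      exact conj_mem' (hP.trans hQ) (hQ hg) hv
    · rintro P hPQ φ ⟨-, g, hg, hv⟩ α -
      refine ⟨conjHom _ ((α ⟨g, hg⟩ : Q) : Ω), ⟨?_, _, (α ⟨g, hg⟩).2, fun _ => rfl⟩, ?_⟩
      · rintro _ ⟨t, -, rfl⟩
        exact (α t).2
      · intro x hx hm
        show ((α ⟨g, hg⟩ : Q) : Ω) * (α ⟨x, hPQ x.2⟩ : Q) * ((α ⟨g, hg⟩ : Q) : Ω)⁻¹ = _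
        rw [show (⟨φ x, hx⟩ : Q) = ⟨g, hg⟩ * ⟨x, hPQ x.2⟩ * ⟨g, hg⟩⁻¹ from Subtype.ext (hv x),
          map_mul, map_mul, map_inv]
        rfl
    · obtain ⟨α, hα, hαv⟩ := IsNormal.exists_aut hQN hP hφ
      exact ⟨α, hα, P.subtype, ⟨hP, 1, Q.one_mem, fun x => by simp⟩, fun x hx => (hαv x).symm⟩
  · rintro ⟨-, -, -, hsc, -, hfr⟩
    refine isNormal_of_exists_aut hS hF hQ fun P hPR φ hφ => ?_
    obtain ⟨α, hα, φ₀, ⟨-, g, hg, hv⟩, hval⟩ := hfr P hPR φ hφ
    refine ⟨α * MulAut.conj (⟨g, hg⟩ : Q),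
      Subgroup.mul_mem _ hα (inn_le_autGroup hQ ⟨⟨g, hg⟩, rfl⟩), fun x => ?_⟩
    have hx : φ₀ x ∈ Q := (hv x).symm ▸ Q.mul_mem (Q.mul_mem hg (hPR x.2)) (Q.inv_mem hg)
    rw [hval x hx, show (⟨φ₀ x, hx⟩ : Q) = ⟨g, hg⟩ * Subgroup.inclusion hPR x * ⟨g, hg⟩⁻¹ from
      Subtype.ext (hv x)]
    rfl

end Cfsg.Agent.S5290
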