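import Cfsg.Statements.S5291
import Cfsg.Agent.Lib.Fusion.NormalExtend
import Cfsg.Agent.Lib.Fusion.StrongInvariance

set_option autoImplicit false
open Cfsg Cfsg.FusionSystem CfsgLib.Fusion

namespace Cfsg.Agent.S5291

/-- Let F be a saturated fusion system over a finite p-group S and E a weakly normal subsystem of F over a subgroup T. Suppose a subgroup R of T is normal in E (E = N_E(R)), and let R* be the subgroup of T generated by the images of R under all maps of F with source R. Then R* is normal in F (F = N_F(R*)). -/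
theorem result {Ω : Type*} [Group Ω] {S : Subgroup Ω} [Finite S] (p : ℕ) [Fact p.Prime] (hS : IsPGroup p S)
    (F : Cfsg.FusionSystem S) (hF : F.IsSaturated p)
    {T : Subgroup Ω} (E : Cfsg.FusionSystem T) (hE : E.IsWeaklyNormalIn F p)
    (R : Subgroup Ω) (hR : E.IsNormal R) :
    F.IsNormal (Subgroup.closure {x : Ω | ∃ φ ∈ F.Hom R, ∃ r : R, x = φ r}) := by
    obtain ⟨hEsat, -, hsub, hT, hinv, hfr⟩ := hE
    have hA : AutInvariant E F := by
      intro P f hf α hα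
      obtain ⟨χ, hχ, hv⟩ := hinv P (hom_le hf) f hf α hα
      exact ⟨χ, hχ, fun x hxQ hfx hh => hv ⟨x, hxQ⟩ hfx hh⟩
    have hRT : R ≤ T := hR.1
    have hTS : T ≤ S := hT.1
    have hfinT := finite_le hTS
    have hpT : IsPGroup p T := hS.to_le hTS
    set Rs := Subgroup.closure {x : Ω | ∃ φ ∈ F.Hom R, ∃ r : R, x = φ r} with hRs
    let im : MulAut T → Subgroup Ω := fun α => (R.subgroupOf T).map (T.subtype.comp α.toMonoidHom)
    have himT : ∀ α : MulAut T, im α ≤ T := fun α y hy => by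
      obtain ⟨x, -, rfl⟩ := hy
      exact (α x).2
    have himn : ∀ α ∈ F.autGroup T, E.IsNormal (im α) := by
      intro α hα
      refine isNormal_of_exists_aut hpT hEsat (himT α) fun P hP φ hφ => ?_
      set P' := (P.subgroupOf T).map (T.subtype.comp (α⁻¹).toMonoidHom) with hP'
      obtain ⟨φ', hφ', hv'⟩ := hA P φ hφ α⁻¹ (Subgroup.inv_mem _ hα)
      have hP'R : P' ≤ R := by
        rintro _ ⟨x, hx, rfl⟩
        obtain ⟨r, hr, hrx⟩ := hP hx
        have h1 : α r = x := Subtype.ext hrx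
        show ((α⁻¹ x : T) : Ω) ∈ R
        rw [← h1, MulAut.inv_apply_self]
        exact hr
      obtain ⟨β, hβ, hβv⟩ := IsNormal.exists_aut hR hP'R hφ'
      obtain ⟨χ, hχ, hχv⟩ := hA R _ ((mem_autGroup_iff hRT).1 hβ) α hα
      have hr : χ.range = im α := by
        have := finite_le ((himT α).trans hTS)
        refine Subgroup.eq_of_le_of_card_ge ?_ ?_
        · rintro _ ⟨⟨_, x, hx, rfl⟩, rfl⟩
          have h := hχv x hx (hRT (β ⟨x, hx⟩).2) ⟨x, hx, rfl⟩
          refine Subgroup.mem_carrier.1 ?_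
          show χ _ ∈ im α
          rw [show (⟨(T.subtype.comp α.toMonoidHom) x, _⟩ : im α) = ⟨((α x : T) : Ω), ⟨x, hx, rfl⟩⟩ from rfl, h]
          exact ⟨⟨_, hRT (β ⟨x, hx⟩).2⟩, (β ⟨x, hx⟩).2, rfl⟩
        · exact (Nat.card_congr (MonoidHom.ofInjective (E.injective_of_mem hχ)).toEquiv).le
      obtain ⟨b, hb, hbv⟩ := exists_iso hχ hr
      refine ⟨b, (mem_autGroup_iff_isoIn (himT α)).2 hb, fun x => ?_⟩
      rw [hbv]
      have hxT : (x : Ω) ∈ T := himT α (hP x.2)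
      obtain ⟨r, hr', hrx⟩ := hP x.2
      have h1 : α r = ⟨x, hxT⟩ := Subtype.ext hrx
      have hr1 : α⁻¹ ⟨x, hxT⟩ = r := by rw [← h1, MulAut.inv_apply_self]
      have hrP' : (r : Ω) ∈ P' := ⟨⟨x, hxT⟩, x.2, congrArg Subtype.val hr1⟩
      have h := hχv r hr' (hRT (β ⟨r, hr'⟩).2) ⟨r, hr', rfl⟩
      rw [show Subgroup.inclusion hP x = ⟨((α r : T) : Ω), ⟨r, hr', rfl⟩⟩ from Subtype.ext hrx.symm, h]
      have h2 : ((β ⟨r, hr'⟩ : R) : Ω) = φ' ⟨r, hrP'⟩ := hβv ⟨r, hrP'⟩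
      have hφxT : φ x ∈ T := hom_apply_mem hφ x
      have h3 := hv' ⟨x, hxT⟩ x.2 hφxT ⟨⟨x, hxT⟩, x.2, rfl⟩
      have h4 : (⟨((β ⟨r, hr'⟩ : R) : Ω), hRT (β ⟨r, hr'⟩).2⟩ : T) = α⁻¹ ⟨φ x, hφxT⟩ := by
        refine Subtype.ext ?_
        rw [h2, ← h3]
        congr 1
        exact Subtype.ext (congrArg Subtype.val hr1).symm
      show ((α ⟨((β ⟨r, hr'⟩ : R) : Ω), _⟩ : T) : Ω) = _
      rw [h4, MulAut.apply_inv_self]
    have hgen : ∀ φ ∈ F.Hom R, ∀ r : R, ∃ α ∈ F.autGroup T, φ r ∈ im α := by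
      intro φ hφ r
      obtain ⟨α, hα, e, he, hv⟩ := hfr R hRT φ hφ
      exact ⟨α, hα, ⟨⟨e r, hom_apply_mem he r⟩,
        CfsgLib.Fusion.StronglyClosed.apply_mem (CfsgLib.Fusion.IsNormal.stronglyClosed hR) he r.2,
        (hv r (hom_apply_mem he r)).symm⟩⟩
    have himle : ∀ α ∈ F.autGroup T, im α ≤ Rs := by
      rintro α hα _ ⟨x, hx, rfl⟩
      exact Subgroup.subset_closure ⟨_, restrict_mem ((mem_autGroup_iff hTS).1 hα) hRT, ⟨x, hx⟩, rfl⟩
    have hRsEq : Rs = sSup {Q : Subgroup Ω | E.IsNormal Q ∧ Q ≤ Rs} := by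
      refine le_antisymm ?_ (sSup_le fun Q hQ => hQ.2)
      conv_lhs => rw [hRs]
      rw [Subgroup.closure_le]
      rintro _ ⟨φ, hφ, r, rfl⟩
      obtain ⟨α, hα, hm⟩ := hgen φ hφ r
      exact le_sSup (show im α ∈ {Q : Subgroup Ω | E.IsNormal Q ∧ Q ≤ Rs} from
        ⟨himn α hα, himle α hα⟩) hm
    have hRsn : E.IsNormal Rs := by
      rw [hRsEq]
      exact (sSup_mem_of_sup_closed (S := T) (M := fun Q => E.IsNormal Q ∧ Q ≤ Rs)
        (fun Q h => h.1.1) ⟨isNormal_bot, bot_le⟩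
        fun P Q hP hQ => ⟨isNormal_sup hP.1 hQ.1, sup_le hP.2 hQ.2⟩).1
    have hRsT : Rs ≤ T := hRsn.1
    have hauto : ∀ α ∈ F.autGroup T, ∀ x : T, (x : Ω) ∈ Rs → ((α x : T) : Ω) ∈ Rs := by
      intro α hα x hx
      have hle : Rs ≤ ((Rs.subgroupOf T).comap α.toMonoidHom).map T.subtype := by
        conv_lhs => rw [hRs]
        rw [Subgroup.closure_le]
        rintro _ ⟨φ, hφ, r, rfl⟩
        have hφT : ∀ r : R, φ r ∈ T := fun r =>
          CfsgLib.Fusion.StronglyClosed.apply_mem hT hφ (hRT r.2)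
        refine ⟨⟨φ r, hφT r⟩, ?_, rfl⟩
        exact Subgroup.subset_closure
          ⟨_, F.comp_mem hφ ((mem_autGroup_iff hTS).1 hα) hφT, r, rfl⟩
      obtain ⟨y, hy, hyx⟩ := hle hx
      rwa [show x = y from Subtype.ext hyx.symm]
    refine isNormal_of_exists_aut hS hF (hRsT.trans hTS) fun P hP φ hφ => ?_
    obtain ⟨α, hα, e, he, hv⟩ := hfr P (hP.trans hRsT) φ hφ
    obtain ⟨β, hβ, hβv⟩ := IsNormal.exists_aut hRsn hP he
    set ψ := (T.subtype.comp α.toMonoidHom).comp (Subgroup.inclusion hRsT) with hψ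
    have hψF : ψ ∈ F.Hom Rs := restrict_mem ((mem_autGroup_iff hTS).1 hα) hRsT
    have hψr : ψ.range = Rs := by
      have := finite_le (hRsT.trans hTS)
      refine Subgroup.eq_of_le_of_card_ge ?_ ?_
      · rintro _ ⟨x, rfl⟩
        exact hauto α hα _ x.2
      · exact (Nat.card_congr (MonoidHom.ofInjective (F.injective_of_mem hψF)).toEquiv).le
    obtain ⟨a, ha, hav⟩ := exists_iso hψF hψr
    refine ⟨(a : MulAut Rs) * β, Subgroup.mul_mem _ ((mem_autGroup_iff_isoIn (hRsT.trans hTS)).2 ha)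
      ((mem_autGroup_iff (hRsT.trans hTS)).2 (hsub _ ((mem_autGroup_iff hRsT).1 hβ))), fun x => ?_⟩
    rw [MulAut.mul_apply]
    refine (hav _).trans ?_
    rw [hv x (hom_apply_mem he x), hψ]
    show ((α _ : T) : Ω) = _
    congr 2
    exact Subtype.ext (hβv x)

end Cfsg.Agent.S5291
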