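import Cfsg.Statements.S5294
import Cfsg.Agent.Lib.Fusion.CentricNormal
import Cfsg.Agent.Lib.Fusion.NormalExtend
import Cfsg.Prelude.Def_FusionComponents

set_option autoImplicit false
universe u
open Cfsg Cfsg.FusionSystem CfsgLib.Fusion
open scoped IsMulCommutative

namespace Cfsg.Agent.S5294

/-- Let F be a saturated fusion system over a finite p-group S whose centre Z(S) lies in the largest subgroup O_p(F) normal in F. Then the centre Z(F) of F is a direct factor of Z(S): there is a subgroup K of Z(S) with Z(F) ∩ K = 1 and Z(F)K = Z(S). -/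
theorem result {Ω : Type u} [Group Ω] {S : Subgroup Ω} [Finite S] (p : ℕ) [Fact p.Prime] (hS : IsPGroup p S)
    (F : Cfsg.FusionSystem S) (hF : F.IsSaturated p) (hZ : (S ⊓ Subgroup.centralizer (S : Set Ω)) ≤ F.core) :
    ∃ K : Subgroup Ω, K ≤ (S ⊓ Subgroup.centralizer (S : Set Ω)) ∧ F.center ⊓ K = ⊥ ∧ F.center ⊔ K = (S ⊓ Subgroup.centralizer (S : Set Ω)) := by
    set Z := S ⊓ Subgroup.centralizer (S : Set Ω) with hZdef
    set Q := F.core with hQdef
    have hQ : F.IsNormal Q := core_isNormal
    have hQS : Q ≤ S := hQ.1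
    have hfin := finite_mulAut_of_le (S := S) hQS
    have hfinQ := finite_le hQS
    set G := F.autGroup Q with hG
    obtain ⟨R, hR⟩ := (IsSaturated.fullyAutomized hS hF (CfsgLib.Fusion.IsNormal.fullyNormalized hQ)).2
    have hfixZ : ∀ r : G, r ∈ (R : Subgroup G) → ∀ a (ha : a ∈ Z),
        (((r : MulAut Q) ⟨a, hZ ha⟩ : Q) : Ω) = a := by
      intro r hr a ha
      rw [hR] at hr
      obtain ⟨g, hg, hgv⟩ := mem_autInducedBy_iff.1 (Subgroup.mem_subgroupOf.1 hr)
      rw [hgv]
      show g * a * g⁻¹ = a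
      rw [Subgroup.mem_centralizer_iff.1 ha.2 g hg, mul_inv_cancel_right]
    let : Fintype (G ⧸ (R : Subgroup G)) := Fintype.ofFinite _
    have hcen : ∀ (g : G) (a : Z), (g : MulAut Q) ⟨a, hZ a.2⟩ ∈ Subgroup.center Q := by
      intro g a
      rw [Subgroup.mem_center_iff]
      intro q
      obtain ⟨q, rfl⟩ := (g : MulAut Q).surjective q
      rw [← map_mul, ← map_mul]
      congr 1
      exact Subtype.ext (Subgroup.mem_centralizer_iff.1 a.2.2 q (hQS q.2))
    let t : Z → Subgroup.center Q := fun a =>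
      ∏ c : G ⧸ (R : Subgroup G), (⟨_, hcen (Quotient.out c) a⟩ : Subgroup.center Q)
    have htm : ∀ a b, t (a * b) = t a * t b := by
      intro a b
      simp only [t, ← Finset.prod_mul_distrib]
      refine Finset.prod_congr rfl fun c _ => Subtype.ext ?_
      show ((Quotient.out c : G) : MulAut Q) ⟨_, _⟩ =
        ((Quotient.out c : G) : MulAut Q) ⟨_, _⟩ * ((Quotient.out c : G) : MulAut Q) ⟨_, _⟩
      rw [← map_mul]
      rfl
    let act : G → (Subgroup.center Q →* Q) := fun h =>
      (h : MulAut Q).toMonoidHom.comp (Subgroup.center Q).subtype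
    have hinv : ∀ (h : G) (a : Z), (h : MulAut Q) (t a : Q) = (t a : Q) := by
      intro h a
      have h1 : ∀ c : G ⧸ (R : Subgroup G), (h : MulAut Q) (((Quotient.out c : G) : MulAut Q) ⟨a, hZ a.2⟩) =
          ((Quotient.out (h • c) : G) : MulAut Q) ⟨a, hZ a.2⟩ := by
        intro c
        have h2 : (Quotient.out (h • c))⁻¹ * (h * Quotient.out c) ∈ (R : Subgroup G) := by
          refine QuotientGroup.eq.1 ((QuotientGroup.out_eq' _).trans ?_)
          conv_lhs => rw [← QuotientGroup.out_eq' c]
          rfl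
        have h3 := hfixZ _ h2 a a.2
        calc (h : MulAut Q) (((Quotient.out c : G) : MulAut Q) ⟨a, hZ a.2⟩)
            = ((Quotient.out (h • c) : G) : MulAut Q)
                ((((Quotient.out (h • c))⁻¹ * (h * Quotient.out c) : G) : MulAut Q) ⟨a, hZ a.2⟩) := by
              simp [MulAut.mul_apply]
          _ = _ := by
              congr 1
              exact Subtype.ext h3
      let hr : Subgroup.center Q →* Subgroup.center Q :=
        (act h).codRestrict _ fun z => by
          rw [Subgroup.mem_center_iff]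
          intro q
          obtain ⟨q, rfl⟩ := (h : MulAut Q).surjective q
          show (h : MulAut Q) q * (h : MulAut Q) z = (h : MulAut Q) z * (h : MulAut Q) q
          rw [← map_mul, ← map_mul, Subgroup.mem_center_iff.1 z.2 q]
      have h4 : hr (t a) = t a := by
        simp only [t, map_prod]
        refine Fintype.prod_equiv (MulAction.toPerm h) _ _ fun c => Subtype.ext ?_
        exact h1 c
      exact congrArg Subtype.val h4
    have htC : ∀ a, ((t a : Q) : Ω) ∈ F.center := by
      intro a
      refine le_center (Q := Subgroup.zpowers ((t a : Q) : Ω))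
        ((CfsgLib.Fusion.isCentral_iff hS hF).2 ⟨Subgroup.zpowers_le.2 (hQS (t a : Q).2), ?_⟩)
        (Subgroup.mem_zpowers _)
      intro x hx y hy
      obtain ⟨φ, hφ, rfl⟩ := hy
      obtain ⟨n, rfl⟩ := Subgroup.mem_zpowers_iff.1 hx
      have hle : Subgroup.zpowers (((t a : Q) : Ω) ^ n) ≤ Q :=
        Subgroup.zpowers_le.2 (Q.zpow_mem (t a : Q).2 n)
      obtain ⟨α, hα, hαv⟩ := IsNormal.exists_aut hQ hle hφ
      rw [← hαv]
      have : (Subgroup.inclusion hle ⟨_, Subgroup.mem_zpowers (((t a : Q) : Ω) ^ n)⟩ : Q) = (t a : Q) ^ n :=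
        Subtype.ext (Subgroup.coe_zpow Q (t a : Q) n).symm
      rw [this, map_zpow, show α (t a : Q) = (t a : Q) from hinv ⟨α, hα⟩ a]
      exact Subgroup.coe_zpow Q _ n
    have hCZ : F.center ≤ Z := le_inf center_le F.center_le_centralizer
    let f : Z →* F.center := MonoidHom.mk' (fun a => ⟨_, htC a⟩) fun a b => Subtype.ext (by
      show ((t (a * b) : Q) : Ω) = _
      rw [htm]
      rfl)
    have hm : ∀ z : F.center, (f (Subgroup.inclusion hCZ z) : Ω) = (z : Ω) ^ (R : Subgroup G).index := by
      intro z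
      show ((t _ : Q) : Ω) = _
      have hc : ∀ c : G ⧸ (R : Subgroup G), (⟨_, hcen (Quotient.out c) (Subgroup.inclusion hCZ z)⟩ : Subgroup.center Q) =
          ⟨⟨z, hZ (hCZ z.2)⟩, Subgroup.mem_center_iff.2 fun q => Subtype.ext
            (Subgroup.mem_centralizer_iff.1 (hCZ z.2).2 q (hQS q.2))⟩ := fun c => Subtype.ext <| Subtype.ext
        ((((CfsgLib.Fusion.isCentral_iff hS hF).1 center_isCentral).2 z z.2 _
          (isConjElt_of_hom ((mem_autGroup_iff hQS).1 (Quotient.out c : G).2) ⟨z, hZ (hCZ z.2)⟩)))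
      simp only [t, hc, Finset.prod_const, Finset.card_univ]
      rw [Subgroup.index_eq_card, Nat.card_eq_fintype_card]
      rfl
    have hinj : Function.Injective (fun z : F.center => f (Subgroup.inclusion hCZ z)) := by
      refine fun z w hzw => ?_
      have hcomp := (f.comp (Subgroup.inclusion hCZ))
      have h1 : f (Subgroup.inclusion hCZ (z * w⁻¹)) = 1 := by
        rw [map_mul, map_mul, map_inv, map_inv]
        simp only at hzw
        rw [hzw, mul_inv_cancel]
      have h2 : ((z * w⁻¹ : F.center) : Ω) ^ (R : Subgroup G).index = 1 := by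
        rw [← hm, h1]
        rfl
      obtain ⟨k, hk⟩ := hS ⟨_, center_le (z * w⁻¹).2⟩
      have h3 : orderOf ((z * w⁻¹ : F.center) : Ω) ∣ 1 := by
        have hco : ((R : Subgroup G).index).Coprime (p ^ k) :=
          (((Fact.out : p.Prime).coprime_iff_not_dvd.2 R.not_dvd_index).symm).pow_right k
        rw [← hco]
        exact Nat.dvd_gcd (orderOf_dvd_of_pow_eq_one h2)
          (orderOf_dvd_of_pow_eq_one (congrArg Subtype.val hk :))
      have h4 : ((z * w⁻¹ : F.center) : Ω) = 1 := orderOf_eq_one_iff.1 (Nat.dvd_one.1 h3)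
      exact eq_of_mul_inv_eq_one (Subtype.ext h4)
    have hfinC : Finite F.center := finite_le center_le
    refine ⟨f.ker.map Z.subtype, Subgroup.map_subtype_le _, ?_, ?_⟩
    · rw [eq_bot_iff]
      rintro _ ⟨hxC, a, ha, rfl⟩
      have : (fun z : F.center => f (Subgroup.inclusion hCZ z)) ⟨_, hxC⟩ =
          (fun z : F.center => f (Subgroup.inclusion hCZ z)) 1 := by
        show f (Subgroup.inclusion hCZ ⟨_, hxC⟩) = f (Subgroup.inclusion hCZ 1)
        rw [map_one, map_one]
        exact ha
      exact Subgroup.mem_bot.2 (congrArg Subtype.val (hinj this) :)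
    · refine le_antisymm (sup_le hCZ (Subgroup.map_subtype_le _)) fun a ha => ?_
      obtain ⟨c, hc⟩ := Finite.surjective_of_injective hinj (f ⟨a, ha⟩)
      rw [← mul_inv_cancel_left (c : Ω) a]
      refine mul_mem (Subgroup.mem_sup_left c.2) (Subgroup.mem_sup_right
        ⟨(Subgroup.inclusion hCZ c)⁻¹ * ⟨a, ha⟩, ?_, rfl⟩)
      rw [SetLike.mem_coe, MonoidHom.mem_ker, map_mul, map_inv]
      simp only at hc
      rw [hc, inv_mul_cancel]

end Cfsg.Agent.S5294
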