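import Cfsg.Statements.S5295
import Cfsg.Agent.S5193
import Cfsg.Agent.Lib.Fusion.ModelCenter

set_option autoImplicit false
universe u
open Cfsg

namespace Cfsg.Agent.S5295

open Cfsg.FusionSystem CfsgLib.Fusion

/-- Let F be a saturated fusion system over a finite p-group S with p odd. Then the centre Z(F) of F is a direct factor of Z(S): there is a subgroup K of Z(S) with Z(F) ∩ K = 1 and Z(F)K = Z(S). (At the prime 2 this can fail.) -/
theorem result {Ω : Type u} [Group Ω] {S : Subgroup Ω} [Finite S] (p : ℕ) [Fact p.Prime] (hp : p ≠ 2) (hS : IsPGroup p S)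
    (F : Cfsg.FusionSystem S) (hF : F.IsSaturated p) :
    ∃ K : Subgroup Ω, K ≤ (S ⊓ Subgroup.centralizer (S : Set Ω)) ∧ F.center ⊓ K = ⊥ ∧ F.center ⊔ K = (S ⊓ Subgroup.centralizer (S : Set Ω)) := by
  classical
  set J := thompsonSubgroupAOf S with hJ
  have hJS : J ≤ S := thompsonAOf_le S
  have hJN : S ≤ Subgroup.normalizer (J : Set Ω) :=
    Subgroup.le_normalizer.trans (normalizer_le_normalizer_thompsonA S)
  have hNS : normalizerIn S J = S := inf_eq_left.2 hJN
  have hN := normSystem_isNormalizerSystem F J hJS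
  set M := copySystem hNS (normSystem F J hJS) with hM
  have hMn : M.IsNormal J := copySystem_isNormal hNS (normalizerSystem_isNormal hJS hN)
  have hfn : F.IsFullyNormalized J := ⟨hJS, fun R _ => by
    rw [hNS]; exact Subgroup.card_le_of_le inf_le_left⟩
  have hMs : M.IsSaturated p :=
    copySystem_saturated hNS (normalizerSystem_saturated hS hF hfn hN)
  have hcen : M.center = F.center := by
    rw [← (Cfsg.Agent.S5193.result p hS F hF (normSystem F J hJS) hN).2 (Or.inl hp)]
    refine congrArg sSup (Set.ext fun Q => ?_)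
    show (Q ≤ S ∧ _) ↔ (Q ≤ normalizerIn S J ∧ _)
    exact and_congr ⟨fun h => h.trans hNS.ge, fun h => h.trans hNS.le⟩ Iff.rfl
  have hMc : M.IsCentric J := by
    refine ⟨hJS, fun Q hQ => ?_⟩
    obtain ⟨φ, hφ, rfl⟩ := hQ
    rw [(StronglyClosed.weaklyClosed (IsNormal.stronglyClosed hMn)).2 _ hφ]
    intro c hc
    exact mem_thompsonA_of_centralizes le_rfl (mem_centralizerIn.1 hc).1
      fun y hy => (mem_centralizerIn.1 hc).2 y hy
  obtain ⟨L, i, ι, hG⟩ := exists_model_of_normal_centric hS hMs hMn hMc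
  have h := center_complement_of_model hS hG
  rwa [hcen] at h

end Cfsg.Agent.S5295
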