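import Cfsg.Statements.S5297
import Cfsg.Agent.Lib.Fusion.CoprimeCriterion
import Cfsg.Agent.Lib.Fusion.Hyperfocal
import Cfsg.Agent.Lib.Fusion.HyperfocalGen

set_option autoImplicit false
set_option maxHeartbeats 400000
universe u
open Cfsg

namespace Cfsg.Agent.S5297

open Cfsg Cfsg.FusionSystem CfsgLib.Fusion
open CfsgLib.Transfer (IsSmall)

universe v

variable {Ω : Type v} [Group Ω] {S : Subgroup Ω} {F : FusionSystem S} {p : ℕ}

/-- An automorphism of a subgroup restricted to an invariant subgroup. -/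
noncomputable def restrictAut {P : Type*} [Group P] [Finite P] (a : MulAut P) (Y : Subgroup P)
    (h : ∀ x ∈ Y, a x ∈ Y) : MulAut Y :=
  MulEquiv.ofBijective
    (((a : P ≃* P).toMonoidHom.comp Y.subtype).codRestrict Y fun x => h x x.2)
    (Finite.injective_iff_bijective.1 fun x y e => Subtype.ext (a.injective (congrArg Subtype.val e)))

theorem restrictAut_apply {P : Type*} [Group P] [Finite P] (a : MulAut P) (Y : Subgroup P)
    (h : ∀ x ∈ Y, a x ∈ Y) (x : Y) : ((restrictAut a Y h x : Y) : P) = a x := rfl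

theorem restrictAut_pow {P : Type*} [Group P] [Finite P] (a : MulAut P) (Y : Subgroup P)
    (h : ∀ x ∈ Y, a x ∈ Y) (n : ℕ) (x : Y) :
    (((restrictAut a Y h ^ n) x : Y) : P) = (a ^ n) x := by
  induction n with
  | zero => rfl
  | succ n ih => rw [pow_succ', pow_succ', MulAut.mul_apply, MulAut.mul_apply, restrictAut_apply, ih]

/-- The hypothesis gives an automorphism of `S` for each map of a small element of the hyperfocal
subgroup. -/
theorem exists_top_aut [Fact p.Prime] [Finite S] {P : Subgroup Ω} (hP : P ≤ S)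
    (h : ∀ A B : Subgroup Ω, A ≤ (F.hyperfocalSubgroup p) → B ≤ (F.hyperfocalSubgroup p) → IsCyclic ↥A →
      (Nat.card ↥A = p ∨ Nat.card ↥A = 4) → IsCyclic ↥B → (Nat.card ↥B = p ∨ Nat.card ↥B = 4) →
      F.homSet A B ⊆ F.normalizerHom S A)
    {b : MulAut P} (hb : b ∈ F.autGroup P) {x : P} (hs : IsSmall p (x : Ω))
    (hxH : (x : Ω) ∈ F.hyperfocalSubgroup p) (hbH : ((b x : P) : Ω) ∈ F.hyperfocalSubgroup p) :
    ∃ α : MulAut S, α ⟨(x : Ω), hP x.2⟩ = ⟨((b x : P) : Ω), hP (b x).2⟩ := by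
  rcases eq_or_ne x 1 with rfl | hx1
  · exact ⟨1, Subtype.ext (by simp)⟩
  have hcard : ∀ y : P, y ≠ 1 → IsSmall p (y : Ω) →
      Nat.card (Subgroup.zpowers (y : Ω)) = p ∨ Nat.card (Subgroup.zpowers (y : Ω)) = 4 := by
    intro y hy1 hy
    have hy1' : (y : Ω) ≠ 1 := fun e => hy1 (Subtype.ext e)
    rw [Nat.card_zpowers]
    rcases hy with h' | ⟨rfl, h'⟩
    · exact Or.inl (orderOf_eq_prime h' hy1')
    · obtain ⟨j, hj, hjv⟩ := (Nat.dvd_prime_pow Nat.prime_two).1
        (show orderOf (y : Ω) ∣ 2 ^ 2 from orderOf_dvd_of_pow_eq_one h')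
      interval_cases j
      · exact absurd (orderOf_eq_one_iff.1 (by simpa using hjv)) hy1'
      · exact Or.inl (by simpa using hjv)
      · exact Or.inr (by simpa using hjv)
  have hbs : IsSmall p ((b x : P) : Ω) :=
    (((CfsgLib.Transfer.isSmall_map_iff P.subtype P.subtype_injective).1 hs).map b.toMonoidHom).map P.subtype
  have hle : Subgroup.zpowers (x : Ω) ≤ P := Subgroup.zpowers_le.2 x.2
  obtain ⟨-, -, -, ψ, hψ, hψv, -⟩ := h (Subgroup.zpowers (x : Ω)) (Subgroup.zpowers ((b x : P) : Ω))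
    (Subgroup.zpowers_le.2 hxH) (Subgroup.zpowers_le.2 hbH) inferInstance (hcard x hx1 hs)
    inferInstance (hcard _ ((map_ne_one_iff b b.injective).2 hx1) hbs)
    (show (P.subtype.comp b.toMonoidHom).comp (Subgroup.inclusion hle) ∈ _ from
      ⟨restrict_mem ((mem_autGroup_iff hP).1 hb) hle, fun y => by
        obtain ⟨k, hk⟩ := Subgroup.mem_zpowers_iff.1 y.2
        refine Subgroup.mem_zpowers_iff.2 ⟨k, ?_⟩
        show ((b x : P) : Ω) ^ k = ((b (Subgroup.inclusion hle y) : P) : Ω)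
        rw [← Subgroup.coe_zpow, ← map_zpow]
        congr 2
        exact Subtype.ext (by rw [Subgroup.coe_zpow]; exact hk)⟩)
  have hχ := restrict_mem hψ (le_sup_right : S ≤ Subgroup.zpowers (x : Ω) ⊔ S)
  obtain ⟨e, -, hev⟩ := exists_iso hχ (hom_range_eq_self hχ)
  refine ⟨e, Subtype.ext ((hev _).trans ?_)⟩
  exact hψv ⟨(x : Ω), Subgroup.mem_zpowers _⟩

/-- No proper subgroup is essential. -/
theorem essential_eq_top [Fact p.Prime] [Finite S] (hS : IsPGroup p S) (hF : F.IsSaturated p)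
    (h : ∀ A B : Subgroup Ω, A ≤ (F.hyperfocalSubgroup p) → B ≤ (F.hyperfocalSubgroup p) → IsCyclic ↥A →
      (Nat.card ↥A = p ∨ Nat.card ↥A = 4) → IsCyclic ↥B → (Nat.card ↥B = p ∨ Nat.card ↥B = 4) →
      F.homSet A B ⊆ F.normalizerHom S A)
    {P : Subgroup Ω} (hPe : F.IsEssential p P) : P = S := by
  have hc := hPe.1
  have hPS := hc.1
  have hr := IsEssential.isRadical hS hPe
  have hfinP := finite_le hPS
  have hPp := hS.to_le hPS
  set H := F.hyperfocalSubgroup p
  have hH := hyperfocal_stronglyClosed hS hF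
  set Y := H.subgroupOf P with hYdef
  have hY : ∀ b ∈ F.autGroup P, ∀ x ∈ Y, b x ∈ Y := fun b hb x hx =>
    StronglyClosed.apply_mem hH ((mem_autGroup_iff hPS).1 hb) hx
  obtain ⟨C, hCchar, hCΦ, -, hCC⟩ := CfsgLib.Transfer.exists_critical (hPp.to_subgroup Y)
  haveI := hCchar
  have hΦc : frattini C ≤ Subgroup.center C := fun z hz => Subgroup.mem_center_iff.2 fun g =>
    Subtype.ext (Subgroup.mem_centralizer_iff.1 (hCΦ ⟨z, hz, rfl⟩) g g.2)
  have hcomm := CfsgLib.Transfer.comm_pow_p_of_frattini_central ((hPp.to_subgroup Y).to_subgroup C) hΦc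
  let D₀ : Subgroup C :=
    { carrier := {x | IsSmall p x}
      one_mem' := CfsgLib.Transfer.isSmall_one
      mul_mem' := fun hu hv =>
        CfsgLib.Transfer.IsSmall.mul ((hPp.to_subgroup Y).to_subgroup C) hcomm hu hv
      inv_mem' := fun hu => CfsgLib.Transfer.IsSmall.inv hu }
  set D : Subgroup P := (D₀.map C.subtype).map Y.subtype with hDdef
  have hDH : ∀ x ∈ D, (x : Ω) ∈ H := by
    rintro _ ⟨y, -, rfl⟩
    exact y.2
  have hDs : ∀ x ∈ D, IsSmall p (x : Ω) := by
    rintro _ ⟨_, ⟨z, hz, rfl⟩, rfl⟩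
    exact ((hz : IsSmall p z).map (Y.subtype.comp C.subtype)).map P.subtype
  have hDinv : ∀ b ∈ F.autGroup P, ∀ x ∈ D, b x ∈ D := by
    rintro b hb _ ⟨_, ⟨z, hz, rfl⟩, rfl⟩
    have hm : restrictAut b Y (hY b hb) z ∈ C :=
      (Subgroup.characteristic_iff_map_eq.1 hCchar (restrictAut b Y (hY b hb))).le ⟨_, z.2, rfl⟩
    refine ⟨_, ⟨⟨_, hm⟩, ?_, rfl⟩, rfl⟩
    exact (CfsgLib.Transfer.isSmall_map_iff C.subtype C.subtype_injective).1
      (((hz : IsSmall p z).map C.subtype).map (restrictAut b Y (hY b hb)).toMonoidHom)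
  set Z := fun i : ℕ => Subgroup.upperCentralSeries S i with hZdef
  let inS : P → S := fun x => ⟨(x : Ω), hPS x.2⟩
  have hZinv : ∀ b ∈ F.autGroup P, ∀ i, ∀ x ∈ D, inS x ∈ Z i → inS (b x) ∈ Z i := by
    intro b hb i x hx hxi
    obtain ⟨α, hα⟩ := exists_top_aut hPS h hb (hDs x hx) (hDH x hx) (hDH _ (hDinv b hb x hx))
    show (⟨((b x : P) : Ω), _⟩ : S) ∈ Z i
    rw [← hα]
    exact (Subgroup.characteristic_iff_map_eq.1 inferInstance α).le ⟨_, hxi, rfl⟩
  let K : Subgroup (F.autGroup P) :=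
    { carrier := {b | ∀ i, ∀ x ∈ D, inS x ∈ Z (i + 1) → inS (x⁻¹ * (b : MulAut P) x) ∈ Z i}
      one_mem' := fun i x _ _ => by
        have : inS (x⁻¹ * ((1 : F.autGroup P) : MulAut P) x) = 1 := Subtype.ext (by simp [inS])
        rw [this]
        exact one_mem _
      mul_mem' := fun {b c} hb hc i x hx hxi => by
        have e : inS (x⁻¹ * ((b * c : F.autGroup P) : MulAut P) x) = inS (x⁻¹ * (c : MulAut P) x) *
            inS (((c : MulAut P) x)⁻¹ * (b : MulAut P) ((c : MulAut P) x)) :=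
          Subtype.ext (by simp [inS, mul_assoc])
        rw [e]
        exact mul_mem (hc i x hx hxi) (hb i _ (hDinv c c.2 x hx) (hZinv c c.2 _ x hx hxi))
      inv_mem' := fun {b} hb i x hx hxi => by
        have h1 := hb i _ (hDinv _ (inv_mem b.2) x hx) (hZinv _ (inv_mem b.2) _ x hx hxi)
        rw [MulAut.apply_inv_self] at h1
        have e : inS (x⁻¹ * ((b⁻¹ : F.autGroup P) : MulAut P) x) =
            (inS (((b : MulAut P)⁻¹ x)⁻¹ * x))⁻¹ := Subtype.ext (by simp [inS])
        rw [e]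
        exact inv_mem h1 }
  haveI : K.Normal := ⟨fun b hb c i x hx hxi => by
    set y := (c : MulAut P)⁻¹ x with hy
    have hyD : y ∈ D := hDinv _ (inv_mem c.2) x hx
    have hd : y⁻¹ * (b : MulAut P) y ∈ D := mul_mem (inv_mem hyD) (hDinv b b.2 y hyD)
    have h1 := hZinv c c.2 i _ hd (hb i y hyD (hZinv _ (inv_mem c.2) _ x hx hxi))
    have e : (c : MulAut P) (y⁻¹ * (b : MulAut P) y) =
        x⁻¹ * ((c * b * c⁻¹ : F.autGroup P) : MulAut P) x := by
      rw [map_mul, map_inv, hy, MulAut.apply_inv_self]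
      rfl
    rwa [e] at h1⟩
  have hK : ∀ b ∈ K, (orderOf b).Coprime p → b = 1 := by
    intro b hb hbc
    have hbc' : (orderOf (b : MulAut P)).Coprime p := by rwa [Subgroup.orderOf_coe]
    have : Group.IsNilpotent S := hS.isNilpotent
    obtain ⟨n, hn⟩ := Group.IsNilpotent.nilpotent (G := ↥S)
    have key : ∀ i, ∀ x ∈ D, inS x ∈ Z i → (b : MulAut P) x = x := by
      intro i
      induction i with
      | zero =>
        intro x _ hx
        simp only [hZdef, Subgroup.upperCentralSeries_zero, Subgroup.mem_bot] at hx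
        rw [show x = 1 from Subtype.ext (congrArg Subtype.val hx :), map_one]
      | succ i ih =>
        intro x hx hxi
        exact CfsgLib.Transfer.eq_of_fixed_diff hPp _ hbc' (pow_orderOf_eq_one _)
          (ih _ (mul_mem (inv_mem hx) (hDinv b b.2 x hx)) (hb i x hx hxi))
    have hfix : ∀ x ∈ D, (b : MulAut P) x = x := fun x hx => key n x hx (hn.ge (Subgroup.mem_top _))
    set c := restrictAut (b : MulAut P) Y (hY b b.2) with hcdef
    have hcpow : c ^ orderOf (b : MulAut P) = 1 := MulEquiv.ext fun y => Subtype.ext (by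
      rw [hcdef, restrictAut_pow, pow_orderOf_eq_one]; rfl)
    have hCfix : ∀ y ∈ C, c y = y := CfsgLib.Transfer.fixes_of_fixes_small (hPp.to_subgroup Y) c hbc'
      hcpow (Subgroup.characteristic_iff_map_eq.1 hCchar c) fun y hy hys => Subtype.ext
        (hfix _ ⟨y, ⟨⟨y, hy⟩, (CfsgLib.Transfer.isSmall_map_iff C.subtype C.subtype_injective).1 hys,
          rfl⟩, rfl⟩)
    have hc1 : c = 1 := CfsgLib.Transfer.eq_one_of_fixes_centralizer_le (hPp.to_subgroup Y) c hbc'
      hcpow hCC hCfix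
    refine Subtype.ext (MulEquiv.ext fun x => ?_)
    refine CfsgLib.Transfer.eq_of_fixed_diff hPp _ hbc' (pow_orderOf_eq_one _) ?_
    exact congrArg Subtype.val (DFunLike.congr_fun hc1
      (⟨x⁻¹ * (b : MulAut P) x, mem_hyperfocal_of_coprime hPS b.2 hbc' x⟩ : Y))
  by_contra hne
  obtain ⟨g, hg, hgP⟩ := exists_mem_normalizerIn_not_mem hS (lt_of_le_of_ne hPS hne)
  refine hgP (mem_of_kernel hS hc hr K hK ⟨g, hg⟩ fun i x _ hxi => ?_)
  have h2 := Subgroup.mem_upperCentralSeries_succ_iff.1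
    ((Subgroup.upperCentralSeries S (i + 1)).inv_mem hxi) ⟨g, hg.1⟩
  convert h2 using 1
  apply Subtype.ext
  simp [inS, mul_assoc, commutatorElement_def]

/-- Let F be a saturated fusion system over a finite p-group S. If every map of F between cyclic subgroups of the hyperfocal subgroup of F of order p or 4 is a map of the normalizer system of S (it extends to a map of F defined on all of S), then S is normal in F. -/
theorem result {Ω : Type u} [Group Ω] {S : Subgroup Ω} [Finite S] (p : ℕ) [Fact p.Prime] (hS : IsPGroup p S)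
    (F : Cfsg.FusionSystem S) (hF : F.IsSaturated p)
    (h : ∀ A B : Subgroup Ω, A ≤ (F.hyperfocalSubgroup p) → B ≤ (F.hyperfocalSubgroup p) → IsCyclic ↥A → (Nat.card ↥A = p ∨ Nat.card ↥A = 4) → IsCyclic ↥B → (Nat.card ↥B = p ∨ Nat.card ↥B = 4) →
      F.homSet A B ⊆ F.normalizerHom S A) :
    F.IsNormal S := by
  refine isNormal_of_invariant hS hF fun P hP => ?_
  obtain rfl : P = S := hP.elim id (essential_eq_top hS hF h)
  refine ⟨le_rfl, fun α _ => ?_⟩
  rw [Subgroup.subgroupOf_self, Subgroup.map_top_of_surjective _ α.surjective]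
end Cfsg.Agent.S5297
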