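import Cfsg.Statements.S5298
import Cfsg.Agent.Lib.Fusion.CoprimeCriterion
import Cfsg.Agent.Lib.Fusion.HyperfocalGen

set_option autoImplicit false
universe u
open Cfsg Cfsg.FusionSystem CfsgLib.Fusion

namespace Cfsg.Agent.S5298

/-- Let F be a saturated fusion system over a finite p-group S. If every map of F between cyclic subgroups of the hyperfocal subgroup of F of order p or 4 is conjugation by an element of S, then F is the inner fusion system of S. -/
theorem result {Ω : Type u} [Group Ω] {S : Subgroup Ω} [Finite S] (p : ℕ) [Fact p.Prime] (hS : IsPGroup p S)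
    (F : Cfsg.FusionSystem S) (hF : F.IsSaturated p)
    (h : ∀ A B : Subgroup Ω, A ≤ (F.hyperfocalSubgroup p) → B ≤ (F.hyperfocalSubgroup p) → IsCyclic ↥A → (Nat.card ↥A = p ∨ Nat.card ↥A = 4) → IsCyclic ↥B → (Nat.card ↥B = p ∨ Nat.card ↥B = 4) →
      F.homSet A B ⊆ (Cfsg.innerFusionSystem S).Hom A) :
    ∀ P : Subgroup Ω, F.Hom P = (Cfsg.innerFusionSystem S).Hom P := by
    have hp : p.Prime := Fact.out
    intro P
    rw [eq_inner_of_coprime_trivial hS hF ?_]
    intro R hR b hb hbc
    refine eq_one_of_fixes_small_in (U := F.hyperfocalSubgroup p) hS hR hbc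
      (mem_hyperfocal_of_coprime hR hb hbc) fun L hL hLs => ?_
    have : Group.IsNilpotent S := hS.isNilpotent
    obtain ⟨n, hn⟩ := Group.IsNilpotent.nilpotent (G := ↥S)
    suffices key : ∀ i, ∀ x ∈ L, (⟨(x : Ω), hR x.2⟩ : S) ∈ Subgroup.upperCentralSeries S i → b x = x from
      fun x hx => key n x hx (hn ▸ Subgroup.mem_top _)
    intro i
    induction i with
    | zero =>
        intro x _ hx
        simp only [Subgroup.upperCentralSeries_zero, Subgroup.mem_bot] at hx
        rw [show x = 1 from Subtype.ext (congrArg Subtype.val hx :), map_one]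
    | succ i ih =>
        intro x hx hxi
        rcases eq_or_ne x 1 with rfl | hx1
        · exact map_one b
        have hbx : b x ∈ L := hL.le ⟨x, hx, rfl⟩
        have hcard : ∀ y ∈ L, y ≠ 1 → Nat.card (Subgroup.zpowers ((y : R) : Ω)) = p ∨
            Nat.card (Subgroup.zpowers ((y : R) : Ω)) = 4 := by
          intro y hy hy1
          have hy1' : ((y : R) : Ω) ≠ 1 := fun e => hy1 (Subtype.ext e)
          rw [Nat.card_zpowers]
          rcases (hLs y hy).2 with h' | ⟨rfl, h'⟩
          · exact Or.inl (orderOf_eq_prime h' hy1')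
          · obtain ⟨j, hj, hjv⟩ := (Nat.dvd_prime_pow Nat.prime_two).1
              (show orderOf ((y : R) : Ω) ∣ 2 ^ 2 from orderOf_dvd_of_pow_eq_one h')
            interval_cases j
            · exact absurd (orderOf_eq_one_iff.1 (by simpa using hjv)) hy1'
            · exact Or.inl (by simpa using hjv)
            · exact Or.inr (by simpa using hjv)
        have hle : Subgroup.zpowers (x : Ω) ≤ R := Subgroup.zpowers_le.2 x.2
        obtain ⟨-, g, hg, hgv⟩ := h (Subgroup.zpowers (x : Ω)) (Subgroup.zpowers ((b x : R) : Ω))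
          (Subgroup.zpowers_le.2 (hLs x hx).1) (Subgroup.zpowers_le.2 (hLs _ hbx).1)
          inferInstance (hcard x hx hx1)
          inferInstance (hcard _ hbx ((map_ne_one_iff b b.injective).2 hx1))
          (show (R.subtype.comp b.toMonoidHom).comp (Subgroup.inclusion hle) ∈ _ from
            ⟨restrict_mem ((mem_autGroup_iff hR).1 hb) hle, fun y => by
              obtain ⟨k, hk⟩ := Subgroup.mem_zpowers_iff.1 y.2
              refine Subgroup.mem_zpowers_iff.2 ⟨k, ?_⟩
              show ((b x : R) : Ω) ^ k = ((b (Subgroup.inclusion hle y) : R) : Ω)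
              rw [← Subgroup.coe_zpow, ← map_zpow]
              congr 2
              exact Subtype.ext (by rw [Subgroup.coe_zpow]; exact hk)⟩)
        have hbg : ((b x : R) : Ω) = g * (x : Ω) * g⁻¹ := hgv ⟨(x : Ω), Subgroup.mem_zpowers _⟩
        refine CfsgLib.Transfer.eq_of_fixed_diff (hS.to_le hR) b hbc (pow_orderOf_eq_one b)
          (ih _ (L.mul_mem (L.inv_mem hx) hbx) ?_)
        have h2 := Subgroup.mem_upperCentralSeries_succ_iff.1 ((Subgroup.upperCentralSeries S (i + 1)).inv_mem hxi) ⟨g, hg⟩
        convert h2 using 1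
        apply Subtype.ext
        simp [hbg, mul_assoc, commutatorElement_def]

end Cfsg.Agent.S5298
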