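import Cfsg.Statements.S5299
import Cfsg.Agent.Lib.Fusion.Sections
import Cfsg.Agent.Lib.Fusion.Basic

set_option autoImplicit false
universe u
open Cfsg CfsgLib.Fusion

namespace Cfsg.Agent.S5299

/-- Let F be a saturated fusion system over a finite p-group S, H a finite group and Q a p-subgroup of H. If Q is not involved in S (no section of S is isomorphic to Q), then F is H-free: H is involved in no model of the normalizer system of a fully normalized centric subgroup. -/
theorem result {Ω : Type u} [Group Ω] {S : Subgroup Ω} [Finite S] (p : ℕ) [Fact p.Prime] (hS : IsPGroup p S)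
    (F : Cfsg.FusionSystem S) (hF : F.IsSaturated p) (H : Type*) [Group H] [Finite H] (Q : Subgroup H) (hQ : IsPGroup p Q)
    (hfree : ¬ Cfsg.Involves (↥Q) (↥S)) : F.IsSectionFree p H := by
  intro R hn hc N hN L _ ι hmod hinv
  obtain ⟨hfin, hreal, ⟨T, hT⟩, -⟩ := hmod
  let e := MonoidHom.ofInjective hreal.1
  let j : ↥(T : Subgroup L) →* S :=
    (Subgroup.inclusion (inf_le_left : Cfsg.FusionSystem.normalizerIn S R ≤ S)).comp
      ((MulEquiv.subgroupCongr hT).trans e.symm).toMonoidHom
  exact hfree (involves_sylow hinv Q hQ T j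
    ((Subgroup.inclusion_injective (inf_le_left : Cfsg.FusionSystem.normalizerIn S R ≤ S)).comp
    (MulEquiv.injective _)))

end Cfsg.Agent.S5299
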