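import Cfsg.Statements.S5300
import Cfsg.Agent.Lib.Fusion.CoprimeCriterion

set_option autoImplicit false
universe u
open Cfsg Cfsg.FusionSystem CfsgLib.Fusion

namespace Cfsg.Agent.S5300

/-- Let F be a saturated fusion system over a finite p-group S. If every cyclic subgroup of the focal subgroup of F of order p (of order 2 or 4 when p = 2) is normal in S, then S is normal in F. -/
theorem result {Ω : Type u} [Group Ω] {S : Subgroup Ω} [Finite S] (p : ℕ) [Fact p.Prime] (hS : IsPGroup p S)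
    (F : Cfsg.FusionSystem S) (hF : F.IsSaturated p)
    (hnorm : ∀ x ∈ F.focalSubgroup, (x ^ p = 1 ∨ (p = 2 ∧ x ^ 4 = 1)) → ∀ s ∈ S, s * x * s⁻¹ ∈ Subgroup.zpowers x) :
    F.IsNormal S := by
    have hp : p.Prime := Fact.out
    set U := F.focalSubgroup with hUdef
    have hdiff : ∀ (P : Subgroup Ω) (α : MulAut P), P ≤ S → α ∈ F.autGroup P → ∀ x : P,
        (x : Ω)⁻¹ * α x ∈ U := fun P α hP hα x =>
      Subgroup.subset_closure ⟨P, _, x, (mem_autGroup_iff hP).1 hα, rfl⟩
    have hcen : ∀ d ∈ U, d ^ p = 1 → ∀ s ∈ S, s * d * s⁻¹ = d := by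
      intro d hd hdp s hs
      rcases eq_or_ne d 1 with rfl | hd1
      · simp
      obtain ⟨k, hk⟩ := Subgroup.mem_zpowers_iff.1 (hnorm d hd (Or.inl hdp) s hs)
      have hpow : ∀ j : ℕ, s ^ j * d * (s ^ j)⁻¹ = d ^ (k ^ j) := by
        intro j
        induction j with
        | zero => simp
        | succ j ih =>
            rw [pow_succ', pow_succ', show s * s ^ j * d * (s * s ^ j)⁻¹ = s * (s ^ j * d * (s ^ j)⁻¹) * s⁻¹ by group,
              ih, ← conj_zpow, ← hk, ← zpow_mul]
      obtain ⟨m, hm⟩ := hS ⟨s, hs⟩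
      have hm' : s ^ p ^ m = 1 := congrArg Subtype.val hm
      have h1 := hpow (p ^ m)
      rw [hm', one_mul, inv_one, mul_one] at h1
      have hord : orderOf d = p := orderOf_eq_prime hdp hd1
      have h2 : (k ^ p ^ m - 1 : ℤ) % (p : ℤ) = 0 := by
        refine Int.emod_eq_zero_of_dvd ?_
        rw [show (p : ℤ) = (orderOf d : ℤ) by rw [hord], orderOf_dvd_iff_zpow_eq_one, zpow_sub, zpow_one, ← h1, mul_inv_cancel]
      have h3 : ((k : ℤ) : ZMod p) = 1 := by
        have h4 : ((k ^ p ^ m : ℤ) : ZMod p) = 1 := by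
          rw [← sub_eq_zero, ← Int.cast_one, ← Int.cast_sub,
            ZMod.intCast_zmod_eq_zero_iff_dvd]
          exact Int.dvd_of_emod_eq_zero h2
        rwa [Int.cast_pow, ZMod.pow_card_pow] at h4
      have h5 : (p : ℤ) ∣ k - 1 := by
        rw [← ZMod.intCast_zmod_eq_zero_iff_dvd, Int.cast_sub, h3, Int.cast_one, sub_self]
      rw [← hk]
      rw [← hord, orderOf_dvd_iff_zpow_eq_one, zpow_sub, zpow_one, mul_inv_eq_one] at h5
      exact h5
    refine (isNormal_iff_stronglyClosed_le hS hF).2 ⟨stronglyClosed_top, fun R hc hr => ?_⟩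
    by_contra hnle
    have hRS : R ≤ S := hc.1
    have hlt : R < S := lt_of_le_of_ne hRS fun e => hnle e.ge
    obtain ⟨q, hq, hqR⟩ := exists_mem_normalizerIn_not_mem hS hlt
    set A := F.autGroup R with hA
    have hsq : ∀ d : Ω, d ∈ U → d ^ p = 1 → ∀ e : Ω, e ∈ S → d * e = e * d := fun d hd hdp e he =>
      (mul_inv_eq_iff_eq_mul.1 (hcen d hd hdp e he)).symm
    have hUa : ∀ (a : A) (x : R), (x : Ω) ∈ U → (((a : MulAut R) x : R) : Ω) ∈ U := fun a x hx => by
      rw [← mul_inv_cancel_left (x : Ω) (((a : MulAut R) x : R) : Ω)]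
      exact U.mul_mem hx (hdiff R a hRS a.2 x)
    let K : Subgroup A :=
      { carrier := {a | ∀ x : R, (x : Ω) ∈ U →
          (x ^ p = 1 → (a : MulAut R) x = x) ∧
          (CfsgLib.Transfer.IsSmall p x → (x⁻¹ * (a : MulAut R) x) ^ p = 1)}
        one_mem' := fun x _ => ⟨fun _ => rfl, fun _ => by simp⟩
        mul_mem' := fun {a b} ha hb x hx => by
          refine ⟨fun hxp => ?_, fun hxs => ?_⟩
          · rw [Subgroup.coe_mul, MulAut.mul_apply, (hb x hx).1 hxp, (ha x hx).1 hxp]
          · have h1 := (hb x hx).2 hxs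
            have h2 := (ha _ (hUa b x hx)).2 (hxs.map (b : MulAut R).toMonoidHom)
            rw [show x⁻¹ * ((a * b : A) : MulAut R) x =
              (x⁻¹ * (b : MulAut R) x) * (((b : MulAut R) x)⁻¹ * (a : MulAut R) ((b : MulAut R) x)) by
              rw [Subgroup.coe_mul, MulAut.mul_apply]; group]
            rw [Commute.mul_pow ?_, h1, h2, one_mul]
            exact Subtype.ext (hsq _ (hdiff R b hRS b.2 x) (congrArg Subtype.val h1) _
              (hRS (((b : MulAut R) x)⁻¹ * (a : MulAut R) ((b : MulAut R) x)).2))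
        inv_mem' := fun {a} ha x hx => by
          refine ⟨fun hxp => ?_, fun hxs => ?_⟩
          · have h := congrArg (⇑((a : MulAut R)⁻¹)) ((ha x hx).1 hxp)
            rw [MulAut.inv_apply_self] at h
            exact h.symm
          · have h := (ha _ (hUa a⁻¹ x hx)).2 (hxs.map ((a⁻¹ : A) : MulAut R).toMonoidHom)
            simp only [Subgroup.coe_inv, MulAut.apply_inv_self] at h ⊢
            rw [show x⁻¹ * (a : MulAut R)⁻¹ x = (((a : MulAut R)⁻¹ x)⁻¹ * x)⁻¹ by group,
              inv_pow, h, inv_one] }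
    have hKn : K.Normal := ⟨fun a ha b x hx => by
      refine ⟨fun hxp => ?_, fun hxs => ?_⟩
      · simp only [Subgroup.coe_mul, Subgroup.coe_inv, MulAut.mul_apply]
        rw [(ha _ (by simpa using hUa b⁻¹ x hx)).1 (by rw [← map_pow, hxp, map_one]),
          MulAut.apply_inv_self]
      · have h := (ha _ (hUa b⁻¹ x hx)).2 (hxs.map ((b⁻¹ : A) : MulAut R).toMonoidHom)
        have h' := congrArg (⇑(b : MulAut R)) h
        rw [map_pow, map_one] at h'
        simpa [map_mul, map_inv] using h'⟩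
    refine hqR (mem_of_kernel hS hc hr K ?_ ⟨q, hq⟩ ?_)
    · intro b hbK hbc
      refine Subtype.ext (eq_one_of_fixes_small_in hS hRS (by rwa [Subgroup.orderOf_coe])
        (hdiff R b hRS b.2) fun L hL hLs x hx => ?_)
      have := finite_le hRS
      refine CfsgLib.Transfer.eq_of_fixed_diff (hS.to_le hRS) (b : MulAut R)
        (m := orderOf (b : MulAut R)) (by rwa [Subgroup.orderOf_coe]) (pow_orderOf_eq_one _) ?_
      have hd : x⁻¹ * (b : MulAut R) x ∈ L := L.mul_mem (L.inv_mem hx) (hL.le ⟨x, hx, rfl⟩)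
      exact ((hbK _ (hLs _ hd).1).1
        ((hbK x (hLs x hx).1).2
          ((CfsgLib.Transfer.isSmall_map_iff R.subtype R.subtype_injective).1 (hLs x hx).2)))
    · intro x hx
      refine ⟨fun hxp => Subtype.ext ?_, fun hxs => Subtype.ext ?_⟩
      · show q * (x : Ω) * q⁻¹ = x
        exact hcen x hx (congrArg Subtype.val hxp) q hq.1
      · show ((x : Ω)⁻¹ * (q * (x : Ω) * q⁻¹)) ^ p = 1
        rcases hxs with hxp | ⟨hp2, hx4⟩
        · rw [hcen x hx (congrArg Subtype.val hxp) q hq.1, inv_mul_cancel, one_pow]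
        · obtain ⟨k, hk⟩ := Subgroup.mem_zpowers_iff.1
            (hnorm x hx (Or.inr ⟨hp2, congrArg Subtype.val hx4⟩) q hq.1)
          rw [← hk, Commute.mul_pow ((Commute.zpow_self _ k).inv_right.symm), inv_pow, hk, conj_pow,
            hcen _ (U.pow_mem hx p) (by
              rw [hp2, ← pow_mul]; exact congrArg Subtype.val hx4) q hq.1,
            inv_mul_cancel]

end Cfsg.Agent.S5300
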