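import Cfsg.Statements.S5301
import Cfsg.Agent.Lib.Fusion.NormalExtend

set_option autoImplicit false
universe u
open Cfsg CfsgLib.Fusion

namespace Cfsg.Agent.S5301

/-- Let F be a saturated fusion system over a finite p-group S. If for every subgroup P of S that is fully normalized, centric and radical in F the automorphism group that F induces on P has a normal Sylow p-subgroup, then S is normal in F. -/
theorem result {Ω : Type u} [Group Ω] {S : Subgroup Ω} [Finite S] (p : ℕ) [Fact p.Prime] (hS : IsPGroup p S)
    (F : Cfsg.FusionSystem S) (hF : F.IsSaturated p)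
    (hcl : ∀ P : Subgroup Ω, F.IsFullyNormalized P → F.IsCentric P → F.IsRadical p P →
      ∃ R : Sylow p ↥(F.autGroup P), (R : Subgroup ↥(F.autGroup P)).Normal) :
    F.IsNormal S := by
  refine isNormal_of_invariant hS hF fun P hP => ?_
  have hPS : P = S := by
    rcases hP with h | h
    · exact h
    · by_contra hne
      have hr := IsEssential.isRadical hS h
      obtain ⟨R, hRn⟩ := hcl P h.2.1 h.1 hr
      have := finite_mulAut_of_le (S := S) h.1.1
      obtain ⟨T, hT⟩ := (IsSaturated.fullyAutomized hS hF h.2.1).2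
      obtain ⟨a, ha⟩ := MulAction.exists_smul_eq (F.autGroup P) R T
      have hTR : (T : Subgroup (F.autGroup P)) = R := by
        rw [← ha, Sylow.coe_subgroup_smul]
        exact Subgroup.Normal.conjAct hRn (ConjAct.toConjAct a)
      obtain ⟨g, hg, hgP⟩ :=
        exists_mem_normalizerIn_not_mem hS (lt_of_le_of_ne h.1.1 hne)
      refine hgP (mem_of_conjAut_inn h.1 ⟨g, hg⟩ ?_)
      have hA := autInducedBy_le_autGroup (F := F) h.1.1 (conjAut_mem (⟨g, hg⟩ : Cfsg.FusionSystem.normalizerIn S P))
      refine (isRadical_iff_le hS h.1.1).1 hr (CfsgLib.Core.le_pCore R.isPGroup'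
        (show (⟨_, hA⟩ : F.autGroup P) ∈ (R : Subgroup (F.autGroup P)) from ?_))
      rw [← hTR, hT]
      exact conjAut_mem _
  subst hPS
  exact ⟨le_rfl, fun α _ => map_subgroupOf_eq le_rfl fun x _ => x.2⟩

end Cfsg.Agent.S5301
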