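import Cfsg.Statements.S5315
import Cfsg.Agent.Lib.Fusion.Factor
import Cfsg.Agent.Lib.Fusion.NormalExtend

set_option autoImplicit false
open Cfsg Cfsg.FusionSystem CfsgLib.Fusion

namespace Cfsg.Agent.S5315

/-- An analogue of Grün's lemma for fusion systems. Let F be a saturated fusion system over a finite p-group S that is perfect in the sense that its hyperfocal subgroup is all of S (F coincides with its p-residual subsystem). Then the second centre of F equals its centre: every fusion system over S/(Z(F) ∩ S) that is the factor system of F modulo its centre Z(F), read through the quotient map, has trivial centre. -/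
theorem result {Ω : Type*} [Group Ω] {S : Subgroup Ω} [Finite S] (p : ℕ) [Fact p.Prime] (hS : IsPGroup p S) (F : Cfsg.FusionSystem S) (hF : F.IsSaturated p)
    (hperf : F.hyperfocalSubgroup p = S)
    (E : Cfsg.FusionSystem (⊤ : Subgroup (↥S ⧸ (F.center).subgroupOf S)))
    (hE : F.IsFactorSystem F.center (QuotientGroup.mk' ((F.center).subgroupOf S)) E) : E.center = ⊥ := by
    set θ := QuotientGroup.mk' ((F.center).subgroupOf S) with hθ
    have hZc : F.IsCentral F.center := center_isCentral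
    have hZS : F.center ≤ S := center_le
    have hZsc : F.StronglyClosed F.center := IsNormal.stronglyClosed (isCentral_isNormal hZc)
    have hker : ∀ s : S, θ s = 1 ↔ (s : Ω) ∈ F.center := hE.2.1
    have hEsat : E.IsSaturated p := factor_saturated hS hF hZsc hE
    have hmor := (factor_isSurjectiveMorphism hS hF hZsc hE)
    have hEc : E.IsCentral E.center := center_isCentral
    have hfixZ : ∀ {P : Subgroup Ω} {φ : P →* Ω}, φ ∈ F.Hom P → ∀ x : P, (x : Ω) ∈ F.center →
        φ x = x := fun hφ x hx =>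
      ((CfsgLib.Fusion.isCentral_iff hS hF).1 hZc).2 x hx _ (isConjElt_of_hom hφ x)
    set Z₂ := preimageAlong θ E.center with hZ₂
    have hZ₂S : Z₂ ≤ S := preimageAlong_le θ _
    -- every map keeps commutators with, and classes of, elements of the second centre
    have key : ∀ (P : Subgroup Ω) (φ : P →* Ω), φ ∈ F.Hom P → ∀ z ∈ Z₂, ∀ x : P,
        (x : Ω)⁻¹ * φ x * z = z * ((x : Ω)⁻¹ * φ x) ∧ ((x : Ω) = z → z⁻¹ * φ x ∈ F.center) := by
      intro P φ hφ z hz x
      have hP := hom_le hφ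
      obtain ⟨φ', hφ', hind⟩ := hmor.1.2 P φ hφ
      obtain ⟨ψ', hψ', hψP, hψC⟩ := hEc.2 _ φ' hφ'
      obtain ⟨ψ, hψ, hindψ⟩ := hmor.2.2 _ (hom_le hψ') ψ' hψ'
      have hzS := hZ₂S hz
      have hθz : θ ⟨z, hzS⟩ ∈ E.center := mem_preimageAlong.1 hz
      have hxm : (x : Ω) ∈ preimageAlong θ (imageAlong θ P ⊔ E.center) :=
        (mem_preimageAlong (θ := θ) (P' := imageAlong θ P ⊔ E.center) (x := ⟨x, hP x.2⟩)).2 (Subgroup.mem_sup_left ⟨⟨x, hP x.2⟩, x.2, rfl⟩)
      have hzm : z ∈ preimageAlong θ (imageAlong θ P ⊔ E.center) :=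
        (mem_preimageAlong (θ := θ) (P' := imageAlong θ P ⊔ E.center) (x := ⟨z, hzS⟩)).2 (Subgroup.mem_sup_right hθz)
      set a : preimageAlong θ (imageAlong θ P ⊔ E.center) := ⟨x, hxm⟩ with ha
      set b : preimageAlong θ (imageAlong θ P ⊔ E.center) := ⟨z, hzm⟩ with hb
      have hmodx : θ ⟨ψ a, hom_apply_mem hψ a⟩ = θ ⟨φ x, hom_apply_mem hφ x⟩ := by
        rw [← inducedAlong_apply hindψ a (hP x.2) (hom_apply_mem hψ a)
          (Subgroup.mem_sup_left ⟨⟨x, hP x.2⟩, x.2, rfl⟩),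
          ← inducedAlong_apply hind x (hP x.2) (hom_apply_mem hφ x) ⟨⟨x, hP x.2⟩, x.2, rfl⟩]
        exact hψP ⟨θ ⟨x, hP x.2⟩, ⟨⟨x, hP x.2⟩, x.2, rfl⟩⟩
      have hmodz : θ ⟨ψ b, hom_apply_mem hψ b⟩ = θ ⟨z, hzS⟩ := by
        rw [← inducedAlong_apply hindψ b hzS (hom_apply_mem hψ b) (Subgroup.mem_sup_right hθz)]
        exact hψC ⟨_, hθz⟩
      have hcx : ∃ c ∈ F.center, ψ a = φ x * c := by
        refine ⟨(φ x)⁻¹ * ψ a, (hker (⟨φ x, hom_apply_mem hφ x⟩⁻¹ * ⟨ψ a, hom_apply_mem hψ a⟩)).1 ?_,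
          (mul_inv_cancel_left _ _).symm⟩
        rw [map_mul, map_inv, hmodx, inv_mul_cancel]
      have hcz : ∃ d ∈ F.center, ψ b = z * d := by
        refine ⟨z⁻¹ * ψ b, (hker (⟨z, hzS⟩⁻¹ * ⟨ψ b, hom_apply_mem hψ b⟩)).1 ?_,
          (mul_inv_cancel_left _ _).symm⟩
        rw [map_mul, map_inv, hmodz, inv_mul_cancel]
      obtain ⟨c, hc, hcv⟩ := hcx
      obtain ⟨d, hd, hdv⟩ := hcz
      have hcomm : ∀ e ∈ F.center, ∀ s ∈ S, e * s = s * e := fun e he s hs =>
        (F.center_le_centralizer he s hs).symm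
      constructor
      · have h1 : ψ (a * b * a⁻¹ * b⁻¹) = ((a * b * a⁻¹ * b⁻¹ : _) : Ω) := by
          refine hfixZ hψ _ ((hker (⟨x, hP x.2⟩ * ⟨z, hzS⟩ * ⟨x, hP x.2⟩⁻¹ * ⟨z, hzS⟩⁻¹)).1 ?_)
          have hc2 : θ ⟨z, hzS⟩ * θ ⟨x, hP x.2⟩ = θ ⟨x, hP x.2⟩ * θ ⟨z, hzS⟩ :=
            (E.center_le_centralizer hθz (θ ⟨x, hP x.2⟩) (Subgroup.mem_top _)).symm
          rw [map_mul, map_mul, map_mul, map_inv, map_inv, ← hc2]
          group
        rw [map_mul, map_mul, map_mul, map_inv, map_inv, hcv, hdv] at h1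
        have hφS := hom_apply_mem hφ x
        have h2 : φ x * c * (z * d) * (φ x * c)⁻¹ * (z * d)⁻¹ = φ x * z * (φ x)⁻¹ * z⁻¹ := by
          have e1 : c * (z * d) = z * d * c := hcomm c hc _ (S.mul_mem hzS (hZS hd))
          have e2 : d * (φ x)⁻¹ = (φ x)⁻¹ * d := hcomm d hd _ (S.inv_mem hφS)
          calc φ x * c * (z * d) * (φ x * c)⁻¹ * (z * d)⁻¹
              = φ x * (c * (z * d)) * c⁻¹ * (φ x)⁻¹ * (z * d)⁻¹ := by group
            _ = φ x * z * (d * (φ x)⁻¹) * (z * d)⁻¹ := by rw [e1]; group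
            _ = φ x * z * (φ x)⁻¹ * z⁻¹ := by rw [e2]; group
        rw [h2] at h1
        have h3 : φ x * z * (φ x)⁻¹ = (x : Ω) * z * (x : Ω)⁻¹ := mul_right_cancel h1
        calc (x : Ω)⁻¹ * φ x * z = (x : Ω)⁻¹ * (φ x * z * (φ x)⁻¹) * φ x := by group
          _ = z * ((x : Ω)⁻¹ * φ x) := by rw [h3]; group
      · intro hxz
        have hab : a = b := Subtype.ext hxz
        have e : φ x = z * d * c⁻¹ := by rw [← hdv, ← hab, hcv, mul_inv_cancel_right]
        rw [e, show z⁻¹ * (z * d * c⁻¹) = d * c⁻¹ by group]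
        exact F.center.mul_mem hd (F.center.inv_mem hc)
    have hcent : ∀ z ∈ Z₂, ∀ s ∈ S, s * z = z * s := by
      intro z hz s hs
      rw [← hperf] at hs
      refine Subgroup.mem_centralizer_iff.1
        (?_ : s ∈ Subgroup.centralizer ({z} : Set Ω)) z rfl |>.symm
      revert hs s
      show F.hyperfocalSubgroup p ≤ _
      rw [FusionSystem.hyperfocalSubgroup, Subgroup.closure_le]
      rintro _ ⟨P, α, x, hP, -, rfl⟩
      rw [SetLike.mem_coe, Subgroup.mem_centralizer_singleton_iff]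
      exact ((key P _ ((mem_autGroup_iff hP).1 α.2) z hz x).1)
    have hZ₂sc : F.StronglyClosed Z₂ := by
      refine ⟨hZ₂S, fun R hR φ hφ x => ?_⟩
      have := (key R φ hφ x (hR x.2) x).2 rfl
      rw [← mul_inv_cancel_left (x : Ω) (φ x)]
      exact Z₂.mul_mem (hR x.2) (ker_le_preimageAlong hZS hker _ this)
    have hab : IsMulCommutative Z₂ :=
      ⟨⟨fun a b => Subtype.ext (hcent b b.2 a (hZ₂S a.2))⟩⟩
    have hN := isNormal_of_stronglyClosed_abelian hS hF hZ₂sc hab
    have hfin := finite_mulAut_of_le (S := S) hZ₂S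
    have hA1 : ∀ α ∈ F.autGroup Z₂, α = 1 := by
      intro α hα
      have hd : ∀ z : Z₂, ∃ k : ℕ, (α ^ p ^ k) z = z := by
        intro z
        set c : Z₂ := z⁻¹ * α z with hc
        have hcZ : (c : Ω) ∈ F.center :=
          (key Z₂ _ ((mem_autGroup_iff hZ₂S).1 hα) z z.2 z).2 rfl
        have hαc : α c = c := Subtype.ext (hfixZ ((mem_autGroup_iff hZ₂S).1 hα) c hcZ)
        have hpow : ∀ n : ℕ, (α ^ n) z = z * c ^ n := by
          intro n
          induction n with
          | zero => simp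
          | succ n ih =>
              rw [pow_succ', MulAut.mul_apply, ih, map_mul, map_pow, hαc, pow_succ',
                show α z = z * c by rw [hc, mul_inv_cancel_left], mul_assoc]
        obtain ⟨k, hk⟩ := (hS.to_le hZ₂S) c
        exact ⟨k, by rw [hpow, hk, mul_one]⟩
      have hfinZ := finite_le hZ₂S
      choose k hk using hd
      have hp2 : ∃ m, α ^ p ^ m = 1 := by
        obtain ⟨m, hm⟩ := (Set.finite_range k).bddAbove
        refine ⟨m, MulEquiv.ext fun z => ?_⟩
        have hz : k z ≤ m := hm ⟨z, rfl⟩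
        obtain ⟨j, hj⟩ := Nat.exists_eq_add_of_le hz
        rw [hj, pow_add, pow_mul]
        have : ∀ i : ℕ, ((α ^ p ^ k z) ^ i) z = z := by
          intro i
          induction i with
          | zero => rfl
          | succ i ih => rw [pow_succ', MulAut.mul_apply, ih, hk]
        exact this _
      obtain ⟨m, hm⟩ := hp2
      obtain ⟨Q, hQ⟩ := exists_fullyNormalized (F := F) hZ₂S
      have hQZ : Q = Z₂ := by
        obtain ⟨φ, hφ, rfl⟩ := hQ.1
        exact (StronglyClosed.weaklyClosed hZ₂sc).2 φ hφ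
      have hauto := IsSaturated.fullyAutomized hS hF (hQZ ▸ hQ.2)
      have hbot : autInducedBy S Z₂ = ⊥ := by
        rw [eq_bot_iff]
        intro β hβ
        obtain ⟨g, hg, hgv⟩ := mem_autInducedBy_iff.1 hβ
        refine Subgroup.mem_bot.2 (MulEquiv.ext fun z => Subtype.ext ?_)
        rw [hgv, hcent z z.2 g hg, mul_inv_cancel_right]
        rfl
      have hzp : IsPGroup p (Subgroup.zpowers α) := by
        obtain ⟨i, -, hi⟩ := (Nat.dvd_prime_pow (Fact.out : p.Prime)).1 (orderOf_dvd_of_pow_eq_one hm)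
        exact IsPGroup.of_card (n := i) (by rw [Nat.card_zpowers, hi])
      obtain ⟨g, hg, hgα⟩ :=
        IsSylowIn.exists_conj_mem hauto.2 ((Subgroup.zpowers_le (H := F.autGroup Z₂)).2 hα) hzp
      have := hgα α (Subgroup.mem_zpowers α)
      rw [hbot, Subgroup.mem_bot] at this
      exact conj_eq_one_iff.1 this
    have hle : Z₂ ≤ F.center := by
      refine le_center ((CfsgLib.Fusion.isCentral_iff hS hF).2 ⟨hZ₂S, fun z hz y hy => ?_⟩)
      obtain ⟨φ, hφ, rfl⟩ := hy
      have hzle : Subgroup.zpowers z ≤ Z₂ := Subgroup.zpowers_le.2 hz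
      obtain ⟨α, hα, hαv⟩ := IsNormal.exists_aut hN hzle hφ
      rw [← hαv, hA1 α hα]
      rfl
    rw [eq_bot_iff]
    intro w hw
    obtain ⟨s, rfl⟩ := QuotientGroup.mk'_surjective _ w
    exact Subgroup.mem_bot.2 ((hker s).2 (hle (mem_preimageAlong.2 hw)))

end Cfsg.Agent.S5315
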