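import Cfsg.Statements.S5316
import Cfsg.Agent.S5186
import Cfsg.Agent.Lib.LocalEvenB.SmallEssential.Main

set_option autoImplicit false
open Cfsg

namespace Cfsg.Agent.S5316

/-- Let p ≥ 5 be a prime, S a finite p-group of maximal class of order p^n with n ≥ 5 (nilpotency class n − 1), F a saturated fusion system over S, and E an F-essential subgroup that is not a pearl (not elementary abelian of order p² and not extraspecial of order p³ and exponent p). Then E has order at least p⁴. -/
theorem result {Ω : Type*} [Group Ω] {S : Subgroup Ω} [Finite S] (p : ℕ) [Fact p.Prime] (hp : 5 ≤ p) (hS : IsPGroup p ↥S) (n : ℕ) (hn : Nat.card S = p ^ n) (h5 : 5 ≤ n)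
    (hmax : Subgroup.lowerCentralSeries S (n - 2) ≠ ⊥) (F : Cfsg.FusionSystem S) (hF : F.IsSaturated p)
    (E : Subgroup Ω) (hE : F.IsEssential p E)
    (hnp : ¬ ((Nat.card ↥E = p ^ 2 ∧ Cfsg.IsElementaryAbelian p E) ∨ (Nat.card ↥E = p ^ 3 ∧ Cfsg.IsExtraspecial p ↥E ∧ Monoid.exponent ↥E = p))) :
    p ^ 4 ≤ Nat.card ↥E := by
  classical
  have hpp : p.Prime := Fact.out
  by_contra hlt
  have hES := hE.1.1
  have := CfsgLib.Fusion.finite_le hES
  have hEp : IsPGroup p E := hS.to_le hES
  obtain ⟨i, hi⟩ := hEp.exists_card_eq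
  have hi3 : i ≤ 3 := by
    by_contra h4
    exact hlt (hi ▸ Nat.pow_le_pow_right hpp.pos (by omega))
  have hncyc := CfsgLib.Fusion.essential_not_cyclic hS hF hE
  have hcycexp : ∀ a : E, orderOf a ≠ Nat.card E := fun a ha => hncyc (isCyclic_of_orderOf_eq_card a ha)
  interval_cases i
  · exact hncyc (isCyclic_of_card_dvd_prime (p := p) (by simp [hi]))
  · exact hncyc (isCyclic_of_prime_card (p := p) (by simpa using hi))
  · have hcomm : IsMulCommutative E := IsPGroup.isMulCommutative_of_card_eq_prime_sq hi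
    refine hnp (Or.inl ⟨hi, hcomm, fun a ha => ?_⟩)
    have hd : orderOf (⟨a, ha⟩ : E) ∣ p ^ 2 := hi ▸ orderOf_dvd_natCard _
    obtain ⟨k, hk, hk'⟩ := (Nat.dvd_prime_pow hpp).1 hd
    have hk1 : k ≤ 1 := by
      by_contra h2
      exact hcycexp ⟨a, ha⟩ (by rw [hk', hi, show k = 2 by omega])
    have h1 : (⟨a, ha⟩ : E) ^ p = 1 := orderOf_dvd_iff_pow_eq_one.1 (hk' ▸ (by
      calc p ^ k ∣ p ^ 1 := pow_dvd_pow p hk1
        _ = p := pow_one p))
    exact congrArg Subtype.val h1
  · rcases Cfsg.Agent.S5186.result p hS F hF E hE hi with hel | ⟨-, hex, hx⟩ | ⟨rfl, -⟩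
    · exact CfsgLib.SmallEssential.not_elementary hS hF (by omega) hn h5 hmax hE hi hel
    · refine hnp (Or.inr ⟨hi, hex, ?_⟩)
      refine ((Nat.dvd_prime hpp).1 (Monoid.exponent_dvd_of_forall_pow_eq_one fun g =>
        Subtype.ext (by simpa using hx g g.2))).resolve_left fun h1 => ?_
      have hsub : Subsingleton E := Monoid.exp_eq_one_iff.1 h1
      rw [Nat.card_of_subsingleton (1 : E)] at hi
      have := Nat.one_lt_pow (show 3 ≠ 0 by omega) hpp.one_lt
      omega
    · omega

end Cfsg.Agent.S5316
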