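import Cfsg.Statements.S5326
import Cfsg.Agent.Lib.Fusion.OmitClass

set_option autoImplicit false
open Cfsg CfsgLib.Fusion

namespace Cfsg.Agent.S5326

/-- Let F be a saturated fusion system over a finite p-group S and Q an essential subgroup. Then the F-conjugacy class of Q cannot be left out of a generating family: there is a fusion system E over S whose automorphism group of every subgroup R ≤ S not F-conjugate to Q contains Aut_F(R), and yet E does not contain every map of F. -/
theorem result {Ω : Type*} [Group Ω] {S : Subgroup Ω} [Finite S] (p : ℕ) [Fact p.Prime] (hS : IsPGroup p S) (F : Cfsg.FusionSystem S) (hF : F.IsSaturated p) (Q : Subgroup Ω) (hQ : F.IsEssential p Q) : ∃ E : Cfsg.FusionSystem S, (∀ R : Subgroup Ω, R ≤ S → ¬ F.IsConj Q R → F.autGroup R ≤ E.autGroup R) ∧ ¬ F ≤ E := by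
    have := finite_mulAut_of_le (S := S) hQ.2.1.1
    have hQS : Q < S := by
      refine lt_of_le_of_ne hQ.2.1.1 fun h => ?_
      subst h
      obtain ⟨hN, E, hE⟩ := hQ.2.2
      obtain ⟨R, hR⟩ := (IsSaturated.fullyAutomized hS hF hQ.2.1).2
      rw [autInducedBy_self] at hR
      have h1 : p ∣ Nat.card (F.autGroup Q ⧸ (Inn Q).subgroupOf (F.autGroup Q)) := hE.1
      rw [← Subgroup.index, ← hR] at h1
      exact R.not_dvd_index h1
    refine ⟨omitSystem hS hF hQ.2.1 hQS, fun R _ hR => omitSystem_autGroup_le hS hF _ hQS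
      fun h => hR (isConj_symm h), fun hle => ?_⟩
    rcases extGroup_dichotomy hS hF hQS hQ.2.1 with ⟨h, -⟩ | ⟨-, hN, hE⟩
    · exact h hQ
    · apply hE.2.1
      rw [Subgroup.subgroupOf_eq_top.2 (autGroup_le_extGroup_of_le_omit hS hF hQ.2.1 hQS hle)]
      exact Subgroup.map_top_of_surjective _ (QuotientGroup.mk'_surjective _)

end Cfsg.Agent.S5326
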