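import Cfsg.Statements.S5327
import Cfsg.Agent.Lib.Fusion.OmitClass

set_option autoImplicit false
open Cfsg CfsgLib.Fusion

namespace Cfsg.Agent.S5327

/-- Let F be a saturated fusion system over a finite p-group S. Call a family of subgroups of S generating when every fusion system over S whose automorphism group of each member R contains Aut_F(R) contains every map of F. If two families are each closed under F-conjugacy and each generating, then their intersection is generating. -/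
theorem result {Ω : Type*} [Group Ω] {S : Subgroup Ω} [Finite S] (p : ℕ) [Fact p.Prime] (hS : IsPGroup p S) (F : Cfsg.FusionSystem S) (hF : F.IsSaturated p) (𝒬₁ 𝒬₂ : Set (Subgroup Ω)) (h₁ : ∀ R ∈ 𝒬₁, ∀ R' : Subgroup Ω, F.IsConj R R' → R' ∈ 𝒬₁) (h₂ : ∀ R ∈ 𝒬₂, ∀ R' : Subgroup Ω, F.IsConj R R' → R' ∈ 𝒬₂) (hg₁ : ∀ E : Cfsg.FusionSystem S, (∀ R ∈ 𝒬₁, F.autGroup R ≤ E.autGroup R) → F ≤ E) (hg₂ : ∀ E : Cfsg.FusionSystem S, (∀ R ∈ 𝒬₂, F.autGroup R ≤ E.autGroup R) → F ≤ E) (E : Cfsg.FusionSystem S) (hE : ∀ R ∈ 𝒬₁ ∩ 𝒬₂, F.autGroup R ≤ E.autGroup R) : F ≤ E := by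
    have omit1 : ∀ (𝒬 : Set (Subgroup Ω)), (∀ R ∈ 𝒬, ∀ R' : Subgroup Ω, F.IsConj R R' → R' ∈ 𝒬) →
        (∀ E : Cfsg.FusionSystem S, (∀ R ∈ 𝒬, F.autGroup R ≤ E.autGroup R) → F ≤ E) →
        ∀ T : Subgroup Ω, T < S → ∀ hT : F.IsFullyNormalized T, T ∉ 𝒬 →
          F.autGroup T ≤ extGroup F T := by
      intro 𝒬 hc hg T hTS hT hTQ
      refine autGroup_le_extGroup_of_le_omit hS hF hT hTS (hg _ fun R hR => ?_)
      exact omitSystem_autGroup_le hS hF hT hTS fun h => hTQ (hc R hR T h)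
    have omitS : ∀ (𝒬 : Set (Subgroup Ω)),
        (∀ E : Cfsg.FusionSystem S, (∀ R ∈ 𝒬, F.autGroup R ≤ E.autGroup R) → F ≤ E) →
        S ∉ 𝒬 → F.autGroup S ≤ E.autGroup S := by
      intro 𝒬 hg hSQ α hα
      have hle : F ≤ omitTop F := hg _ fun R hR β hβ => by
        by_cases hRS : R ≤ S
        · exact (mem_autGroup_iff hRS).2
            ⟨(mem_autGroup_iff hRS).1 hβ, fun h => absurd (h ▸ hR) hSQ⟩
        · rw [autGroup_eq_bot hRS, Subgroup.mem_bot] at hβ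
          rw [hβ]
          exact one_mem _
      obtain ⟨g, hg', hgv⟩ := (hle S ((mem_autGroup_iff le_rfl).1 hα)).2 rfl
      exact (mem_autGroup_iff le_rfl).2 (conj_mem' le_rfl hg' hgv)
    refine le_of_step hS hF E ?_ fun T hTS hT hup => ?_
    · by_cases h : S ∈ 𝒬₁
      · by_cases h' : S ∈ 𝒬₂
        · exact hE S ⟨h, h'⟩
        · exact omitS 𝒬₂ hg₂ h'
      · exact omitS 𝒬₁ hg₁ h
    · have hext : extGroup F T ≤ E.autGroup T := by
        rw [extGroup, Subgroup.closure_le]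
        rintro β ⟨Q, hTQ, ψ, hψ, hψβ⟩
        have := finite_le (hom_le hψ)
        have hlt : Nat.card T < Nat.card Q := lt_of_le_of_ne (Subgroup.card_le_of_le hTQ.le) fun e =>
          hTQ.ne (Subgroup.eq_of_le_of_card_ge hTQ.le e.ge)
        exact (mem_autGroup_iff hT.1).2
          (restrict_mem' (hup Q hlt hψ) hTQ.le fun x => (hψβ x).symm)
      by_cases h : T ∈ 𝒬₁
      · by_cases h' : T ∈ 𝒬₂
        · exact hE T ⟨h, h'⟩
        · exact (omit1 𝒬₂ h₂ hg₂ T hTS hT h').trans hext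
      · exact (omit1 𝒬₁ h₁ hg₁ T hTS hT h).trans hext

end Cfsg.Agent.S5327
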