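import Cfsg.Statements.S5331
import Cfsg.Agent.Lib.Fusion.Abelian
import Cfsg.Agent.Lib.Fusion.DistinctInvariants

set_option autoImplicit false
open Cfsg CfsgLib.Fusion

namespace Cfsg.Agent.S5331

/-- Let S be a finite abelian 2-group that is a direct product of cyclic groups of pairwise distinct orders 2^{a_1} < 2^{a_2} < ⋯ < 2^{a_n} (all a_i ≥ 1). Then every saturated fusion system over S is the inner one: its maps are exactly the conjugations by elements of S. -/
theorem result {Ω : Type*} [Group Ω] {S : Subgroup Ω} [Finite S] (n : ℕ) (a : Fin n → ℕ) (ha : StrictMono a) (ha1 : ∀ i, 1 ≤ a i) (e : ↥S ≃* Multiplicative ((i : Fin n) → ZMod (2 ^ a i))) (F : Cfsg.FusionSystem S) (hF : F.IsSaturated 2) (P : Subgroup Ω) : F.Hom P = (Cfsg.innerFusionSystem S).Hom P := by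
  have hab : ∀ x ∈ S, ∀ y ∈ S, x * y = y * x := fun x hx y hy =>
    congrArg Subtype.val (e.injective (by rw [map_mul, map_mul, mul_comm]) :
      (⟨x, hx⟩ : S) * ⟨y, hy⟩ = ⟨y, hy⟩ * ⟨x, hx⟩)
  have hS : IsPGroup 2 S := by
    refine IsPGroup.of_equiv ?_ e.symm
    refine IsPGroup.of_card (n := ∑ i, a i) ?_
    rw [Nat.card_congr Multiplicative.toAdd, Nat.card_pi, ← Finset.prod_pow_eq_pow_sum]
    exact Finset.prod_congr rfl fun i _ => Nat.card_zmod _
  have : Fact (Nat.Prime 2) := ⟨Nat.prime_two⟩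
  have hcop := coprime_card_autGroup hS hF hab
  suffices h : F.autGroup S = ⊥ by
    rw [eq_inner_of_autGroup_eq_bot hS hF hab h]
  refine (Subgroup.eq_bot_iff_forall _).2 fun α hα => ?_
  have := finite_mulAut_of_le (S := S) (le_refl S)
  let m := Nat.card (F.autGroup S)
  have hpow : α ^ m = 1 := congrArg Subtype.val (pow_card_eq_one' (x := (⟨α, hα⟩ : F.autGroup S)))
  rcases Nat.eq_zero_or_pos n with rfl | hn
  · ext x
    exact congrArg Subtype.val (e.injective (Subsingleton.elim _ _) : α x = x)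
  have hm : Odd m := by
    refine Nat.odd_iff.2 (Nat.two_dvd_ne_zero.1 fun h2 => ?_)
    have h2S : 2 ∣ Nat.card S := by
      rw [Nat.card_congr e.toEquiv, Nat.card_congr Multiplicative.toAdd, Nat.card_pi]
      refine dvd_trans ?_ (Finset.dvd_prod_of_mem _ (Finset.mem_univ ⟨0, hn⟩))
      rw [Nat.card_zmod]
      exact dvd_pow_self 2 (by have := ha1 ⟨0, hn⟩; omega)
    exact absurd (hcop ▸ Nat.dvd_gcd h2 h2S) (by norm_num)
  let β := AddEquiv.toMultiplicative.symm (MulAut.congr e α : Multiplicative ((i : Fin n) → ZMod (2 ^ a i)) ≃* Multiplicative ((i : Fin n) → ZMod (2 ^ a i)))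
  have hit : ∀ (j : ℕ) (x : S), (α ^ j) x = (⇑α)^[j] x := by
    intro j x
    induction j with
    | zero => rfl
    | succ j ih => rw [pow_succ', MulAut.mul_apply, ih, Function.iterate_succ_apply']
  have hβ : ∀ x, (⇑β)^[m] x = x := by
    intro x
    have hsemi : Function.Semiconj (fun s : S => Multiplicative.toAdd (e s)) (⇑α) (⇑β) := fun s => by
      simp [β, MulAut.congr]
    obtain ⟨s, rfl⟩ : ∃ s, Multiplicative.toAdd (e s) = x := ⟨e.symm (Multiplicative.ofAdd x), by simp⟩
    rw [← (hsemi.iterate_right m).eq s, ← hit, hpow]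
    rfl
  ext x
  have h := aut_pi_zmod_eq_id a ha.injective ha1 β hm hβ (Multiplicative.toAdd (e x))
  have h' : e (α x) = e x := Multiplicative.toAdd.injective (by simpa [β, MulAut.congr] using h)
  exact congrArg Subtype.val (e.injective h')

end Cfsg.Agent.S5331
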