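import Cfsg.Statements.S5333
import Cfsg.Agent.Lib.Fusion.Alperin
import Cfsg.Agent.Lib.Fusion.Centric
import Cfsg.Agent.Lib.Fusion.Normal

set_option autoImplicit false
set_option linter.style.haveILetI false
open Cfsg Cfsg.FusionSystem CfsgLib.Fusion

namespace Cfsg.Agent.S5333

/-- Let F′ ≤ F be saturated fusion systems over the same finite p-group S. Suppose that for every subgroup Z ≤ S of order p that is fully centralized in F′, the maps of F and of F′ with source Z coincide and the centralizer systems C_F(Z) and C_{F′}(Z) coincide. Then F = F′. -/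
theorem result {Ω : Type*} [Group Ω] {S : Subgroup Ω} [Finite S] (p : ℕ) [Fact p.Prime] (hS : IsPGroup p S) (F : Cfsg.FusionSystem S) (hF : F.IsSaturated p) (F' : Cfsg.FusionSystem S) (hF' : F'.IsSaturated p) (hle : F' ≤ F) (hZ : ∀ Z : Subgroup Ω, Z ≤ S → Nat.card Z = p → F'.IsFullyCentralized Z → F.Hom Z = F'.Hom Z ∧ ∀ (C C' : Cfsg.FusionSystem (Cfsg.FusionSystem.centralizerIn S Z)), F.IsCentralizerSystem Z C → F'.IsCentralizerSystem Z C' → ∀ P : Subgroup Ω, C.Hom P = C'.Hom P) (P : Subgroup Ω) : F.Hom P = F'.Hom P := by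
    have hle' : F ≤ F' := by
      refine alperin hS hF F' fun R hR α hα => ?_
      have hRc : F.IsCentric R := by
        rcases hR with rfl | h
        · exact ⟨le_rfl, fun Q hQ => by
            obtain rfl : Q = R := Subgroup.eq_of_le_of_card_ge (isConj_le_right hQ) (isConj_card hQ).le
            exact centralizerIn_le Q⟩
        · exact h.1
      have hRS : R ≤ S := hRc.1
      by_cases hS1 : S = ⊥
      · have hα1 : α = 1 := by
          ext x
          have := hRS x.2
          have := hRS (α x).2
          simp only [hS1, Subgroup.mem_bot] at *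
          simp_all
        exact hα1 ▸ one_mem _
      -- a central subgroup of order p
      haveI : Nontrivial S := (Subgroup.nontrivial_iff_ne_bot S).2 hS1
      haveI := hS.center_nontrivial
      obtain ⟨n, hn, hcard⟩ := (hS.to_subgroup (Subgroup.center S)).nontrivial_iff_card.1 inferInstance
      obtain ⟨z, hz⟩ := exists_prime_orderOf_dvd_card' (G := Subgroup.center S) p
        (hcard ▸ dvd_pow_self p hn.ne')
      set w : Ω := ((z : S) : Ω) with hw
      set Z := Subgroup.zpowers w with hZdef
      have hzS : w ∈ S := (z : S).2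
      have hZS : Z ≤ S := Subgroup.zpowers_le.2 hzS
      have hcw : ∀ s ∈ S, s * w = w * s := fun s hs =>
        congrArg Subtype.val (Subgroup.mem_center_iff.1 z.2 ⟨s, hs⟩)
      have hcZ : ∀ s ∈ S, ∀ y ∈ Z, s * y = y * s := by
        intro s hs y hy
        obtain ⟨k, rfl⟩ := Subgroup.mem_zpowers_iff.1 hy
        exact (Commute.zpow_right (hcw s hs) k).eq
      have hSC : S ≤ centralizerIn S Z := fun s hs =>
        mem_centralizerIn.2 ⟨hs, fun y hy => (hcZ s hs y hy).symm⟩
      have hZcard : Nat.card Z = p := by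
        rw [hZdef, Nat.card_zpowers, hw, Subgroup.orderOf_coe, Subgroup.orderOf_coe, hz]
      have hfc : F'.IsFullyCentralized Z := ⟨hZS, fun Q _ => by
        haveI : Finite (centralizerIn S Z) := finite_le (centralizerIn_le Z)
        exact Subgroup.card_le_of_le ((centralizerIn_le Q).trans hSC)⟩
      obtain ⟨hHom, hC⟩ := hZ Z hZS hZcard hfc
      have hC' := hC _ _ (centSystem_isCentralizerSystem F Z hZS)
        (centSystem_isCentralizerSystem F' Z hZS)
      have hZR : Z ≤ R := fun y hy => hRc.2 R (isConj_refl hRS)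
        (mem_centralizerIn.2 ⟨hZS hy, fun r hr => (hcZ r (hRS hr) y hy).symm ▸ rfl⟩)
      -- restriction of α to Z is a map of F'
      set a : R →* Ω := R.subtype.comp α.toMonoidHom with ha
      have haF : a ∈ F.Hom R := (mem_autGroup_iff hRS).1 hα
      set f : Z →* Ω := a.comp (Subgroup.inclusion hZR) with hf
      have hfF' : f ∈ F'.Hom Z := hHom ▸ restrict_mem haF hZR
      obtain ⟨g, hg, hgr, hgv, -⟩ := exists_inv hfF' rfl
      obtain ⟨e, he, hev⟩ := exists_iso hg hgr
      have hrec := IsSaturated.receptive hS hF' hfc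
      obtain ⟨ψ, hψ, hag⟩ := exists_extension hrec he le_sup_left (sup_le_extender he)
      have hRC : R ≤ f.range ⊔ centralizerIn S f.range := fun r hr => Subgroup.mem_sup_right
        (mem_centralizerIn.2 ⟨hRS hr, by
          rintro _ ⟨y, rfl⟩
          have h1 := hcZ ((α⁻¹ ⟨r, hr⟩ : R) : Ω) (hRS (α⁻¹ ⟨r, hr⟩).2) y y.2
          have h2 : α⁻¹ ⟨r, hr⟩ * Subgroup.inclusion hZR y =
              Subgroup.inclusion hZR y * α⁻¹ ⟨r, hr⟩ := Subtype.ext h1
          have h3 := congrArg (fun t => ((α t : R) : Ω)) h2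
          simp only [map_mul, MulAut.apply_inv_self, Subgroup.coe_mul] at h3
          exact h3.symm⟩)
      set b : R →* Ω := ψ.comp (Subgroup.inclusion hRC) with hb
      have hbF' : b ∈ F'.Hom R := restrict_mem hψ hRC
      have hbF : b ∈ F.Hom R := hle R hbF'
      set c : R →* Ω := b.comp α.toMonoidHom with hc
      have hcF : c ∈ F.Hom R := hom_congr (F.comp_mem haF hbF (fun x => (α x).2)) fun x => rfl
      have hcfix : ∀ y : Z, c (Subgroup.inclusion hZR y) = y := by
        intro y
        have h1 := hgv y (MonoidHom.mem_range.2 ⟨y, rfl⟩)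
        have h2 := hag ⟨f y, MonoidHom.mem_range.2 ⟨y, rfl⟩⟩
        rw [← hev] at h1
        exact h2.trans h1
      have hcC : c ∈ F.centralizerHom Z R := by
        refine ⟨hcF, hRS.trans hSC, fun x => hSC (hom_apply_mem hcF x),
          c.comp (Subgroup.inclusion (sup_le le_rfl hZR)), restrict_mem hcF _, fun x => rfl, fun y => hcfix y⟩
      have hcF' : c ∈ F'.Hom R := by
        have h1 : c ∈ (centSystem F Z hZS).Hom R := hcC
        rw [hC' R] at h1
        exact h1.1
      obtain ⟨bi, hbi, hbir, hbiv, -⟩ := exists_inv hbF' rfl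
      have hcb : ∀ x, c x ∈ b.range := fun x => MonoidHom.mem_range.2 ⟨α x, rfl⟩
      refine (mem_autGroup_iff hRS).2 (hom_congr (F'.comp_mem hcF' hbi hcb) fun x => ?_)
      exact (hbiv (α x) (hcb x)).symm
    exact Set.Subset.antisymm (hle' P) (hle P)

end Cfsg.Agent.S5333
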