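import Cfsg.Statements.S5336
import Cfsg.Agent.Lib.Fusion.NormalSubgroup

set_option autoImplicit false
open Cfsg CfsgLib.Fusion

namespace Cfsg.Agent.S5336

/-- Let G be a finite group with Sylow p-subgroup S whose fusion system F_S(G) is simple. If G has no nontrivial normal subgroup of order prime to p and no proper subgroup H containing S induces the same fusion system on S as G does, then G is a simple group. -/
theorem result {G : Type*} [Group G] [Finite G] (p : ℕ) [Fact p.Prime] (S : Sylow p G) (hsimple : (Cfsg.groupFusionSystem (S : Subgroup G)).IsSimple p) (hcore : Cfsg.pPrimeCore p G = ⊥) (hmin : ∀ (H : Subgroup G) (hSH : (S : Subgroup G) ≤ H), H ≠ ⊤ → ∃ P : Subgroup G, (Cfsg.fusionSystemOfSubgroup H (S : Subgroup G) hSH).Hom P ≠ (Cfsg.groupFusionSystem (S : Subgroup G)).Hom P) : IsSimpleGroup G := by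
  obtain ⟨-, hS1, hsimp⟩ := hsimple
  have : Nontrivial G := by
    obtain ⟨x, hx, hx1⟩ := Subgroup.ne_bot_iff_exists_ne_one.1 hS1 |>.elim
      fun x hx => (⟨x, x.2, fun e => hx (Subtype.ext e)⟩ : ∃ x : G, x ∈ (S : Subgroup G) ∧ x ≠ 1)
    exact ⟨x, 1, hx1⟩
  refine ⟨fun N hN => ?_⟩
  rcases hsimp _ _ (normalSubgroup_isNormalIn S N) with h | ⟨h, hHom⟩
  · refine Or.inl (le_bot_iff.1 (hcore ▸ CfsgLib.Core.le_pPrimeCore ?_))
    refine Nat.Coprime.symm ((Fact.out : p.Prime).coprime_iff_not_dvd.2 fun hd => ?_)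
    have hs := isSylowIn_inf_normal S N
    rw [h, isSylowIn_iff_card bot_le, Subgroup.card_bot] at hs
    exact absurd hs (Nat.ne_of_lt (Nat.one_lt_pow ((Fact.out : p.Prime).factorization_pos_of_dvd
      Nat.card_pos.ne' hd).ne' (Fact.out : p.Prime).one_lt))
  · have hSN : (S : Subgroup G) ≤ N := inf_eq_left.1 h
    refine Or.inr (by_contra fun hne => ?_)
    obtain ⟨P, hP⟩ := hmin N hSN hne
    apply hP
    have key : ∀ {T T' : Subgroup G} (e : T = T') (hT : T ≤ N) (hT' : T' ≤ N),
        (Cfsg.fusionSystemOfSubgroup N T hT).Hom P = (Cfsg.fusionSystemOfSubgroup N T' hT').Hom P := by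
      rintro T T' rfl hT hT'
      rfl
    rw [← key h inf_le_right hSN]
    exact hHom P

end Cfsg.Agent.S5336
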