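import Cfsg.Statements.S5338
import Cfsg.Agent.Lib.Fusion.Invariant

set_option autoImplicit false
open Cfsg CfsgLib.Fusion

namespace Cfsg.Agent.S5338

/-- Let F be a saturated fusion system over a finite p-group S and F′ ≤ F a saturated subsystem over all of S that is invariant under F in the conjugation sense: for every map φ of F with source Q and every map ψ of F′ between subgroups R ≤ Q (with values in Q), the transported map φψφ⁻¹ defined on φ(R) is again a map of F′. If moreover Aut_{F′}(S) = Aut_F(S), then F′ = F. -/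
theorem result {Ω : Type*} [Group Ω] {S : Subgroup Ω} [Finite S] (p : ℕ) [Fact p.Prime] (hS : IsPGroup p S) (F : Cfsg.FusionSystem S) (hF : F.IsSaturated p) (F' : Cfsg.FusionSystem S) (hF' : F'.IsSaturated p) (hle : F' ≤ F) (hinv : ∀ (Q : Subgroup Ω) (φ : ↥Q →* Ω), φ ∈ F.Hom Q → ∀ (R : Subgroup Ω) (hRQ : R ≤ Q) (ψ : ↥R →* Ω), ψ ∈ F'.Hom R → ∀ (hψQ : ∀ x : R, ψ x ∈ Q), ∃ χ ∈ F'.Hom ((R.subgroupOf Q).map φ), ∀ (x : R) (hx : φ ⟨(x : Ω), hRQ x.2⟩ ∈ (R.subgroupOf Q).map φ), χ ⟨φ ⟨(x : Ω), hRQ x.2⟩, hx⟩ = φ ⟨ψ x, hψQ x⟩) (htop : F'.autGroup S = F.autGroup S) (P : Subgroup Ω) : F'.Hom P = F.Hom P := by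
  refine Set.Subset.antisymm (hle P) (eq_of_conj_invariant hS hF hle (fun Q hQ a ha b hb => ?_) htop.ge P)
  have hFb := (mem_autGroup_iff hQ).1 hb
  obtain ⟨χ, hχ, hχv⟩ := hinv Q _ hFb Q le_rfl _ ((mem_autGroup_iff hQ).1 ha) (fun x => (a x).2)
  have hQA : Q ≤ (Q.subgroupOf Q).map (Q.subtype.comp b.toMonoidHom) := fun y hy =>
    ⟨b⁻¹ ⟨y, hy⟩, (b⁻¹ ⟨y, hy⟩).2, congrArg Subtype.val (MulAut.apply_inv_self _ b ⟨y, hy⟩)⟩
  refine (mem_autGroup_iff hQ).2 (restrict_mem' hχ hQA fun y => ?_)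
  have h1 := hχv (b⁻¹ y) ⟨b⁻¹ y, (b⁻¹ y).2, rfl⟩
  refine h1.symm.trans (congrArg χ (Subtype.ext ?_))
  show ((b (b⁻¹ y) : Q) : Ω) = (y : Ω)
  exact congrArg Subtype.val (MulAut.apply_inv_self _ b y)

end Cfsg.Agent.S5338
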