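import Cfsg.Statements.S5340
import Cfsg.Agent.Lib.Fusion.Invariant

set_option autoImplicit false
open Cfsg CfsgLib.Fusion

namespace Cfsg.Agent.S5340

/-- Let F be a saturated fusion system over a nontrivial finite p-group S such that S is generated by its elements of order p, any two subgroups of S of order p are F-conjugate, and Aut_F(S) consists of inner automorphisms only. Then F is simple. -/
theorem result {Ω : Type*} [Group Ω] {S : Subgroup Ω} [Finite S] (p : ℕ) [Fact p.Prime] (hS : IsPGroup p S) (F : Cfsg.FusionSystem S) (hF : F.IsSaturated p) (hS1 : S ≠ ⊥) (hgen : Subgroup.closure {x : Ω | x ∈ S ∧ orderOf x = p} = S) (htr : ∀ A B : Subgroup Ω, A ≤ S → B ≤ S → Nat.card A = p → Nat.card B = p → F.IsConj A B) (htop : F.autGroup S = Cfsg.Inn ↥S) : F.IsSimple p := by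
  refine isSimple_of_inner_top hF hS1 htop fun T hT => or_iff_not_imp_left.2 fun hT1 => ?_
  refine le_antisymm hT.1 (hgen ▸ (Subgroup.closure_le _).2 ?_)
  rintro x ⟨hx, hox⟩
  have := finite_le hT.1
  have : Nontrivial T := (Subgroup.nontrivial_iff_ne_bot T).2 hT1
  obtain ⟨n, hn0, hn⟩ := (hS.to_le hT.1).nontrivial_iff_card.1 this
  obtain ⟨t, ht⟩ := exists_prime_orderOf_dvd_card' p (hn ▸ dvd_pow_self p hn0.ne' : p ∣ Nat.card T)
  obtain ⟨φ, hφ, hr⟩ := htr (Subgroup.zpowers (t : Ω)) (Subgroup.zpowers x)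
    (Subgroup.zpowers_le.2 (hT.1 t.2)) (Subgroup.zpowers_le.2 hx)
    (by rw [Nat.card_zpowers, Subgroup.orderOf_coe, ht]) (by rw [Nat.card_zpowers, hox])
  obtain ⟨y, hy⟩ := hr.ge (Subgroup.mem_zpowers x)
  exact hy ▸ hT.2 _ (Subgroup.zpowers_le.2 t.2) φ hφ y

end Cfsg.Agent.S5340
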