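import Cfsg.Statements.S5343
import Cfsg.Agent.Lib.Fusion.NormalSubgroup
import Cfsg.Agent.Lib.Fusion.ChainObstruction

set_option autoImplicit false
universe u
open Cfsg

namespace Cfsg.Agent.S5343

open CfsgLib.Fusion Cfsg.FusionSystem
open scoped Pointwise

variable {Ω : Type u} [Group Ω] {S : Subgroup Ω} {G : Type u} [Group G]

/-- The map of `Ω` given by conjugation in `G`. -/
theorem exists_pull (ι : S →* G) (hι : Function.Injective ι) (R : Subgroup Ω) (hR : R ≤ S) (g : G)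
    (h : ∀ x : R, g * ι ⟨x, hR x.2⟩ * g⁻¹ ∈ ι.range) :
    ∃ φ : R →* Ω, ∃ hφ : ∀ x : R, φ x ∈ S, ∀ x : R, ι ⟨φ x, hφ x⟩ = g * ι ⟨x, hR x.2⟩ * g⁻¹ := by
  let θ : R →* S := (MonoidHom.ofInjective hι).symm.toMonoidHom.comp
    (((MulAut.conj g).toMonoidHom.comp (ι.comp (Subgroup.inclusion hR))).codRestrict ι.range h)
  refine ⟨S.subtype.comp θ, fun x => (θ x).2, fun x => ?_⟩
  exact congrArg Subtype.val ((MonoidHom.ofInjective hι).apply_symm_apply _)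

variable [Finite G] {p : ℕ} [Fact p.Prime]

/-- A normal subgroup of a realizing group gives a normal subsystem. -/
theorem exists_normalSubsystem (F : Cfsg.FusionSystem S) (ι : S →* G) (hreal : F.IsRealizedBy ι)
    (T : Sylow p G) (hT : (T : Subgroup G) = ι.range) (N : Subgroup G) [N.Normal] :
    ∃ (T₀ : Subgroup Ω) (hT₀ : T₀ ≤ S) (E : Cfsg.FusionSystem T₀), E.IsNormalIn F p ∧
      (∀ x : S, (x : Ω) ∈ T₀ ↔ ι x ∈ N) ∧
      ∀ (P : Subgroup Ω) (φ : P →* Ω), φ ∈ E.Hom P →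
        ∃ n ∈ N, ∀ (x : P) (hx : (x : Ω) ∈ S) (hφ : φ x ∈ S), ι ⟨φ x, hφ⟩ = n * ι ⟨x, hx⟩ * n⁻¹ := by
  have hι := hreal.1
  obtain ⟨⟨hEsat, -, -, -, -, hfr⟩, hextG⟩ := normalSubgroup_isNormalIn T N
  set T₀ : Subgroup Ω := (N.comap ι).map S.subtype with hT₀def
  have hT₀ : T₀ ≤ S := Subgroup.map_subtype_le _
  have hmem : ∀ x : S, (x : Ω) ∈ T₀ ↔ ι x ∈ N := fun x =>
    ⟨fun ⟨y, hy, hyx⟩ => (Subtype.ext hyx : y = x) ▸ hy, fun h => ⟨x, h, rfl⟩⟩
  let κ : T₀ →* N := (ι.comp (Subgroup.inclusion hT₀)).codRestrict N fun x =>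
    (hmem (Subgroup.inclusion hT₀ x)).1 x.2
  have hκ : Function.Injective κ := fun a b h =>
    Subgroup.inclusion_injective hT₀ (hι (congrArg Subtype.val h))
  set E := realizedSystem T₀ κ hκ with hE
  have hrangeT : ∀ y : G, y ∈ (T : Subgroup G) → y ∈ ι.range := fun y hy => hT ▸ hy
  have hTN : ((T : Subgroup G) ⊓ N).subgroupOf N = κ.range := by
    ext y
    constructor
    · rintro ⟨hy, -⟩
      obtain ⟨s, hs⟩ := hrangeT _ hy
      exact ⟨⟨s, (hmem s).2 (hs ▸ y.2)⟩, Subtype.ext hs⟩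
    · rintro ⟨x, rfl⟩
      exact ⟨hT.symm ▸ ⟨_, rfl⟩, (κ x).2⟩
  have hEs : E.IsSaturated p := by
    obtain ⟨U, hU⟩ := isSylowIn_inf_normal T N
    exact saturated_of_isRealizedBy (realizedSystem_isRealizedBy T₀ κ hκ) U (hU.trans hTN)
  have hEhom : ∀ (P : Subgroup Ω) (φ : P →* Ω), φ ∈ E.Hom P →
      ∃ n ∈ N, ∀ (x : P) (hx : (x : Ω) ∈ S) (hφ : φ x ∈ S), ι ⟨φ x, hφ⟩ = n * ι ⟨x, hx⟩ * n⁻¹ := by
    rintro P φ ⟨hP, hφ, n, hn⟩
    exact ⟨n, n.2, fun x _ _ => congrArg Subtype.val (hn x)⟩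
  have hEmk : ∀ (P : Subgroup Ω) (φ : P →* Ω) (hP : P ≤ T₀) (hφ : ∀ x, φ x ∈ T₀) (n : G), n ∈ N →
      (∀ x : P, ι ⟨φ x, hT₀ (hφ x)⟩ = n * ι ⟨x, hT₀ (hP x.2)⟩ * n⁻¹) → φ ∈ E.Hom P :=
    fun P φ hP hφ n hn h => ⟨hP, hφ, ⟨n, hn⟩, fun x => Subtype.ext (h x)⟩
  have hT₀' : ∀ y : G, y ∈ (T : Subgroup G) ⊓ N → ∃ t : T₀, ι ⟨t, hT₀ t.2⟩ = y := by
    rintro y ⟨hy, hyN⟩
    obtain ⟨s, rfl⟩ := hrangeT _ hy
    exact ⟨⟨s, (hmem s).2 hyN⟩, rfl⟩
  have hT₀mem : ∀ t : T₀, ι ⟨t, hT₀ t.2⟩ ∈ (T : Subgroup G) ⊓ N := fun t =>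
    ⟨hT.symm ▸ ⟨_, rfl⟩, (hmem ⟨t, hT₀ t.2⟩).1 t.2⟩
  refine ⟨T₀, hT₀, E, ⟨⟨hEs, ?_, ?_, ?_, ?_, ?_⟩, ?_⟩, hmem, hEhom⟩
  · exact (isRealizedBy_sysEquiv hreal).symm.saturated (by rw [← hT]; exact groupFusion_saturated T)
  · intro P φ hφ
    obtain ⟨n, -, hn⟩ := hEhom P φ hφ
    refine (hreal.2 P ((hom_le hφ).trans hT₀) φ fun x => hT₀ (hom_apply_mem hφ x)).2 ⟨n, fun x => hn x _ _⟩
  · refine ⟨hT₀, fun R hR φ hφ x => ?_⟩
    obtain ⟨g, hg⟩ := (hreal.2 R (hR.trans hT₀) φ (hom_apply_mem hφ)).1 hφ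
    refine (hmem ⟨φ x, hom_apply_mem hφ x⟩).2 ?_
    rw [hg x]
    exact Subgroup.Normal.conj_mem inferInstance _ ((hmem ⟨x, hT₀ (hR x.2)⟩).1 (hR x.2)) g
  · intro P hPT φ hφ α hα
    obtain ⟨g, hg⟩ := (hreal.2 T₀ hT₀ _ fun x => hT₀ (α x).2).1 ((mem_autGroup_iff hT₀).1 hα)
    obtain ⟨n, hn, hnv⟩ := hEhom P φ hφ
    set Q := (P.subgroupOf T₀).map (T₀.subtype.comp α.toMonoidHom) with hQ
    have hQT : Q ≤ T₀ := by rintro _ ⟨t, -, rfl⟩; exact (α t).2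
    have hval : ∀ (x : P) (hx : φ x ∈ T₀),
        (g * n * g⁻¹) * ι ⟨(α ⟨x, hPT x.2⟩ : T₀), hT₀ (α _).2⟩ * (g * n * g⁻¹)⁻¹ =
          ι ⟨(α ⟨φ x, hx⟩ : T₀), hT₀ (α _).2⟩ := by
      intro x hx
      have e1 := hg ⟨x, hPT x.2⟩
      have e2 := hg ⟨φ x, hx⟩
      refine (congrArg (fun w => g * n * g⁻¹ * w * (g * n * g⁻¹)⁻¹) e1).trans
        (Eq.trans ?_ e2.symm)
      rw [hnv x (hT₀ (hPT x.2)) (hT₀ hx)]
      group
    obtain ⟨χ, hχ, hχv⟩ := exists_pull ι hι Q (hQT.trans hT₀) (g * n * g⁻¹) (by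
      rintro ⟨_, t, ht, rfl⟩
      exact ⟨_, (hval ⟨t, ht⟩ (hom_apply_mem hφ _)).symm⟩)
    have hkey : ∀ (x : P) (hφx : φ x ∈ T₀) (hm : ((α ⟨x, hPT x.2⟩ : T₀) : Ω) ∈ Q),
        χ ⟨_, hm⟩ = ((α ⟨φ x, hφx⟩ : T₀) : Ω) := fun x hφx hm =>
      congrArg Subtype.val (hι ((hχv ⟨_, hm⟩).trans (hval x hφx)))
    refine ⟨χ, hEmk Q χ hQT ?_ _ (Subgroup.Normal.conj_mem inferInstance n hn g) hχv, hkey⟩
    rintro ⟨_, t, ht, rfl⟩
    exact Set.mem_of_eq_of_mem (hkey ⟨t, ht⟩ (hom_apply_mem hφ _) ⟨t, ht, rfl⟩) (α _).2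
  · intro P hPT φ hφ
    set P' := (P.subgroupOf S).map ι with hP'
    obtain ⟨g, hg⟩ := (hreal.2 P (hPT.trans hT₀) φ (hom_apply_mem hφ)).1 hφ
    have hP'le : P' ≤ (T : Subgroup G) ⊓ N := by
      rintro _ ⟨s, hs, rfl⟩
      exact hT₀mem ⟨s, hPT hs⟩
    obtain ⟨α', hα', φ₀', hφ₀', hdec⟩ := hfr P' hP'le (Cfsg.conjHom P' g) ⟨hP'le.trans inf_le_left,
      fun x => by
        obtain ⟨_, s, hs, rfl⟩ := x
        show g * ι s * g⁻¹ ∈ (T : Subgroup G)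
        rw [hT, ← hg ⟨s, hs⟩]
        exact ⟨_, rfl⟩, g, fun x => rfl⟩
    obtain ⟨-, -, g₁, hg₁⟩ := (mem_autGroup_iff inf_le_left).1 hα'
    obtain ⟨-, hφ₀T, n, hn, hnv⟩ := hφ₀'
    obtain ⟨φ₀, hφ₀S, hφ₀v⟩ := exists_pull ι hι P (hPT.trans hT₀) n fun x => by
      have := (hφ₀T ⟨_, ⟨x, (hPT.trans hT₀) x.2⟩, x.2, rfl⟩).1
      rw [hnv] at this
      exact hrangeT _ this
    have hφ₀mem : ∀ x : P, φ₀ x ∈ T₀ := fun x => (hmem ⟨φ₀ x, hφ₀S x⟩).2 (by
      rw [hφ₀v]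
      exact N.mul_mem (N.mul_mem hn ((hmem ⟨x, hT₀ (hPT x.2)⟩).1 (hPT x.2))) (N.inv_mem hn))
    obtain ⟨β, hβS, hβv⟩ := exists_pull ι hι T₀ hT₀ g₁ fun t => by
      have := (α' ⟨_, hT₀mem t⟩).2.1
      rw [show ((α' ⟨_, hT₀mem t⟩ : ↥((T : Subgroup G) ⊓ N)) : G) = g₁ * ι ⟨t, hT₀ t.2⟩ * g₁⁻¹ from
        hg₁ ⟨_, hT₀mem t⟩] at this
      exact hrangeT _ this
    have hβT : ∀ t : T₀, β t ∈ T₀ := fun t => (hmem ⟨β t, hβS t⟩).2 (by
      rw [hβv]
      exact Subgroup.Normal.conj_mem inferInstance _ ((hmem ⟨t, hT₀ t.2⟩).1 t.2) g₁)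
    have hinj : Function.Injective (β.codRestrict T₀ hβT) := fun a b h => by
      have h' : β a = β b := congrArg Subtype.val h
      have := congrArg ι (Subtype.ext h' : (⟨β a, hβS a⟩ : S) = ⟨β b, hβS b⟩)
      rw [hβv, hβv] at this
      exact Subgroup.inclusion_injective hT₀ (hι (mul_left_cancel (mul_right_cancel this)))
    have : Finite T₀ := Finite.of_injective κ hκ
    let α : MulAut T₀ := MulEquiv.ofBijective _ (Finite.injective_iff_bijective.1 hinj)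
    refine ⟨α, (mem_autGroup_iff hT₀).2 ((hreal.2 T₀ hT₀ _ fun t => hT₀ (α t).2).2 ⟨g₁, hβv⟩), φ₀,
      hEmk P φ₀ hPT hφ₀mem n hn hφ₀v, fun x hx => ?_⟩
    refine congrArg Subtype.val (hι ?_ :
      (⟨φ x, hom_apply_mem hφ x⟩ : S) = ⟨β ⟨φ₀ x, hx⟩, hβS _⟩)
    rw [hg, hβv, hφ₀v]
    have hm : ι ⟨x, hT₀ (hPT x.2)⟩ ∈ P' := ⟨⟨x, hT₀ (hPT x.2)⟩, x.2, rfl⟩
    refine (hdec ⟨_, hm⟩ (hφ₀T _)).trans ((hg₁ _).trans ?_)
    show g₁ * φ₀' ⟨_, hm⟩ * g₁⁻¹ = _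
    rw [hnv]
  · intro α hα
    obtain ⟨n, hn, hnv⟩ := hEhom T₀ _ ((mem_autGroup_iff le_rfl).1 hα)
    set T' := (T : Subgroup G) ⊓ N with hT'
    have hnT : ∀ y ∈ T', n * y * n⁻¹ ∈ T' := by
      intro y hy
      obtain ⟨t, rfl⟩ := hT₀' y hy
      exact Set.mem_of_eq_of_mem (hnv t (hT₀ t.2) (hT₀ (α t).2)).symm (hT₀mem (α t))
    have hnN : n ∈ Subgroup.normalizer (T' : Set G) :=
      Subgroup.mem_normalizer_iff_map_conj_eq.2 (Subgroup.eq_of_le_of_card_ge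
        (by rintro _ ⟨y, hy, rfl⟩; exact hnT y hy)
        (le_of_eq (Subgroup.card_map_of_injective (MulAut.conj n).injective).symm))
    set U' := T' ⊔ centralizerIn (T : Subgroup G) T' with hU'
    obtain ⟨β', hβ', hext, hc'⟩ := hextG (T'.normalizerMonoidHom ⟨n, hnN⟩)
      ((mem_autGroup_iff le_rfl).2 ⟨le_rfl, fun y => hnT y y.2, n, hn, fun _ => rfl⟩)
    have hU'T : U' ≤ T := sup_le inf_le_left (centralizerIn_le _)
    obtain ⟨-, -, m, hm⟩ := (mem_autGroup_iff hU'T).1 hβ'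
    have hmv : ∀ z : U', ((β' z : U') : G) = m * (z : G) * m⁻¹ := fun z => hm z
    set U := T₀ ⊔ centralizerIn S T₀ with hU
    have hUS : U ≤ S := sup_le hT₀ (centralizerIn_le _)
    have hcen : ∀ c : S, (c : Ω) ∈ centralizerIn S T₀ →
        ι c ∈ centralizerIn (T : Subgroup G) T' := by
      intro c hc
      refine mem_centralizerIn.2 ⟨hT.symm ▸ ⟨c, rfl⟩, fun y hy => ?_⟩
      obtain ⟨t, rfl⟩ := hT₀' y hy
      rw [← map_mul, ← map_mul]
      exact congrArg ι (Subtype.ext ((mem_centralizerIn.1 hc).2 t t.2))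
    have hUmap : ∀ x : U, ι ⟨x, hUS x.2⟩ ∈ U' := by
      have hle : U.subgroupOf S ≤ U'.comap ι := by
        rw [hU, Subgroup.subgroupOf_sup hT₀ (centralizerIn_le _)]
        refine sup_le (fun t ht => ?_) fun c hc => ?_
        · exact Subgroup.mem_sup_left (hT₀mem ⟨t, ht⟩)
        · exact Subgroup.mem_sup_right (hcen c hc)
      exact fun x => hle (show (⟨x, hUS x.2⟩ : S) ∈ U.subgroupOf S from x.2)
    have hback : ∀ (y : S), ι y ∈ U' → (y : Ω) ∈ U := by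
      intro y hy
      have hle : U' ≤ (U.subgroupOf S).map ι := by
        refine sup_le (fun z hz => ?_) fun z hz => ?_
        · obtain ⟨t, rfl⟩ := hT₀' z hz
          exact ⟨_, Subgroup.mem_sup_left (S := T₀) t.2, rfl⟩
        · obtain ⟨c, rfl⟩ := hrangeT _ hz.1
          refine ⟨c, Subgroup.mem_sup_right (T := centralizerIn S T₀) (mem_centralizerIn.2
            ⟨c.2, fun t ht => ?_⟩), rfl⟩
          have h := (mem_centralizerIn.1 hz).2 _ (hT₀mem ⟨t, ht⟩)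
          rw [← map_mul, ← map_mul] at h
          exact congrArg Subtype.val (hι h)
      obtain ⟨w, hw, hwy⟩ := hle hy
      exact (hι hwy) ▸ hw
    obtain ⟨β, hβS, hβv⟩ := exists_pull ι hι U hUS m fun x => by
      have h := hU'T (β' ⟨_, hUmap x⟩).2
      rw [show ((β' ⟨_, hUmap x⟩ : U') : G) = m * ι ⟨x, hUS x.2⟩ * m⁻¹ from hmv ⟨_, hUmap x⟩] at h
      exact hrangeT _ h
    have hβU : ∀ x : U, β x ∈ U := fun x => hback ⟨β x, hβS x⟩ (by
      rw [hβv, ← show ((β' ⟨_, hUmap x⟩ : U') : G) = m * ι ⟨x, hUS x.2⟩ * m⁻¹ from hmv ⟨_, hUmap x⟩]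
      exact (β' _).2)
    have hinj : Function.Injective (β.codRestrict U hβU) := fun a b h => by
      have h' : β a = β b := congrArg Subtype.val h
      have := congrArg ι (Subtype.ext h' : (⟨β a, hβS a⟩ : S) = ⟨β b, hβS b⟩)
      rw [hβv, hβv] at this
      exact Subgroup.inclusion_injective hUS (hι (mul_left_cancel (mul_right_cancel this)))
    have : Finite U := Finite.of_injective (fun x : U => ι ⟨x, hUS x.2⟩)
      fun a b h => Subgroup.inclusion_injective hUS (hι h)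
    let γ : MulAut U := MulEquiv.ofBijective _ (Finite.injective_iff_bijective.1 hinj)
    refine ⟨γ, (mem_autGroup_iff hUS).2 ((hreal.2 U hUS _ fun x => hUS (γ x).2).2 ⟨m, hβv⟩),
      fun t => ?_, fun c hc => ?_⟩
    · refine congrArg Subtype.val (hι ?_ :
        (⟨β (Subgroup.inclusion le_sup_left t), hβS _⟩ : S) = ⟨(α t : T₀), hT₀ (α t).2⟩)
      rw [hβv]
      refine Eq.trans ?_ (hnv t (hT₀ t.2) (hT₀ (α t).2)).symm
      exact (hm ⟨_, Subgroup.mem_sup_left (hT₀mem t)⟩).symm.trans (hext ⟨_, hT₀mem t⟩)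
    · have h := hc' ⟨_, hUmap c⟩ (hcen ⟨c, hUS c.2⟩ hc)
      rw [show ((β' ⟨_, hUmap c⟩ : U') : G) = m * ι ⟨c, hUS c.2⟩ * m⁻¹ from hmv ⟨_, hUmap c⟩, ← hβv c] at h
      have h2 : (ι ⟨c, hUS c.2⟩)⁻¹ * ι ⟨β c, hβS c⟩ =
          ι (⟨c, hUS c.2⟩⁻¹ * ⟨β c, hβS c⟩) := by rw [map_mul, map_inv]
      rw [h2] at h
      refine ⟨(hmem (⟨c, hUS c.2⟩⁻¹ * ⟨β c, hβS c⟩ : S)).2 h.1.2,
        Subgroup.mem_centralizer_iff.2 fun t ht => ?_⟩
      have h3 := Subgroup.mem_centralizer_iff.1 h.2 _ (hT₀mem ⟨t, ht⟩)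
      rw [← map_mul, ← map_mul] at h3
      exact congrArg Subtype.val (hι h3)

/-- Let F be a simple saturated fusion system over a finite p-group S that is realized by some finite group on a Sylow p-subgroup. Then F is realized by a finite simple group on a Sylow p-subgroup. -/
theorem result {Ω : Type u} [Group Ω] {S : Subgroup Ω} [Finite S] (p : ℕ) [Fact p.Prime] (hS : IsPGroup p S) (F : Cfsg.FusionSystem S) (hsimple : F.IsSimple p) (hreal : F.IsRealizable p) : ∃ (G : Type u) (_ : Group G) (_ : Finite G) (_ : IsSimpleGroup G) (ι : ↥S →* G), F.IsRealizedBy ι ∧ ∃ T : Sylow p G, (T : Subgroup G) = ι.range := by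
  classical
  obtain ⟨G₁, iG₁, fG₁, ι₁, hι₁, hT₁⟩ := hreal
  let Q : ℕ → Prop := fun n => ∃ (G : Type u) (_ : Group G) (_ : Finite G) (ι : S →* G),
    F.IsRealizedBy ι ∧ (∃ T : Sylow p G, (T : Subgroup G) = ι.range) ∧ Nat.card G = n
  have hQ : ∃ n, Q n := ⟨_, G₁, iG₁, fG₁, ι₁, hι₁, hT₁, rfl⟩
  obtain ⟨G, iG, fG, ι, hι, ⟨T, hT⟩, hcard⟩ := Nat.find_spec hQ
  have hmin : ∀ (H : Type u) [Group H] [Finite H] (κ : S →* H), F.IsRealizedBy κ →
      (∃ U : Sylow p H, (U : Subgroup H) = κ.range) → Nat.card G ≤ Nat.card H :=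
    fun H _ _ κ h1 h2 => hcard ▸ Nat.find_min' hQ ⟨H, _, inferInstance, κ, h1, h2, rfl⟩
  have hS1 := hsimple.2.1
  refine ⟨G, iG, fG, ?_, ι, hι, T, hT⟩
  have : Nontrivial G := by
    obtain ⟨s, hs⟩ := Subgroup.ne_bot_iff_exists_ne_one.1 hS1
    exact nontrivial_of_ne (ι s) 1 fun h => hs (hι.1 (h.trans (map_one ι).symm))
  refine IsSimpleGroup.mk fun N hN => ?_
  obtain ⟨T₀, hT₀, E, hE, hmem, hEhom⟩ := exists_normalSubsystem F ι hι T hT N
  rcases hsimple.2.2 T₀ E hE with h0 | ⟨h0, hEF⟩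
  · left
    by_contra hne
    have hTN : (T : Subgroup G) ⊓ N = ⊥ := by
      rw [eq_bot_iff]
      rintro y ⟨hy, hyN⟩
      obtain ⟨s, rfl⟩ : y ∈ ι.range := hT ▸ hy
      have h1 := (hmem s).2 hyN
      rw [h0, Subgroup.mem_bot] at h1
      rw [Subgroup.mem_bot, show s = 1 from Subtype.ext h1, map_one]
    have hNp : ¬ p ∣ Nat.card N := by
      intro hd
      obtain ⟨U, hU⟩ := CfsgLib.Fusion.isSylowIn_inf_normal T N
      rw [hTN, Subgroup.bot_subgroupOf] at hU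
      have := U.dvd_card_of_dvd_card hd
      rw [hU, Subgroup.card_bot, Nat.dvd_one] at this
      exact (Fact.out : p.Prime).one_lt.ne' this
    let κ : S →* G ⧸ N := (QuotientGroup.mk' N).comp ι
    have hκinj : Function.Injective κ := (injective_iff_map_eq_one _).2 fun s hs => by
      have h1 := (hmem s).2 ((QuotientGroup.eq_one_iff _).1 hs)
      rw [h0, Subgroup.mem_bot] at h1
      exact Subtype.ext h1
    have hκ : F.IsRealizedBy κ := by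
      refine ⟨hκinj, fun P hP φ hφ => ⟨fun h => ?_, fun ⟨gb, hgb⟩ => ?_⟩⟩
      · obtain ⟨g, hg⟩ := (hι.2 P hP φ hφ).1 h
        refine ⟨QuotientGroup.mk' N g, fun x => ?_⟩
        show QuotientGroup.mk' N _ = _
        rw [hg, map_mul, map_mul, map_inv]
        rfl
      · obtain ⟨g, rfl⟩ := QuotientGroup.mk'_surjective N gb
        let ψ : P →* G := ι.comp (φ.codRestrict S hφ)
        let χ : P →* G := (MulAut.conj g).toMonoidHom.comp (ι.comp (Subgroup.inclusion hP))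
        have hψ : ∀ x : P, ψ x ∈ (T : Subgroup G) := fun x => hT.symm ▸ ⟨_, rfl⟩
        set A := ψ.range with hA
        set B := χ.range with hB
        have hmod : ∀ x : P, (ψ x)⁻¹ * χ x ∈ N := fun x => by
          rw [← QuotientGroup.eq_one_iff, QuotientGroup.mk_mul, QuotientGroup.mk_inv,
            inv_mul_eq_one]
          have h := hgb x
          exact h.trans (by
            show _ = QuotientGroup.mk' N (g * ι ⟨x, hP x.2⟩ * g⁻¹)
            rw [map_mul, map_mul, map_inv]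
            rfl)
        have hBAN : B ≤ A ⊔ N := by
          rintro _ ⟨x, rfl⟩
          have hxA : ψ x ∈ A := ⟨x, rfl⟩
          have := Subgroup.mul_mem_sup hxA (hmod x)
          rwa [mul_inv_cancel_left] at this
        have hAp : IsPGroup p A := T.isPGroup'.to_le (by rintro _ ⟨x, rfl⟩; exact hψ x)
        have hBp : IsPGroup p B := (hS.to_le hP).of_surjective χ.rangeRestrict χ.rangeRestrict_surjective
        obtain ⟨U, hUle⟩ := (CfsgLib.Fusion.isPGroup_subgroupOf (le_sup_left : A ≤ A ⊔ N) hAp).exists_le_sylow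
        have hUs : CfsgLib.Fusion.IsSylowIn p A (A ⊔ N) := by
          refine ⟨U, ?_⟩
          refine le_antisymm (fun u hu => ?_) hUle
          obtain ⟨a, ha, k, hk, hak⟩ : (u : G) ∈ (A : Set G) * (N : Set G) := by
            rw [← Subgroup.mul_normal]; exact u.2
          have haU : (⟨a, Subgroup.mem_sup_left ha⟩ : ↥(A ⊔ N)) ∈ (U : Subgroup ↥(A ⊔ N)) := hUle ha
          have hkU : (⟨k, Subgroup.mem_sup_right hk⟩ : ↥(A ⊔ N)) ∈ (U : Subgroup ↥(A ⊔ N)) := by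
            have hu' : u = ⟨a, Subgroup.mem_sup_left ha⟩ * ⟨k, Subgroup.mem_sup_right hk⟩ :=
              Subtype.ext hak.symm
            have := (U : Subgroup ↥(A ⊔ N)).mul_mem ((U : Subgroup ↥(A ⊔ N)).inv_mem haU) hu
            rwa [hu', inv_mul_cancel_left] at this
          have hk1 : k = 1 := by
            obtain ⟨j, hj⟩ := U.isPGroup' ⟨_, hkU⟩
            have h1 : k ^ p ^ j = 1 := congrArg (fun w => ((w : ↥(A ⊔ N)) : G))
              (congrArg Subtype.val hj)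
            have h2 : orderOf k ∣ Nat.card N := by
              rw [← Subgroup.orderOf_mk k hk]; exact orderOf_dvd_natCard _
            refine orderOf_eq_one_iff.1 (Nat.dvd_one.1 ?_)
            exact (((Fact.out : p.Prime).coprime_iff_not_dvd.2 hNp).pow_left j) ▸
              Nat.dvd_gcd (orderOf_dvd_of_pow_eq_one h1) h2
          show (u : G) ∈ A
          have hak2 : a * k = u := hak
          rw [← hak2, hk1, mul_one]
          exact ha
        obtain ⟨l, hl, hlB⟩ := hUs.exists_conj_mem hBAN hBp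
        obtain ⟨a, ha, k, hk, rfl⟩ : l ∈ (A : Set G) * (N : Set G) := by
          rw [← Subgroup.mul_normal]; exact hl
        refine (hι.2 P hP φ hφ).2 ⟨k * g, fun x => ?_⟩
        have h1 : k * χ x * k⁻¹ ∈ A := by
          have := A.mul_mem (A.mul_mem (A.inv_mem ha) (hlB _ ⟨x, rfl⟩)) ha
          simpa [mul_assoc] using this
        have h2 : (ψ x)⁻¹ * (k * χ x * k⁻¹) ∈ N := by
          rw [show (ψ x)⁻¹ * (k * χ x * k⁻¹) =
            ((ψ x)⁻¹ * k * ψ x) * ((ψ x)⁻¹ * χ x) * k⁻¹ by group]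
          refine N.mul_mem (N.mul_mem ?_ (hmod x)) (N.inv_mem hk)
          simpa using hN.conj_mem k hk (ψ x)⁻¹
        have h3 : (ψ x)⁻¹ * (k * χ x * k⁻¹) ∈ (T : Subgroup G) ⊓ N := by
          refine ⟨(T : Subgroup G).mul_mem ((T : Subgroup G).inv_mem (hψ x)) ?_, h2⟩
          obtain ⟨y, hy⟩ := h1
          exact hy ▸ hψ y
        rw [hTN, Subgroup.mem_bot, inv_mul_eq_one] at h3
        show ψ x = _
        rw [h3]
        show k * (g * ι ⟨x, hP x.2⟩ * g⁻¹) * k⁻¹ = _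
        group
    have hle := hmin (G ⧸ N) κ hκ ⟨T.mapSurjective (QuotientGroup.mk'_surjective N), by
      rw [Sylow.coe_mapSurjective, hT, MonoidHom.map_range]⟩
    have h1 := N.card_eq_card_quotient_mul_card_subgroup
    have h2 : 1 < Nat.card N := (Subgroup.one_lt_card_iff_ne_bot N).2 hne
    have h3 := Nat.card_pos (α := G ⧸ N)
    nlinarith
  · right
    have hall : ∀ s : S, ι s ∈ N := fun s => (hmem s).1 (h0.symm ▸ s.2)
    let κ : S →* N := ι.codRestrict N hall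
    have hκ : F.IsRealizedBy κ := by
      refine ⟨fun a b h => hι.1 (congrArg Subtype.val h), fun P hP φ hφ => ⟨fun h => ?_, fun ⟨n, hn⟩ => ?_⟩⟩
      · rw [← hEF P] at h
        obtain ⟨n, hn, hnv⟩ := hEhom P φ h
        exact ⟨⟨n, hn⟩, fun x => Subtype.ext (hnv x _ _)⟩
      · exact (hι.2 P hP φ hφ).2 ⟨n, fun x => congrArg Subtype.val (hn x)⟩
    have hle := hmin N κ hκ ⟨T.subtype (show (T : Subgroup G) ≤ N by
        rw [hT]; rintro _ ⟨s, rfl⟩; exact hall s), by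
      rw [Sylow.coe_subtype]
      ext y
      rw [Subgroup.mem_subgroupOf, hT]
      exact ⟨fun ⟨s, hs⟩ => ⟨s, Subtype.ext hs⟩, fun ⟨s, hs⟩ => ⟨s, congrArg Subtype.val hs⟩⟩⟩
    exact Subgroup.eq_top_of_le_card _ hle

end Cfsg.Agent.S5343
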