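import Cfsg.Statements.S5345
import Cfsg.Agent.Lib.ThreeTrans.Basic
-- import your own Cfsg.Agent.* helpers here

set_option autoImplicit false
open Cfsg

namespace Cfsg.Agent.S5345

/-- Let D be a conjugation-invariant generating set of 3-transpositions of a finite group G and T a Sylow 2-subgroup of G. Then the members of D lying in T generate an abelian subgroup, and their number is the width of D (the largest number of pairwise commuting members of D). -/
theorem result {G : Type*} [Group G] [Finite G] {D : Set G} (hD : Cfsg.IsThreeTranspositionGroup D) (T : Sylow 2 G) : IsMulCommutative (Subgroup.closure {d : G | d ∈ D ∧ d ∈ T}) ∧ {d : G | d ∈ D ∧ d ∈ T}.ncard = Cfsg.commutingWidth D := by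
  obtain ⟨hD, hconj, -⟩ := hD
  haveI : Fact (Nat.Prime 2) := ⟨Nat.prime_two⟩
  have hcomm : ∀ (P : Sylow 2 G), ∀ a ∈ D, a ∈ P → ∀ b ∈ D, b ∈ P → Commute a b := by
    intro P a ha haP b hb hbP
    by_contra hn
    have h3 := CfsgLib.ThreeTrans.orderOf_mul hD ha hb hn
    obtain ⟨k, hk⟩ := IsPGroup.iff_orderOf.1 P.isPGroup' ⟨a * b, (P : Subgroup G).mul_mem haP hbP⟩
    rw [← Subgroup.orderOf_coe, h3] at hk
    rcases k with _ | k
    · omega
    · have h2 : 2 ∣ 3 := by rw [hk]; exact dvd_pow_self 2 (Nat.succ_ne_zero k)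
      omega
  refine ⟨Subgroup.isMulCommutative_closure fun a ha b hb => (hcomm T a ha.1 ha.2 b hb.1 hb.2).eq, ?_⟩
  set S := {n : ℕ | ∃ E : Set G, E ⊆ D ∧ E.Finite ∧ (∀ a ∈ E, ∀ b ∈ E, Commute a b) ∧ E.ncard = n}
  have hmem : {d : G | d ∈ D ∧ d ∈ T}.ncard ∈ S :=
    ⟨_, fun d hd => hd.1, Set.toFinite _, fun a ha b hb => hcomm T a ha.1 ha.2 b hb.1 hb.2, rfl⟩
  have hub : ∀ n ∈ S, n ≤ {d : G | d ∈ D ∧ d ∈ T}.ncard := by
    rintro n ⟨E, hED, -, hEc, rfl⟩
    haveI : IsMulCommutative (Subgroup.closure E) :=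
      Subgroup.isMulCommutative_closure fun a ha b hb => (hEc a ha b hb).eq
    have hp : IsPGroup 2 (Subgroup.closure E) := by
      intro x
      refine ⟨1, ?_⟩
      rw [pow_one]
      apply Subtype.ext
      rw [SubgroupClass.coe_pow, OneMemClass.coe_one]
      obtain ⟨x, hx⟩ := x
      induction hx using Subgroup.closure_induction with
      | mem y hy => rw [pow_two]; exact CfsgLib.ThreeTrans.mul_self hD (hED hy)
      | one => simp
      | mul y z hy hz ihy ihz =>
        rw [Commute.mul_pow (show Commute y z from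
          (congrArg Subtype.val (IsMulCommutative.is_comm.comm (⟨y, hy⟩ : Subgroup.closure E) ⟨z, hz⟩)))]
        simp_all
      | inv y hy ih => simp_all
    obtain ⟨P, hP⟩ := hp.exists_le_sylow
    obtain ⟨g, hg⟩ := MulAction.exists_smul_eq G P T
    refine Set.ncard_le_ncard_of_injOn (fun x => g * x * g⁻¹) (fun x hx => ⟨hconj g x (hED hx), ?_⟩)
      (fun x _ y _ h => by simpa using h) (Set.toFinite _)
    rw [← hg]
    exact Subgroup.smul_mem_pointwise_smul x (MulAut.conj g) _ (hP (Subgroup.subset_closure hx))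
  exact le_antisymm (le_csSup ⟨_, hub⟩ hmem) (csSup_le ⟨_, hmem⟩ hub)

end Cfsg.Agent.S5345
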