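import Cfsg.Statements.S5355
import Cfsg.Agent.Lib.ThreeTrans.FischerPlanes
-- import your own Cfsg.Agent.* helpers here

set_option autoImplicit false
open Cfsg

namespace Cfsg.Agent.S5355

/-- Let D be a conjugacy class of 3-transpositions generating the finite group G, with at least two members, and d a member of D. Suppose that every member of D commuting with d commutes with exactly the same members of D as d does, and that exactly one member of D other than d commutes with d. Then G is isomorphic to the symmetric group of degree 4. -/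
theorem result {G : Type*} [Group G] [Finite G] {D : Set G} (hD : Cfsg.IsThreeTranspositionClass D) (hD2 : ∃ a ∈ D, ∃ b ∈ D, a ≠ b) {d : G} (hd : d ∈ D) (hV : {y : G | y ∈ D ∧ Commute d y} = {v : G | v ∈ D ∧ ∀ e ∈ D, Commute v e ↔ Commute d e}) (hm : {y : G | y ∈ D ∧ Commute d y}.ncard = 2) : Nonempty (G ≃* Equiv.Perm (Fin 4)) := by
  obtain ⟨hD, ⟨d₀, -, hDeq⟩, hgen⟩ := hD
  have hconj : ∀ g : G, ∀ x ∈ D, g * x * g⁻¹ ∈ D := by
    intro g x hx
    rw [hDeq] at hx ⊢
    exact hx.trans (isConj_iff.2 ⟨g, rfl⟩)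
  have htrans : ∀ x ∈ D, ∃ g : G, g * d * g⁻¹ = x := by
    intro x hx
    rw [hDeq] at hx hd
    exact isConj_iff.1 (IsConj.trans (IsConj.symm hd) hx)
  obtain ⟨p₀, q₀, hpq₀, hset⟩ := Set.ncard_eq_two.1 hm
  have hpart : ∀ x ∈ D, ∃ y ∈ D, y ≠ x ∧ Commute x y ∧ ∀ w ∈ D, Commute x w → w = x ∨ w = y := by
    obtain ⟨e, he, hed, hce, hu⟩ : ∃ e ∈ D, e ≠ d ∧ Commute d e ∧ ∀ w ∈ D, Commute d w → w = d ∨ w = e := by
      have hdm : d ∈ ({p₀, q₀} : Set G) := hset ▸ ⟨hd, Commute.refl d⟩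
      have hall : ∀ w, w ∈ D → Commute d w → w = p₀ ∨ w = q₀ := fun w hw hc =>
        (Set.ext_iff.1 hset w).1 ⟨hw, hc⟩
      rcases hdm with rfl | h
      · obtain ⟨h1, h2⟩ := (Set.ext_iff.1 hset q₀).2 (Or.inr rfl)
        exact ⟨q₀, h1, hpq₀.symm, h2, hall⟩
      · rw [Set.mem_singleton_iff] at h
        subst h
        obtain ⟨h1, h2⟩ := (Set.ext_iff.1 hset p₀).2 (Or.inl rfl)
        exact ⟨p₀, h1, hpq₀, h2, fun w hw hc => (hall w hw hc).symm⟩
    intro x hx
    obtain ⟨g, rfl⟩ := htrans x hx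
    refine ⟨g * e * g⁻¹, hconj g e he, fun h => hed (mul_left_cancel (mul_right_cancel h)), ?_, ?_⟩
    · show g * d * g⁻¹ * (g * e * g⁻¹) = g * e * g⁻¹ * (g * d * g⁻¹)
      simp only [mul_assoc, inv_mul_cancel_left]; rw [← mul_assoc d, hce.eq, mul_assoc]
    · intro w hw hc
      have h1 : Commute d (g⁻¹ * w * g) := by
        have h2 := congrArg (fun t => g⁻¹ * t * g) hc.eq
        show d * (g⁻¹ * w * g) = (g⁻¹ * w * g) * d
        simpa [mul_assoc] using h2
      have h3 : g⁻¹ * w * g ∈ D := by simpa using hconj g⁻¹ w hw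
      rcases hu _ h3 h1 with h | h
      · left; rw [← h]; group
      · right; rw [← h]; group
  choose par hparD hparne hparc hparu using hpart
  have huniq : ∀ x (hx : x ∈ D) y, y ∈ D → y ≠ x → Commute x y → y = par x hx := fun x hx y hy h1 h2 =>
    (hparu x hx y hy h2).resolve_left h1
  have hnc : ∀ x y w, x ∈ D → y ∈ D → w ∈ D → ¬ Commute x y → w ≠ x → Commute x w → ¬ Commute y w := by
    intro x y w hx hy hw hxy hwx hxw hyw
    have h1 := huniq w hw x hx hwx.symm hxw.symm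
    by_cases hyw' : y = w
    · exact hxy (hyw' ▸ hxw)
    · exact hxy ((h1.trans (huniq w hw y hy hyw' hyw.symm).symm) ▸ Commute.refl x)
  have hχ : ∀ x y w, x ∈ D → y ∈ D → w ∈ D → ¬ Commute x y → w ≠ x → Commute x w →
      ∃ χ : Equiv.Perm (Fin 4) →* G, χ (Equiv.swap 0 1) = x ∧ χ (Equiv.swap 1 2) = y ∧
        χ (Equiv.swap 2 3) = w ∧ Function.Injective χ ∧ ∀ σ : Equiv.Perm (Fin 4), σ.IsSwap → χ σ ∈ D := by
    intro x y w hx hy hw hxy hwx hxw
    obtain ⟨χ, h1, h2, h3⟩ := CfsgLib.ThreeTrans.exists_hom_perm_four (CfsgLib.ThreeTrans.mul_self hD hx)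
      (CfsgLib.ThreeTrans.mul_self hD hy) (CfsgLib.ThreeTrans.mul_self hD hw) hxw.eq
      (CfsgLib.ThreeTrans.braid hD hx hy hxy)
      (CfsgLib.ThreeTrans.braid hD hy hw (hnc x y w hx hy hw hxy hwx hxw))
    refine ⟨χ, h1, h2, h3, CfsgLib.ThreeTrans.injective_of_perm_four χ ?_, ?_⟩
    · rw [map_mul, h1, h3]
      intro h
      have := eq_inv_of_mul_eq_one_left h
      rw [CfsgLib.ThreeTrans.inv_eq hD hw] at this
      exact hwx this.symm
    · rintro σ ⟨i, j, hij, rfl⟩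
      obtain ⟨τ, hτ⟩ := isConj_iff.1 (Equiv.Perm.isConj_swap (show (0 : Fin 4) ≠ 1 by decide) hij)
      rw [← hτ, map_mul, map_mul, map_inv, h1]
      exact hconj _ x hx
  have hsame : ∀ x y w, x ∈ D → y ∈ D → w ∈ D → ¬ Commute x y → w ≠ x → Commute x w →
      ∃ y' z z', y' ∈ D ∧ y' ≠ y ∧ Commute y y' ∧ z = y * x * y⁻¹ ∧ z' ∈ D ∧ z' ≠ z ∧ Commute z z' ∧
        (x * w) * (y * y') = z * z' := by
    intro x y w hx hy hw hxy hwx hxw
    obtain ⟨χ, h1, h2, h3, hinj, hsw⟩ := hχ x y w hx hy hw hxy hwx hxw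
    refine ⟨χ (Equiv.swap 0 3), χ (Equiv.swap 0 2), χ (Equiv.swap 1 3), hsw _ ⟨0, 3, by decide, rfl⟩, ?_, ?_, ?_,
      hsw _ ⟨1, 3, by decide, rfl⟩, ?_, ?_, ?_⟩
    · rw [← h2]; exact hinj.ne (by decide +kernel)
    · rw [← h2]; exact (show Commute (Equiv.swap (1 : Fin 4) 2) (Equiv.swap 0 3) by
        unfold Commute SemiconjBy; decide +kernel).map χ
    · rw [← h1, ← h2, ← map_inv, ← map_mul, ← map_mul]; congr 1; decide +kernel
    · exact hinj.ne (by decide +kernel)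
    · exact (show Commute (Equiv.swap (0 : Fin 4) 2) (Equiv.swap 1 3) by
        unfold Commute SemiconjBy; decide +kernel).map χ
    · rw [← h1, ← h2, ← h3, ← map_mul, ← map_mul, ← map_mul, ← map_mul]; congr 1; decide +kernel
  obtain ⟨a₁, ha₁, b₁, hb₁, hab₁⟩ := hD2
  have hex : ∃ a ∈ D, ¬ Commute d a := by
    by_contra hcon
    simp only [not_exists, not_and, not_not] at hcon
    have hz : ∀ g : G, Commute d g := by
      intro g
      have : g ∈ Subgroup.closure D := hgen ▸ Subgroup.mem_top g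
      induction this using Subgroup.closure_induction with
      | mem t ht => exact hcon t ht
      | one => exact Commute.one_right d
      | mul p q _ _ hp hq => exact hp.mul_right hq
      | inv p _ hp => exact hp.inv_right
    obtain ⟨g, hg⟩ := htrans _ (hparD d hd)
    rw [← (hz g).eq, mul_inv_cancel_right] at hg
    exact hparne d hd hg.symm
  obtain ⟨a, ha, hda⟩ := hex
  obtain ⟨χ, hχd, hχa, hχe, hinj, hsw⟩ := hχ d a _ hd ha (hparD d hd) hda (hparne d hd) (hparc d hd)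
  have hswap_comm : ∀ σ : Equiv.Perm (Fin 4), σ.IsSwap → ∀ w ∈ D, Commute (χ σ) w →
      ∃ τ : Equiv.Perm (Fin 4), τ.IsSwap ∧ w = χ τ := by
    intro σ hσ w hw hc
    by_cases hwσ : w = χ σ
    · exact ⟨σ, hσ, hwσ⟩
    obtain ⟨i, j, hij, rfl⟩ := hσ
    obtain ⟨k, l, hkl, hc', hne'⟩ : ∃ k l : Fin 4, k ≠ l ∧
        Equiv.swap i j * Equiv.swap k l = Equiv.swap k l * Equiv.swap i j ∧ Equiv.swap k l ≠ Equiv.swap i j := by
      exact (by decide +kernel : ∀ i j : Fin 4, i ≠ j → ∃ k l : Fin 4, k ≠ l ∧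
        Equiv.swap i j * Equiv.swap k l = Equiv.swap k l * Equiv.swap i j ∧
          Equiv.swap k l ≠ Equiv.swap i j) i j hij
    refine ⟨Equiv.swap k l, ⟨k, l, hkl, rfl⟩, ?_⟩
    have hm1 := hsw _ ⟨i, j, hij, rfl⟩
    rw [huniq _ hm1 w hw hwσ hc, huniq _ hm1 _ (hsw _ ⟨k, l, hkl, rfl⟩) (hinj.ne hne')
      ((show Commute (Equiv.swap i j) (Equiv.swap k l) from hc').map χ)]
  have hall : ∀ g ∈ D, ∃ τ : Equiv.Perm (Fin 4), τ.IsSwap ∧ g = χ τ := by
    intro g hg
    by_contra hout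
    have h01 : (Equiv.swap (0 : Fin 4) 1).IsSwap := ⟨0, 1, by decide, rfl⟩
    have h12 : (Equiv.swap (1 : Fin 4) 2).IsSwap := ⟨1, 2, by decide, rfl⟩
    have hdg : ¬ Commute d g := fun h => hout (hswap_comm _ h01 g hg (hχd.symm ▸ h))
    have hag : ¬ Commute a g := fun h => hout (hswap_comm _ h12 g hg (hχa.symm ▸ h))
    have hdad : ¬ Commute (d * a * d⁻¹) g := fun h => hout (hswap_comm (Equiv.swap 0 2) ⟨0, 2, by decide, rfl⟩ g hg
      (by
        have : d * a * d⁻¹ = χ (Equiv.swap 0 2) := by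
          rw [← hχd, ← hχa, ← map_inv, ← map_mul, ← map_mul]; congr 1; decide +kernel
        rwa [this] at h))
    have hdgd : ¬ Commute a (d * g * d⁻¹) := by
      intro h
      obtain ⟨τ, hτ, hτe⟩ := hswap_comm _ h12 _ (hconj d g hg) (hχa.symm ▸ h)
      apply hout
      obtain ⟨i, j, hij, rfl⟩ := hτ
      refine ⟨Equiv.swap 0 1 * Equiv.swap i j * (Equiv.swap 0 1)⁻¹, ?_, ?_⟩
      · exact ⟨_, _, fun e => hij ((Equiv.swap (0 : Fin 4) 1).injective e),
          (Equiv.swap_apply_apply (Equiv.swap (0 : Fin 4) 1) i j).symm⟩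
      · rw [map_mul, map_mul, map_inv, hχd, ← hτe, CfsgLib.ThreeTrans.inv_eq hD hd]
        simp only [mul_assoc, CfsgLib.ThreeTrans.mul_self_assoc hD hd, CfsgLib.ThreeTrans.mul_self hD hd, mul_one]
    obtain ⟨φ, e, e00, e10, e01⟩ := CfsgLib.ThreeTrans.exists_affine hD hconj ⟨d, hd⟩ ⟨a, ha⟩ ⟨g, hg⟩
      hda hdg hag hdad hdgd
    let u : CfsgLib.ThreeTrans.AffPt → G := fun v => (φ v : G) * par (φ v) (φ v).2
    have hline : ∀ p q r : CfsgLib.ThreeTrans.AffPt, p ≠ q → -p - q = r → u p * u q = u r := by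
      rintro p q r hpq rfl
      have hl := e.map _ ((CfsgLib.ThreeTrans.affine_lineRule.mem _).2 ⟨p, q, hpq, rfl⟩)
      obtain ⟨hcm, hle⟩ := (CfsgLib.ThreeTrans.lineRule hD hconj).pair hl ⟨p, by simp, rfl⟩ ⟨q, by simp, rfl⟩
        (fun h => hpq (e.inj h))
      have hmem : φ (-p - q) ∈ φ '' ({p, q, -p - q} : Set CfsgLib.ThreeTrans.AffPt) := ⟨_, by simp, rfl⟩
      rw [hle] at hmem
      have hr : φ (-p - q) = CfsgLib.ThreeTrans.thirdPoint hconj (φ p) (φ q) := by
        rcases hmem with h | h | h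
        · exact absurd (e.inj h) ((CfsgLib.ThreeTrans.affine_lineRule.ne p q hpq).2.1)
        · exact absurd (e.inj h) ((CfsgLib.ThreeTrans.affine_lineRule.ne p q hpq).2.2)
        · exact h
      obtain ⟨y', z, z', hy', hy'ne, hy'c, hz, hz', hz'ne, hz'c, hprod⟩ := hsame (φ p) (φ q) _ (φ p).2 (φ q).2
        (hparD _ (φ p).2) hcm (hparne _ _) (hparc _ _)
      have hzr : z = (φ (-p - q) : G) := by rw [hz, hr]; rfl
      subst hzr
      rw [huniq _ (φ q).2 y' hy' hy'ne hy'c, huniq _ (φ (-p - q)).2 z' hz' hz'ne hz'c] at hprod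
      exact hprod
    have husq : ∀ p, u p * u p = 1 := by
      intro p
      show (φ p : G) * _ * ((φ p : G) * _) = 1
      rw [mul_assoc, ← mul_assoc (par _ _), ← (hparc _ (φ p).2).eq, mul_assoc, CfsgLib.ThreeTrans.mul_self hD
        (hparD _ (φ p).2), mul_one, CfsgLib.ThreeTrans.mul_self hD (φ p).2]
    have hcomm : ∀ p q, p ≠ q → u p * u q = u q * u p := by
      intro p q hpq
      rw [hline p q _ hpq rfl, hline q p _ hpq.symm rfl, show -q - p = -p - q by abel]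
    have k20 := hline ![0, 0] ![1, 0] ![2, 0] (by decide) (by decide)
    have k02 := hline ![0, 0] ![0, 1] ![0, 2] (by decide) (by decide)
    have k22 := hline ![1, 0] ![0, 1] ![2, 2] (by decide) (by decide)
    have k11 := hline ![2, 0] ![0, 2] ![1, 1] (by decide) (by decide)
    have k00 := hline ![1, 1] ![2, 2] ![0, 0] (by decide) (by decide)
    have h11 : u ![1, 1] = u ![1, 0] * u ![0, 1] := by
      rw [← k11, ← k20, ← k02, hcomm ![0, 0] ![1, 0] (by decide), mul_assoc, ← mul_assoc (u ![0, 0]), husq, one_mul]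
    rw [h11, k22, husq] at k00
    have hz0 : u ![0, 0] = 1 := k00.symm
    have := eq_inv_of_mul_eq_one_left hz0
    rw [CfsgLib.ThreeTrans.inv_eq hD (hparD _ (φ ![0, 0]).2)] at this
    exact hparne _ (φ ![0, 0]).2 this.symm
  have hsurj : χ.range = ⊤ := by
    rw [eq_top_iff, ← hgen, Subgroup.closure_le]
    intro g hg
    obtain ⟨τ, -, rfl⟩ := hall g hg
    exact ⟨τ, rfl⟩
  exact ⟨(MulEquiv.ofBijective χ ⟨hinj, MonoidHom.range_eq_top.1 hsurj⟩).symm⟩

end Cfsg.Agent.S5355
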