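import Cfsg.Statements.S5358
-- import your own Cfsg.Agent.* helpers here

set_option autoImplicit false
open scoped MatrixGroups
open Cfsg

namespace Cfsg.Agent.S5358

/-- Let Q be a non-degenerate quadratic form on the n-dimensional coordinate space over the field with three elements and u, v vectors of the same non-zero norm Q(u) = Q(v) spanning different lines (v ≠ u and v ≠ −u). Then the reflection matrices of u and v commute if and only if u and v are orthogonal for the polar form of Q. -/
theorem result (n : ℕ) (Q : QuadraticForm (ZMod 3) (Fin n → ZMod 3)) (hQ : (QuadraticMap.polarBilin Q).Nondegenerate) (u v : Fin n → ZMod 3) (hu : Q u ≠ 0) (huv : Q u = Q v) (h1 : v ≠ u) (h2 : v ≠ -u) : Commute (Cfsg.reflectionMatrix (⇑Q) u) (Cfsg.reflectionMatrix (⇑Q) v) ↔ QuadraticMap.polar (⇑Q) u v = 0 := by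
  have h2neg := h2
  have hpv : ∀ x y : Fin n → ZMod 3, polarVec (⇑Q) x ⬝ᵥ y = QuadraticMap.polar (⇑Q) x y := by
    intro x y
    rw [← QuadraticMap.polarBilin_apply_apply]
    conv_rhs => rw [pi_eq_sum_univ' y]
    rw [map_sum]
    refine Finset.sum_congr rfl fun i _ => ?_
    rw [map_smul, smul_eq_mul, mul_comm (y i)]
    rfl
  have hpuu : QuadraticMap.polar (⇑Q) u u = 2 * Q u := by
    rw [QuadraticMap.polar_self]; simp [two_smul, two_mul]
  set β := QuadraticMap.polar (⇑Q) u v with hβ
  have hβ' : QuadraticMap.polar (⇑Q) v u = β := QuadraticMap.polar_comm _ _ _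
  set c := (Q u)⁻¹ with hc
  have hc0 : c ≠ 0 := inv_ne_zero hu
  set P := Matrix.vecMulVec u (polarVec (⇑Q) u) with hP
  set R := Matrix.vecMulVec v (polarVec (⇑Q) v) with hR
  have hPR : P * R = β • Matrix.vecMulVec u (polarVec (⇑Q) v) := by
    rw [hP, hR, Matrix.vecMulVec_mul_vecMulVec, hpv]; ext i j; simp [Matrix.vecMulVec_apply]; ring
  have hRP : R * P = β • Matrix.vecMulVec v (polarVec (⇑Q) u) := by
    rw [hP, hR, Matrix.vecMulVec_mul_vecMulVec, hpv, hβ']; ext i j; simp [Matrix.vecMulVec_apply]; ring
  have hexp : reflectionMatrix (⇑Q) u * reflectionMatrix (⇑Q) v -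
      reflectionMatrix (⇑Q) v * reflectionMatrix (⇑Q) u = (c * c) • (P * R - R * P) := by
    simp only [reflectionMatrix, ← huv, ← hc, ← hP, ← hR, sub_mul, mul_sub, one_mul, mul_one, smul_mul_assoc,
      mul_smul_comm, smul_smul, smul_sub]
    abel
  rw [Commute, SemiconjBy, ← sub_eq_zero, hexp, smul_eq_zero, or_iff_right (mul_ne_zero hc0 hc0),
    hPR, hRP, ← smul_sub, smul_eq_zero]
  constructor
  · rintro (h | h)
    · exact h
    · exfalso
      have hmv : ∀ i, u i * β = v i * (2 * Q u) := by
        intro i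
        have := congrArg (fun M => Matrix.mulVec M u i) (sub_eq_zero.1 h)
        simpa [Matrix.vecMulVec_mulVec, hpv, hβ', hpuu, MulOpposite.op_mul, mul_comm] using this
      have h2 : (2 * Q u : ZMod 3) ≠ 0 := mul_ne_zero (by decide) hu
      set lam := (2 * Q u)⁻¹ * β with hlam
      have hv : v = lam • u := by
        funext i
        rw [Pi.smul_apply, smul_eq_mul, hlam, mul_assoc, mul_comm β (u i), hmv i, mul_comm (v i),
          ← mul_assoc, inv_mul_cancel₀ h2, one_mul]
      have hsq : lam * lam = 1 := by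
        have := huv
        rw [hv, QuadraticMap.map_smul, smul_eq_mul] at this
        exact mul_right_cancel₀ hu (by rw [← this, one_mul])
      rcases mul_self_eq_one_iff.1 hsq with h3 | h3
      · exact h1 (by rw [hv, h3, one_smul])
      · exact h2neg (by rw [hv, h3]; simp)
  · exact fun h => Or.inl h

end Cfsg.Agent.S5358
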