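import Cfsg.Statements.S5363
import Cfsg.Agent.Lib.ThreeTrans.Dihedral
-- import your own Cfsg.Agent.* helpers here

set_option autoImplicit false
open Cfsg

namespace Cfsg.Agent.S5363

/-- Let D be a conjugation-invariant set of involutions of a finite group G. Then every product of two members of D has odd order or order 2 if and only if, for every a in D and every b in D different from a and commuting with a, the members of D commuting with a b are exactly those commuting with both a and b. -/
theorem result {G : Type*} [Group G] [Finite G] {D : Set G} (hinv : ∀ d ∈ D, orderOf d = 2) (hconj : ∀ g : G, ∀ d ∈ D, g * d * g⁻¹ ∈ D) : (∀ a ∈ D, ∀ b ∈ D, Odd (orderOf (a * b)) ∨ orderOf (a * b) = 2) ↔ ∀ a ∈ D, ∀ b ∈ D, b ≠ a → Commute a b → {y : G | y ∈ D ∧ Commute (a * b) y} = {y : G | y ∈ D ∧ Commute a y} ∩ {y : G | y ∈ D ∧ Commute b y} := by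
  have hi : ∀ d ∈ D, d⁻¹ = d := fun d hd => CfsgLib.ThreeTrans.inv_of_orderOf_two (hinv d hd)
  have hs : ∀ d ∈ D, d * d = 1 := fun d hd => CfsgLib.ThreeTrans.mul_self_of_orderOf_two (hinv d hd)
  constructor
  · intro h a ha b hb hne hab
    have hz : orderOf (a * b) = 2 := by
      haveI : Fact (Nat.Prime 2) := ⟨Nat.prime_two⟩
      refine orderOf_eq_prime ?_ fun h1 => hne ?_
      · rw [hab.mul_pow, pow_two, pow_two, hs a ha, hs b hb, one_mul]
      · rw [← hi a ha]; exact eq_inv_of_mul_eq_one_right h1
    ext y
    simp only [Set.mem_inter_iff, Set.mem_setOf_eq]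
    refine ⟨fun ⟨hy, hyz⟩ => ?_, fun ⟨⟨hy, h1⟩, _, h2⟩ => ⟨hy, h1.mul_left h2⟩⟩
    by_cases hay : Commute a y
    · refine ⟨⟨hy, hay⟩, hy, ?_⟩
      have := hay.mul_left hyz
      rwa [← mul_assoc, hs a ha, one_mul] at this
    · exfalso
      have hodd : Odd (orderOf (a * y)) := (h a ha y hy).resolve_right fun h2 => hay (
        CfsgLib.ThreeTrans.commute_of_orderOf_mul_le_two (hi a ha) (hi y hy) (h2 ▸ pow_orderOf_eq_one _))
      have hc : Commute (a * b) (a * y) := Commute.mul_right ((Commute.refl a).mul_left hab.symm) hyz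
      have heq : (a * b) * (a * y) = b * y := by
        calc a * b * (a * y) = a * (b * a) * y := by group
          _ = a * (a * b) * y := by rw [hab.eq]
          _ = b * y := by rw [← mul_assoc a a b, hs a ha, one_mul]
      have hco : (orderOf (a * b)).Coprime (orderOf (a * y)) := by
        rw [hz]; exact Nat.coprime_two_left.2 hodd
      have h2 := hc.orderOf_mul_eq_mul_orderOf_of_coprime hco
      rw [heq, hz] at h2
      rcases h b hb y hy with h3 | h3
      · exact (Nat.not_odd_iff_even.2 (even_two_mul _)) (h2 ▸ h3)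
      · have h4 : orderOf (a * y) = 1 := by omega
        rw [orderOf_eq_one_iff] at h4
        apply hay
        rw [eq_inv_of_mul_eq_one_left h4, hi y hy]
  · intro h a ha b hb
    rcases Nat.even_or_odd (orderOf (a * b)) with he | ho
    swap
    · exact Or.inl ho
    right
    obtain ⟨m, hm⟩ := he
    have hpos := orderOf_pos (a * b)
    by_contra hne2
    set z := (a * b) ^ m with hz
    have hzz : z⁻¹ = z := inv_eq_of_mul_eq_one_right (by rw [hz, ← pow_add, ← hm, pow_orderOf_eq_one])
    have hz1 : z ≠ 1 := fun h1 => by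
      have := orderOf_le_of_pow_eq_one (show 0 < m by omega) h1
      omega
    have haz : Commute a z := by
      show a * z = z * a
      rw [hz, CfsgLib.ThreeTrans.left_mul_pow_mul (hi a ha) (hi b hb), ← hz, hzz]
    have hbz : Commute b z := by
      have : Commute (a * (a * b)) z := haz.mul_left ((Commute.refl (a * b)).pow_right m)
      rwa [← mul_assoc, hs a ha, one_mul] at this
    have hmem : a * z ∈ D := by
      rcases Nat.even_or_odd m with ⟨k, hk⟩ | ⟨k, hk⟩
      · have := hconj ((a * b) ^ k)⁻¹ a ha
        rw [inv_inv, CfsgLib.ThreeTrans.conj_pow_first (hi a ha) (hi b hb), two_mul, ← hk] at this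
        exact this
      · have := hconj ((a * b) ^ k)⁻¹ b hb
        rw [inv_inv, CfsgLib.ThreeTrans.conj_pow_second (hi a ha) (hi b hb)] at this
        convert this using 1
        rw [hz, hk, _root_.pow_succ', ← mul_assoc a, ← mul_assoc a a b, hs a ha, one_mul]
    have hne : a * z ≠ a := fun h1 => hz1 (mul_eq_left.1 h1)
    have hca : Commute a (a * z) := (Commute.refl a).mul_right haz
    have := Set.ext_iff.1 (h a ha (a * z) hmem hne hca) b
    simp only [Set.mem_inter_iff, Set.mem_setOf_eq] at this
    have hab : Commute a b := (this.1 ⟨hb, by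
      rw [← mul_assoc, hs a ha, one_mul]; exact hbz.symm⟩).1.2
    have h2 : (a * b) ^ 2 = 1 := by rw [hab.mul_pow, pow_two, pow_two, hs a ha, hs b hb, one_mul]
    have := orderOf_le_of_pow_eq_one (by norm_num) h2
    omega

end Cfsg.Agent.S5363
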