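import Cfsg.Statements.S5364
import Cfsg.Agent.Lib.ThreeTrans.LargeSetting
import Cfsg.Agent.Lib.ThreeTrans.Dihedral
-- import your own Cfsg.Agent.* helpers here

set_option autoImplicit false
open Cfsg

namespace Cfsg.Agent.S5364

/-- Let D be a conjugation-invariant set of involutions of a finite group G and t an involution in the centre of G such that d t does not lie in D for any d in D. If the images of the members of D in G modulo the subgroup generated by t satisfy the 3-transposition order conditions (each has order 2 and any two have product of order at most 3), then so do the members of D. -/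
theorem result {G : Type*} [Group G] [Finite G] {D : Set G} (hinv : ∀ d ∈ D, orderOf d = 2) (hconj : ∀ g : G, ∀ d ∈ D, g * d * g⁻¹ ∈ D) (t : G) (ht : orderOf t = 2) (htZ : t ∈ Subgroup.center G) (hDt : ∀ d ∈ D, d * t ∉ D) [(Subgroup.zpowers t).Normal] (himg : Cfsg.IsThreeTranspositionSet ((QuotientGroup.mk : G → G ⧸ Subgroup.zpowers t) '' D)) : Cfsg.IsThreeTranspositionSet D := by
  refine ⟨hinv, fun a ha b hb => ?_⟩
  have hi : ∀ d ∈ D, d⁻¹ = d := fun d hd => CfsgLib.ThreeTrans.inv_of_orderOf_two (hinv d hd)
  have key : ∀ n : ℕ, ((QuotientGroup.mk a : G ⧸ Subgroup.zpowers t) * QuotientGroup.mk b) ^ n = 1 →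
      (a * b) ^ n = 1 ∨ (a * b) ^ n = t := by
    intro n hn
    rw [← QuotientGroup.mk_mul, ← QuotientGroup.mk_pow, QuotientGroup.eq_one_iff] at hn
    exact CfsgLib.ThreeTrans.mem_zpowers_of_order_two ht hn
  rcases himg.2 _ ⟨a, ha, rfl⟩ _ ⟨b, hb, rfl⟩ with h | h
  · rcases key 2 h with h1 | h1
    · exact Or.inl h1
    · exfalso
      apply hDt a ha
      have h2 : a * t = b * a * b⁻¹ := by
        rw [← h1, pow_two, hi b hb]
        simp only [← mul_assoc, CfsgLib.ThreeTrans.mul_self_of_orderOf_two (hinv a ha), one_mul]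
      rw [h2]; exact hconj b a ha
  · rcases key 3 h with h1 | h1
    · exact Or.inr h1
    · exfalso
      apply hDt a ha
      have h2 : a * t = b * (a * b * a⁻¹) * b⁻¹ := by
        rw [← h1, _root_.pow_succ, pow_two, hi b hb, hi a ha]
        simp only [← mul_assoc, CfsgLib.ThreeTrans.mul_self_of_orderOf_two (hinv a ha), one_mul]
      rw [h2]; exact hconj b _ (hconj a b hb)

end Cfsg.Agent.S5364
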