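import Cfsg.Statements.S5366
import Cfsg.Agent.Lib.ThreeTrans.LineSystems
-- import your own Cfsg.Agent.* helpers here

set_option autoImplicit false
open Cfsg

namespace Cfsg.Agent.S5366

/-- Let L be a nondegenerate Fischer space on the point type X (every point on a line). Then for every point x the map t(x) — sending a point collinear with x to the third point of their common line and fixing every other point — is a permutation of X of order 2 and an automorphism of the line system; and the set of all t(x) satisfies the 3-transposition order conditions in the permutation group of X (any two have product of order at most 3). -/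
theorem result {X : Type*} (L : Set (Set X)) (hL : Cfsg.IsFischerSpace L) (hnd : Cfsg.LineSystem.IsNondegenerate L) : (∀ x : X, ∃ σ : Equiv.Perm X, ⇑σ = Cfsg.LineSystem.lineMap L x ∧ orderOf σ = 2 ∧ Cfsg.LineSystem.IsIso L L σ) ∧ Cfsg.IsThreeTranspositionSet {σ : Equiv.Perm X | ∃ x : X, ⇑σ = Cfsg.LineSystem.lineMap L x} := by
  have h3 : CfsgLib.ThreeTrans.ThreeLines L := ⟨hL.1, hL.2.1⟩
  let t : X → Equiv.Perm X := fun x => (h3.lineMap_involutive x).toPerm _
  have ht : ∀ x, ⇑(t x) = LineSystem.lineMap L x := fun x => rfl
  have hsq : ∀ x, t x * t x = 1 := fun x => Equiv.ext fun y => h3.lineMap_involutive x y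
  have hord : ∀ x, orderOf (t x) = 2 := by
    intro x
    refine orderOf_eq_prime (by rw [pow_two, hsq]) fun h => ?_
    obtain ⟨l, hl, hxl⟩ := hnd x
    obtain ⟨u, hu, v, hv, huv⟩ := h3.two hl
    obtain ⟨y, hy, hyx⟩ : ∃ y ∈ l, y ≠ x := by
      by_cases hux : u = x
      · exact ⟨v, hv, fun e => huv (hux.trans e.symm)⟩
      · exact ⟨u, hu, hux⟩
    obtain ⟨z, hzx, hzy, rfl⟩ := h3.third hl hxl hy hyx.symm
    have : t x y = z := h3.lineMap_of_line hl hyx.symm hzx hzy
    rw [h] at this
    exact hzy this.symm
  have hiso : ∀ x, LineSystem.IsIso L L (t x) := by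
    refine fun x l => ⟨fun hl => CfsgLib.ThreeTrans.fischer_image_lineMap hL hl x, fun hl => ?_⟩
    have := CfsgLib.ThreeTrans.fischer_image_lineMap hL hl x
    rw [ht, Set.image_image] at this
    simpa only [h3.lineMap_involutive x _, Set.image_id'] using this
  have hconj : ∀ x y, t x * t y * t x = t (t x y) := by
    intro x y
    ext w
    show LineSystem.lineMap L x (LineSystem.lineMap L y (LineSystem.lineMap L x w)) =
      LineSystem.lineMap L (LineSystem.lineMap L x y) w
    have inv := h3.lineMap_involutive x
    set f := LineSystem.lineMap L x with hf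
    rcases h3.lineMap_cases y (f w) with ⟨e, hn⟩ | ⟨z, h1, h2, h4, h5, e⟩
    · rw [e, inv w]
      refine (CfsgLib.ThreeTrans.lineMap_of_not_collinear fun l hl hy hw => ?_).symm
      have := hn _ (CfsgLib.ThreeTrans.fischer_image_lineMap hL hl x) ⟨_, hy, inv y⟩ ⟨_, hw, rfl⟩
      rw [this, inv w]
    · rw [e]
      have himg := CfsgLib.ThreeTrans.fischer_image_lineMap hL h5 x
      rw [← hf, Set.image_insert_eq, Set.image_insert_eq, Set.image_singleton, inv w] at himg
      refine (h3.lineMap_of_line himg ?_ ?_ ?_).symm
      · exact fun h => h4 (by rw [← h, inv y])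
      · exact fun h => h1 (inv.injective h)
      · exact fun h => h2 (by rw [← h, inv z])
  refine ⟨fun x => ⟨t x, ht x, hord x, hiso x⟩, ?_, ?_⟩
  · rintro σ ⟨x, hx⟩
    rw [show σ = t x from Equiv.ext fun y => congrFun hx y]
    exact hord x
  · rintro σ ⟨x, hx⟩ τ ⟨y, hy⟩
    rw [show σ = t x from Equiv.ext fun y => congrFun hx y, show τ = t y from Equiv.ext fun w => congrFun hy w]
    rcases h3.lineMap_cases x y with ⟨e, -⟩ | ⟨z, h1, h2, h4, h5, e⟩
    · left
      rw [pow_two, ← mul_assoc, hconj, show t x y = y from e, hsq]
    · right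
      have e1 := hconj x y
      have e2 := hconj y x
      have ex : t y x = z := h3.lineMap_of_line
        (by rwa [show ({y, x, z} : Set X) = {x, y, z} from by ext; simp <;> tauto]) h4.symm h2 h1
      rw [show t x y = z from e] at e1
      rw [ex] at e2
      calc (t x * t y) ^ 3 = (t x * t y * t x) * (t y * t x * t y) := by
            rw [_root_.pow_succ, pow_two]; simp only [mul_assoc]
        _ = 1 := by rw [e1, e2, hsq]

end Cfsg.Agent.S5366
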