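import Cfsg.Statements.S5381
import Cfsg.Agent.Lib.Recog.CoOneThree.Perfect
import Cfsg.Agent.Lib.ThreeTrans.LargeGeneration

set_option autoImplicit false
open Cfsg

namespace Cfsg.Agent.S5381

/-- Let G be a finite group of Conway type (involution z with generalized Fitting subgroup Q of its centralizer C extraspecial of order 2^9, C/Q the commutator subgroup of the isometry group of the hyperbolic quadratic form in dimension 8 over the field with two elements, z not weakly closed in Q), and let X be a subgroup of C of order 3 whose commutator subgroup with Q is non-abelian of order 8, contained in an elementary abelian subgroup Y of C of order 9 whose centralizer in Q is extraspecial of order 32 containing an elementary abelian subgroup of order 8. Then the centralizer of X in G is quasisimple and its quotient by X is isomorphic to the presented sporadic Suzuki group. -/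
theorem result {G : Type*} [Group G] [Finite G] (z : G) (hz : orderOf z = 2) (Q : Subgroup (Subgroup.centralizer ({z} : Set G))) [Q.Normal] (hF : Cfsg.generalizedFittingSubgroup (Subgroup.centralizer ({z} : Set G)) = Q) (hQ : Cfsg.IsExtraspecial 2 Q) (hcard : Nat.card Q = 2 ^ 9) (e : (Subgroup.centralizer ({z} : Set G)) ⧸ Q ≃* Cfsg.Omega (ZMod 2) (Cfsg.quadFormPlus 4 (ZMod 2))) (hnwc : ∃ g : G, (∃ hq : g * z * g⁻¹ ∈ Subgroup.centralizer ({z} : Set G), (⟨g * z * g⁻¹, hq⟩ : Subgroup.centralizer ({z} : Set G)) ∈ Q) ∧ g * z * g⁻¹ ≠ z) (X : Subgroup (Subgroup.centralizer ({z} : Set G))) (hX : Nat.card X = 3) (hQX : Nat.card ↥⁅Q, X⁆ = 8) (hQXna : ¬ IsMulCommutative ↥⁅Q, X⁆) (Y₉ : Subgroup (Subgroup.centralizer ({z} : Set G))) (hXY : X ≤ Y₉) (hY₉ : Nat.card Y₉ = 9) (hY₉e : ∀ y ∈ Y₉, y ^ 3 = 1) (hCQ₉ : Cfsg.IsExtraspecial 2 ↥(Q ⊓ Subgroup.centralizer (Y₉ : Set (Subgroup.centralizer ({z} : Set G))))) (hCQ₉c : Nat.card ↥(Q ⊓ Subgroup.centralizer (Y₉ : Set (Subgroup.centralizer ({z} : Set G))))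 = 32) (hCQ₉p : ∃ A : Subgroup (Subgroup.centralizer ({z} : Set G)), A ≤ Q ⊓ Subgroup.centralizer (Y₉ : Set (Subgroup.centralizer ({z} : Set G))) ∧ Cfsg.IsElementaryAbelian 2 A ∧ Nat.card A = 8) [((X.map (Subgroup.subtype (Subgroup.centralizer ({z} : Set G)))).subgroupOf (Subgroup.centralizer ((X.map (Subgroup.subtype (Subgroup.centralizer ({z} : Set G)))) : Set G))).Normal] : Cfsg.IsQuasisimple ↥(Subgroup.centralizer ((X.map (Subgroup.subtype (Subgroup.centralizer ({z} : Set G)))) : Set G)) ∧ Cfsg.Spor.IsoSuz (↥(Subgroup.centralizer ((X.map (Subgroup.subtype (Subgroup.centralizer ({z} : Set G)))) : Set G)) ⧸ (X.map (Subgroup.subtype (Subgroup.centralizer ({z} : Set G)))).subgroupOf (Subgroup.centralizer ((X.map (Subgroup.subtype (Subgroup.centralizer ({z} : Set G)))) : Set G))) := by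
  classical
  haveI : Fact (Nat.Prime 2) := ⟨Nat.prime_two⟩
  haveI : Fact (Nat.Prime 3) := ⟨Nat.prime_three⟩
  obtain ⟨g, ⟨hq, hgQ⟩, hgz⟩ := hnwc
  set Q0 : Subgroup G := Q.map (Subgroup.centralizer ({z} : Set G)).subtype with hQ0
  have eQ : Q ≃* Q0 := Subgroup.equivMapOfInjective Q (Subgroup.centralizer ({z} : Set G)).subtype (Subgroup.centralizer ({z} : Set G)).subtype_injective
  have hH : CfsgLib.Recog.CoOneType.Hyp z Q0 := by
    refine ⟨CfsgLib.ThreeTrans.LargeGeneration.largeData_of_gFitting hz (Subgroup.map_subtype_le Q) (by rw [hF])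
      (CfsgLib.ThreeTrans.isExtraspecial_congr hQ eQ), by rw [← Nat.card_congr eQ.toEquiv, hcard]; norm_num, ?_⟩
    rw [Subgroup.card_eq_card_quotient_mul_card_subgroup Q, hcard, Nat.card_congr e.toEquiv,
      CfsgLib.Recog.CoOneType.card_omega_eight, mul_comm]
  obtain ⟨v, hv⟩ : ∃ v : X, v ≠ 1 := by
    haveI : Nontrivial X := Finite.one_lt_card_iff_nontrivial.1 (by omega)
    exact exists_ne 1
  have hv3 : orderOf v = 3 := orderOf_eq_prime (by rw [← hX]; exact pow_card_eq_one') hv
  set x : G := ((v : Subgroup.centralizer ({z} : Set G)) : G) with hx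
  have hx3 : x * x * x = 1 := by
    have h3 : v ^ 3 = 1 := by rw [← hv3]; exact pow_orderOf_eq_one v
    rw [pow_succ, pow_two] at h3
    exact congrArg (fun t : X => ((t : Subgroup.centralizer ({z} : Set G)) : G)) h3
  have hx1 : x ≠ 1 := fun h => hv (Subtype.ext (Subtype.ext h))
  have hxz : Commute x z := Subgroup.mem_centralizer_singleton_iff.1 (v : Subgroup.centralizer ({z} : Set G)).2
  have hXg : X.map (Subgroup.centralizer ({z} : Set G)).subtype = Subgroup.zpowers x := by
    rw [hx, ← Subgroup.coe_subtype, ← MonoidHom.map_zpowers]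
    refine congrArg _ (Subgroup.eq_of_le_of_card_ge (Subgroup.zpowers_le.2 v.2) ?_).symm
    rw [Nat.card_zpowers, Subgroup.orderOf_coe, hv3, hX]
  obtain ⟨p, k, S⟩ := CfsgLib.Recog.CoOneThree.exists_std hH ⟨g, ⟨_, hgQ, rfl⟩, hgz⟩ hx3 hx1 hxz
    (⁅Q, X⁆.map (Subgroup.centralizer ({z} : Set G)).subtype)
    (Subgroup.map_mono (Subgroup.commutator_le_left Q X))
    (by rw [Subgroup.card_map_of_injective (Subgroup.subtype_injective _), hQX])
    (fun q hq => by
      obtain ⟨q', hq', rfl⟩ := Subgroup.mem_map.1 hq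
      exact Subgroup.mem_map.2 ⟨_, Subgroup.commutator_mem_commutator hq' v.2, rfl⟩)
  set Xg : Subgroup G := X.map (Subgroup.centralizer ({z} : Set G)).subtype with hXgdef
  have hCX : Subgroup.centralizer (Xg : Set G) = Subgroup.centralizer ({x} : Set G) := by
    rw [hXg]
    ext c
    rw [CfsgLib.ThreeTrans.mem_centralizer_singleton_iff', Subgroup.mem_centralizer_iff]
    refine ⟨fun h => (h x (Subgroup.mem_zpowers x)).symm, fun h t ht => ?_⟩
    obtain ⟨j, rfl⟩ := Subgroup.mem_zpowers_iff.1 ht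
    exact ((show Commute c x from h).zpow_right j).eq.symm
  let π := (QuotientGroup.mk' (Xg.subgroupOf (Subgroup.centralizer (Xg : Set G)))).comp (Subgroup.inclusion hCX.ge)
  have hsurj : Function.Surjective π := by
    intro t
    induction t using QuotientGroup.induction_on with | _ c => exact ⟨⟨c, hCX ▸ c.2⟩, rfl⟩
  have hker : ∀ c, π c = 1 ↔ (c : G) ∈ Subgroup.zpowers x := fun c => by
    rw [← hXg]
    exact (QuotientGroup.eq_one_iff (Subgroup.inclusion hCX.ge c)).trans Subgroup.mem_subgroupOf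
  obtain ⟨hiso, hqs⟩ := CfsgLib.Recog.CoOneThree.main S π hsurj hker
  exact ⟨by rw [hCX]; exact hqs, hiso⟩

end Cfsg.Agent.S5381
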