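import Cfsg.Statements.S5385
import Cfsg.Agent.Lib.Recog.CoOneFive.Second
import Cfsg.Agent.Lib.ThreeTrans.LargeGeneration
-- import your own Cfsg.Agent.* helpers here

set_option autoImplicit false
open Cfsg

namespace Cfsg.Agent.S5385

/-- Let G be a finite group of Conway type (involution z with generalized Fitting subgroup Q of its centralizer C extraspecial of order 2^9, C/Q the commutator subgroup of the isometry group of the hyperbolic quadratic form in dimension 8 over the field with two elements, z not weakly closed in Q), and let B be a subgroup of C of order 5 such that the centralizer of B in Q is extraspecial of order 32 containing no elementary abelian subgroup of order 8 (the quaternion-times-dihedral type). Then the layer L of the centralizer of B in G is isomorphic to the Hall–Janko group and the centralizer of L is isomorphic to the alternating group of degree 5. -/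
theorem result {G : Type*} [Group G] [Finite G] (z : G) (hz : orderOf z = 2) (Q : Subgroup (Subgroup.centralizer ({z} : Set G))) [Q.Normal] (hF : Cfsg.generalizedFittingSubgroup (Subgroup.centralizer ({z} : Set G)) = Q) (hQ : Cfsg.IsExtraspecial 2 Q) (hcard : Nat.card Q = 2 ^ 9) (e : (Subgroup.centralizer ({z} : Set G)) ⧸ Q ≃* Cfsg.Omega (ZMod 2) (Cfsg.quadFormPlus 4 (ZMod 2))) (hnwc : ∃ g : G, (∃ hq : g * z * g⁻¹ ∈ Subgroup.centralizer ({z} : Set G), (⟨g * z * g⁻¹, hq⟩ : Subgroup.centralizer ({z} : Set G)) ∈ Q) ∧ g * z * g⁻¹ ≠ z) (B : Subgroup (Subgroup.centralizer ({z} : Set G))) (hB : Nat.card B = 5) (hCQ : Cfsg.IsExtraspecial 2 ↥(Q ⊓ Subgroup.centralizer (B : Set (Subgroup.centralizer ({z} : Set G))))) (hCQcard : Nat.card ↥(Q ⊓ Subgroup.centralizer (B : Set (Subgroup.centralizer ({z} : Set G)))) = 32) (hminus : ∀ A : Subgroup (Subgroup.centralizer ({z} : Set G)), A ≤ Q ⊓ Subgroup.centralizer (B : Set (Subgroup.centralizer ({z} : Set G))) → Cfsg.IsElementaryAbelian 2 A → Nat.card A ≤ 4)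 : Cfsg.Spor.IsoJ2 ↥(Cfsg.layer ↥(Subgroup.centralizer ((B.map (Subgroup.subtype (Subgroup.centralizer ({z} : Set G)))) : Set G))) ∧ Nonempty (↥(Subgroup.centralizer (((Cfsg.layer ↥(Subgroup.centralizer ((B.map (Subgroup.subtype (Subgroup.centralizer ({z} : Set G)))) : Set G))).map (Subgroup.subtype _)) : Set G)) ≃* alternatingGroup (Fin 5)) := by
  classical
  haveI : Fact (Nat.Prime 2) := ⟨Nat.prime_two⟩
  obtain ⟨g, ⟨hq, hgQ⟩, hgz⟩ := hnwc
  set Q0 : Subgroup G := Q.map ((Subgroup.centralizer ({z} : Set G))).subtype with hQ0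
  set B0 : Subgroup G := B.map ((Subgroup.centralizer ({z} : Set G))).subtype with hB0
  have eQ : Q ≃* Q0 := Subgroup.equivMapOfInjective Q ((Subgroup.centralizer ({z} : Set G))).subtype ((Subgroup.centralizer ({z} : Set G))).subtype_injective
  have hle : Q0 ≤ (Subgroup.centralizer ({z} : Set G)) := Subgroup.map_subtype_le Q
  have hmap : Q0 ⊓ Subgroup.centralizer (B0 : Set G) =
      (Q ⊓ Subgroup.centralizer (B : Set (Subgroup.centralizer ({z} : Set G)))).map ((Subgroup.centralizer ({z} : Set G))).subtype := by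
    ext a
    constructor
    · rintro ⟨⟨q, hq, rfl⟩, ha⟩
      refine ⟨q, ⟨hq, Subgroup.mem_centralizer_iff.2 fun b hb => Subtype.ext ?_⟩, rfl⟩
      exact Subgroup.mem_centralizer_iff.1 ha b ⟨b, hb, rfl⟩
    · rintro ⟨q, ⟨hq, hqB⟩, rfl⟩
      refine ⟨⟨q, hq, rfl⟩, Subgroup.mem_centralizer_iff.2 ?_⟩
      rintro _ ⟨b, hb, rfl⟩
      exact congrArg Subtype.val (Subgroup.mem_centralizer_iff.1 hqB b hb)
  have eQB := Subgroup.equivMapOfInjective (Q ⊓ Subgroup.centralizer (B : Set (Subgroup.centralizer ({z} : Set G)))) ((Subgroup.centralizer ({z} : Set G))).subtype ((Subgroup.centralizer ({z} : Set G))).subtype_injective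
  have hH : CfsgLib.Recog.CoOneType.Hyp z Q0 := by
    refine ⟨CfsgLib.ThreeTrans.LargeGeneration.largeData_of_gFitting hz hle (by rw [hF])
      (CfsgLib.ThreeTrans.isExtraspecial_congr hQ eQ), by rw [← Nat.card_congr eQ.toEquiv, hcard]; norm_num, ?_⟩
    rw [Subgroup.card_eq_card_quotient_mul_card_subgroup Q, hcard, Nat.card_congr e.toEquiv,
      CfsgLib.Recog.CoOneType.card_omega_eight, mul_comm]
  have hfive : CfsgLib.Recog.CoOneFive.FiveHyp z Q0 B0 := by
    refine ⟨hH, ⟨g, ⟨_, hgQ, rfl⟩, hgz⟩, ?_, ?_, ?_, ?_, ?_⟩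
    · rw [hB0, Subgroup.card_map_of_injective ((Subgroup.centralizer ({z} : Set G))).subtype_injective, hB]
    · rintro _ ⟨b, -, rfl⟩
      exact Subgroup.mem_centralizer_singleton_iff.1 b.2
    · rw [hmap]
      exact CfsgLib.ThreeTrans.isExtraspecial_congr hCQ eQB
    · rw [hmap, Subgroup.card_map_of_injective ((Subgroup.centralizer ({z} : Set G))).subtype_injective, hCQcard]
    · intro A hA helem
      rw [hmap] at hA
      have hAC : A ≤ (Subgroup.centralizer ({z} : Set G)) := hA.trans (Subgroup.map_subtype_le _)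
      have h1 : A.subgroupOf (Subgroup.centralizer ({z} : Set G)) ≤ Q ⊓ Subgroup.centralizer (B : Set (Subgroup.centralizer ({z} : Set G))) := fun a ha => by
        obtain ⟨q, hq, e⟩ := hA (Subgroup.mem_subgroupOf.1 ha)
        exact Subtype.ext e ▸ hq
      have h2 : Cfsg.IsElementaryAbelian 2 (A.subgroupOf (Subgroup.centralizer ({z} : Set G))) := by
        obtain ⟨hcomm, hsq⟩ := helem
        refine ⟨⟨⟨fun a b => Subtype.ext (Subtype.ext ?_)⟩⟩, fun a ha => Subtype.ext ?_⟩
        · have e2 := congrArg Subtype.val (hcomm.1.1 ⟨_, Subgroup.mem_subgroupOf.1 a.2⟩ ⟨_, Subgroup.mem_subgroupOf.1 b.2⟩)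
          simpa using e2
        · rw [SubgroupClass.coe_pow]
          exact hsq _ (Subgroup.mem_subgroupOf.1 ha)
      have := hminus _ h1 h2
      rwa [Nat.card_congr (Subgroup.subgroupOfEquivOfLe hAC).toEquiv] at this
  obtain ⟨p, k, D⟩ := CfsgLib.Recog.CoOneFive.exists_adapted hfive
  obtain ⟨L, hlayer, hJ, hKL, hdec, hgen⟩ := D.structure_N
  rw [hlayer]
  exact ⟨hJ, D.centralizer_layer hKL (Subgroup.map_subtype_le L) hdec hgen⟩

end Cfsg.Agent.S5385
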