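import Cfsg.Statements.S5387
import Cfsg.Agent.Lib.Known.L34.Concrete
import Cfsg.Agent.Lib.Schur.Perfect

set_option autoImplicit false
open Cfsg

namespace Cfsg.Agent.S5387

theorem surj_comm {P H : Type*} [Group P] [Group H] (f : P →* H) (hf : Function.Surjective f)
    (hH : commutator H = ⊤) : Function.Surjective (f.comp (commutator P).subtype) := by
  intro h
  have : h ∈ (commutator P).map f := by
    rw [commutator_def, Subgroup.map_commutator, Subgroup.map_top_of_surjective f hf, ← commutator_def, hH]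
    exact Subgroup.mem_top _
  obtain ⟨x, hx, e⟩ := this
  exact ⟨⟨x, hx⟩, e⟩

theorem card_cover {L Q : Type*} [Group L] [Finite L] [Group Q] (e : L ⧸ Subgroup.center L ≃* Q)
    (hc : Nat.card (Subgroup.center L) = 4) : Nat.card L = 4 * Nat.card Q := by
  rw [Subgroup.card_eq_card_quotient_mul_card_subgroup (Subgroup.center L), Nat.card_congr e.toEquiv, hc, mul_comm]

/-- Up to isomorphism there is at most one quasisimple group whose centre is elementary abelian of order 4 and whose central quotient is isomorphic to the projective special linear group of dimension 3 over the field with four elements: any two such groups are isomorphic. -/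
theorem result {L₁ L₂ : Type*} [Group L₁] [Finite L₁] [Group L₂] [Finite L₂] (F : Type) [Field F] [Fintype F] (hF : Fintype.card F = 4) (h₁ : Cfsg.IsQuasisimple L₁) (h₂ : Cfsg.IsQuasisimple L₂) (hc₁ : Nat.card (Subgroup.center L₁) = 4) (hc₂ : Nat.card (Subgroup.center L₂) = 4) (he₁ : ∀ x ∈ Subgroup.center L₁, x * x = 1) (he₂ : ∀ x ∈ Subgroup.center L₂, x * x = 1) (e₁ : L₁ ⧸ Subgroup.center L₁ ≃* Matrix.ProjectiveSpecialLinearGroup (Fin 3) F) (e₂ : L₂ ⧸ Subgroup.center L₂ ≃* Matrix.ProjectiveSpecialLinearGroup (Fin 3) F) : Nonempty (L₁ ≃* L₂) := by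
  classical
  let σ₁ := e₁.toMonoidHom.comp (QuotientGroup.mk' (Subgroup.center L₁))
  let σ₂ := e₂.toMonoidHom.comp (QuotientGroup.mk' (Subgroup.center L₂))
  have hs₁ : Function.Surjective σ₁ := e₁.surjective.comp (QuotientGroup.mk'_surjective _)
  have hs₂ : Function.Surjective σ₂ := e₂.surjective.comp (QuotientGroup.mk'_surjective _)
  have hk₁ : σ₁.ker = Subgroup.center L₁ := by ext x; simp [σ₁, MonoidHom.mem_ker]
  have hk₂ : σ₂.ker = Subgroup.center L₂ := by ext x; simp [σ₂, MonoidHom.mem_ker]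
  have hp₁ : commutator L₁ = ⊤ := h₁.1.commutator_eq_top
  have hp₂ : commutator L₂ = ⊤ := h₂.1.commutator_eq_top
  let P : Subgroup (L₁ × L₂) := (σ₁.comp (MonoidHom.fst L₁ L₂)).eqLocus (σ₂.comp (MonoidHom.snd L₁ L₂))
  let f₁ : P →* L₁ := (MonoidHom.fst L₁ L₂).comp P.subtype
  let f₂ : P →* L₂ := (MonoidHom.snd L₁ L₂).comp P.subtype
  have hf₁ : Function.Surjective f₁ := fun x => by
    obtain ⟨y, hy⟩ := hs₂ (σ₁ x)
    exact ⟨⟨(x, y), hy.symm⟩, rfl⟩
  have hf₂ : Function.Surjective f₂ := fun y => by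
    obtain ⟨x, hx⟩ := hs₁ (σ₂ y)
    exact ⟨⟨(x, y), hx⟩, rfl⟩
  let τ : P →* _ := σ₁.comp f₁
  have hτ : ∀ p : P, σ₂ (f₂ p) = τ p := fun p => p.2.symm
  have hτc : τ.ker ≤ Subgroup.center P := fun p hp => by
    have h1 : f₁ p ∈ Subgroup.center L₁ := hk₁ ▸ (MonoidHom.mem_ker.1 hp : σ₁ (f₁ p) = 1)
    have h2 : f₂ p ∈ Subgroup.center L₂ := by
      rw [← hk₂, MonoidHom.mem_ker, hτ]; exact MonoidHom.mem_ker.1 hp
    exact Subgroup.mem_center_iff.2 fun q => Subtype.ext
      (Prod.ext (Subgroup.mem_center_iff.1 h1 _) (Subgroup.mem_center_iff.1 h2 _))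
  have hτe : ∀ p ∈ τ.ker, p * p = 1 := fun p hp => by
    have h1 : f₁ p ∈ Subgroup.center L₁ := hk₁ ▸ (MonoidHom.mem_ker.1 hp : σ₁ (f₁ p) = 1)
    have h2 : f₂ p ∈ Subgroup.center L₂ := by
      rw [← hk₂, MonoidHom.mem_ker, hτ]; exact MonoidHom.mem_ker.1 hp
    exact Subtype.ext (Prod.ext (he₁ _ h1) (he₂ _ h2))
  let ρ : commutator P →* _ := τ.comp (commutator P).subtype
  have hρ : Function.Surjective ρ := hs₁.comp (surj_comm f₁ hf₁ hp₁)
  have hρc : ρ.ker ≤ Subgroup.center (commutator P) := fun x hx => Subgroup.mem_center_iff.2 fun y =>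
    Subtype.ext (Subgroup.mem_center_iff.1 (hτc (MonoidHom.mem_ker.1 hx : τ (x : P) = 1)) _)
  have hsup : (commutator P).subtype.range ⊔ τ.ker = ⊤ := by
    rw [Subgroup.range_subtype, eq_top_iff]
    intro g _
    obtain ⟨x, hx⟩ := hρ (τ g)
    rw [show g = (x : P) * ((x : P)⁻¹ * g) by group]
    exact Subgroup.mul_mem_sup x.2 (by
      rw [MonoidHom.mem_ker, map_mul, map_inv, show τ (x : P) = τ g from hx, inv_mul_cancel])
  have hρd : ρ.ker ≤ commutator (commutator P) := fun x _ => by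
    have h := CfsgLib.Schur.commutator_eq_map_of_range_sup (commutator P).subtype τ.ker hτc hsup
    obtain ⟨y, hy, e⟩ := (h ▸ x.2 : (x : P) ∈ (commutator (commutator P)).map (commutator P).subtype)
    rwa [← Subtype.ext e]
  have hρe : ∀ x ∈ ρ.ker, x * x = 1 := fun x hx => Subtype.ext (hτe _ (MonoidHom.mem_ker.1 hx : τ (x : P) = 1))
  have h4 := CfsgLib.Known.L34.card_ker_le_four hF ρ hρ hρc hρd hρe
  have hΓ : Nat.card (commutator P) ≤ 4 * Nat.card (Matrix.ProjectiveSpecialLinearGroup (Fin 3) F) := by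
    rw [← ρ.ker.card_mul_index, Subgroup.index_ker, MonoidHom.range_eq_top.2 hρ, Subgroup.card_top]
    exact Nat.mul_le_mul_right _ h4
  have hb₁ := (Function.Surjective.bijective_of_nat_card_le (surj_comm f₁ hf₁ hp₁) (by rw [card_cover e₁ hc₁]; exact hΓ))
  have hb₂ := (Function.Surjective.bijective_of_nat_card_le (surj_comm f₂ hf₂ hp₂) (by rw [card_cover e₂ hc₂]; exact hΓ))
  exact ⟨(MulEquiv.ofBijective _ hb₁).symm.trans (MulEquiv.ofBijective _ hb₂)⟩

end Cfsg.Agent.S5387
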