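import Cfsg.Statements.S5397
import Cfsg.Agent.Lib.Recog.CoOneCode.Split
import Cfsg.Agent.Lib.Recog.CoOneCode.Second
import Cfsg.Agent.Lib.Recog.CoOneType.Separate
import Cfsg.Agent.Lib.ThreeTrans.LargeGeneration
-- import your own Cfsg.Agent.* helpers here

set_option autoImplicit false
open Cfsg

namespace Cfsg.Agent.S5397

/-- Let G be a finite group of Conway type (involution z with generalized Fitting subgroup Q of its centralizer C extraspecial of order 2^9, C/Q the commutator subgroup of the isometry group of the hyperbolic quadratic form in dimension 8 over the field with two elements, z not weakly closed in Q). Then G has an elementary abelian subgroup A of order 2^11 containing z whose normalizer N is a split extension of A with N/A isomorphic to the automorphism group of the length-24 code built from the squares modulo 23, and N has exactly two orbits on the non-identity elements of A. -/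
theorem result {G : Type*} [Group G] [Finite G] (z : G) (hz : orderOf z = 2) (Q : Subgroup (Subgroup.centralizer ({z} : Set G))) [Q.Normal] (hF : Cfsg.generalizedFittingSubgroup (Subgroup.centralizer ({z} : Set G)) = Q) (hQ : Cfsg.IsExtraspecial 2 Q) (hcard : Nat.card Q = 2 ^ 9) (e : (Subgroup.centralizer ({z} : Set G)) ⧸ Q ≃* Cfsg.Omega (ZMod 2) (Cfsg.quadFormPlus 4 (ZMod 2))) (hnwc : ∃ g : G, (∃ hq : g * z * g⁻¹ ∈ Subgroup.centralizer ({z} : Set G), (⟨g * z * g⁻¹, hq⟩ : Subgroup.centralizer ({z} : Set G)) ∈ Q) ∧ g * z * g⁻¹ ≠ z) : ∃ A : Subgroup G, Cfsg.IsElementaryAbelian 2 A ∧ Nat.card A = 2 ^ 11 ∧ z ∈ A ∧ ∃ _ : (A.subgroupOf (Subgroup.normalizer (A : Set G))).Normal, Nonempty (↥(Subgroup.normalizer (A : Set G)) ⧸ A.subgroupOf (Subgroup.normalizer (A : Set G)) ≃* ↥Cfsg.M24) ∧ (∃ K : Subgroup ↥(Subgroup.normalizer (A : Set G)), (A.subgroupOf (Subgroup.normalizer (A : Set G))).IsComplement' K) ∧ ∃ a ∈ A, ∃ b ∈ A, a ≠ 1 ∧ b ≠ 1 ∧ (∀ n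 ∈ Subgroup.normalizer (A : Set G), n * a * n⁻¹ ≠ b) ∧ ∀ c ∈ A, c ≠ 1 → ∃ n ∈ Subgroup.normalizer (A : Set G), n * c * n⁻¹ = a ∨ n * c * n⁻¹ = b := by
  classical
  obtain ⟨g, ⟨hq, hgQ⟩, hgz⟩ := hnwc
  set Q0 : Subgroup G := Q.map (Subgroup.centralizer ({z} : Set G)).subtype with hQ0
  have eQ : Q ≃* Q0 := Subgroup.equivMapOfInjective Q (Subgroup.centralizer ({z} : Set G)).subtype (Subgroup.centralizer ({z} : Set G)).subtype_injective
  haveI : Fact (Nat.Prime 2) := ⟨Nat.prime_two⟩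
  have hQ' : Cfsg.IsExtraspecial 2 Q0 := CfsgLib.ThreeTrans.isExtraspecial_congr hQ eQ
  have hle : Q0 ≤ Subgroup.centralizer ({z} : Set G) := Subgroup.map_subtype_le Q
  have hL : CfsgLib.ThreeTrans.LargeData z Q0 :=
    CfsgLib.ThreeTrans.LargeGeneration.largeData_of_gFitting hz hle (by rw [hF]) hQ'
  have hH : CfsgLib.Recog.CoOneType.Hyp z Q0 := by
    refine ⟨hL, by rw [← Nat.card_congr eQ.toEquiv, hcard]; norm_num, ?_⟩
    rw [Subgroup.card_eq_card_quotient_mul_card_subgroup Q, hcard, Nat.card_congr e.toEquiv,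
      CfsgLib.Recog.CoOneType.card_omega_eight, mul_comm]
  obtain ⟨p0, k, F0⟩ := hH.exists_frame ⟨g, ⟨_, hgQ, rfl⟩, hgz⟩
  obtain ⟨p, u, F, hu⟩ := CfsgLib.Recog.CoOneCode.Frame.exists_good F0
  obtain ⟨a, r, c0, D⟩ := CfsgLib.Recog.CoOneCode.Frame.exists_ctx F hu
  set A : Subgroup G := CfsgLib.Recog.CoOneCode.cGrp Q0 p 85 with hA
  have C := D.coord
  obtain ⟨φ, hφ, hker⟩ := D.quotient_iso
  have hN : (A.subgroupOf (Subgroup.normalizer (A : Set G))).Normal := hker ▸ φ.normal_ker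
  have el1 : CfsgLib.Recog.CoOneCode.el z a r 1 = z := (CfsgLib.Recog.CoOneCode.el_gen a r).1
  refine ⟨A, C.elem, C.card.trans (by norm_num), el1 ▸ CfsgLib.Recog.CoOneCode.Coord.el_mem F C 1, hN,
    ⟨(QuotientGroup.quotientMulEquivOfEq hker.symm).trans (QuotientGroup.quotientKerEquivOfSurjective φ hφ)⟩,
    D.exists_complement, z, el1 ▸ CfsgLib.Recog.CoOneCode.Coord.el_mem F C 1,
    CfsgLib.Recog.CoOneCode.el z a r 40, CfsgLib.Recog.CoOneCode.Coord.el_mem F C 40, ?_, ?_, ?_, ?_⟩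
  · exact fun e1 => by rw [e1, orderOf_one] at hz; omega
  · intro e1
    have := CfsgLib.Recog.CoOneCode.Coord.el_inj F C (by norm_num : (40:ℕ) < 2048) (by norm_num : (0:ℕ) < 2048)
      (e1.trans (CfsgLib.Recog.CoOneCode.Coord.el_zero F C).symm)
    omega
  · intro n hn e1
    refine D.forty.2 (D.mem_o.2 ⟨by norm_num, n, hn, ?_⟩)
    exact CfsgLib.Recog.CoOneCode.Coord.dec_eq F C (by norm_num) (by rw [el1]; exact e1.symm)
  · intro c hc hc1
    obtain ⟨hlt, hel⟩ := CfsgLib.Recog.CoOneCode.Coord.dec_spec F C hc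
    set n := CfsgLib.Recog.CoOneCode.dec z a r c
    have key : ∀ m, (∃ d ∈ Subgroup.normalizer (A : Set G), CfsgLib.Recog.CoOneCode.cn z a r d m = n) →
        ∃ d ∈ Subgroup.normalizer (A : Set G), d * c * d⁻¹ = CfsgLib.Recog.CoOneCode.el z a r m := by
      rintro m ⟨d, hd, hdm⟩
      refine ⟨d⁻¹, inv_mem hd, ?_⟩
      have hmem := (Subgroup.mem_normalizer_iff.1 hd _).1 (CfsgLib.Recog.CoOneCode.Coord.el_mem F C m)
      have h2 := (CfsgLib.Recog.CoOneCode.Coord.dec_spec F C hmem).2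
      rw [show CfsgLib.Recog.CoOneCode.dec z a r (d * CfsgLib.Recog.CoOneCode.el z a r m * d⁻¹) = n from hdm,
        hel] at h2
      rw [h2]
      group
    by_cases hO : n ∈ CfsgLib.Recog.CoOneCode.oSet z Q0 p a r
    · obtain ⟨d, hd, e1⟩ := key 1 (D.mem_o.1 hO).2
      exact ⟨d, hd, Or.inl (e1.trans el1)⟩
    · have hn0 : n ≠ 0 := fun e0 => hc1 (by rw [← hel, e0]; exact CfsgLib.Recog.CoOneCode.Coord.el_zero F C)
      obtain ⟨d, hd, e1⟩ := key 40 (D.mem_y.1 (D.second_orbit hlt hn0 hO)).2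
      exact ⟨d, hd, Or.inr e1⟩

end Cfsg.Agent.S5397
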