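import Cfsg.Statements.S5399
import Cfsg.Agent.Lib.LocalEvenB.FiM23.Classes
-- import your own Cfsg.Agent.* helpers here

set_option autoImplicit false
open Cfsg

namespace Cfsg.Agent.S5399

/-- Let G be a finite group with trivial centre generated by a conjugation-invariant set D of 3-transpositions on which it acts primitively, such that for some d in D the subgroup generated by the members of D other than d commuting with d has central largest normal 2- and 3-subgroups, and suppose G with D is of type M(23). Then G has exactly 3 conjugacy classes of involutions: every involution is a product of m distinct pairwise commuting members of D for some m between 1 and 3; for each such m these products form one non-empty conjugacy class; and the value of m is determined by the involution. -/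
theorem result {G : Type*} [Group G] [Finite G] {D : Set G} (hD : Cfsg.IsThreeTranspositionGroup D) (hprim : Cfsg.IsPrimitiveUnderConj D) (d : G) (hd : d ∈ D) (h3 : Cfsg.pCore 3 ↥(Subgroup.closure {y : G | y ∈ D ∧ y ≠ d ∧ Commute d y}) ≤ Subgroup.center ↥(Subgroup.closure {y : G | y ∈ D ∧ y ≠ d ∧ Commute d y})) (h2 : Cfsg.pCore 2 ↥(Subgroup.closure {y : G | y ∈ D ∧ y ≠ d ∧ Commute d y}) ≤ Subgroup.center ↥(Subgroup.closure {y : G | y ∈ D ∧ y ≠ d ∧ Commute d y})) (ht : Cfsg.IsOfTypeM23 G D) : (∀ x : G, orderOf x = 2 → ∃ m : ℕ, 1 ≤ m ∧ m ≤ 3 ∧ (∃ l : List G, l.Nodup ∧ l.length = m ∧ (∀ a ∈ l, a ∈ D) ∧ (∀ a ∈ l, ∀ b ∈ l, Commute a b) ∧ l.prod = x)) ∧ (∀ m : ℕ, 1 ≤ m → m ≤ 3 → (∃ x : G, orderOf x = 2 ∧ (∃ l : List G, l.Nodup ∧ l.length = m ∧ (∀ a ∈ l, a ∈ D) ∧ (∀ a ∈ l, ∀ b ∈ l, Commute a b) ∧ l.prod = x)) ∧ ∀ x y : G, (∃ l : List G, l.Nodup ∧ l.length = m ∧ (∀ a ∈ l, a ∈ D) ∧ (∀ a ∈ l, ∀ b ∈ l, Commute a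 b) ∧ l.prod = x) → (∃ l : List G, l.Nodup ∧ l.length = m ∧ (∀ a ∈ l, a ∈ D) ∧ (∀ a ∈ l, ∀ b ∈ l, Commute a b) ∧ l.prod = y) → IsConj x y) ∧ ∀ (m m' : ℕ) (x : G), 1 ≤ m → m ≤ 3 → 1 ≤ m' → m' ≤ 3 → (∃ l : List G, l.Nodup ∧ l.length = m ∧ (∀ a ∈ l, a ∈ D) ∧ (∀ a ∈ l, ∀ b ∈ l, Commute a b) ∧ l.prod = x) → (∃ l : List G, l.Nodup ∧ l.length = m' ∧ (∀ a ∈ l, a ∈ D) ∧ (∀ a ∈ l, ∀ b ∈ l, Commute a b) ∧ l.prod = x) → m = m' := by
  obtain ⟨d₀, S⟩ := CfsgLib.Recog.FiM22Two.exists_sec22 hD hprim ht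
  refine ⟨?_, ?_, ?_⟩
  · intro x hx
    obtain ⟨l, hl, h1, h3l, hp⟩ := CfsgLib.LocalEvenB.M23.involution_factor23 S ht.1 hx
    exact ⟨l.length, h1, h3l, l, hl.nodup, rfl, hl.mem, hl.comm, hp⟩
  · intro m h1 h3m
    obtain ⟨y, z, hstd⟩ := CfsgLib.LocalEvenB.M23.exists_triple S
    have hl : CfsgLib.Recog.FiM22.Factor.ComList D ([d₀, y, z].take m) :=
      hstd.sub (hstd.nodup.sublist (List.take_sublist _ _)) fun x hx => List.mem_of_mem_take hx
    have hlen : ([d₀, y, z].take m).length = m := by simp; omega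
    refine ⟨⟨_, CfsgLib.LocalEvenB.M23.orderOf_prod S hl (by omega) (by omega), _, hl.nodup, hlen, hl.mem,
      hl.comm, rfl⟩, ?_⟩
    rintro x x' ⟨l, n, k, md, cm, rfl⟩ ⟨l', n', k', md', cm', rfl⟩
    obtain ⟨g, hg⟩ := CfsgLib.LocalEvenB.M23.list_conj S ⟨n, md, cm⟩ ⟨n', md', cm'⟩
      (by omega) (by omega) (by omega)
    exact isConj_iff.2 ⟨g, by rw [← hg, ← map_list_prod, MulAut.conj_apply]⟩
  · rintro m m' x h1 h3m h1' h3m' ⟨l, n, k, md, cm, hp⟩ ⟨l', n', k', md', cm', hp'⟩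
    rw [← k, ← k']
    exact CfsgLib.LocalEvenB.M23.length_eq S ⟨n, md, cm⟩ ⟨n', md', cm'⟩ (by omega) (by omega) (by omega) (by omega)
      (hp.trans hp'.symm)

end Cfsg.Agent.S5399
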