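import Cfsg.Statements.S5405
import Cfsg.Agent.Lib.ThreeTrans.OrthFirstCohomology
import Cfsg.Agent.Lib.Classical.CharTwo.OmegaClasses
-- import your own Cfsg.Agent.* helpers here

set_option autoImplicit false
open scoped MatrixGroups
open Cfsg

namespace Cfsg.Agent.S5405

open CfsgLib.ThreeTrans.OrthFirstCohomology CfsgLib.Classical.Quad

/-- Root basis. -/
def basisA : Fin 4 → ((Fin 1 ⊕ Fin 1) ⊕ Fin 2 → ZMod 2) :=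
  ![Sum.elim (Sum.elim ![0] ![0]) ![0, 1],
    Sum.elim (Sum.elim ![1] ![0]) ![0, 1],
    Sum.elim (Sum.elim ![1] ![0]) ![1, 1],
    Sum.elim (Sum.elim ![0] ![1]) ![1, 0]]

/-- Levels. -/
def levelA (u : ((Fin 1 ⊕ Fin 1) ⊕ Fin 2 → ZMod 2)) : ℕ :=
  [0, 0, 0, 2, 1, 1, 0, 0, 0, 0, 3, 0, 2, 0, 1, 0].getD ((u (.inl (.inl 0))).val * 1 + (u (.inl (.inr 0))).val * 2 + (u (.inr 0)).val * 4 + (u (.inr 1)).val * 8) 0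

/-- Root basis. -/
def basisB : Fin 6 → ((Fin 2 ⊕ Fin 2) ⊕ Fin 2 → ZMod 2) :=
  ![Sum.elim (Sum.elim ![1, 1] ![0, 0]) ![0, 1],
    Sum.elim (Sum.elim ![1, 1] ![0, 0]) ![1, 1],
    Sum.elim (Sum.elim ![1, 0] ![0, 1]) ![1, 0],
    Sum.elim (Sum.elim ![0, 1] ![0, 0]) ![1, 0],
    Sum.elim (Sum.elim ![0, 0] ![1, 0]) ![0, 1],
    Sum.elim (Sum.elim ![0, 1] ![0, 1]) ![0, 0]]

/-- Levels. -/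
def levelB (u : ((Fin 2 ⊕ Fin 2) ⊕ Fin 2 → ZMod 2)) : ℕ :=
  [0, 0, 0, 0, 0, 2, 0, 1, 0, 0, 0, 1, 0, 2, 4, 0, 1, 4, 0, 1, 3, 0, 4, 0, 1, 0, 0, 0, 3, 0, 0, 3, 2, 1, 3, 0, 0, 0, 3, 0, 2, 1, 0, 0, 4, 0, 0, 2, 2, 1, 3, 0, 2, 0, 1, 0, 2, 1, 0, 0, 2, 0, 0, 4].getD ((u (.inl (.inl 0))).val * 1 + (u (.inl (.inl 1))).val * 2 + (u (.inl (.inr 0))).val * 4 + (u (.inl (.inr 1))).val * 8 + (u (.inr 0)).val * 16 + (u (.inr 1)).val * 32) 0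

/-- Root basis. -/
def basisC : Fin 8 → (Fin 4 ⊕ Fin 4 → ZMod 2) :=
  ![Sum.elim ![0, 0, 1, 1] ![0, 0, 1, 0],
    Sum.elim ![1, 0, 1, 0] ![0, 0, 1, 0],
    Sum.elim ![1, 1, 1, 0] ![1, 0, 0, 0],
    Sum.elim ![1, 1, 0, 1] ![1, 1, 0, 1],
    Sum.elim ![1, 1, 0, 1] ![0, 0, 1, 1],
    Sum.elim ![0, 0, 1, 0] ![0, 0, 1, 0],
    Sum.elim ![0, 1, 0, 1] ![0, 0, 0, 1],
    Sum.elim ![0, 0, 1, 0] ![1, 1, 1, 1]]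

/-- Levels. -/
def levelC (u : (Fin 4 ⊕ Fin 4 → ZMod 2)) : ℕ :=
  [0, 0, 0, 0, 0, 0, 0, 0, 0, 0, 0, 0, 0, 0, 0, 0, 0, 6, 0, 5, 0, 5, 0, 0, 0, 6, 0, 5, 0, 3, 0, 2, 0, 0, 3, 3, 0, 0, 2, 4, 0, 0, 5, 7, 0, 0, 4, 4, 0, 1, 2, 0, 0, 2, 3, 0, 0, 5, 8, 0, 0, 4, 3, 0, 0, 0, 0, 0, 0, 0, 3, 7, 0, 0, 0, 0, 0, 8, 5, 1, 0, 4, 0, 1, 7, 0, 6, 0, 0, 4, 0, 1, 5, 0, 4, 0, 0, 0, 3, 3, 7, 5, 0, 0, 0, 0, 3, 5, 3, 3, 0, 0, 0, 3, 4, 0, 2, 0, 0, 3, 0, 3, 2, 0, 6, 0, 0, 7, 0, 0, 0, 0, 0, 0, 0, 0, 7, 3, 0, 6, 6, 4, 1, 1, 0, 4, 0, 5, 0, 3, 0, 4, 2, 0, 5, 0, 5, 0, 4, 0, 0, 0, 7, 7, 0, 0, 2, 2, 4, 4, 0, 0, 1, 3, 0, 0, 0, 1, 2, 0, 0, 8, 7, 0, 1, 0, 0, 0, 4, 0, 0, 3, 0, 0, 0, 0, 6, 2, 1, 7, 5, 5, 2, 0, 0, 0, 0, 0, 0, 2, 0, 5, 3, 0, 4, 0, 4, 0, 5, 0, 0, 3, 0, 6, 0, 0, 3, 1, 5, 5, 0, 0, 2, 2, 0, 0,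 0, 0, 8, 6, 0, 9, 6, 0, 0, 0, 0, 1, 5, 0, 0, 4, 0, 2, 1, 0].getD ((u (.inl 0)).val * 1 + (u (.inl 1)).val * 2 + (u (.inl 2)).val * 4 + (u (.inl 3)).val * 8 + (u (.inr 0)).val * 16 + (u (.inr 1)).val * 32 + (u (.inr 2)).val * 64 + (u (.inr 3)).val * 128) 0


/-- Vanishing of first cohomology on the natural module for three small orthogonal groups over the field with two elements: for the commutator subgroup of the isometry group of the elliptic quadratic form in dimension 4, of the elliptic form in dimension 6, and of the hyperbolic form in dimension 8, every crossed homomorphism into the natural module (a map f with f(gh) = f(g) + g·f(h)) is principal (of the form g ↦ g·v − v). -/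
theorem result : (∀ f : ↥(Cfsg.Omega (ZMod 2) (Cfsg.quadFormMinus 1 (ZMod 2) 1 1)) → ((Fin 1 ⊕ Fin 1) ⊕ Fin 2 → ZMod 2), (∀ g h : ↥(Cfsg.Omega (ZMod 2) (Cfsg.quadFormMinus 1 (ZMod 2) 1 1)), f (g * h) = f g + Matrix.mulVec (((g : ↥(Cfsg.isometryGroup (ZMod 2) (Cfsg.quadFormMinus 1 (ZMod 2) 1 1))) : GL ((Fin 1 ⊕ Fin 1) ⊕ Fin 2) (ZMod 2)) : Matrix ((Fin 1 ⊕ Fin 1) ⊕ Fin 2) ((Fin 1 ⊕ Fin 1) ⊕ Fin 2) (ZMod 2)) (f h)) → ∃ v : (Fin 1 ⊕ Fin 1) ⊕ Fin 2 → ZMod 2, ∀ g : ↥(Cfsg.Omega (ZMod 2) (Cfsg.quadFormMinus 1 (ZMod 2) 1 1)), f g = Matrix.mulVec (((g : ↥(Cfsg.isometryGroup (ZMod 2) (Cfsg.quadFormMinus 1 (ZMod 2) 1 1))) : GL ((Fin 1 ⊕ Fin 1) ⊕ Fin 2) (ZMod 2)) : Matrix ((Fin 1 ⊕ Fin 1) ⊕ Fin 2) ((Fin 1 ⊕ Fin 1) ⊕ Fin 2) (ZMod 2)) v - v) ∧ (∀ f : ↥(Cfsg.Omega (ZMod 2) (Cfsg.quadFormMinus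 2 (ZMod 2) 1 1)) → ((Fin 2 ⊕ Fin 2) ⊕ Fin 2 → ZMod 2), (∀ g h : ↥(Cfsg.Omega (ZMod 2) (Cfsg.quadFormMinus 2 (ZMod 2) 1 1)), f (g * h) = f g + Matrix.mulVec (((g : ↥(Cfsg.isometryGroup (ZMod 2) (Cfsg.quadFormMinus 2 (ZMod 2) 1 1))) : GL ((Fin 2 ⊕ Fin 2) ⊕ Fin 2) (ZMod 2)) : Matrix ((Fin 2 ⊕ Fin 2) ⊕ Fin 2) ((Fin 2 ⊕ Fin 2) ⊕ Fin 2) (ZMod 2)) (f h)) → ∃ v : (Fin 2 ⊕ Fin 2) ⊕ Fin 2 → ZMod 2, ∀ g : ↥(Cfsg.Omega (ZMod 2) (Cfsg.quadFormMinus 2 (ZMod 2) 1 1)), f g = Matrix.mulVec (((g : ↥(Cfsg.isometryGroup (ZMod 2) (Cfsg.quadFormMinus 2 (ZMod 2) 1 1))) : GL ((Fin 2 ⊕ Fin 2) ⊕ Fin 2) (ZMod 2)) : Matrix ((Fin 2 ⊕ Fin 2) ⊕ Fin 2) ((Fin 2 ⊕ Fin 2) ⊕ Fin 2) (ZMod 2)) v - v) ∧ (∀ f : ↥(Cfsg.Omega (ZMod 2) (Cfsg.quadFormPlus 4 (ZMod 2))) → (Fin 4 ⊕ Fin 4 → ZMod 2), (∀ g h : ↥(Cfsg.Omega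 (ZMod 2) (Cfsg.quadFormPlus 4 (ZMod 2))), f (g * h) = f g + Matrix.mulVec (((g : ↥(Cfsg.isometryGroup (ZMod 2) (Cfsg.quadFormPlus 4 (ZMod 2)))) : GL (Fin 4 ⊕ Fin 4) (ZMod 2)) : Matrix (Fin 4 ⊕ Fin 4) (Fin 4 ⊕ Fin 4) (ZMod 2)) (f h)) → ∃ v : Fin 4 ⊕ Fin 4 → ZMod 2, ∀ g : ↥(Cfsg.Omega (ZMod 2) (Cfsg.quadFormPlus 4 (ZMod 2))), f g = Matrix.mulVec (((g : ↥(Cfsg.isometryGroup (ZMod 2) (Cfsg.quadFormPlus 4 (ZMod 2)))) : GL (Fin 4 ⊕ Fin 4) (ZMod 2)) : Matrix (Fin 4 ⊕ Fin 4) (Fin 4 ⊕ Fin 4) (ZMod 2)) v - v) := by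
  refine ⟨?_, ?_, ?_⟩
  · exact vanish_matrix (Q := qMinus 1 (ZMod 2) 1 1) (coe_qMinus 1 (ZMod 2) 1 1) (n := 2)
      (qMinus_nondeg (by decide) 1) (CfsgLib.Classical.CharTwo.reflGroup_qMinus_eq_top (by decide) 1)
      basisA (by decide +kernel) (by decide +kernel) (by decide +kernel) (by decide) levelA
      (by decide +kernel)
  · exact vanish_matrix (Q := qMinus 2 (ZMod 2) 1 1) (coe_qMinus 2 (ZMod 2) 1 1) (n := 4)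
      (qMinus_nondeg (by decide) 2) (CfsgLib.Classical.CharTwo.reflGroup_qMinus_eq_top (by decide) 2)
      basisB (by decide +kernel) (by decide +kernel) (by decide +kernel) (by decide) levelB
      (by decide +kernel)
  · exact vanish_matrix (Q := qPlus 4 (ZMod 2)) (coe_qPlus 4 (ZMod 2)) (n := 6)
      (qPlus_nondeg 4) (reflGroup_eq_top (qPlus_nondeg 4) (Or.inr (by simp)))
      basisC (by decide +kernel) (by decide +kernel) (by decide +kernel) (by decide) levelC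
      (by decide +kernel)

end Cfsg.Agent.S5405
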