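import Cfsg.Statements.S5410
import Cfsg.Agent.Lib.ThreeTrans.MonsterPair

set_option autoImplicit false
open Cfsg

namespace Cfsg.Agent.S5410

/-- Let G be a finite group of Monster type at the involution z with Q the extraspecial normal subgroup of order 2^25 of C = C_G(z) (so C/Q is identified with the first Conway group with Q modulo its centre the Leech lattice modulo 2, and z is not weakly closed in Q). Let g in G with s = g z g⁻¹ a member of Q other than z, let X be the image in C/Q of the centralizer of s in C, and let E be the image in C/Q of the intersection of g Q g⁻¹ with C. Then E is a normal subgroup of X, elementary abelian of order 2^11, and it has a complement in X isomorphic to the Mathieu group of degree 24 (the automorphism group of the length-24 binary Golay code). -/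
theorem result {G : Type*} [Group G] [Finite G] (z : G) (Q : Subgroup (Subgroup.centralizer ({z} : Set G))) [Q.Normal] (hM : Cfsg.IsOfMonsterType z Q) (s : G) (hsQ : ∃ hsc : s ∈ Subgroup.centralizer ({z} : Set G), (⟨s, hsc⟩ : Subgroup.centralizer ({z} : Set G)) ∈ Q) (hs : IsConj z s) (hs1 : s ≠ z) (g : G) (hg : g * z * g⁻¹ = s) (X E : Subgroup ((Subgroup.centralizer ({z} : Set G)) ⧸ Q)) (hX : X = ((Subgroup.centralizer ({z} : Set G) ⊓ Subgroup.centralizer ({s} : Set G)).subgroupOf (Subgroup.centralizer ({z} : Set G))).map (QuotientGroup.mk' Q)) (hE : E = (((Q.map (Subgroup.centralizer ({z} : Set G)).subtype).map (MulAut.conj g).toMonoidHom ⊓ Subgroup.centralizer ({z} : Set G)).subgroupOf (Subgroup.centralizer ({z} : Set G))).map (QuotientGroup.mk' Q)) : E ≤ X ∧ (∀ x ∈ X, ∀ y ∈ E, x * y * x⁻¹ ∈ E) ∧ Cfsg.IsElementaryAbelian 2 E ∧ Nat.card E = 2 ^ 11 ∧ ∃ K : Subgroup ((Subgroup.centralizer ({z} : Set G)) ⧸ Q), K ≤ X ∧ E ⊓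 K = ⊥ ∧ E ⊔ K = X ∧ Nonempty (K ≃* Cfsg.M24) := by
  obtain ⟨hS, e, ψ, hψ⟩ := hM
  obtain ⟨hsc, hsq⟩ := hsQ
  obtain ⟨g1, hP⟩ := CfsgLib.ThreeTrans.MonsterType.exists_pair hS hψ (x := ⟨⟨s, hsc⟩, hsq⟩) hg hs1
  obtain ⟨-, h11, hEq⟩ := CfsgLib.ThreeTrans.MonsterType.counts hS hψ hP
  have hE' : E = CfsgLib.ThreeTrans.MonoStab.signs.map (CfsgLib.ThreeTrans.MonsterType.proj e g1) := by
    rw [hE, ← hEq, CfsgLib.ThreeTrans.MonsterType.inter]
    congr 1
    ext a
    simp only [Subgroup.mem_subgroupOf, Subgroup.mem_inf]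
    exact ⟨fun h => h.1, fun h => ⟨h, a.2⟩⟩
  have hX' : X = CfsgLib.Sporadic.Conway.crossStab.map (CfsgLib.ThreeTrans.MonsterType.proj e g1) := by
    rw [hX]
    ext q
    simp only [Subgroup.mem_map, Subgroup.mem_subgroupOf, Subgroup.mem_inf, QuotientGroup.mk'_apply]
    constructor
    · rintro ⟨a, ⟨-, ha⟩, rfl⟩
      obtain ⟨k, hk⟩ := CfsgLib.ThreeTrans.MonsterType.proj_surjective (e := e) g1 (QuotientGroup.mk a)
      exact ⟨k, CfsgLib.ThreeTrans.MonsterType.stab_of_comm hψ hP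
        (Subgroup.mem_centralizer_singleton_iff.1 ha) hk, hk⟩
    · rintro ⟨k, hk, rfl⟩
      obtain ⟨a, ha, hka⟩ := CfsgLib.ThreeTrans.MonsterType.comm_of_stab hS hψ hP hk
      exact ⟨a, ⟨a.2, Subgroup.mem_centralizer_singleton_iff.2 ha⟩, hka.symm⟩
  set π := CfsgLib.ThreeTrans.MonsterType.proj e g1 with hπ
  refine ⟨?_, ?_, ⟨⟨⟨?_⟩⟩, ?_⟩, ?_, ?_⟩
  · rw [hE', hX']
    exact Subgroup.map_mono CfsgLib.ThreeTrans.MonoStab.signs_le
  · rw [hE', hX']
    rintro _ ⟨k, hk, rfl⟩ _ ⟨f, hf, rfl⟩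
    exact ⟨k * f * k⁻¹, CfsgLib.ThreeTrans.MonoStab.signs_normal hk hf, by rw [map_mul, map_mul, map_inv]⟩
  · rintro ⟨a, ha⟩ ⟨b, hb⟩
    rw [hE'] at ha hb
    obtain ⟨f, hf, rfl⟩ := ha
    obtain ⟨f', hf', rfl⟩ := hb
    refine Subtype.ext ?_
    show π f * π f' = π f' * π f
    rw [← map_mul, ← map_mul]
    congr 1
    have h1 := CfsgLib.ThreeTrans.MonoStab.signs_sq hf
    have h2 := CfsgLib.ThreeTrans.MonoStab.signs_sq hf'
    have h3 := CfsgLib.ThreeTrans.MonoStab.signs_sq (mul_mem hf hf')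
    rw [← inv_eq_of_mul_eq_one_right h3, mul_inv_rev, inv_eq_of_mul_eq_one_right h1,
      inv_eq_of_mul_eq_one_right h2]
  · intro a ha
    rw [hE'] at ha
    obtain ⟨f, hf, rfl⟩ := ha
    rw [← map_pow, sq, CfsgLib.ThreeTrans.MonoStab.signs_sq hf, map_one]
  · rw [hE', ← hEq]; exact h11
  have hinj : Function.Injective (π.comp CfsgLib.ThreeTrans.MonoStab.permHom') := by
    rw [injective_iff_map_eq_one]
    intro σ hσ
    exact CfsgLib.ThreeTrans.MonoStab.perm_signs (CfsgLib.ThreeTrans.MonoStab.center_le_signs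
      ((CfsgLib.ThreeTrans.MonsterType.proj_ker g1).1 hσ))
  refine ⟨(π.comp CfsgLib.ThreeTrans.MonoStab.permHom').range, ?_, ?_, ?_, ⟨(MonoidHom.ofInjective hinj).symm⟩⟩
  · rw [hX']
    rintro _ ⟨σ, rfl⟩
    exact ⟨_, CfsgLib.ThreeTrans.MonoStab.permHom'_mem σ, rfl⟩
  · rw [hE', eq_bot_iff]
    rintro _ ⟨⟨f, hf, rfl⟩, σ, hσ⟩
    have h1 : f⁻¹ * CfsgLib.ThreeTrans.MonoStab.permHom' σ ∈ Subgroup.center Cfsg.Co0 :=
      (CfsgLib.ThreeTrans.MonsterType.proj_ker (e := e) g1).1 (by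
        rw [map_mul, map_inv]; exact inv_mul_eq_one.2 hσ.symm)
    have h2 := mul_mem hf (CfsgLib.ThreeTrans.MonoStab.center_le_signs h1)
    rw [mul_inv_cancel_left] at h2
    rw [Subgroup.mem_bot, ← hσ]
    simp [CfsgLib.ThreeTrans.MonoStab.perm_signs h2]
  · rw [hE', hX']
    refine le_antisymm (sup_le (Subgroup.map_mono CfsgLib.ThreeTrans.MonoStab.signs_le) ?_) ?_
    · rintro _ ⟨σ, rfl⟩
      exact ⟨_, CfsgLib.ThreeTrans.MonoStab.permHom'_mem σ, rfl⟩
    · rintro _ ⟨k, hk, rfl⟩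
      obtain ⟨f, hf, σ, rfl⟩ := CfsgLib.ThreeTrans.MonoStab.decompose hk
      rw [map_mul]
      exact mul_mem (Subgroup.mem_sup_left ⟨f, hf, rfl⟩) (Subgroup.mem_sup_right ⟨σ, rfl⟩)

end Cfsg.Agent.S5410
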