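import Cfsg.Statements.S5411
import Cfsg.Agent.Lib.ThreeTrans.MonsterType

set_option autoImplicit false
open Cfsg

namespace Cfsg.Agent.S5411

/-- Let G be a finite group of Monster type at the involution z with Q the extraspecial normal subgroup of order 2^25 of C = C_G(z) (so C/Q is identified with the first Conway group with Q modulo its centre the Leech lattice modulo 2, and z is not weakly closed in Q). Then C acts transitively by conjugation on the involutions of Q that are not conjugate to z in G. -/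
theorem result {G : Type*} [Group G] [Finite G] (z : G) (Q : Subgroup (Subgroup.centralizer ({z} : Set G))) [Q.Normal] (hM : Cfsg.IsOfMonsterType z Q) (s t : G) (hsQ : ∃ hsc : s ∈ Subgroup.centralizer ({z} : Set G), (⟨s, hsc⟩ : Subgroup.centralizer ({z} : Set G)) ∈ Q) (htQ : ∃ htc : t ∈ Subgroup.centralizer ({z} : Set G), (⟨t, htc⟩ : Subgroup.centralizer ({z} : Set G)) ∈ Q) (hs2 : orderOf s = 2) (ht2 : orderOf t = 2) (hs : ¬ IsConj z s) (ht : ¬ IsConj z t) : ∃ h ∈ Subgroup.centralizer ({z} : Set G), h * s * h⁻¹ = t := by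
  obtain ⟨hS, e, ψ, hψ⟩ := hM
  have key : ∀ (a : G) (hc : a ∈ Subgroup.centralizer ({z} : Set G))
      (hq : (⟨a, hc⟩ : Subgroup.centralizer ({z} : Set G)) ∈ Q), orderOf a = 2 → ¬ IsConj z a →
      ∃ v : Cfsg.leechLattice, Cfsg.sqNorm (v : Cfsg.GolayPt → ℤ) = 32 ∧
        ψ v = QuotientGroup.mk (⟨⟨a, hc⟩, hq⟩ : Q) := by
    intro a hc hq ha2 hna
    have h2 : (⟨⟨a, hc⟩, hq⟩ : Q) ^ 2 = 1 := by
      refine Subtype.ext (Subtype.ext ?_)
      show a ^ 2 = 1
      rw [← ha2]; exact pow_orderOf_eq_one a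
    have haz : a ≠ z := fun h => hna (h ▸ IsConj.refl a)
    obtain ⟨v, hv | hv, hvx⟩ := CfsgLib.ThreeTrans.MonsterType.exists_rep hS hψ h2
      (fun h => by rw [show a = 1 from h, orderOf_one] at ha2; omega) haz
    · exact ⟨v, hv, hvx⟩
    · exact absurd ((CfsgLib.ThreeTrans.MonsterType.conj_iff hS hψ _).2 ⟨v, hv, hvx⟩).1 hna
  obtain ⟨hsc, hsq⟩ := hsQ
  obtain ⟨htc, htq⟩ := htQ
  obtain ⟨v, hv, hvx⟩ := key s hsc hsq hs2 hs
  obtain ⟨w, hw, hwy⟩ := key t htc htq ht2 ht
  exact CfsgLib.ThreeTrans.MonsterType.conj_same hS hψ hvx hwy (hv.trans hw.symm) (Or.inl hv)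

end Cfsg.Agent.S5411
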