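import Cfsg.Statements.S5420
import Cfsg.Agent.Lib.Core.Cores
-- import your own Cfsg.Agent.* helpers here

set_option autoImplicit false
open Cfsg

namespace Cfsg.Agent.S5420

/-- Let Q be an extraspecial 2-subgroup of the finite group G whose centralizer in G is its centre Z and which is normal in the centralizer of Z. If Z lies in the largest normal 2-subgroup of G, then Q is a large extraspecial 2-subgroup of G: it normalizes no non-trivial subgroup of G of odd order. -/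
theorem result {G : Type*} [Group G] [Finite G] (Q : Subgroup G) (hL1 : Cfsg.IsExtraspecial 2 ↥Q) (hL2 : Subgroup.centralizer (Q : Set G) = ((Subgroup.center ↥Q).map Q.subtype)) (hL3 : Subgroup.centralizer (((Subgroup.center ↥Q).map Q.subtype) : Set G) ≤ Subgroup.normalizer (Q : Set G)) (hZ : ((Subgroup.center ↥Q).map Q.subtype) ≤ Cfsg.pCore 2 G) : Cfsg.IsLargeExtraspecial Q := by
  haveI : Fact (Nat.Prime 2) := ⟨Nat.prime_two⟩
  refine ⟨hL1, hL2, hL3, fun K hK hQK => ?_⟩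
  rw [eq_bot_iff]
  intro k hk
  set Z := (Subgroup.center ↥Q).map Q.subtype with hZdef
  have hKcop : ∀ x ∈ K, x ∈ Cfsg.pCore 2 G → x = 1 := by
    intro x hxK hx2
    obtain ⟨i, hi⟩ := IsPGroup.iff_orderOf.1 (CfsgLib.Core.isPGroup_pCore 2 G) ⟨x, hx2⟩
    rw [← Subgroup.orderOf_coe] at hi
    have h2 : orderOf x ∣ Nat.card K := by
      rw [show x = ((⟨x, hxK⟩ : K) : G) from rfl, Subgroup.orderOf_coe]
      exact orderOf_dvd_natCard _
    rw [← orderOf_eq_one_iff, hi]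
    rcases i with _ | i
    · rfl
    · exfalso
      rw [hi] at h2
      exact (Nat.not_even_iff_odd.2 hK) (even_iff_two_dvd.2 ((dvd_pow_self 2 i.succ_ne_zero).trans h2))
  have hkC : k ∈ Subgroup.centralizer (Z : Set G) := by
    rw [Subgroup.mem_centralizer_iff]
    intro z hz
    have hzQ : z ∈ Q := by obtain ⟨w, -, rfl⟩ := hz; exact w.2
    have h1 : k * z * k⁻¹ * z⁻¹ ∈ Cfsg.pCore 2 G :=
      mul_mem ((CfsgLib.Core.normal_pCore 2 G).conj_mem z (hZ hz) k) (inv_mem (hZ hz))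
    have h2 : k * z * k⁻¹ * z⁻¹ ∈ K := by
      rw [show k * z * k⁻¹ * z⁻¹ = k * (z * k⁻¹ * z⁻¹) by group]
      exact mul_mem hk ((Subgroup.mem_normalizer_iff.1 (hQK hzQ) k⁻¹).1 (inv_mem hk))
    exact (mul_inv_eq_iff_eq_mul.1 (mul_inv_eq_one.1 (hKcop _ h2 h1))).symm
  have hkN := hL3 hkC
  have hkQ : ∀ q ∈ Q, k * q * k⁻¹ * q⁻¹ = 1 := by
    intro q hq
    have h1 : k * q * k⁻¹ * q⁻¹ ∈ Q := mul_mem ((Subgroup.mem_normalizer_iff.1 hkN q).1 hq) (inv_mem hq)
    have h2 : k * q * k⁻¹ * q⁻¹ ∈ K := by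
      rw [show k * q * k⁻¹ * q⁻¹ = k * (q * k⁻¹ * q⁻¹) by group]
      exact mul_mem hk ((Subgroup.mem_normalizer_iff.1 (hQK hq) k⁻¹).1 (inv_mem hk))
    obtain ⟨i, hi⟩ := IsPGroup.iff_orderOf.1 hL1.1.1 ⟨_, h1⟩
    rw [← Subgroup.orderOf_coe] at hi
    rw [← orderOf_eq_one_iff, hi]
    rcases i with _ | i
    · rfl
    · exfalso
      have h3 : orderOf (k * q * k⁻¹ * q⁻¹) ∣ Nat.card K := by
        have := orderOf_dvd_natCard (⟨_, h2⟩ : K)
        rwa [← Subgroup.orderOf_coe] at this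
      rw [hi] at h3
      exact (Nat.not_even_iff_odd.2 hK) (even_iff_two_dvd.2 ((dvd_pow_self 2 i.succ_ne_zero).trans h3))
  have hkZ : k ∈ Z := by
    rw [← hL2, Subgroup.mem_centralizer_iff]
    exact fun q hq => (mul_inv_eq_iff_eq_mul.1 (mul_inv_eq_one.1 (hkQ q hq))).symm
  exact Subgroup.mem_bot.2 (hKcop k hk (hZ hkZ))

end Cfsg.Agent.S5420
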