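import Cfsg.Statements.S5421
import Cfsg.Agent.Lib.ThreeTrans.LargeCriteria
-- import your own Cfsg.Agent.* helpers here

set_option autoImplicit false
open Cfsg

namespace Cfsg.Agent.S5421

/-- Let Q be an extraspecial 2-subgroup of the finite group G whose centralizer in G is its centre Z and which is normal in the centralizer of Z. If some involution b of Q outside Z has Z inside the largest normal 2-subgroup of the centralizer of b, then Q is a large extraspecial 2-subgroup of G. -/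
theorem result {G : Type*} [Group G] [Finite G] (Q : Subgroup G) (hL1 : Cfsg.IsExtraspecial 2 ↥Q) (hL2 : Subgroup.centralizer (Q : Set G) = ((Subgroup.center ↥Q).map Q.subtype)) (hL3 : Subgroup.centralizer (((Subgroup.center ↥Q).map Q.subtype) : Set G) ≤ Subgroup.normalizer (Q : Set G)) (b : G) (hbQ : b ∈ Q) (hbZ : b ∉ ((Subgroup.center ↥Q).map Q.subtype)) (hb : orderOf b = 2) (hZ : ((Subgroup.center ↥Q).map Q.subtype) ≤ (Cfsg.pCore 2 ↥(Subgroup.centralizer ({b} : Set G))).map (Subgroup.centralizer ({b} : Set G)).subtype) : Cfsg.IsLargeExtraspecial Q := by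
  obtain ⟨z, h⟩ := CfsgLib.ThreeTrans.exists_largeData hL1 hL2 hL3
  rw [h.hcenter] at hbZ hZ
  refine ⟨hL1, hL2, hL3, fun K hK hQK => h.odd_eq_bot hbQ hbZ (by rw [← pow_two, ← hb, pow_orderOf_eq_one]) ?_ hK hQK⟩
  intro k hk
  obtain ⟨⟨z', hz'⟩, hzO, e⟩ := hZ (Subgroup.mem_zpowers z)
  subst e
  refine ⟨⟨k, CfsgLib.ThreeTrans.mem_centralizer_singleton_iff'.2 hk.eq⟩ * ⟨z', hz'⟩ *
    ⟨k, CfsgLib.ThreeTrans.mem_centralizer_singleton_iff'.2 hk.eq⟩⁻¹ * (⟨z', hz'⟩ : _)⁻¹, ?_, rfl⟩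
  exact mul_mem ((CfsgLib.Core.normal_pCore 2 _).conj_mem _ hzO _) (inv_mem hzO)

end Cfsg.Agent.S5421
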