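import Cfsg.Statements.S5426
import Cfsg.Agent.Lib.ThreeTrans.LargeStructure

set_option autoImplicit false
open Cfsg

namespace Cfsg.Agent.S5426

/-- Let Q be a large extraspecial 2-subgroup of the finite group G (extraspecial; centralizer equal to its centre; normal in the centralizer of its centre; normalizing no non-trivial subgroup of odd order) with centre generated by z, and let M be the normal closure of z in G. Then one of the following holds: Q is normal in G; or M is abelian and the generalized Fitting subgroup of G is its largest normal 2-subgroup; or M is the generalized Fitting subgroup of G and is a non-abelian simple group; or M is the generalized Fitting subgroup of G and is the direct product of a non-abelian simple subgroup L and its conjugate u L u⁻¹ by some u in Q (the two meet trivially and commute elementwise), with z = z₁ (u z₁ u⁻¹) for some z₁ in L whose centralizer in L is a Sylow 2-subgroup of L with Frattini subgroup inside the subgroup generated by z₁, and Q is not the largest normal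 2-subgroup of the centralizer of z. -/
theorem result {G : Type*} [Group G] [Finite G] (Q : Subgroup G) (hQ : Cfsg.IsLargeExtraspecial Q) (z : G) (hz : ((Subgroup.center ↥Q).map Q.subtype) = Subgroup.zpowers z) (M : Subgroup G) (hM : M = Subgroup.normalClosure ({z} : Set G)) : Q.Normal ∨ (IsMulCommutative ↥M ∧ Cfsg.generalizedFittingSubgroup G = Cfsg.pCore 2 G) ∨ (M = Cfsg.generalizedFittingSubgroup G ∧ IsSimpleGroup ↥M ∧ ¬ IsMulCommutative ↥M) ∨ (M = Cfsg.generalizedFittingSubgroup G ∧ ∃ (L : Subgroup G) (u : G), u ∈ Q ∧ IsSimpleGroup ↥L ∧ ¬ IsMulCommutative ↥L ∧ L ⊓ (L).map (MulAut.conj u).toMonoidHom = ⊥ ∧ (∀ x ∈ L, ∀ y ∈ (L).map (MulAut.conj u).toMonoidHom, x * y = y * x) ∧ L ⊔ (L).map (MulAut.conj u).toMonoidHom = M ∧ ∃ z₁ ∈ L, z = z₁ * (u * z₁ * u⁻¹) ∧ (∃ R : Sylow 2 ↥L, (R : Subgroup ↥L) = (Subgroup.centralizer ({z₁} : Set G)).subgroupOf L ∧ (frattini ↥(R : Subgroup ↥L)).map ((L.subtype).comp (R : Subgroup ↥L).subtype) ≤ Subgroup.zpowers z₁) ∧ Q ≠ (Cfsg.pCore 2 ↥(Subgroup.centralizer ({z} : Set G))).map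 (Subgroup.centralizer ({z} : Set G)).subtype) := by
  have h := CfsgLib.ThreeTrans.LargeStructure.largeData_of_isLarge hQ hz
  subst hM
  by_cases hT : Cfsg.pCore 2 G = ⊥
  · have s := CfsgLib.ThreeTrans.LargeStructure.semi_of h hQ.2.2.2 hT
    obtain ⟨L, hL⟩ : ∃ L : Subgroup G, Cfsg.IsComponent L := by
      by_contra hne
      have h1 := CfsgLib.Components.layer_eq_bot_iff.2 fun L hL => hne ⟨L, hL⟩
      have h2 := s.z_mem
      rw [← s.hlay, h1, Subgroup.mem_bot] at h2
      exact h.z_ne_one h2
    obtain ⟨hs, hna⟩ := s.hsimp L hL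
    by_cases hu : ∃ u ∈ Q, L.map (MulAut.conj u).toMonoidHom ≠ L
    · obtain ⟨u, hu, hne⟩ := hu
      obtain ⟨h1, h2, h3, h4⟩ := s.two_components hL hu hne
      exact Or.inr (Or.inr (Or.inr ⟨s.hfs.symm, L, u, hu, hs, hna, h1, h2, h3, h4⟩))
    · have hML : Subgroup.normalClosure ({z} : Set G) = L := by
        refine le_antisymm ?_ (s.le_M hL)
        refine s.hlay ▸ CfsgLib.Components.layer_le_iff.2 fun J hJ => ?_
        obtain ⟨q, hq, rfl⟩ := s.transitive hL hJ
        exact (not_not.1 fun hne => hu ⟨q, hq, hne⟩ : L.map (MulAut.conj q).toMonoidHom = L).le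
      refine Or.inr (Or.inr (Or.inl ⟨s.hfs.symm, ?_⟩))
      rw [hML]
      exact ⟨hs, hna⟩
  · exact Or.inr (Or.inl (CfsgLib.ThreeTrans.LargeStructure.two_case h hQ.2.2.2 hT))

end Cfsg.Agent.S5426
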