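import Cfsg.Statements.S5427
import Cfsg.Agent.Lib.ThreeTrans.LargeGeneration

set_option autoImplicit false
open Cfsg

namespace Cfsg.Agent.S5427

/-- Let z be an involution of the finite group G whose centralizer C has generalized Fitting subgroup Q, an extraspecial 2-group of width at least 2 (order 2^(2w+1), w ≥ 2). Let K be a subgroup of G such that the subgroup U generated by the K-conjugates of z is abelian and C is generated by the C-conjugates of U. Suppose that either some K-conjugate of z other than z lies in Q, or some element u of U ∩ Q outside the subgroup generated by z has z in the largest normal 2-subgroup of its centralizer. Then G is simple and Q is a large extraspecial 2-subgroup of G. -/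
theorem result {G : Type*} [Group G] [Finite G] (z : G) (hz : orderOf z = 2) (Q : Subgroup G) (hQC : Q ≤ Subgroup.centralizer ({z} : Set G)) (hF : (Cfsg.generalizedFittingSubgroup ↥(Subgroup.centralizer ({z} : Set G))).map (Subgroup.centralizer ({z} : Set G)).subtype = Q) (hQ : Cfsg.IsExtraspecial 2 ↥Q) (w : ℕ) (hw : 2 ≤ w) (hcard : Nat.card ↥Q = 2 ^ (2 * w + 1)) (K U : Subgroup G) (hU : U = Subgroup.closure {x : G | ∃ k ∈ K, x = k * z * k⁻¹}) (hUab : IsMulCommutative ↥U) (hgen : Subgroup.closure {x : G | ∃ c ∈ Subgroup.centralizer ({z} : Set G), ∃ u ∈ U, x = c * u * c⁻¹} = Subgroup.centralizer ({z} : Set G)) (h3 : (∃ k ∈ K, k * z * k⁻¹ ∈ Q ∧ k * z * k⁻¹ ≠ z) ∨ ∃ u ∈ U ⊓ Q, u ∉ Subgroup.zpowers z ∧ (∃ hz' : z ∈ Subgroup.centralizer ({u} : Set G), (⟨z, hz'⟩ : ↥(Subgroup.centralizer ({u} : Set G))) ∈ Cfsg.pCore 2 ↥(Subgroup.centralizer ({u} : Set G)))) : IsSimpleGroup G ∧ Cfsg.IsLargeExtraspecial Q := by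
  have h := CfsgLib.ThreeTrans.LargeGeneration.largeData_of_gFitting hz hQC hF hQ
  have : Fact (Nat.Prime 2) := ⟨Nat.prime_two⟩
  have h32 : 32 ≤ Nat.card Q := by
    rw [hcard]
    calc 32 = 2 ^ (2 * 2 + 1) := by norm_num
      _ ≤ _ := Nat.pow_le_pow_right (by norm_num) (by omega)
  have hsing : ∃ w ∈ Q, w ∉ Subgroup.zpowers z ∧ w * w = 1 ∧ ∃ O : Subgroup G, IsPGroup 2 O ∧ z ∈ O ∧
      ∀ x, Commute x w → ∀ y ∈ O, x * y * x⁻¹ ∈ O := by
    rcases h3 with ⟨k, _, hkQ, hkz⟩ | ⟨u, hu, huz, hz', hzO⟩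
    · refine ⟨k * z * k⁻¹, hkQ, fun hc => ?_, ?_, Q.map (MulAut.conj k).toMonoidHom,
        (CfsgLib.PGroups.IsExtraspecial.isPGroup h.hE).map _, h.mem_conj h32 hkQ,
        fun x hx y hy => (h.conj k).conj_mem hx hy⟩
      · rcases h.eq_or hc with e | e
        · exact h.z_ne_one (conj_eq_one_iff.1 e)
        · exact hkz e
      · rw [conj_mul, h.mul_self_z, mul_one, mul_inv_cancel]
    · have hn : (Cfsg.pCore 2 ↥(Subgroup.centralizer ({u} : Set G))).Normal :=
        CfsgLib.Core.normal_pCore 2 _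
      refine ⟨u, hu.2, huz, ?_, (Cfsg.pCore 2 ↥(Subgroup.centralizer ({u} : Set G))).map
        (Subgroup.centralizer ({u} : Set G)).subtype, (CfsgLib.Core.isPGroup_pCore 2 _).map _,
        Subgroup.mem_map.2 ⟨_, hzO, rfl⟩, fun x hx y hy => ?_⟩
      · have hu' : u ∈ Subgroup.closure {x : G | ∃ k ∈ K, x = k * z * k⁻¹} := hU ▸ hu.1
        clear hzO hz' huz hu hn
        induction hu' using Subgroup.closure_induction with
        | mem x hx =>
          obtain ⟨k, -, rfl⟩ := hx
          rw [conj_mul, h.mul_self_z, mul_one, mul_inv_cancel]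
        | one => exact one_mul 1
        | mul a b ha hb iha ihb =>
          rw [← hU] at ha hb
          have hab : a * b = b * a :=
            congrArg Subtype.val (hUab.1.1 (⟨a, ha⟩ : U) ⟨b, hb⟩)
          calc a * b * (a * b) = a * (b * a) * b := by group
            _ = (a * a) * (b * b) := by rw [← hab]; group
            _ = 1 := by rw [iha, ihb, one_mul]
        | inv a _ iha => rw [← mul_inv_rev, iha, inv_one]
      · obtain ⟨y, hy', rfl⟩ := Subgroup.mem_map.1 hy
        exact Subgroup.mem_map.2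
          ⟨(⟨x, CfsgLib.ThreeTrans.mem_centralizer_singleton_iff'.2 hx.eq⟩ :
              ↥(Subgroup.centralizer ({u} : Set G))) * y * (⟨x, _⟩)⁻¹, hn.conj_mem y hy' _,
            by rw [map_mul, map_mul, map_inv, Subgroup.subtype_apply, Subgroup.subtype_apply]⟩
  obtain ⟨w, hwQ, hwz, hww, O, hO, hzO, hOn⟩ := hsing
  have hodd : ∀ L : Subgroup G, Odd (Nat.card L) → Q ≤ Subgroup.normalizer (L : Set G) → L = ⊥ :=
    fun L hL hQL => CfsgLib.ThreeTrans.LargeGeneration.eq_bot_of_odd_normalized h hwQ hwz hww hO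
      hzO hOn hL hQL
  refine ⟨CfsgLib.ThreeTrans.LargeGeneration.isSimple_of_generation h hodd K U hU hgen, hQ, ?_, ?_,
    hodd⟩
  · rw [h.hcent, h.hcenter]
  · rw [h.hcenter, Subgroup.zpowers_eq_closure, Subgroup.centralizer_closure]
    exact h.hnorm

end Cfsg.Agent.S5427
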