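import Cfsg.Statements.S5433
import Cfsg.Agent.Lib.ThreeTrans.LargeSetting
-- import your own Cfsg.Agent.* helpers here

set_option autoImplicit false
open Cfsg

namespace Cfsg.Agent.S5433

/-- Let Q be a large extraspecial 2-subgroup of the finite group G (extraspecial; centralizer equal to its centre; normal in the centralizer of its centre; normalizing no non-trivial subgroup of odd order), and L a normal subgroup of G containing Q. Then G is the product of L and the normalizer of Q. -/
theorem result {G : Type*} [Group G] [Finite G] (Q : Subgroup G) (hQ : Cfsg.IsLargeExtraspecial Q) (L : Subgroup G) [L.Normal] (hQL : Q ≤ L) : L ⊔ Subgroup.normalizer (Q : Set G) = ⊤ := by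
  haveI : Fact (Nat.Prime 2) := ⟨Nat.prime_two⟩
  obtain ⟨hE, hC, hN, -⟩ := hQ
  set Z := (Subgroup.center ↥Q).map Q.subtype with hZdef
  have hZ2 : Nat.card Z = 2 := by
    rw [hZdef, Nat.card_congr (Subgroup.equivMapOfInjective _ _ Q.subtype_injective).toEquiv.symm]
    exact hE.2
  obtain ⟨zz, hzz⟩ := exists_prime_orderOf_dvd_card' 2 (hZ2.symm.dvd : 2 ∣ Nat.card Z)
  set z : G := (zz : G) with hzdef
  have hz : orderOf z = 2 := by rw [hzdef, Subgroup.orderOf_coe, hzz]
  have hZz : Z ≤ Subgroup.zpowers z :=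
    (Subgroup.eq_of_le_of_card_ge (Subgroup.zpowers_le.2 zz.2) (by rw [hZ2, Nat.card_zpowers, hz])).ge
  have hzZ : Subgroup.zpowers z ≤ Z := Subgroup.zpowers_le.2 zz.2
  have hzQ : z ∈ Q := by obtain ⟨w, -, hw⟩ := zz.2; exact hzdef ▸ hw ▸ w.2
  have hQC : Q ≤ Subgroup.centralizer ({z} : Set G) := fun q hq => by
    rw [CfsgLib.ThreeTrans.mem_centralizer_singleton_iff']
    have h1 : z ∈ Subgroup.centralizer (Q : Set G) := hC ▸ zz.2
    exact Subgroup.mem_centralizer_iff.1 h1 q hq
  have hCQ : Subgroup.centralizer (Q : Set G) ≤ Subgroup.zpowers z := hC ▸ hZz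
  have hCzN : Subgroup.centralizer ({z} : Set G) ≤ Subgroup.normalizer (Q : Set G) := by
    refine le_trans (fun x hx => ?_) hN
    rw [Subgroup.mem_centralizer_iff]
    intro w hw
    obtain ⟨n, rfl⟩ := Subgroup.mem_zpowers_iff.1 (hZz hw)
    exact ((show Commute x z from CfsgLib.ThreeTrans.mem_centralizer_singleton_iff'.1 hx).zpow_right n).symm
  obtain ⟨P, hQP, hPC⟩ := CfsgLib.ThreeTrans.exists_sylow_between hz hQC hE.1.1 hzQ hCQ
  obtain ⟨P₁, hP₁⟩ := (hE.1.1.of_equiv (Subgroup.subgroupOfEquivOfLe hQL).symm).exists_le_sylow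
  -- Frattini argument in `L` with the Sylow subgroup below `P`
  obtain ⟨R, hR⟩ := (P.isPGroup'.comap_of_injective L.subtype L.subtype_injective).exists_le_sylow
  have hfr := Sylow.normalizer_sup_eq_top R
  rw [eq_top_iff, ← hfr]
  refine sup_le (le_trans ?_ le_sup_right) le_sup_left
  refine le_trans ?_ hCzN
  intro g hg
  -- `g` normalizes `R`, and the involution centralizing `R` is unique
  set R' : Subgroup G := (R : Subgroup L).map L.subtype with hR'
  have hRP : R' ≤ (P : Subgroup G) := by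
    rintro _ ⟨r, hr, rfl⟩
    obtain ⟨P', hP'⟩ := (R.isPGroup'.map L.subtype).exists_le_sylow
    have h2 := R.is_maximal' (P'.isPGroup'.comap_of_injective L.subtype L.subtype_injective)
      (fun x hx => hP' ⟨x, hx, rfl⟩)
    -- `P ∩ L` is the whole of `R`
    have h3 : Nat.card ((P : Subgroup G).comap L.subtype) = Nat.card R := by
      obtain ⟨x, hx⟩ := MulAction.exists_smul_eq G P P'
      have h4 : Nat.card ((P : Subgroup G).comap L.subtype) = Nat.card ((P' : Subgroup G).comap L.subtype) := by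
        refine Nat.card_congr ⟨fun y => ⟨⟨x * (y : L) * x⁻¹, (inferInstance : L.Normal).conj_mem _ (y : L).2 x⟩, ?_⟩,
          fun y => ⟨⟨x⁻¹ * (y : L) * x, by
            simpa using (inferInstance : L.Normal).conj_mem _ (y : L).2 x⁻¹⟩, ?_⟩, ?_, ?_⟩
        · rw [Subgroup.mem_comap, ← hx, Sylow.coe_subgroup_smul]
          exact Subgroup.smul_mem_pointwise_smul _ (MulAut.conj x) _ y.2
        · have h6 : ∀ a : G, a ∈ (P' : Subgroup G) → x⁻¹ * a * x ∈ (P : Subgroup G) := fun a ha => by
            rw [← hx, Sylow.coe_subgroup_smul, Subgroup.mem_pointwise_smul_iff_inv_smul_mem] at ha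
            simpa [MulAut.smul_def] using ha
          exact h6 _ y.2
        · intro y; ext; simp; group
        · intro y; ext; simp; group
      rw [h4, h2]
    exact (Subgroup.eq_of_le_of_card_ge hR h3.ge).ge hr
  have hQR : Q ≤ R' := fun q hq => ⟨⟨q, hQL hq⟩, hR (hQP hq), rfl⟩
  have hcR : z ∈ Subgroup.centralizer (R' : Set G) := by
    rw [Subgroup.mem_centralizer_iff]
    exact fun r hr => CfsgLib.ThreeTrans.mem_centralizer_singleton_iff'.1 (hPC (hRP hr))
  have hgz : g * z * g⁻¹ ∈ Subgroup.centralizer (Q : Set G) := by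
    rw [Subgroup.mem_centralizer_iff]
    intro q hq
    have hmem : g⁻¹ * q * g ∈ R' := by
      have := (Subgroup.mem_normalizer_iff.1 hg (g⁻¹ * q * g))
      rw [hR']
      refine this.2 ?_
      rw [show g * (g⁻¹ * q * g) * g⁻¹ = q by group]
      exact hQR hq
    have h1 := Subgroup.mem_centralizer_iff.1 hcR _ hmem
    calc q * (g * z * g⁻¹) = g * ((g⁻¹ * q * g) * z) * g⁻¹ := by group
      _ = g * (z * (g⁻¹ * q * g)) * g⁻¹ := by rw [h1]
      _ = g * z * g⁻¹ * q := by group
  rcases CfsgLib.ThreeTrans.mem_zpowers_of_order_two hz (hCQ hgz) with h | h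
  · rw [conj_eq_one_iff] at h; rw [h, orderOf_one] at hz; omega
  · exact CfsgLib.ThreeTrans.mem_centralizer_singleton_iff'.2 (mul_inv_eq_iff_eq_mul.1 h)

end Cfsg.Agent.S5433
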