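import Cfsg.Statements.S5437
import Cfsg.Agent.Lib.ThreeTrans.LargeSetting
-- import your own Cfsg.Agent.* helpers here

set_option autoImplicit false
open Cfsg

namespace Cfsg.Agent.S5437

/-- Let I be a set of involutions of the finite group G closed under conjugation, and H a subgroup of G. The following are equivalent: (1) for every member x of I lying in H, the conjugates of x lying in H form a single H-class and the centralizer of x lies in H; (2) for every g outside H, no member of I lies in both H and g H g⁻¹; (3) every member of I lying in H fixes exactly one coset in the action of G on the cosets of H. -/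
theorem result {G : Type*} [Group G] [Finite G] (I : Set G) (hI : ∀ x ∈ I, orderOf x = 2) (hIc : ∀ g : G, ∀ x ∈ I, g * x * g⁻¹ ∈ I) (H : Subgroup G) : ((∀ x ∈ I, x ∈ H → (∀ g : G, g * x * g⁻¹ ∈ H → ∃ h ∈ H, h * x * h⁻¹ = g * x * g⁻¹) ∧ Subgroup.centralizer ({x} : Set G) ≤ H) ↔ (∀ g : G, g ∉ H → ∀ x ∈ I, ¬ (x ∈ H ∧ x ∈ (H : Subgroup G).map (MulAut.conj g).toMonoidHom))) ∧ ((∀ g : G, g ∉ H → ∀ x ∈ I, ¬ (x ∈ H ∧ x ∈ (H : Subgroup G).map (MulAut.conj g).toMonoidHom)) ↔ ∀ x ∈ I, x ∈ H → ∃! c : G ⧸ H, x • c = c) := by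
  have hfix : ∀ (x g : G), x • (g : G ⧸ H) = (g : G ⧸ H) ↔ g⁻¹ * x * g ∈ H := by
    intro x g
    rw [MulAction.Quotient.smul_coe, QuotientGroup.eq, smul_eq_mul, mul_inv_rev, ← inv_mem_iff,
      mul_inv_rev, mul_inv_rev, inv_inv, inv_inv, mul_assoc]
  have hmem : ∀ (x g : G), x ∈ (H : Subgroup G).map (MulAut.conj g).toMonoidHom ↔ g⁻¹ * x * g ∈ H := by
    intro x g
    constructor
    · rintro ⟨h, hh, rfl⟩
      show g⁻¹ * (g * h * g⁻¹) * g ∈ H
      simpa [mul_assoc] using hh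
    · exact fun hx => ⟨g⁻¹ * x * g, hx, by show g * (g⁻¹ * x * g) * g⁻¹ = x; group⟩
  refine ⟨⟨fun h g hg x hxI ⟨hxH, hx⟩ => ?_, fun h x hxI hxH => ⟨fun g hg => ?_, fun g hg => ?_⟩⟩,
    ⟨fun h x hxI hxH => ⟨((1 : G) : G ⧸ H), ?_, fun c hc => ?_⟩, fun h g hg x hxI ⟨hxH, hx⟩ => ?_⟩⟩
  · rw [hmem] at hx
    obtain ⟨h', hh', heq⟩ := (h x hxI hxH).1 g⁻¹ (by rwa [inv_inv])
    rw [inv_inv] at heq
    have hgc : g * h' ∈ Subgroup.centralizer ({x} : Set G) := by
      rw [CfsgLib.ThreeTrans.mem_centralizer_singleton_iff']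
      calc g * h' * x = g * (h' * x * h'⁻¹) * h' := by group
        _ = g * (g⁻¹ * x * g) * h' := by rw [heq]
        _ = x * (g * h') := by group
    have := H.mul_mem ((h x hxI hxH).2 hgc) (H.inv_mem hh')
    rw [mul_inv_cancel_right] at this
    exact hg this
  · by_cases hgH : g ∈ H
    · exact ⟨g, hgH, rfl⟩
    · exact absurd ⟨hxH, (hmem x g⁻¹).2 (by rwa [inv_inv])⟩ (h g⁻¹ (fun hh => hgH (inv_mem_iff.1 hh)) x hxI)
  · by_contra hgH
    refine h g hgH x hxI ⟨hxH, (hmem x g).2 ?_⟩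
    rw [mul_assoc, ← CfsgLib.ThreeTrans.mem_centralizer_singleton_iff'.1 hg, inv_mul_cancel_left]
    exact hxH
  · exact (hfix x 1).2 (by simpa using hxH)
  · induction c using QuotientGroup.induction_on with
    | H g =>
      have hg : g ∈ H := by
        by_contra hgH
        exact h g hgH x hxI ⟨hxH, (hmem x g).2 ((hfix x g).1 hc)⟩
      exact QuotientGroup.eq.2 (by simpa using hg)
  · rw [hmem] at hx
    obtain ⟨c, -, hu⟩ := h x hxI hxH
    have h1 := hu ((g : G) : G ⧸ H) ((hfix x g).2 hx)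
    have h2 := hu ((1 : G) : G ⧸ H) ((hfix x 1).2 (by simpa using hxH))
    exact hg (by simpa using QuotientGroup.eq.1 (h2.trans h1.symm))

end Cfsg.Agent.S5437
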