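import Cfsg.Statements.S5438
import Cfsg.Agent.Lib.ThreeTrans.LargeSetting
-- import your own Cfsg.Agent.* helpers here

set_option autoImplicit false
open Cfsg

namespace Cfsg.Agent.S5438

/-- Let z be a 2-central involution of the finite group G (an involution central in some Sylow 2-subgroup) and H a subgroup containing z such that the coset H is the only coset of H fixed by z (in the action of G on the cosets of H). Then H has odd index in G, and for every 2-element x of H the conjugates of x lying in H form a single H-class. -/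
theorem result {G : Type*} [Group G] [Finite G] (z : G) (hz : Cfsg.IsTwoCentralInvolution z) (H : Subgroup G) (hzH : z ∈ H) (hfix : ∀ g : G, g⁻¹ * z * g ∈ H → g ∈ H) : Odd H.index ∧ ∀ x ∈ H, (∃ k : ℕ, orderOf x = 2 ^ k) → ∀ g : G, g * x * g⁻¹ ∈ H → ∃ h ∈ H, h * x * h⁻¹ = g * x * g⁻¹ := by
  haveI : Fact (Nat.Prime 2) := ⟨Nat.prime_two⟩
  obtain ⟨hz2, P₀, hzP₀, hP₀⟩ := hz
  have hCH : ∀ g : G, g * z = z * g → g ∈ H := fun g hg => hfix g (by
    rw [mul_assoc, ← hg, inv_mul_cancel_left]; exact hzH)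
  have hP₀H : (P₀ : Subgroup G) ≤ H := fun x hx => hCH x (hP₀ x hx)
  refine ⟨?_, ?_⟩
  · rw [← Nat.not_even_iff_odd, even_iff_two_dvd]
    intro h
    have h1 : ¬ 2 ∣ (P₀ : Subgroup G).index := P₀.not_dvd_index
    exact h1 (h.trans (Subgroup.index_dvd_of_le hP₀H))
  intro x hxH hx g hgx
  -- every 2-subgroup containing `z` lies in `H`
  have hgrow : ∀ R : Subgroup G, IsPGroup 2 R → z ∈ R → R ≤ H := by
    intro R hR hzR
    by_contra hne
    haveI := hR.isNilpotent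
    have hlt : H.subgroupOf R < ⊤ := by
      rw [lt_top_iff_ne_top]
      intro h
      exact hne fun y hy => Subgroup.mem_subgroupOf.1
        (h ▸ Subgroup.mem_top (⟨y, hy⟩ : R) : (⟨y, hy⟩ : R) ∈ H.subgroupOf R)
    obtain ⟨y, hyN, hyH⟩ := SetLike.exists_of_lt (Group.normalizerCondition_of_isNilpotent _ hlt)
    apply hyH
    rw [Subgroup.mem_subgroupOf]
    have := ((Subgroup.mem_normalizer_iff.1 hyN) ⟨z, hzR⟩).1 (Subgroup.mem_subgroupOf.2 hzH)
    rw [Subgroup.mem_subgroupOf] at this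
    exact inv_mem_iff.1 (hfix (y : G)⁻¹ (by simpa using this))
  -- a 2-element of `H` is conjugate in `H` into `P₀`
  have hinto : ∀ y ∈ H, (∃ k : ℕ, orderOf y = 2 ^ k) → ∃ h ∈ H, h * y * h⁻¹ ∈ P₀ := by
    intro y hy ⟨k, hk⟩
    have hp : IsPGroup 2 (Subgroup.zpowers (⟨y, hy⟩ : H)) := IsPGroup.of_card (n := k) (by
      rw [Nat.card_zpowers, ← Subgroup.orderOf_coe]; exact hk)
    obtain ⟨S, hS⟩ := hp.exists_le_sylow
    set T : Sylow 2 H := P₀.subtype hP₀H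
    obtain ⟨h, hh⟩ := MulAction.exists_smul_eq H S T
    refine ⟨h, h.2, ?_⟩
    have h1 : h * ⟨y, hy⟩ * h⁻¹ ∈ (T : Subgroup H) := by
      rw [← hh, Sylow.coe_subgroup_smul]
      exact Subgroup.smul_mem_pointwise_smul _ (MulAut.conj h) _ (hS (Subgroup.mem_zpowers _))
    exact h1
  obtain ⟨h₁, hh₁, hy₁⟩ := hinto x hxH hx
  obtain ⟨h₂, hh₂, hy₂⟩ := hinto _ hgx (by
    obtain ⟨k, hk⟩ := hx
    refine ⟨k, ?_⟩
    rw [show g * x * g⁻¹ = (MulAut.conj g) x from rfl, MulEquiv.orderOf_eq, hk])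
  set y := h₁ * x * h₁⁻¹ with hydef
  set q := h₂ * g * h₁⁻¹ with hqdef
  have hyz : z * y = y * z := (hP₀ y hy₁).symm
  have hqy : q * y * q⁻¹ ∈ P₀ := by
    convert hy₂ using 1
    rw [hqdef, hydef]; group
  set K := Subgroup.centralizer ({y} : Set G) with hK
  have hzK : z ∈ K := CfsgLib.ThreeTrans.mem_centralizer_singleton_iff'.2 hyz
  have hz'K : q⁻¹ * z * q ∈ K := by
    rw [hK, CfsgLib.ThreeTrans.mem_centralizer_singleton_iff']
    have := (hP₀ _ hqy).symm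
    calc q⁻¹ * z * q * y = q⁻¹ * (z * (q * y * q⁻¹)) * q := by group
      _ = q⁻¹ * ((q * y * q⁻¹) * z) * q := by rw [this]
      _ = y * (q⁻¹ * z * q) := by group
  have hp1 : IsPGroup 2 (Subgroup.zpowers (⟨z, hzK⟩ : K)) := IsPGroup.of_card (n := 1) (by
    rw [Nat.card_zpowers, ← Subgroup.orderOf_coe, pow_one]; exact hz2)
  have hp2 : IsPGroup 2 (Subgroup.zpowers (⟨_, hz'K⟩ : K)) := IsPGroup.of_card (n := 1) (by
    rw [Nat.card_zpowers, ← Subgroup.orderOf_coe, pow_one]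
    show orderOf (q⁻¹ * z * q) = 2
    rw [show q⁻¹ * z * q = (MulAut.conj q⁻¹) z by simp, MulEquiv.orderOf_eq, hz2])
  obtain ⟨R, hR⟩ := hp1.exists_le_sylow
  obtain ⟨R', hR'⟩ := hp2.exists_le_sylow
  obtain ⟨k, hk⟩ := MulAction.exists_smul_eq K R' R
  have hRH : ((R : Subgroup K).map K.subtype) ≤ H :=
    hgrow _ (R.isPGroup'.map _) ⟨_, hR (Subgroup.mem_zpowers _), rfl⟩
  have h3 : (k : G) * (q⁻¹ * z * q) * (k : G)⁻¹ ∈ H := by
    have h4 : k * ⟨_, hz'K⟩ * k⁻¹ ∈ (R : Subgroup K) := by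
      rw [← hk, Sylow.coe_subgroup_smul]
      exact Subgroup.smul_mem_pointwise_smul _ (MulAut.conj k) _ (hR' (Subgroup.mem_zpowers _))
    exact hRH ⟨_, h4, rfl⟩
  have h5 : q * (k : G)⁻¹ ∈ H := hfix _ (by
    convert h3 using 1; group)
  refine ⟨h₂⁻¹ * (q * (k : G)⁻¹) * h₁, mul_mem (mul_mem (inv_mem hh₂) h5) hh₁, ?_⟩
  have hk' : (k : G)⁻¹ * y * (k : G) = y := by
    rw [mul_assoc, ← CfsgLib.ThreeTrans.mem_centralizer_singleton_iff'.1 k.2, inv_mul_cancel_left]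
  calc h₂⁻¹ * (q * (k : G)⁻¹) * h₁ * x * (h₂⁻¹ * (q * (k : G)⁻¹) * h₁)⁻¹
      = h₂⁻¹ * q * ((k : G)⁻¹ * y * (k : G)) * q⁻¹ * h₂ := by rw [hydef]; group
    _ = g * x * g⁻¹ := by rw [hk', hqdef, hydef]; group

end Cfsg.Agent.S5438
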