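import Cfsg.Statements.S5439
import Cfsg.Agent.Lib.ThreeTrans.LargeSetting
import Cfsg.Agent.Lib.ThreeTrans.Dihedral
-- import your own Cfsg.Agent.* helpers here

set_option autoImplicit false
open Cfsg

namespace Cfsg.Agent.S5439

/-- Let I and J be two different conjugacy classes of involutions of the finite group G and H a subgroup such that every member of I ∪ J fixes exactly one coset in the action on the cosets of H, and such that for every a in I ∩ H and every b in (I ∪ J) ∩ H different from a and commuting with it, the centralizer of a b lies in H. Then H = G. -/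
theorem result {G : Type*} [Group G] [Finite G] (I J : Set G) (a₀ b₀ : G) (ha₀ : orderOf a₀ = 2) (hb₀ : orderOf b₀ = 2) (hI : I = {x | IsConj a₀ x}) (hJ : J = {x | IsConj b₀ x}) (hIJ : I ≠ J) (H : Subgroup G) (hfix : ∀ x ∈ I ∪ J, ∃! c : G ⧸ H, x • c = c) (hcent : ∀ a ∈ I, a ∈ H → ∀ b ∈ I ∪ J, b ∈ H → a ≠ b → a * b = b * a → Subgroup.centralizer ({a * b} : Set G) ≤ H) : H = ⊤ := by
  have hne2 : ∀ x : G, orderOf x = 2 → x * x = 1 ∧ x⁻¹ = x := fun x hx =>
    ⟨CfsgLib.ThreeTrans.mul_self_of_orderOf_two hx, CfsgLib.ThreeTrans.inv_of_orderOf_two hx⟩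
  have hordI : ∀ x ∈ I, orderOf x = 2 := by
    intro x hx
    rw [hI] at hx
    obtain ⟨g, rfl⟩ := isConj_iff.1 hx
    rw [show g * a₀ * g⁻¹ = (MulAut.conj g) a₀ from rfl, MulEquiv.orderOf_eq, ha₀]
  have hordJ : ∀ x ∈ J, orderOf x = 2 := by
    intro x hx
    rw [hJ] at hx
    obtain ⟨g, rfl⟩ := isConj_iff.1 hx
    rw [show g * b₀ * g⁻¹ = (MulAut.conj g) b₀ from rfl, MulEquiv.orderOf_eq, hb₀]
  have hcl : ∀ (g : G), (∀ x ∈ I, g * x * g⁻¹ ∈ I) ∧ (∀ x ∈ J, g * x * g⁻¹ ∈ J) := fun g =>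
    ⟨fun x hx => by rw [hI] at hx ⊢; exact IsConj.trans hx (isConj_iff.2 ⟨g, rfl⟩),
     fun x hx => by rw [hJ] at hx ⊢; exact IsConj.trans hx (isConj_iff.2 ⟨g, rfl⟩)⟩
  have hdisj : ∀ x ∈ I, x ∉ J := fun x hxI hxJ => hIJ (by
    rw [hI] at hxI; rw [hJ] at hxJ
    rw [hI, hJ]
    exact Set.ext fun y => ⟨fun h => (hxJ.trans hxI.symm).trans h, fun h => (hxI.trans hxJ.symm).trans h⟩)
  have hfixH : ∀ (x g : G), x • (g : G ⧸ H) = (g : G ⧸ H) ↔ g⁻¹ * x * g ∈ H := by
    intro x g
    rw [MulAction.Quotient.smul_coe, QuotientGroup.eq, smul_eq_mul, mul_inv_rev, ← inv_mem_iff,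
      mul_inv_rev, mul_inv_rev, inv_inv, inv_inv, mul_assoc]
  -- a member of I in H
  obtain ⟨c, hc, -⟩ := hfix a₀ (Or.inl (by rw [hI]; exact IsConj.refl a₀))
  induction c using QuotientGroup.induction_on with
  | H g =>
  set a := g⁻¹ * a₀ * g with hadef
  have haH : a ∈ H := (hfixH a₀ g).1 hc
  have haI : a ∈ I := by
    rw [hI]; exact isConj_iff.2 ⟨g⁻¹, by rw [hadef, inv_inv]⟩
  obtain ⟨haa, hai⟩ := hne2 a (hordI a haI)
  -- members commuting with a are in H
  have hcommH : ∀ y ∈ I ∪ J, Commute a y → y ∈ H := by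
    intro y hy hay
    obtain ⟨d, -, hu⟩ := hfix a (Or.inl haI)
    have h1 : a • ((1 : G) : G ⧸ H) = ((1 : G) : G ⧸ H) := (hfixH a 1).2 (by simpa using haH)
    obtain ⟨e, he, -⟩ := hfix y hy
    have h2 : a • (y • ((1 : G) : G ⧸ H)) = y • ((1 : G) : G ⧸ H) := by
      rw [smul_smul, hay.eq, ← smul_smul, h1]
    have h3 : y • ((1 : G) : G ⧸ H) = ((1 : G) : G ⧸ H) := (hu _ h2).trans (hu _ h1).symm
    simpa using (hfixH y 1).1 h3
  have hJH : ∀ b ∈ J, b ∈ H := by
    intro b hb
    obtain ⟨hbb, hbi⟩ := hne2 b (hordJ b hb)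
    rcases Nat.even_or_odd (orderOf (a * b)) with ⟨m, hm⟩ | ⟨k, hk⟩
    · set z := (a * b) ^ m with hz
      have hzz : z⁻¹ = z := inv_eq_of_mul_eq_one_right (by rw [hz, ← pow_add, ← hm, pow_orderOf_eq_one])
      have hz1 : z ≠ 1 := fun h1 => by
        have hpos := orderOf_pos (a * b)
        have := orderOf_le_of_pow_eq_one (show 0 < m by omega) h1
        omega
      have haz : Commute a z := by
        show a * z = z * a
        rw [hz, CfsgLib.ThreeTrans.left_mul_pow_mul hai hbi, ← hz, hzz]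
      have hbz : Commute b z := by
        have : Commute (a * (a * b)) z := haz.mul_left ((Commute.refl (a * b)).pow_right m)
        rwa [← mul_assoc, haa, one_mul] at this
      have hmem : a * z ∈ I ∪ J := by
        rcases Nat.even_or_odd m with ⟨k, hk⟩ | ⟨k, hk⟩
        · left
          have := (hcl ((a * b) ^ k)⁻¹).1 a haI
          rw [inv_inv, CfsgLib.ThreeTrans.conj_pow_first hai hbi, two_mul, ← hk] at this
          exact this
        · right
          have := (hcl ((a * b) ^ k)⁻¹).2 b hb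
          rw [inv_inv, CfsgLib.ThreeTrans.conj_pow_second hai hbi] at this
          convert this using 1
          rw [hz, hk, _root_.pow_succ', ← mul_assoc a, ← mul_assoc a a b, haa, one_mul]
      have hca : Commute a (a * z) := (Commute.refl a).mul_right haz
      have hC := hcent a haI haH (a * z) hmem (hcommH _ hmem hca)
        (fun h => hz1 (mul_eq_left.1 h.symm)) hca.eq
      refine hC (CfsgLib.ThreeTrans.mem_centralizer_singleton_iff'.2 ?_)
      rw [← mul_assoc a a z, haa, one_mul]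
      exact hbz.eq
    · -- a product of odd order would make the two conjugate
      exfalso
      apply hdisj b _ hb
      have := (hcl ((a * b) ^ (k + 1))⁻¹).1 a haI
      rw [inv_inv, CfsgLib.ThreeTrans.conj_pow_first hai hbi, show 2 * (k + 1) = 2 * k + 1 + 1 by omega,
        _root_.pow_succ, ← hk, pow_orderOf_eq_one, one_mul, ← mul_assoc, haa, one_mul] at this
      exact this
  rw [eq_top_iff]
  rintro x -
  have hbJ : b₀ ∈ J := by rw [hJ]; exact IsConj.refl b₀
  obtain ⟨d, -, hu⟩ := hfix b₀ (Or.inr hbJ)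
  have h1 : ∀ y : G, b₀ • (y : G ⧸ H) = (y : G ⧸ H) := fun y => (hfixH b₀ y).2 (hJH _ (by
    have := (hcl y⁻¹).2 b₀ hbJ
    rwa [inv_inv] at this))
  have h2 := (hu _ (h1 1)).trans (hu _ (h1 x)).symm
  simpa using QuotientGroup.eq.1 h2

end Cfsg.Agent.S5439
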