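import Cfsg.Statements.S5440
import Cfsg.Agent.Lib.ThreeTrans.LargeFischer.Classes
-- import your own Cfsg.Agent.* helpers here

set_option autoImplicit false
open Cfsg

namespace Cfsg.Agent.S5440

/-- Let G be a finite group of large Fischer type at the involution z: the generalized Fitting subgroup Q of H = C_G(z) is extraspecial of order 2^13, H has normal subgroups Q ≤ H₁ ≤ H₂ with H₁/Q of order 3, H₂/H₁ the projective special unitary group of dimension 4 over the field with nine elements and H₂ of index 2 in H, and some conjugate of z other than z lies in Q. Then H has exactly two orbits, under conjugation, on the involutions of Q other than z. -/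
theorem result {G : Type*} [Group G] [Finite G] (z : G) (Q : Subgroup (Subgroup.centralizer ({z} : Set G))) [Q.Normal] (hF : Cfsg.IsOfLargeFischerTypeAt z Q) : ∃ s t : Subgroup.centralizer ({z} : Set G), s ∈ Q ∧ t ∈ Q ∧ orderOf s = 2 ∧ orderOf t = 2 ∧ (s : G) ≠ z ∧ (t : G) ≠ z ∧ (¬ ∃ h : Subgroup.centralizer ({z} : Set G), h * s * h⁻¹ = t) ∧ ∀ x : Subgroup.centralizer ({z} : Set G), x ∈ Q → orderOf x = 2 → (x : G) ≠ z → (∃ h : Subgroup.centralizer ({z} : Set G), h * s * h⁻¹ = x) ∨ ∃ h : Subgroup.centralizer ({z} : Set G), h * t * h⁻¹ = x := by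
  classical
  obtain ⟨F⟩ := CfsgLib.ThreeTrans.LargeFischer.exists_coord hF
  obtain ⟨-, -, hA, hB, hiA, hiB⟩ := CfsgLib.ThreeTrans.LargeFischer.roots_ok
  obtain ⟨a, ha⟩ := F.surj CfsgLib.ThreeTrans.LargeFischer.rootA
  obtain ⟨b, hb⟩ := F.surj CfsgLib.ThreeTrans.LargeFischer.rootB
  rw [← ha] at hiA hA
  rw [← hb] at hiB hB
  obtain ⟨a2, a1⟩ := F.invol_of_isoV hiA
  obtain ⟨b2, b1⟩ := F.invol_of_isoV hiB
  obtain ⟨s, hs, es⟩ := a.2
  obtain ⟨t, ht, et⟩ := b.2
  refine ⟨s, t, hs, ht, (Subgroup.orderOf_coe s).symm.trans ((congrArg orderOf es).trans a2),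
    (Subgroup.orderOf_coe t).symm.trans ((congrArg orderOf et).trans b2), fun e => a1 (es.symm.trans e),
    fun e => b1 (et.symm.trans e), ?_, fun x hx hx2 hxz => ?_⟩
  · rintro ⟨c, hc⟩
    have h1 : (b : G) = (c : G) * a * (c : G)⁻¹ := by
      rw [← es, ← et, ← hc]; rfl
    exact hB ((F.om_conj c h1).2 hA)
  · let X : ↥(Q.map (Subgroup.centralizer ({z} : Set G)).subtype) := ⟨(x : G), x, hx, rfl⟩
    have hX := F.isoV_of_invol (x := X) ((Subgroup.orderOf_coe x).trans hx2) hxz
    by_cases hO : CfsgLib.Sporadic.U43Triple.Om 1 (F.ψ X)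
    · obtain ⟨d, hd⟩ := F.conj_of_om hiA hX (iff_of_true hA hO)
      rw [← es] at hd
      exact Or.inl ⟨d, Subtype.ext hd⟩
    · obtain ⟨d, hd⟩ := F.conj_of_om hiB hX (iff_of_false hB hO)
      rw [← et] at hd
      exact Or.inr ⟨d, Subtype.ext hd⟩

end Cfsg.Agent.S5440
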