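import Cfsg.Statements.S5441
import Cfsg.Agent.Lib.ThreeTrans.LargeFischer.Centre
-- import your own Cfsg.Agent.* helpers here

set_option autoImplicit false
open Cfsg

namespace Cfsg.Agent.S5441

/-- Let G be a finite group of large Fischer type at the involution z: the generalized Fitting subgroup Q of H = C_G(z) is extraspecial of order 2^13, H has normal subgroups Q ≤ H₁ ≤ H₂ with H₁/Q of order 3, H₂/H₁ the projective special unitary group of dimension 4 over the field with nine elements and H₂ of index 2 in H, and some conjugate of z other than z lies in Q. Then the conjugates of z lying in Q and different from z form a single orbit under conjugation by H. -/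
theorem result {G : Type*} [Group G] [Finite G] (z : G) (Q : Subgroup (Subgroup.centralizer ({z} : Set G))) [Q.Normal] (hF : Cfsg.IsOfLargeFischerTypeAt z Q) (s t : G) (hsQ : ∃ hsc : s ∈ Subgroup.centralizer ({z} : Set G), (⟨s, hsc⟩ : Subgroup.centralizer ({z} : Set G)) ∈ Q) (htQ : ∃ htc : t ∈ Subgroup.centralizer ({z} : Set G), (⟨t, htc⟩ : Subgroup.centralizer ({z} : Set G)) ∈ Q) (hs : IsConj z s) (ht : IsConj z t) (hs1 : s ≠ z) (ht1 : t ≠ z) : ∃ h ∈ Subgroup.centralizer ({z} : Set G), h * s * h⁻¹ = t := by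
  obtain ⟨F⟩ := CfsgLib.ThreeTrans.LargeFischer.exists_coord hF
  obtain ⟨g, rfl⟩ := isConj_iff.1 hs
  obtain ⟨k, rfl⟩ := isConj_iff.1 ht
  obtain ⟨hsc, hs'⟩ := hsQ
  obtain ⟨htc, ht'⟩ := htQ
  have hA : g * z * g⁻¹ ∈ Q.map (Subgroup.centralizer ({z} : Set G)).subtype := ⟨_, hs', rfl⟩
  have hB : k * z * k⁻¹ ∈ Q.map (Subgroup.centralizer ({z} : Set G)).subtype := ⟨_, ht', rfl⟩
  have ho : ∀ a : G, orderOf (a * z * a⁻¹) = 2 := fun a =>
    (orderOf_injective (MulAut.conj a).toMonoidHom (MulAut.conj a).injective z).trans F.large.hz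
  obtain ⟨d, hd⟩ := F.conj_of_om (a := ⟨_, hA⟩) (b := ⟨_, hB⟩) (F.isoV_of_invol (ho g) hs1)
    (F.isoV_of_invol (ho k) ht1) (iff_of_false (F.not_om hA hs1) (F.not_om hB ht1))
  exact ⟨d, d.2, hd⟩

end Cfsg.Agent.S5441
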