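import Cfsg.Statements.S5442
import Cfsg.Agent.Lib.ThreeTrans.LargeFischer.Stabiliser
-- import your own Cfsg.Agent.* helpers here

set_option autoImplicit false
open Cfsg

namespace Cfsg.Agent.S5442

/-- Let G be a finite group of large Fischer type at the involution z: the generalized Fitting subgroup Q of H = C_G(z) is extraspecial of order 2^13, H has normal subgroups Q ≤ H₁ ≤ H₂ with H₁/Q of order 3, H₂/H₁ the projective special unitary group of dimension 4 over the field with nine elements and H₂ of index 2 in H, and some conjugate of z other than z lies in Q. Let s = g z g⁻¹ be a conjugate of z lying in Q and different from z. Then the intersection of Q and g Q g⁻¹ (as subgroups of G) is elementary abelian of order 2^7; and in H/Q, writing X for the image of the centralizer of s in H and E for the image of the intersection of g Q g⁻¹ with H, E is a normal subgroup of X, elementary abelian of order 32, with X/E isomorphic to the alternating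 group of degree 6. -/
theorem result {G : Type*} [Group G] [Finite G] (z : G) (Q : Subgroup (Subgroup.centralizer ({z} : Set G))) [Q.Normal] (hF : Cfsg.IsOfLargeFischerTypeAt z Q) (s : G) (hsQ : ∃ hsc : s ∈ Subgroup.centralizer ({z} : Set G), (⟨s, hsc⟩ : Subgroup.centralizer ({z} : Set G)) ∈ Q) (hs : IsConj z s) (hs1 : s ≠ z) (g : G) (hg : g * z * g⁻¹ = s) (X E : Subgroup ((Subgroup.centralizer ({z} : Set G)) ⧸ Q)) (hX : X = ((Subgroup.centralizer ({z} : Set G) ⊓ Subgroup.centralizer ({s} : Set G)).subgroupOf (Subgroup.centralizer ({z} : Set G))).map (QuotientGroup.mk' Q)) (hE : E = ((((Q.map (Subgroup.centralizer ({z} : Set G)).subtype)).map (MulAut.conj g).toMonoidHom ⊓ Subgroup.centralizer ({z} : Set G)).subgroupOf (Subgroup.centralizer ({z} : Set G))).map (QuotientGroup.mk' Q)) : Cfsg.IsElementaryAbelian 2 ((Q.map (Subgroup.centralizer ({z} : Set G)).subtype) ⊓ ((Q.map (Subgroup.centralizer ({z} : Set G)).subtype)).map (MulAut.conj g).toMonoidHom)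 ∧ Nat.card ↥((Q.map (Subgroup.centralizer ({z} : Set G)).subtype) ⊓ ((Q.map (Subgroup.centralizer ({z} : Set G)).subtype)).map (MulAut.conj g).toMonoidHom) = 2 ^ 7 ∧ E ≤ X ∧ (∀ x ∈ X, ∀ y ∈ E, x * y * x⁻¹ ∈ E) ∧ Cfsg.IsElementaryAbelian 2 E ∧ Nat.card E = 32 ∧ ∃ _ : (E.subgroupOf X).Normal, Nonempty (↥X ⧸ E.subgroupOf X ≃* alternatingGroup (Fin 6)) := by
  classical
  subst hg
  obtain ⟨F₀⟩ := CfsgLib.ThreeTrans.LargeFischer.exists_coord hF
  obtain ⟨hsc, hs'⟩ := hsQ
  have hmem : g * z * g⁻¹ ∈ Q.map (Subgroup.centralizer ({z} : Set G)).subtype := ⟨_, hs', rfl⟩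
  obtain ⟨d, hd⟩ := F₀.exists_rootB hmem hs1
  let F := F₀.shift d
  have R : F.AtRoot g := ⟨hmem, hs1, hd⟩
  have hQm : ∀ c : ↥(Subgroup.centralizer ({z} : Set G)),
      (c : G) ∈ Q.map (Subgroup.centralizer ({z} : Set G)).subtype ↔ c ∈ Q := fun c =>
    Subgroup.mem_map_iff_mem (Subgroup.centralizer ({z} : Set G)).subtype_injective
  have hker : ∀ c, F.act c = 1 ↔ c ∈ Q := fun c => (F.act_eq_one c).trans (hQm c)
  let bar : ↥(Subgroup.centralizer ({z} : Set G)) ⧸ Q →* Equiv.Perm CfsgLib.ThreeTrans.LargeFischer.V6 :=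
    QuotientGroup.lift Q F.act fun c hc => (hker c).2 hc
  have hbar : Function.Injective bar := by
    rw [injective_iff_map_eq_one]
    intro p hp
    obtain ⟨c, rfl⟩ := QuotientGroup.mk_surjective p
    exact (QuotientGroup.eq_one_iff c).2 ((hker c).1 hp)
  set S := CfsgLib.ThreeTrans.LargeFischer.Coord.side z (Q.map (Subgroup.centralizer ({z} : Set G)).subtype) g
    with hS
  have hE' : E = S.map (QuotientGroup.mk' Q) := hE
  have hX' : ∀ p, p ∈ X ↔ ∃ c : ↥(Subgroup.centralizer ({z} : Set G)),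
      Commute (c : G) (g * z * g⁻¹) ∧ QuotientGroup.mk c = p := by
    intro p
    rw [hX, Subgroup.mem_map]
    constructor
    · rintro ⟨c, hc, rfl⟩
      exact ⟨c, CfsgLib.ThreeTrans.mem_centralizer_singleton_iff'.1 (Subgroup.mem_subgroupOf.1 hc).2, rfl⟩
    · rintro ⟨c, hc, rfl⟩
      exact ⟨c, Subgroup.mem_subgroupOf.2 ⟨c.2, CfsgLib.ThreeTrans.mem_centralizer_singleton_iff'.2 hc.eq⟩, rfl⟩
  have hEX : E ≤ X := by
    rw [hE']
    rintro _ ⟨e, he, rfl⟩
    exact (hX' _).2 ⟨e, R.commute_side he, rfl⟩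
  have hEn : ∀ x ∈ X, ∀ y ∈ E, x * y * x⁻¹ ∈ E := by
    intro x hx y hy
    obtain ⟨c, hc, rfl⟩ := (hX' x).1 hx
    rw [hE'] at hy ⊢
    obtain ⟨e, he, rfl⟩ := hy
    refine ⟨c * e * c⁻¹, R.mem_side.2 ?_, by simp⟩
    exact (R.pair.centralizer_conj ⟨CfsgLib.ThreeTrans.LargeFischer.mem_C_commute c, hc⟩).2 (R.mem_side.1 he)
  have hEel : Cfsg.IsElementaryAbelian 2 E := by
    refine ⟨⟨⟨fun a b => Subtype.ext ?_⟩⟩, fun a ha => ?_⟩
    · obtain ⟨e, he, ea⟩ : a.1 ∈ S.map (QuotientGroup.mk' Q) := hE' ▸ a.2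
      obtain ⟨f, hf, eb⟩ : b.1 ∈ S.map (QuotientGroup.mk' Q) := hE' ▸ b.2
      apply hbar
      show bar (a.1 * b.1) = bar (b.1 * a.1)
      rw [← ea, ← eb, ← map_mul, ← map_mul]
      exact (R.act_comm he hf).1
    · rw [hE'] at ha
      obtain ⟨e, he, rfl⟩ := ha
      apply hbar
      rw [← map_pow, map_one, pow_two]
      exact (R.act_comm he he).2
  have hEc : Nat.card E = 32 := by
    rw [← R.counts.1, hE', ← Subgroup.card_map_of_injective hbar, Subgroup.map_map]
    rfl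
  refine ⟨R.pair.inf_elementary, R.counts.2.1, hEX, hEn, hEel, hEc, ?_⟩
  have hn : (E.subgroupOf X).Normal := ⟨fun y hy x => hEn x.1 x.2 y.1 hy⟩
  refine ⟨hn, ?_⟩
  obtain ⟨α, hα, hαker⟩ := CfsgLib.ThreeTrans.LargeFischer.Coord.exists_alt R
  let β : ↥(CfsgLib.ThreeTrans.LargeFischer.Coord.fixM R) →* ↥X ⧸ E.subgroupOf X :=
    (QuotientGroup.mk' (E.subgroupOf X)).comp
      (((QuotientGroup.mk' Q).comp (Subgroup.subtype _)).codRestrict X fun c =>
        (hX' _).2 ⟨c.1, ((CfsgLib.ThreeTrans.LargeFischer.Coord.mem_fixM R).1 c.2).2, rfl⟩)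
  have hβ : Function.Surjective β := by
    intro q
    obtain ⟨⟨p, hp⟩, rfl⟩ := QuotientGroup.mk_surjective q
    obtain ⟨c, hc, rfl⟩ := (hX' p).1 hp
    obtain ⟨e, he, hce⟩ := CfsgLib.ThreeTrans.LargeFischer.Coord.exists_mul_side R c hc
    refine ⟨⟨c * e, hce⟩, QuotientGroup.eq.2 (Subgroup.mem_subgroupOf.2 ?_)⟩
    show (QuotientGroup.mk (c * e))⁻¹ * QuotientGroup.mk c ∈ E
    rw [hE', QuotientGroup.mk_mul, mul_inv_rev, inv_mul_cancel_right]
    exact ⟨e⁻¹, inv_mem he, rfl⟩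
  have hk : β.ker = α.ker := by
    ext c
    rw [MonoidHom.mem_ker, MonoidHom.mem_ker, hαker]
    constructor
    · intro h
      have h' : (QuotientGroup.mk c.1 : ↥(Subgroup.centralizer ({z} : Set G)) ⧸ Q) ∈ E :=
        Subgroup.mem_subgroupOf.1 ((QuotientGroup.eq_one_iff _).1 h)
      rw [hE'] at h'
      obtain ⟨e, he, ee⟩ := h'
      exact ⟨e, he, (congrArg bar ee).symm⟩
    · rintro ⟨e, he, hce⟩
      refine (QuotientGroup.eq_one_iff _).2 (Subgroup.mem_subgroupOf.2 ?_)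
      rw [hE']
      exact ⟨e, he, hbar hce.symm⟩
  exact ⟨((QuotientGroup.quotientKerEquivOfSurjective β hβ).symm.trans
    (QuotientGroup.quotientMulEquivOfEq hk)).trans (QuotientGroup.quotientKerEquivOfSurjective α hα)⟩

end Cfsg.Agent.S5442
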