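import Cfsg.Statements.S5443
import Cfsg.Agent.Lib.ThreeTrans.LargeFischer.StabOrth
-- import your own Cfsg.Agent.* helpers here

set_option autoImplicit false
open Cfsg

namespace Cfsg.Agent.S5443

/-- Let G be a finite group of large Fischer type at the involution z: the generalized Fitting subgroup Q of H = C_G(z) is extraspecial of order 2^13, H has normal subgroups Q ≤ H₁ ≤ H₂ with H₁/Q of order 3, H₂/H₁ the projective special unitary group of dimension 4 over the field with nine elements and H₂ of index 2 in H, and some conjugate of z other than z lies in Q. Let t be an involution of Q not conjugate to z in G, and S the set of elements of H conjugating t to t or to t z (the stabilizer of the image of t in Q modulo its centre). Then the image of S in H/Q is isomorphic to the full isometry group of the elliptic quadratic form in dimension 6 over the field with two elements. -/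
theorem result {G : Type*} [Group G] [Finite G] (z : G) (Q : Subgroup (Subgroup.centralizer ({z} : Set G))) [Q.Normal] (hF : Cfsg.IsOfLargeFischerTypeAt z Q) (t : Subgroup.centralizer ({z} : Set G)) (htQ : t ∈ Q) (ht2 : orderOf t = 2) (ht : ¬ IsConj z (t : G)) (S : Subgroup (Subgroup.centralizer ({z} : Set G))) (hS : ∀ h : Subgroup.centralizer ({z} : Set G), h ∈ S ↔ (h * t * h⁻¹ = t ∨ ((h * t * h⁻¹ : Subgroup.centralizer ({z} : Set G)) : G) = t * z)) : Nonempty (↥(S.map (QuotientGroup.mk' Q)) ≃* Cfsg.isometryGroup (ZMod 2) (Cfsg.quadFormMinus 2 (ZMod 2) 1 1)) := by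
  classical
  obtain ⟨F₀⟩ := CfsgLib.ThreeTrans.LargeFischer.exists_coord hF
  obtain ⟨⟨-, -, -, -, g, ⟨hgc, hgQ⟩, hgne⟩, -⟩ := hF
  have hmem : ∀ c : ↥(Subgroup.centralizer ({z} : Set G)),
      (c : G) ∈ Q.map (Subgroup.centralizer ({z} : Set G)).subtype ↔ c ∈ Q := fun c =>
    Subgroup.mem_map_iff_mem (Subgroup.centralizer ({z} : Set G)).subtype_injective
  let T : ↥(Q.map (Subgroup.centralizer ({z} : Set G)).subtype) := ⟨(t : G), (hmem t).2 htQ⟩
  let X : ↥(Q.map (Subgroup.centralizer ({z} : Set G)).subtype) := ⟨g * z * g⁻¹, _, hgQ, rfl⟩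
  have htz : (t : G) ≠ z := fun e => ht (isConj_iff.2 ⟨1, by simp [e]⟩)
  have hT := F₀.isoV_of_invol (x := T) ((Subgroup.orderOf_coe t).trans ht2) htz
  have hx2 : orderOf (g * z * g⁻¹) = 2 :=
    (orderOf_injective (MulAut.conj g).toMonoidHom (MulAut.conj g).injective z).trans F₀.large.hz
  have hTO : CfsgLib.Sporadic.U43Triple.Om 1 (F₀.ψ T) := by
    by_contra h
    obtain ⟨d, hd⟩ := F₀.conj_of_om hT (F₀.isoV_of_invol (x := X) hx2 hgne)
      (iff_of_false h (F₀.not_om _ hgne))
    have h1 : IsConj (t : G) (g * z * g⁻¹) := isConj_iff.2 ⟨(d : G), hd⟩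
    exact ht ((isConj_iff.2 ⟨g, rfl⟩ : IsConj z (g * z * g⁻¹)).trans h1.symm)
  obtain ⟨a, ha⟩ := F₀.surj CfsgLib.ThreeTrans.LargeFischer.rootA
  obtain ⟨-, -, hA, -, hiA, -⟩ := CfsgLib.ThreeTrans.LargeFischer.roots_ok
  obtain ⟨d, hd⟩ := F₀.conj_of_om hT (b := a) (by rw [ha]; exact hiA) (by rw [ha]; exact iff_of_true hTO hA)
  let F := F₀.shift d
  have hroot : F.ψ T = CfsgLib.ThreeTrans.LargeFischer.rootA :=
    (congrArg F₀.ψ (Subtype.ext hd)).trans ha
  obtain ⟨e⟩ := F.stab_iso ⟨g, X.2, hgne⟩ T hroot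
  let bar : ↥(Subgroup.centralizer ({z} : Set G)) ⧸ Q →* Equiv.Perm CfsgLib.ThreeTrans.LargeFischer.V6 :=
    QuotientGroup.lift Q F.act fun c hc => (F.act_eq_one c).2 ((hmem c).2 hc)
  have hbar : Function.Injective bar := by
    rw [injective_iff_map_eq_one]
    intro p hp
    obtain ⟨c, rfl⟩ := QuotientGroup.mk_surjective p
    exact (QuotientGroup.eq_one_iff c).2 ((hmem c).1 ((F.act_eq_one c).1 hp))
  have hSF : S = F.fixA := by
    ext h
    rw [hS, F.mem_fixA, ← hroot]
    let H : ↥(Q.map (Subgroup.centralizer ({z} : Set G)).subtype) :=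
      ⟨(h : G) * (t : G) * (h : G)⁻¹, F.large.conj_mem (CfsgLib.ThreeTrans.LargeFischer.mem_C_commute h) T.2⟩
    rw [F.act_conj h T H rfl]
    constructor
    · intro hh
      have h0 : F.ψ (H * T⁻¹) = 0 := by
        rw [F.eq_zero]
        rcases hh with e | e
        · show (h : G) * t * (h : G)⁻¹ * (t : G)⁻¹ ∈ _
          rw [show (h : G) * t * (h : G)⁻¹ = t from congrArg Subtype.val e, mul_inv_cancel]
          exact one_mem _
        · show (h : G) * t * (h : G)⁻¹ * (t : G)⁻¹ ∈ _
          rw [show (h : G) * t * (h : G)⁻¹ = (t : G) * z from e, (F.large.commute_z T.2).eq, mul_inv_cancel_right]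
          exact Subgroup.mem_zpowers z
      calc F.ψ H = F.ψ (H * T⁻¹ * T) := by rw [inv_mul_cancel_right]
        _ = F.ψ T := by rw [F.map_mul, h0, zero_add]
    · intro hh
      rcases F.eq_or_of_eq hh.symm with e | e
      · exact Or.inl (Subtype.ext e)
      · exact Or.inr (e.trans (F.large.commute_z T.2).eq.symm)
  exact ⟨(((S.map (QuotientGroup.mk' Q)).equivMapOfInjective bar hbar).trans
    (MulEquiv.subgroupCongr (by rw [Subgroup.map_map, hSF]; rfl))).trans e⟩

end Cfsg.Agent.S5443
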