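import Cfsg.Statements.S5444
import Cfsg.Agent.Lib.ThreeTrans.LargeFischer.Thompson
-- import your own Cfsg.Agent.* helpers here

set_option autoImplicit false
open Cfsg

namespace Cfsg.Agent.S5444

/-- Let G be a finite group of large Fischer type at the involution z: the generalized Fitting subgroup Q of H = C_G(z) is extraspecial of order 2^13, H has normal subgroups Q ≤ H₁ ≤ H₂ with H₁/Q of order 3, H₂/H₁ the projective special unitary group of dimension 4 over the field with nine elements and H₂ of index 2 in H, and some conjugate of z other than z lies in Q. Let T be a Sylow 2-subgroup of H. Then T has exactly one elementary abelian subgroup A of largest order; A has order 2^11, it meets Q in a subgroup of order 2^7, and its image in H/Q has order 16. -/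
theorem result {G : Type*} [Group G] [Finite G] (z : G) (Q : Subgroup (Subgroup.centralizer ({z} : Set G))) [Q.Normal] (hF : Cfsg.IsOfLargeFischerTypeAt z Q) (T : Sylow 2 ↥(Subgroup.centralizer ({z} : Set G))) : ∃ A : Subgroup ↥(T : Subgroup (Subgroup.centralizer ({z} : Set G))), Cfsg.maxElementaryAbelianSubgroups 2 ↥(T : Subgroup (Subgroup.centralizer ({z} : Set G))) = {A} ∧ Nat.card A = 2 ^ 11 ∧ Nat.card ↥(A.map (T : Subgroup (Subgroup.centralizer ({z} : Set G))).subtype ⊓ Q) = 2 ^ 7 ∧ Nat.card ↥((A.map (T : Subgroup (Subgroup.centralizer ({z} : Set G))).subtype).map (QuotientGroup.mk' Q)) = 16 := by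
  classical
  haveI : Fact (Nat.Prime 2) := ⟨Nat.prime_two⟩
  obtain ⟨F₀⟩ := CfsgLib.ThreeTrans.LargeFischer.exists_coord hF
  obtain ⟨⟨-, -, -, -, g, ⟨hgc, hgQ⟩, hgne⟩, -⟩ := hF
  have hg : ∃ g : G, g * z * g⁻¹ ∈ Q.map (Subgroup.centralizer ({z} : Set G)).subtype ∧ g * z * g⁻¹ ≠ z :=
    ⟨g, ⟨⟨_, hgc⟩, hgQ, rfl⟩, hgne⟩
  have hmem : ∀ c : ↥(Subgroup.centralizer ({z} : Set G)),
      (c : G) ∈ Q.map (Subgroup.centralizer ({z} : Set G)).subtype ↔ c ∈ Q := fun c =>
    Subgroup.mem_map_iff_mem (Subgroup.centralizer ({z} : Set G)).subtype_injective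
  obtain ⟨d, hd⟩ := F₀.exists_shift_plane hg T
  let F := F₀.shift d
  have hle : F.bigA ≤ (T : Subgroup _) := F.bigA_le_sylow hg T hd
  obtain ⟨hcA, -⟩ := F.bigA_counts hg
  let A : Subgroup ↥(T : Subgroup (Subgroup.centralizer ({z} : Set G))) := F.bigA.subgroupOf (T : Subgroup _)
  have hmap : A.map (T : Subgroup (Subgroup.centralizer ({z} : Set G))).subtype = F.bigA :=
    Subgroup.map_subgroupOf_eq_of_le hle
  have hA : Nat.card ↥A = 2 ^ 11 := by
    rw [Nat.card_congr (Subgroup.subgroupOfEquivOfLe hle).toEquiv, hcA]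
  have hAel : Cfsg.IsElementaryAbelian 2 A := by
    have hsq : ∀ x ∈ A, x * x = 1 := fun x hx => Subtype.ext (F.bigA_sq hg hx)
    refine ⟨⟨⟨fun a b => Subtype.ext ?_⟩⟩, fun a ha => by rw [pow_two]; exact hsq a ha⟩
    have hi : ∀ x ∈ A, x⁻¹ = x := fun x hx => inv_eq_of_mul_eq_one_left (hsq x hx)
    show (a : ↥(T : Subgroup (Subgroup.centralizer ({z} : Set G)))) * b = b * a
    rw [← hi _ (mul_mem a.2 b.2), mul_inv_rev, hi _ b.2, hi _ a.2]
  have hmax : ∀ B : Subgroup ↥(T : Subgroup (Subgroup.centralizer ({z} : Set G))),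
      Cfsg.IsElementaryAbelian 2 B → 2 ^ 11 ≤ Nat.card ↥B → B = A := by
    intro B hB hcard
    refine Subgroup.map_injective (T : Subgroup (Subgroup.centralizer ({z} : Set G))).subtype_injective ?_
    rw [hmap]
    refine F.eq_bigA hg ?_ ?_ (by rw [Subgroup.card_subtype]; exact hcard)
    · rintro _ ⟨x, -, rfl⟩; exact hd x.2
    · rintro _ ⟨x, hx, rfl⟩
      rw [← map_mul, ← pow_two, hB.2 x hx, map_one]
  refine ⟨A, ?_, hA, ?_, ?_⟩
  · ext B
    simp only [Cfsg.maxElementaryAbelianSubgroups, Set.mem_setOf_eq, Set.mem_singleton_iff]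
    refine ⟨fun h => hmax B h.1 (hA ▸ h.2 A hAel), ?_⟩
    rintro rfl
    refine ⟨hAel, fun C hC => ?_⟩
    by_contra hc
    have := hmax C hC (by omega)
    rw [this] at hc
    exact hc le_rfl
  · rw [hmap, show F.bigA ⊓ Q = F.planeSub from le_antisymm (fun x hx => F.bigA_inf hx.1 ((hmem x).2 hx.2))
      (le_inf F.planeSub_le_bigA fun x hx => (hmem x).1 hx.1)]
    exact F.card_planeSub
  · rw [hmap]
    have h1 : Nat.card ↥((QuotientGroup.mk' Q).comp F.bigA.subtype).ker = 2 ^ 7 := by
      rw [← F.card_planeSub]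
      exact Nat.card_congr
        { toFun := fun k => ⟨k.1.1, F.bigA_inf k.1.2 ((hmem _).2 ((QuotientGroup.eq_one_iff _).1 k.2))⟩
          invFun := fun q => ⟨⟨q.1, F.planeSub_le_bigA q.2⟩, (QuotientGroup.eq_one_iff _).2 ((hmem _).1 q.2.1)⟩
          left_inv := fun k => rfl
          right_inv := fun q => rfl }
    have h2 : Nat.card ↥F.bigA = Nat.card ↥(F.bigA.map (QuotientGroup.mk' Q)) *
        Nat.card ↥((QuotientGroup.mk' Q).comp F.bigA.subtype).ker := by
      rw [Subgroup.card_eq_card_quotient_mul_card_subgroup ((QuotientGroup.mk' Q).comp F.bigA.subtype).ker,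
        Nat.card_congr (QuotientGroup.quotientKerEquivRange ((QuotientGroup.mk' Q).comp F.bigA.subtype)).toEquiv,
        MonoidHom.range_comp, Subgroup.range_subtype]
    rw [h1, hcA] at h2
    omega

end Cfsg.Agent.S5444
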