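import Cfsg.Statements.S5445
import Cfsg.Agent.Lib.ThreeTrans.LargeFischer.EightLocal
-- import your own Cfsg.Agent.* helpers here

set_option autoImplicit false
open Cfsg
open scoped commutatorElement

namespace Cfsg.Agent.S5445

/-- Let G be a finite group of large Fischer type at the involution z: the generalized Fitting subgroup Q of H = C_G(z) is extraspecial of order 2^13, H has normal subgroups Q ≤ H₁ ≤ H₂ with H₁/Q of order 3, H₂/H₁ the projective special unitary group of dimension 4 over the field with nine elements and H₂ of index 2 in H, and some conjugate of z other than z lies in Q. Then G has an elementary abelian subgroup V of order 8 containing z whose normalizer L has the following structure: the largest normal 2-subgroup R of L is special of order 2^15 with centre V, and L/R is isomorphic to the direct product of SL(3, 2) and the alternating group of degree 6. -/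
theorem result {G : Type*} [Group G] [Finite G] (z : G) (Q : Subgroup (Subgroup.centralizer ({z} : Set G))) [Q.Normal] (hF : Cfsg.IsOfLargeFischerTypeAt z Q) : ∃ V : Subgroup G, Cfsg.IsElementaryAbelian 2 V ∧ Nat.card V = 8 ∧ z ∈ V ∧ ∃ R : Subgroup G, R = (Cfsg.pCore 2 ↥(Subgroup.normalizer (V : Set G))).map (Subgroup.normalizer (V : Set G)).subtype ∧ Cfsg.IsSpecial 2 ↥R ∧ Nat.card R = 2 ^ 15 ∧ (Subgroup.center ↥R).map R.subtype = V ∧ ∃ _ : (R.subgroupOf (Subgroup.normalizer (V : Set G))).Normal, Nonempty (↥(Subgroup.normalizer (V : Set G)) ⧸ R.subgroupOf (Subgroup.normalizer (V : Set G)) ≃* Matrix.SpecialLinearGroup (Fin 3) (ZMod 2) × ↥(alternatingGroup (Fin 6))) := by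
  classical
  haveI : Fact (Nat.Prime 2) := ⟨Nat.prime_two⟩
  obtain ⟨F₀⟩ := CfsgLib.ThreeTrans.LargeFischer.exists_coord hF
  obtain ⟨⟨-, -, -, -, g, ⟨hgc, hgQ⟩, hgne⟩, -⟩ := hF
  have hgmem : g * z * g⁻¹ ∈ Q.map (Subgroup.centralizer ({z} : Set G)).subtype := ⟨⟨_, hgc⟩, hgQ, rfl⟩
  obtain ⟨d, hd⟩ := F₀.exists_rootB hgmem hgne
  let F := F₀.shift d
  have R : F.AtRoot g := ⟨hgmem, hgne, hd⟩
  obtain ⟨Φ, hΦ, hker, hcore⟩ := R.local_structure
  obtain ⟨φ, -, -, htrans⟩ := R.exists_phi
  have hRle : F.rEight ≤ F.nEight := fun r hr => R.mem_nEight fun v hv => by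
    rw [(F.mem_cEight.1 hr.1 v hv).eq, mul_inv_cancel_right]; exact hv
  have hel : Cfsg.IsElementaryAbelian 2 F.eight :=
    ⟨⟨⟨fun a b => Subtype.ext ((CfsgLib.ThreeTrans.LargeFischer.Coord.eight_elementary F a.2 b.2).1).eq⟩⟩,
      fun a ha => by rw [pow_two]; exact (CfsgLib.ThreeTrans.LargeFischer.Coord.eight_elementary F ha ha).2⟩
  have hp : IsPGroup 2 ↥F.rEight := IsPGroup.of_card (n := 15) R.card_rEight
  have hcen : ∀ r : ↥F.rEight, r ∈ Subgroup.center ↥F.rEight ↔ (r : G) ∈ F.eight := fun r => by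
    rw [← R.center_rEight]
    exact (Subgroup.mem_map_iff_mem F.rEight.subtype_injective).symm
  have hcomm : commutator ↥F.rEight = Subgroup.center ↥F.rEight := by
    refine le_antisymm ?_ fun r hr => ?_
    · rw [commutator_def, Subgroup.commutator_le]
      intro a _ b _
      rw [hcen, commutatorElement_def]
      exact R.commutator_mem a.2 b.2
    · by_cases h1 : (r : G) = 1
      · rw [show r = 1 from Subtype.ext h1]; exact one_mem _
      obtain ⟨l, hl, hlz⟩ := htrans r ((hcen r).1 hr) h1
      obtain ⟨a, ha, b, hb, hab⟩ := R.z_commutator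
      have hn : (F.rEight.subgroupOf F.nEight).Normal := ⟨fun x hx y => by
        have h2 : Φ (y * x * y⁻¹) = 1 := by
          rw [map_mul, map_mul, (hker x).2 hx, mul_one, map_inv, mul_inv_cancel]
        exact (hker _).1 h2⟩
      have hconj : ∀ c ∈ F.rEight, l * c * l⁻¹ ∈ F.rEight := fun c hc =>
        hn.conj_mem ⟨c, hRle hc⟩ hc ⟨l, hl⟩
      have e : r = ⁅(⟨_, hconj a ha⟩ : ↥F.rEight), (⟨_, hconj b hb⟩ : ↥F.rEight)⁆ := by
        apply Subtype.ext
        refine hlz.symm.trans ((congrArg (fun w => l * w * l⁻¹) hab.symm).trans ?_)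
        rw [commutatorElement_def]
        simp only [Subgroup.coe_mul, Subgroup.coe_inv]
        group
      rw [e, commutator_def]
      exact Subgroup.commutator_mem_commutator (Subgroup.mem_top _) (Subgroup.mem_top _)
  have hfrat : frattini ↥F.rEight = Subgroup.center ↥F.rEight := by
    refine le_antisymm (CfsgLib.PGroups.frattini_le_of_elementary (p := 2) hcomm.le fun x => ?_)
      (hcomm.ge.trans (CfsgLib.PGroups.commutator_le_frattini' hp))
    rw [hcen, pow_two]
    exact R.square_mem x.2
  have hkerEq : Φ.ker = F.rEight.subgroupOf F.nEight := by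
    ext l
    rw [MonoidHom.mem_ker, hker, Subgroup.mem_subgroupOf]
  have hn : (F.rEight.subgroupOf F.nEight).Normal := hkerEq ▸ (inferInstance : Φ.ker.Normal)
  refine ⟨F.eight, hel, R.card_eight, F.z_mem_eight, F.rEight, ?_, ⟨hp, hfrat, hcomm⟩, R.card_rEight,
    R.center_rEight, hn, ⟨(QuotientGroup.quotientMulEquivOfEq hkerEq.symm).trans
      (QuotientGroup.quotientKerEquivOfSurjective Φ hΦ)⟩⟩
  show F.rEight = (Cfsg.pCore 2 ↥F.nEight).map F.nEight.subtype
  rw [hcore, Subgroup.map_subgroupOf_eq_of_le hRle]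

end Cfsg.Agent.S5445
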