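import Cfsg.Statements.S5446
import Cfsg.Agent.Lib.ThreeTrans.LargeFischer.ThompsonLocal
-- import your own Cfsg.Agent.* helpers here

set_option autoImplicit false
open Cfsg

namespace Cfsg.Agent.S5446

/-- Let G be a finite group of large Fischer type at the involution z: the generalized Fitting subgroup Q of H = C_G(z) is extraspecial of order 2^13, H has normal subgroups Q ≤ H₁ ≤ H₂ with H₁/Q of order 3, H₂/H₁ the projective special unitary group of dimension 4 over the field with nine elements and H₂ of index 2 in H, and some conjugate of z other than z lies in Q. Let T be a Sylow 2-subgroup of G, A its Thompson subgroup (generated by the elementary abelian subgroups of T of largest order) and M = N_G(A) its normalizer. Then A is elementary abelian of order 2^11 and M/A is isomorphic to the Mathieu group of degree 24 (the automorphism group of the length-24 binary Golay code). -/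
theorem result {G : Type*} [Group G] [Finite G] (z : G) (Q : Subgroup (Subgroup.centralizer ({z} : Set G))) [Q.Normal] (hF : Cfsg.IsOfLargeFischerTypeAt z Q) (T : Sylow 2 G) (A M : Subgroup G) (hA : A = Cfsg.thompsonSubgroupOf 2 (T : Subgroup G)) (hM : M = Subgroup.normalizer (A : Set G)) : Cfsg.IsElementaryAbelian 2 A ∧ Nat.card A = 2 ^ 11 ∧ ∃ _ : (A.subgroupOf M).Normal, Nonempty (↥M ⧸ A.subgroupOf M ≃* ↥Cfsg.M24) := by
  classical
  obtain ⟨F, hg, g, hT⟩ := CfsgLib.ThreeTrans.LargeFischer.exists_thompson hF T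
  subst hM
  rw [← hA] at hT
  obtain ⟨Φ, hΦ, hker, -⟩ := F.exists_mathieu hg
  have hel : Cfsg.IsElementaryAbelian 2 A := by
    obtain ⟨hc, hp⟩ := F.bigG_elementary hg
    subst hT
    refine ⟨⟨⟨fun a b => ?_⟩⟩, fun a ha => ?_⟩
    · obtain ⟨x, hx, ex⟩ := a.2
      obtain ⟨y, hy, ey⟩ := b.2
      have h : x * y = y * x := congrArg (fun w : ↥F.bigG => (w : G)) (hc.is_comm.comm ⟨x, hx⟩ ⟨y, hy⟩)
      refine Subtype.ext ?_
      show (a : G) * b = b * a
      rw [← ex, ← ey, ← map_mul, h, map_mul]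
    · obtain ⟨x, hx, rfl⟩ := ha
      rw [← map_pow, hp x hx, map_one]
  refine ⟨hel, ?_, ?_⟩
  · rw [hT, ← Nat.card_congr (F.bigG.equivMapOfInjective _ (MulAut.conj g).injective).toEquiv, F.card_bigG hg]
  have hmem : ∀ x : G, x ∈ Subgroup.normalizer (A : Set G) ↔ g⁻¹ * x * g ∈ F.bigN := fun x =>
    CfsgLib.ThreeTrans.LargeFischer.mem_normalizer_conj hT
  let c : ↥(Subgroup.normalizer (A : Set G)) →* ↥F.bigN := MonoidHom.mk' (fun x => ⟨g⁻¹ * x * g, (hmem x).1 x.2⟩)
    fun a b => Subtype.ext (by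
      show g⁻¹ * ((a : G) * b) * g = g⁻¹ * a * g * (g⁻¹ * b * g)
      group)
  have hc : Function.Surjective c := fun y => ⟨⟨g * y * g⁻¹, (hmem _).2 (by
    rw [show g⁻¹ * (g * (y : G) * g⁻¹) * g = y by group]; exact y.2)⟩, Subtype.ext (by
    show g⁻¹ * (g * (y : G) * g⁻¹) * g = y
    group)⟩
  have hk : (Φ.comp c).ker = A.subgroupOf (Subgroup.normalizer (A : Set G)) := by
    ext x
    have hAm : ∀ y, y ∈ A ↔ ∃ a ∈ F.bigG, g * a * g⁻¹ = y := fun y => by rw [hT]; rfl
    rw [MonoidHom.mem_ker, MonoidHom.comp_apply, hker, Subgroup.mem_subgroupOf, hAm]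
    constructor
    · exact fun h => ⟨_, h, by show g * (g⁻¹ * (x : G) * g) * g⁻¹ = x; group⟩
    · rintro ⟨a, ha, e⟩
      show g⁻¹ * (x : G) * g ∈ F.bigG
      rw [← e]
      show g⁻¹ * (g * a * g⁻¹) * g ∈ F.bigG
      rwa [show g⁻¹ * (g * a * g⁻¹) * g = a by group]
  have hn : (A.subgroupOf (Subgroup.normalizer (A : Set G))).Normal := hk ▸ (inferInstance : (Φ.comp c).ker.Normal)
  exact ⟨hn, ⟨(QuotientGroup.quotientMulEquivOfEq hk.symm).trans
    (QuotientGroup.quotientKerEquivOfSurjective (Φ.comp c) (hΦ.comp hc))⟩⟩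

end Cfsg.Agent.S5446
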