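import Cfsg.Statements.S5447
import Cfsg.Agent.Lib.ThreeTrans.LargeFischer.ThompsonLocal
-- import your own Cfsg.Agent.* helpers here

set_option autoImplicit false
open Cfsg

namespace Cfsg.Agent.S5447

/-- Let G be a finite group of large Fischer type at the involution z: the generalized Fitting subgroup Q of H = C_G(z) is extraspecial of order 2^13, H has normal subgroups Q ≤ H₁ ≤ H₂ with H₁/Q of order 3, H₂/H₁ the projective special unitary group of dimension 4 over the field with nine elements and H₂ of index 2 in H, and some conjugate of z other than z lies in Q. Let T be a Sylow 2-subgroup of G, A its Thompson subgroup and M = N_G(A) its normalizer. Then M controls fusion in A (elements of A conjugate in G are conjugate in M), and M has exactly two orbits on the non-identity elements of A: those conjugate to z in G and those not. -/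
theorem result {G : Type*} [Group G] [Finite G] (z : G) (Q : Subgroup (Subgroup.centralizer ({z} : Set G))) [Q.Normal] (hF : Cfsg.IsOfLargeFischerTypeAt z Q) (T : Sylow 2 G) (A M : Subgroup G) (hA : A = Cfsg.thompsonSubgroupOf 2 (T : Subgroup G)) (hM : M = Subgroup.normalizer (A : Set G)) : (∀ a ∈ A, ∀ g : G, g * a * g⁻¹ ∈ A → ∃ m ∈ M, m * a * m⁻¹ = g * a * g⁻¹) ∧ (∃ a ∈ A, a ≠ 1 ∧ IsConj z a) ∧ (∃ a ∈ A, a ≠ 1 ∧ ¬ IsConj z a) ∧ ∀ a ∈ A, ∀ b ∈ A, a ≠ 1 → b ≠ 1 → (IsConj z a ↔ IsConj z b) → ∃ m ∈ M, m * a * m⁻¹ = b := by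
  classical
  obtain ⟨F, hg, g, hT⟩ := CfsgLib.ThreeTrans.LargeFischer.exists_thompson hF T
  subst hM
  rw [← hA] at hT
  have hback : ∀ a ∈ A, g⁻¹ * a * g ∈ F.bigG := by
    rw [hT]
    rintro _ ⟨x, hx, rfl⟩
    show g⁻¹ * (g * x * g⁻¹) * g ∈ F.bigG
    rwa [show g⁻¹ * (g * x * g⁻¹) * g = x by group]
  have hto : ∀ x ∈ F.bigG, g * x * g⁻¹ ∈ A := fun x hx => hT.symm ▸ ⟨x, hx, rfl⟩
  have hconj : ∀ a : G, IsConj a (g⁻¹ * a * g) := fun a => isConj_iff.2 ⟨g⁻¹, by group⟩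
  have horb : ∀ a ∈ A, ∀ b ∈ A, a ≠ 1 → b ≠ 1 → (IsConj z a ↔ IsConj z b) →
      ∃ m ∈ Subgroup.normalizer (A : Set G), m * a * m⁻¹ = b := by
    intro a ha b hb ha1 hb1 h
    have hne : ∀ a : G, a ≠ 1 → g⁻¹ * a * g ≠ 1 := fun a ha1 e => ha1 (by
      rw [show a = g * (g⁻¹ * a * g) * g⁻¹ by group, e]; group)
    obtain ⟨m, hm, e⟩ := F.bigN_orbits hg (hback a ha) (hback b hb) (hne a ha1) (hne b hb1)
      ⟨fun h' => (h.1 (h'.trans (hconj a).symm)).trans (hconj b), fun h' => (h.2 (h'.trans (hconj b).symm)).trans (hconj a)⟩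
    refine ⟨g * m * g⁻¹, (CfsgLib.ThreeTrans.LargeFischer.mem_normalizer_conj hT).2 ?_, ?_⟩
    · rw [show g⁻¹ * (g * m * g⁻¹) * g = m by group]; exact hm
    · rw [show b = g * (g⁻¹ * b * g) * g⁻¹ by group, ← e]; group
  refine ⟨fun a ha x hx => ?_, ?_, ?_, horb⟩
  · by_cases ha1 : a = 1
    · exact ⟨1, one_mem _, by rw [ha1]; group⟩
    have hc : IsConj a (x * a * x⁻¹) := isConj_iff.2 ⟨x, rfl⟩
    exact horb a ha _ hx ha1 (fun e => ha1 (by rwa [mul_inv_eq_one, mul_eq_left] at e))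
      ⟨fun h => h.trans hc, fun h => h.trans hc.symm⟩
  · exact ⟨g * z * g⁻¹, hto z F.z_mem_bigG, fun e => F.large.z_ne_one (by rwa [mul_inv_eq_one, mul_eq_left] at e),
      isConj_iff.2 ⟨g, rfl⟩⟩
  · obtain ⟨h1, h2, h3⟩ := F.exists_duad_point hg none (some 0) (by decide)
    refine ⟨_, hto _ h1, fun e => h2 (by rwa [mul_inv_eq_one, mul_eq_left] at e), fun h => h3 ?_⟩
    exact h.trans (isConj_iff.2 ⟨g⁻¹, by group⟩)

end Cfsg.Agent.S5447
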