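import Cfsg.Statements.S5448
import Cfsg.Agent.Lib.ThreeTrans.LargeFischer.ThompsonLocal
-- import your own Cfsg.Agent.* helpers here

set_option autoImplicit false
open scoped Pointwise
open Cfsg

namespace Cfsg.Agent.S5448

/-- Let G be a finite group of large Fischer type at the involution z: the generalized Fitting subgroup Q of H = C_G(z) is extraspecial of order 2^13, H has normal subgroups Q ≤ H₁ ≤ H₂ with H₁/Q of order 3, H₂/H₁ the projective special unitary group of dimension 4 over the field with nine elements and H₂ of index 2 in H, and some conjugate of z other than z lies in Q. Let T be a Sylow 2-subgroup of G, A its Thompson subgroup, M = N_G(A) its normalizer, and t an involution of A not conjugate to z in G. Then the centralizer of t in M, modulo A, is isomorphic to the setwise stabilizer of a two-element subset of the 24 points in the Mathieu group of degree 24 (the automorphism group of the smaller Mathieu group on 22 points).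 -/
theorem result {G : Type*} [Group G] [Finite G] (z : G) (Q : Subgroup (Subgroup.centralizer ({z} : Set G))) [Q.Normal] (hF : Cfsg.IsOfLargeFischerTypeAt z Q) (T : Sylow 2 G) (A M : Subgroup G) (hA : A = Cfsg.thompsonSubgroupOf 2 (T : Subgroup G)) (hM : M = Subgroup.normalizer (A : Set G)) (t : G) (htA : t ∈ A) (ht2 : orderOf t = 2) (ht : ¬ IsConj z t) : ∃ _ : (A.subgroupOf (M ⊓ Subgroup.centralizer ({t} : Set G))).Normal, Nonempty (↥(M ⊓ Subgroup.centralizer ({t} : Set G)) ⧸ A.subgroupOf (M ⊓ Subgroup.centralizer ({t} : Set G)) ≃* ↥(Cfsg.M24 ⊓ MulAction.stabilizer (Equiv.Perm Cfsg.GolayPt) ({none, some 0} : Set Cfsg.GolayPt))) := by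
  classical
  obtain ⟨F, hg, g, hT⟩ := CfsgLib.ThreeTrans.LargeFischer.exists_thompson hF T
  subst hM
  rw [← hA] at hT
  obtain ⟨Φ, hΦ, hker, hsend⟩ := F.exists_mathieu hg
  have htA : g⁻¹ * t * g ∈ F.bigG := by
    rw [hT] at htA
    obtain ⟨x, hx, e⟩ := htA
    rw [← e]
    show g⁻¹ * (g * x * g⁻¹) * g ∈ F.bigG
    rwa [show g⁻¹ * (g * x * g⁻¹) * g = x by group]
  have ht1 : t ≠ 1 := fun e => by rw [e, orderOf_one] at ht2; norm_num at ht2
  obtain ⟨h1, h2, h3⟩ := F.exists_duad_point hg none (some 0) (by decide)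
  set d : G := (F.elt hg (CfsgLib.ThreeTrans.LargeFischer.dv none (some 0)) : G)
  obtain ⟨n, hn, en⟩ := F.bigN_orbits hg h1 htA h2
    (fun e => ht1 (by rw [show t = g * (g⁻¹ * t * g) * g⁻¹ by group, e]; group))
    (iff_of_false h3 fun h => ht (h.trans (isConj_iff.2 ⟨g, by group⟩)))
  set h := g * n with hh
  have hd : h * d * h⁻¹ = t := by
    rw [hh, show g * n * d * (g * n)⁻¹ = g * (n * d * n⁻¹) * g⁻¹ by group, en]; group
  have hmem : ∀ x : G, x ∈ Subgroup.normalizer (A : Set G) ↔ h⁻¹ * x * h ∈ F.bigN := fun x => by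
    rw [CfsgLib.ThreeTrans.LargeFischer.mem_normalizer_conj hT, hh,
      show (g * n)⁻¹ * x * (g * n) = n⁻¹ * (g⁻¹ * x * g) * n by group]
    change g⁻¹ * x * g ∈ F.bigN ↔ _
    exact ⟨fun hx => mul_mem (mul_mem (inv_mem hn) hx) hn, fun hx => by
      have h' := mul_mem (mul_mem hn hx) (inv_mem hn)
      rwa [show n * (n⁻¹ * (g⁻¹ * x * g) * n) * n⁻¹ = g⁻¹ * x * g by group] at h'⟩
  set K := Subgroup.normalizer (A : Set G) ⊓ Subgroup.centralizer ({t} : Set G)
  have hfix : ∀ m : ↥F.bigN, (m : G) * d * (m : G)⁻¹ = d ↔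
      ((Φ m : ↥Cfsg.M24) : Equiv.Perm Cfsg.GolayPt) ∈
        MulAction.stabilizer (Equiv.Perm Cfsg.GolayPt) ({none, some 0} : Set Cfsg.GolayPt) := fun m =>
    F.sends_stab hg (hsend m) none (some 0) (by decide)
  have hcen : ∀ x : G, x ∈ Subgroup.centralizer ({t} : Set G) ↔ h⁻¹ * x * h * d * (h⁻¹ * x * h)⁻¹ = d := fun x => by
    rw [← hd, Subgroup.mem_centralizer_singleton_iff, show h⁻¹ * x * h * d * (h⁻¹ * x * h)⁻¹ =
      h⁻¹ * (x * (h * d * h⁻¹) * x⁻¹) * h by group]
    constructor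
    · intro e; rw [e]; group
    · intro e
      have e' : x * (h * d * h⁻¹) * x⁻¹ = h * d * h⁻¹ := by
        calc x * (h * d * h⁻¹) * x⁻¹ = h * (h⁻¹ * (x * (h * d * h⁻¹) * x⁻¹) * h) * h⁻¹ := by group
          _ = _ := by rw [e]
      exact mul_inv_eq_iff_eq_mul.1 e'
  let c : ↥K →* ↥F.bigN := MonoidHom.mk' (fun x => ⟨h⁻¹ * x * h, (hmem x).1 x.2.1⟩)
    fun a b => Subtype.ext (by
      show h⁻¹ * ((a : G) * b) * h = h⁻¹ * a * h * (h⁻¹ * b * h)
      group)
  let f : ↥K →* ↥(Cfsg.M24 ⊓ MulAction.stabilizer (Equiv.Perm Cfsg.GolayPt) ({none, some 0} : Set Cfsg.GolayPt)) :=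
    MonoidHom.mk' (fun x => ⟨((Φ (c x) : ↥Cfsg.M24) : Equiv.Perm Cfsg.GolayPt), (Φ (c x)).2,
      (hfix (c x)).1 ((hcen x).1 x.2.2)⟩) fun a b => Subtype.ext (by
        show ((Φ (c (a * b)) : ↥Cfsg.M24) : Equiv.Perm Cfsg.GolayPt) = _
        rw [map_mul, map_mul]; rfl)
  have hf : Function.Surjective f := fun σ => by
    obtain ⟨m, hm⟩ := hΦ ⟨σ.1, σ.2.1⟩
    have e0 : h⁻¹ * (h * (m : G) * h⁻¹) * h = m := by group
    obtain ⟨x, hx⟩ : ∃ x : ↥K, (x : G) = h * m * h⁻¹ := ⟨⟨h * m * h⁻¹, (hmem _).2 (by rw [e0]; exact m.2),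
      (hcen _).2 (by rw [e0]; exact (hfix m).2 (hm.symm ▸ σ.2.2))⟩, rfl⟩
    have ec : c x = m := Subtype.ext (by
      show h⁻¹ * (x : G) * h = m
      rw [hx]; exact e0)
    refine ⟨x, Subtype.ext ?_⟩
    show ((Φ (c x) : ↥Cfsg.M24) : Equiv.Perm Cfsg.GolayPt) = σ.1
    rw [ec, hm]
  have hk : f.ker = A.subgroupOf K := by
    ext x
    have e : f x = 1 ↔ Φ (c x) = 1 := ⟨fun e => Subtype.ext (congrArg Subtype.val e :),
      fun e => Subtype.ext (congrArg Subtype.val e :)⟩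
    rw [MonoidHom.mem_ker, e, hker, Subgroup.mem_subgroupOf]
    show (g * n)⁻¹ * (x : G) * (g * n) ∈ F.bigG ↔ _
    constructor
    · intro hx
      have := F.conj_mem_bigG hn hx
      rw [show n * ((g * n)⁻¹ * (x : G) * (g * n)) * n⁻¹ = g⁻¹ * x * g by group] at this
      rw [hT]
      exact ⟨_, this, by show g * (g⁻¹ * (x : G) * g) * g⁻¹ = x; group⟩
    · intro hx
      rw [hT] at hx
      obtain ⟨a, ha, ea⟩ := hx
      have := F.conj_mem_bigG (inv_mem hn) ha
      rw [show n⁻¹ * a * n⁻¹⁻¹ = (g * n)⁻¹ * (g * a * g⁻¹) * (g * n) by group] at this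
      rw [← ea]
      exact this
  have hn' : (A.subgroupOf K).Normal := hk ▸ (inferInstance : f.ker.Normal)
  exact ⟨hn', ⟨(QuotientGroup.quotientMulEquivOfEq hk.symm).trans (QuotientGroup.quotientKerEquivOfSurjective f hf)⟩⟩

end Cfsg.Agent.S5448
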