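import Cfsg.Statements.S5451
import Cfsg.Agent.Lib.ThreeTrans.LargeFischer.CentX
-- import your own Cfsg.Agent.* helpers here

set_option autoImplicit false
open Cfsg

namespace Cfsg.Agent.S5451

/-- Let G be a finite group of large Fischer type at the involution z: the generalized Fitting subgroup Q of H = C_G(z) is extraspecial of order 2^13, H has normal subgroups Q ≤ H₁ ≤ H₂ with H₁/Q of order 3, H₂/H₁ the projective special unitary group of dimension 4 over the field with nine elements and H₂ of index 2 in H, and some conjugate of z other than z lies in Q. Let X be a subgroup of H of order 3 whose product with Q is normal in H (X maps onto the normal subgroup of order 3 of H/Q). Then the centralizer of X in H is quasisimple with cyclic centre of order 6 and central quotient isomorphic to the projective special unitary group of dimension 4 over the field with nine elements. -/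
theorem result {G : Type*} [Group G] [Finite G] (z : G) (Q : Subgroup (Subgroup.centralizer ({z} : Set G))) [Q.Normal] (hF : Cfsg.IsOfLargeFischerTypeAt z Q) (X : Subgroup (Subgroup.centralizer ({z} : Set G))) (hX : Nat.card X = 3) (hXQ : (X ⊔ Q).Normal) : Cfsg.IsQuasisimple ↥(Subgroup.centralizer ((X : Subgroup (Subgroup.centralizer ({z} : Set G))) : Set (Subgroup.centralizer ({z} : Set G)))) ∧ IsCyclic ↥(Subgroup.center ↥(Subgroup.centralizer ((X : Subgroup (Subgroup.centralizer ({z} : Set G))) : Set (Subgroup.centralizer ({z} : Set G))))) ∧ Nat.card ↥(Subgroup.center ↥(Subgroup.centralizer ((X : Subgroup (Subgroup.centralizer ({z} : Set G))) : Set (Subgroup.centralizer ({z} : Set G))))) = 6 ∧ ∃ (K : Type) (_ : Field K) (_ : Fintype K), Fintype.card K = 9 ∧ Nonempty (↥(Subgroup.centralizer ((X : Subgroup (Subgroup.centralizer ({z} : Set G))) : Set (Subgroup.centralizer ({z} : Set G)))) ⧸ Subgroup.center ↥(Subgroup.centralizer ((X : Subgroup (Subgroup.centralizer ({z} : Set G))) : Set (Subgroup.centralizer ({z} : Set G))))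 ≃* Cfsg.PSU 4 K 3) := by
  classical
  haveI : Fact (Nat.Prime 3) := ⟨Nat.prime_three⟩
  haveI := CfsgLib.Known.U43Mult.mdl_spec.1
  obtain ⟨F⟩ := CfsgLib.ThreeTrans.LargeFischer.exists_coord hF
  obtain ⟨⟨-, -, -, -, g, ⟨hgc, hgQ⟩, hgne⟩, -⟩ := hF
  have hg : ∃ g : G, g * z * g⁻¹ ∈ Q.map (Subgroup.centralizer ({z} : Set G)).subtype ∧ g * z * g⁻¹ ≠ z :=
    ⟨g, ⟨⟨_, hgc⟩, hgQ, rfl⟩, hgne⟩
  obtain ⟨y, hXy, hy3, hyact⟩ := F.exists_scalar hg X hX (Q' := Q) (fun c =>
    (Subgroup.mem_map_iff_mem (Subgroup.centralizer ({z} : Set G)).subtype_injective).symm) hXQ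
  obtain ⟨r, hr⟩ := F.exists_conj_jC hy3 hyact
  set S : Subgroup ↥(Subgroup.centralizer ({z} : Set G)) :=
    Subgroup.centralizer ((X : Subgroup (Subgroup.centralizer ({z} : Set G))) : Set (Subgroup.centralizer ({z} : Set G)))
    with hS
  have hSy : S = Subgroup.centralizer ({y} : Set ↥(Subgroup.centralizer ({z} : Set G))) := by
    rw [hS, hXy, Subgroup.zpowers_eq_closure, Subgroup.centralizer_closure]
  have hmap : S.map (MulAut.conj (F.inQ r)).toMonoidHom = F.centJ := by
    ext c
    rw [Subgroup.mem_map, F.mem_centJ]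
    constructor
    · rintro ⟨s, hs, rfl⟩
      have h1 : y * s = s * y := Subgroup.mem_centralizer_iff.1 (hSy.le hs) y rfl
      have h2 : Commute (MulAut.conj (F.inQ r) y) (MulAut.conj (F.inQ r) s) :=
        (show Commute y s from h1).map _
      rw [MulAut.conj_apply, hr] at h2
      exact h2.eq
    · intro hc
      refine ⟨(MulAut.conj (F.inQ r)).symm c, hSy.ge ?_, MulEquiv.apply_symm_apply _ c⟩
      rw [Subgroup.mem_centralizer_iff]
      rintro w rfl
      refine (MulAut.conj (F.inQ r)).injective ?_
      rw [map_mul, map_mul, MulEquiv.apply_symm_apply, MulAut.conj_apply, hr]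
      exact hc
  let e : ↥S ≃* ↥F.centJ :=
    (S.equivMapOfInjective (MulAut.conj (F.inQ r)).toMonoidHom (MulAut.conj (F.inQ r)).injective).trans
      (MulEquiv.subgroupCongr hmap)
  obtain ⟨hq, ⟨ec⟩, ⟨q⟩⟩ := CfsgLib.ThreeTrans.LargeFischer.transfer_cover e (F.commutator_centJ hg)
    (F.centProj hg) (F.centProj_surjective hg) (F.centProj_ker_eq hg)
  let : Fintype (GaloisField 3 2) := Fintype.ofFinite _
  have hK : Fintype.card (GaloisField 3 2) = 9 := by
    rw [← Nat.card_eq_fintype_card, GaloisField.card 3 2 (by norm_num)]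
    norm_num
  obtain ⟨eK⟩ := CfsgLib.Known.U43Mult.nonempty_equiv (F := GaloisField 3 2) hK
  exact ⟨hq, isCyclic_of_surjective (hH := F.isCyclic_center_centJ hg) ec.symm ec.symm.surjective,
    by rw [Nat.card_congr ec.toEquiv, F.card_center_centJ hg],
    GaloisField 3 2, inferInstance, inferInstance, hK, ⟨q.trans eK⟩⟩

end Cfsg.Agent.S5451
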