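import Cfsg.Statements.S5453
import Mathlib
import Cfsg.Agent.Lib.Recog.FiM22Two.DoubleLift

set_option autoImplicit false
open Cfsg

namespace Cfsg.Agent.S5453

/-- Let G be a finite group with an involution d whose centralizer C is quasisimple, such that C modulo the subgroup generated by d is of type M(22) with respect to some conjugacy class of 3-transpositions generating it and also has an involution whose own centralizer is quasisimple with quotient by it isomorphic to the projective special unitary group of dimension 6 over the field with four elements and which is not weakly closed in that centralizer; and suppose some conjugate of d other than d commutes with d. Then every involution of C modulo the subgroup generated by d is the image of an involution of C, and d is not a square in G. -/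
theorem result {G : Type*} [Group G] [Finite G] (d : G) (hd : orderOf d = 2) (hq : Cfsg.IsQuasisimple ↥(Subgroup.centralizer ({d} : Set G))) [hzn : ((Subgroup.zpowers d).subgroupOf (Subgroup.centralizer ({d} : Set G))).Normal] (htype : ∃ E : Set (↥(Subgroup.centralizer ({d} : Set G)) ⧸ (Subgroup.zpowers d).subgroupOf (Subgroup.centralizer ({d} : Set G))), Cfsg.IsThreeTranspositionClass E ∧ Cfsg.IsOfTypeM22 _ E) (hinvol : ∃ d' : ↥(Subgroup.centralizer ({d} : Set G)) ⧸ (Subgroup.zpowers d).subgroupOf (Subgroup.centralizer ({d} : Set G)), orderOf d' = 2 ∧ Cfsg.IsQuasisimple ↥(Subgroup.centralizer ({d'} : Set _)) ∧ (∃ (K : Type) (_ : Field K) (_ : Fintype K), Fintype.card K = 4 ∧ ∃ _ : ((Subgroup.zpowers d').subgroupOf (Subgroup.centralizer ({d'} : Set _))).Normal, Nonempty (↥(Subgroup.centralizer ({d'} : Set _)) ⧸ (Subgroup.zpowers d').subgroupOf (Subgroup.centralizer ({d'} : Set _)) ≃* Cfsg.PSU 6 K 2)) ∧ ∃ g, g * d' * g⁻¹ ∈ Subgroup.centralizer ({d'} : Set _) ∧ g * d' * g⁻¹ ≠ d') (hnwc : ∃ g : G, g * d * g⁻¹ ∈ Subgroup.centralizer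 ({d} : Set G) ∧ g * d * g⁻¹ ≠ d) : (∀ x : ↥(Subgroup.centralizer ({d} : Set G)) ⧸ (Subgroup.zpowers d).subgroupOf (Subgroup.centralizer ({d} : Set G)), orderOf x = 2 → ∃ y : ↥(Subgroup.centralizer ({d} : Set G)), orderOf y = 2 ∧ (QuotientGroup.mk y : ↥(Subgroup.centralizer ({d} : Set G)) ⧸ (Subgroup.zpowers d).subgroupOf (Subgroup.centralizer ({d} : Set G))) = x) ∧ ¬ ∃ g : G, g ^ 2 = d := by
  classical
  obtain ⟨E, hE, h22⟩ := htype
  let C := Subgroup.centralizer ({d} : Set G)
  let N := (Subgroup.zpowers d).subgroupOf C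
  let π : ↥C →* ↥C ⧸ N := QuotientGroup.mk' N
  let δ : C := ⟨d, Subgroup.mem_centralizer_singleton_iff.2 rfl⟩
  have hd1 : d ≠ 1 := fun h => by rw [h, orderOf_one] at hd; exact absurd hd (by norm_num)
  have hdd : d * d = 1 := CfsgLib.ThreeTrans.mul_self_of_orderOf_two hd
  have hπ : ∀ x : C, π x = 1 ↔ x = 1 ∨ x = δ := fun x => by
    rw [show π x = 1 ↔ x ∈ N from QuotientGroup.eq_one_iff x, Subgroup.mem_subgroupOf]
    constructor
    · rintro ⟨k, hk⟩
      change d ^ k = (x : G) at hk
      rcases Int.even_or_odd k with ⟨m, rfl⟩ | ⟨m, rfl⟩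
      · rw [zpow_add, ← (Commute.refl d).mul_zpow, hdd, one_zpow] at hk
        exact Or.inl (Subtype.ext hk.symm)
      · rw [two_mul, zpow_add, zpow_add, ← (Commute.refl d).mul_zpow, hdd, one_zpow, one_mul, zpow_one] at hk
        exact Or.inr (Subtype.ext hk.symm)
    · rintro (rfl | rfl)
      · exact one_mem _
      · exact Subgroup.mem_zpowers d
  have hk : π.ker ≤ Subgroup.center C := fun x hx => by
    rw [Subgroup.mem_center_iff]
    intro z
    rcases (hπ x).1 hx with rfl | rfl
    · simp
    · exact Subtype.ext (Subgroup.mem_centralizer_singleton_iff.1 z.2)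
  have h2 : ∀ t : C, π t = 1 → t * t = 1 := fun t ht => by
    rcases (hπ t).1 ht with rfl | rfl
    · exact one_mul _
    · exact Subtype.ext hdd
  have hD2 : ∃ a ∈ E, ∃ b ∈ E, a ≠ b := by
    obtain ⟨-, a, ha, b, hb, hab, -⟩ := h22
    exact ⟨a, ha, b, hb, fun h => hab (h ▸ Commute.refl a)⟩
  have hne : N ≠ ⊤ := fun h => by
    obtain ⟨a, -, b, -, hab⟩ := hD2
    refine hab ?_
    induction a using QuotientGroup.induction_on with
    | H a => induction b using QuotientGroup.induction_on with
      | H b => rw [QuotientGroup.eq, show (Subgroup.zpowers d).subgroupOf C = ⊤ from h]; exact Subgroup.mem_top _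
  have hprim := CfsgLib.Recog.FiM22Two.prim_of_class hE
    (CfsgLib.Components.IsQuasisimple.quotient hq hne) hD2
  have hgrp := CfsgLib.ThreeTrans.group_of_class hE
  have hs : Function.Surjective π := QuotientGroup.mk'_surjective N
  have key : ∀ y : C, orderOf (π y) = 2 → y * y = 1 := fun y hy =>
    CfsgLib.Recog.FiM22Two.sq_of_involution π hs hk h2 hgrp hprim h22 hy
  refine ⟨fun x hx => ?_, ?_⟩
  · obtain ⟨y, hy⟩ := hs x
    refine ⟨y, orderOf_eq_prime (by rw [pow_two]; exact key y (by rw [hy]; exact hx)) (fun h => ?_), hy⟩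
    rw [h, map_one] at hy
    rw [← hy, orderOf_one] at hx
    exact absurd hx (by norm_num)
  · rintro ⟨g, hg⟩
    have hgC : g ∈ C := by
      rw [Subgroup.mem_centralizer_singleton_iff, ← hg, pow_two, mul_assoc]
    set y : C := ⟨g, hgC⟩ with hy
    have hyy : y * y = δ := Subtype.ext (show g * g = d by rw [← hg, pow_two])
    have hsq : π y ^ 2 = 1 := by rw [pow_two, ← map_mul, hyy]; exact (hπ δ).2 (Or.inr rfl)
    have hy2 : y * y = 1 := by
      by_cases h1 : π y = 1
      · exact h2 y h1
      · exact key y (orderOf_eq_prime hsq h1)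
    rw [hy2] at hyy
    exact hd1 (congrArg Subtype.val hyy).symm

end Cfsg.Agent.S5453
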