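import Cfsg.Statements.S5454
import Mathlib
import Cfsg.Agent.Lib.Recog.UsixMult.Plane.Fusion

set_option autoImplicit false
open Cfsg

namespace Cfsg.Agent.S5454

/-- Let G be a finite group with an involution d whose centralizer C is quasisimple with C modulo the subgroup generated by d isomorphic to the projective special unitary group of dimension 6 over the field with four elements, and suppose some conjugate of d other than d commutes with d. Let S be a Sylow 2-subgroup of C and A the Thompson subgroup of S (generated by the elementary abelian subgroups of S of largest order), regarded as a subgroup of G. Then A is elementary abelian of order 2^10, exactly 22 conjugates of d lie in A, and the normalizer of A permutes them transitively. -/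
theorem result {G : Type*} [Group G] [Finite G] (d : G) (hd : orderOf d = 2) (hq : Cfsg.IsQuasisimple ↥(Subgroup.centralizer ({d} : Set G))) [hzn : ((Subgroup.zpowers d).subgroupOf (Subgroup.centralizer ({d} : Set G))).Normal] (K : Type) [Field K] [Fintype K] (hK : Fintype.card K = 4) (e : ↥(Subgroup.centralizer ({d} : Set G)) ⧸ (Subgroup.zpowers d).subgroupOf (Subgroup.centralizer ({d} : Set G)) ≃* Cfsg.PSU 6 K 2) (hnwc : ∃ g : G, g * d * g⁻¹ ∈ Subgroup.centralizer ({d} : Set G) ∧ g * d * g⁻¹ ≠ d) (S : Sylow 2 ↥(Subgroup.centralizer ({d} : Set G))) (A : Subgroup G) (hA : A = (Cfsg.thompsonSubgroupOf 2 (S : Subgroup ↥(Subgroup.centralizer ({d} : Set G)))).map (Subgroup.centralizer ({d} : Set G)).subtype) : Cfsg.IsElementaryAbelian 2 A ∧ Nat.card A = 2 ^ 10 ∧ Set.ncard {x : G | x ∈ A ∧ IsConj d x} = 22 ∧ ∀ x ∈ A, ∀ y ∈ A, IsConj d x → IsConj d y → ∃ n ∈ Subgroup.normalizer (A : Set G), n * x * n⁻¹ = y := by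
  haveI := Classical.decEq K
  let C := Subgroup.centralizer ({d} : Set G)
  let N := (Subgroup.zpowers d).subgroupOf C
  let f : C ⧸ N ≃* CfsgLib.Recog.UsixMult.U0 := e.trans (CfsgLib.Recog.UsixMult.exists_psu_equiv hK).some.symm
  let σ : C →* CfsgLib.Recog.UsixMult.U0 := f.toMonoidHom.comp (QuotientGroup.mk' N)
  have hker : σ.ker = N := by
    ext y
    rw [MonoidHom.mem_ker, MonoidHom.comp_apply]
    exact f.map_eq_one_iff.trans (QuotientGroup.eq_one_iff y)
  let δ : C := ⟨d, Subgroup.mem_centralizer_singleton_iff.2 rfl⟩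
  have hd1 : d ≠ 1 := fun h => by rw [h, orderOf_one] at hd; exact absurd hd (by norm_num)
  have hdd : d * d = 1 := by rw [← pow_two, ← hd, pow_orderOf_eq_one]
  have hσ : ∀ x : C, σ x = 1 ↔ x = 1 ∨ x = δ := fun x => by
    rw [← MonoidHom.mem_ker, hker, Subgroup.mem_subgroupOf]
    constructor
    · rintro ⟨k, hk⟩
      change d ^ k = (x : G) at hk
      rcases Int.even_or_odd k with ⟨m, rfl⟩ | ⟨m, rfl⟩
      · rw [zpow_add, ← (Commute.refl d).mul_zpow, hdd, one_zpow] at hk
        exact Or.inl (Subtype.ext hk.symm)
      · rw [two_mul, zpow_add, zpow_add, ← (Commute.refl d).mul_zpow, hdd, one_zpow, one_mul, zpow_one] at hk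
        exact Or.inr (Subtype.ext hk.symm)
    · rintro (rfl | rfl)
      · exact one_mem _
      · exact Subgroup.mem_zpowers d
  have hst : Cfsg.IsStemExtension σ := by
    refine ⟨f.surjective.comp (QuotientGroup.mk'_surjective N), ?_, ?_⟩
    · rw [hker]
      intro y hy
      rw [Subgroup.mem_center_iff]
      intro z
      obtain ⟨k, hk⟩ := Subgroup.mem_subgroupOf.1 hy
      refine Subtype.ext ?_
      have hzd : Commute (z : G) d := Subgroup.mem_centralizer_singleton_iff.1 z.2
      show (z : G) * y = y * z
      rw [← hk]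
      exact (hzd.zpow_right k).eq
    · have hperf : commutator C = ⊤ := hq.1.commutator_eq_top
      rw [hperf]; exact le_top
  obtain ⟨D⟩ := CfsgLib.Recog.UsixMult.Plane.exists_mod σ δ hst hσ
    (fun h => hd1 (congrArg Subtype.val h))
  exact D.main rfl hnwc S A hA

end Cfsg.Agent.S5454
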