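import Cfsg.Statements.S5455
import Mathlib
import Cfsg.Agent.Lib.Recog.FiM22Two.DoubleFusion

set_option autoImplicit false
open Cfsg

namespace Cfsg.Agent.S5455

/-- Let G be a finite group with an involution d whose centralizer C is quasisimple, such that C modulo the subgroup generated by d is of type M(22) with respect to some conjugacy class of 3-transpositions generating it and also has an involution whose own centralizer is quasisimple with quotient by it isomorphic to the projective special unitary group of dimension 6 over the field with four elements and which is not weakly closed in that centralizer; and suppose some conjugate of d other than d commutes with d. Let S be a Sylow 2-subgroup of C and A the Thompson subgroup of S, regarded as a subgroup of G. Then A is elementary abelian of order 2^11, exactly 23 conjugates of d lie in A, and the normalizer of A permutes them transitively. -/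
theorem result {G : Type*} [Group G] [Finite G] (d : G) (hd : orderOf d = 2) (hq : Cfsg.IsQuasisimple ↥(Subgroup.centralizer ({d} : Set G))) [hzn : ((Subgroup.zpowers d).subgroupOf (Subgroup.centralizer ({d} : Set G))).Normal] (htype : ∃ E : Set (↥(Subgroup.centralizer ({d} : Set G)) ⧸ (Subgroup.zpowers d).subgroupOf (Subgroup.centralizer ({d} : Set G))), Cfsg.IsThreeTranspositionClass E ∧ Cfsg.IsOfTypeM22 _ E) (hinvol : ∃ d' : ↥(Subgroup.centralizer ({d} : Set G)) ⧸ (Subgroup.zpowers d).subgroupOf (Subgroup.centralizer ({d} : Set G)), orderOf d' = 2 ∧ Cfsg.IsQuasisimple ↥(Subgroup.centralizer ({d'} : Set _)) ∧ (∃ (K : Type) (_ : Field K) (_ : Fintype K), Fintype.card K = 4 ∧ ∃ _ : ((Subgroup.zpowers d').subgroupOf (Subgroup.centralizer ({d'} : Set _))).Normal, Nonempty (↥(Subgroup.centralizer ({d'} : Set _)) ⧸ (Subgroup.zpowers d').subgroupOf (Subgroup.centralizer ({d'} : Set _)) ≃* Cfsg.PSU 6 K 2)) ∧ ∃ g, g * d' * g⁻¹ ∈ Subgroup.centralizer ({d'} : Set _) ∧ g * d' * g⁻¹ ≠ d') (hnwc : ∃ g : G, g * d * g⁻¹ ∈ Subgroup.centralizer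 ({d} : Set G) ∧ g * d * g⁻¹ ≠ d) (S : Sylow 2 ↥(Subgroup.centralizer ({d} : Set G))) (A : Subgroup G) (hA : A = (Cfsg.thompsonSubgroupOf 2 (S : Subgroup ↥(Subgroup.centralizer ({d} : Set G)))).map (Subgroup.centralizer ({d} : Set G)).subtype) : Cfsg.IsElementaryAbelian 2 A ∧ Nat.card A = 2 ^ 11 ∧ Set.ncard {x : G | x ∈ A ∧ IsConj d x} = 23 ∧ ∀ x ∈ A, ∀ y ∈ A, IsConj d x → IsConj d y → ∃ n ∈ Subgroup.normalizer (A : Set G), n * x * n⁻¹ = y := by
  classical
  obtain ⟨E, hE, h22⟩ := htype
  let C := Subgroup.centralizer ({d} : Set G)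
  let N := (Subgroup.zpowers d).subgroupOf C
  let π : ↥C →* ↥C ⧸ N := QuotientGroup.mk' N
  let δ : C := ⟨d, Subgroup.mem_centralizer_singleton_iff.2 rfl⟩
  have hd1 : d ≠ 1 := fun h => by rw [h, orderOf_one] at hd; exact absurd hd (by norm_num)
  have hdd : d * d = 1 := CfsgLib.ThreeTrans.mul_self_of_orderOf_two hd
  have hπ : ∀ x : C, π x = 1 ↔ x = 1 ∨ x = δ := fun x => by
    rw [show π x = 1 ↔ x ∈ N from QuotientGroup.eq_one_iff x, Subgroup.mem_subgroupOf]
    constructor
    · rintro ⟨k, hk⟩
      change d ^ k = (x : G) at hk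
      rcases Int.even_or_odd k with ⟨m, rfl⟩ | ⟨m, rfl⟩
      · rw [zpow_add, ← (Commute.refl d).mul_zpow, hdd, one_zpow] at hk
        exact Or.inl (Subtype.ext hk.symm)
      · rw [two_mul, zpow_add, zpow_add, ← (Commute.refl d).mul_zpow, hdd, one_zpow, one_mul, zpow_one] at hk
        exact Or.inr (Subtype.ext hk.symm)
    · rintro (rfl | rfl)
      · exact one_mem _
      · exact Subgroup.mem_zpowers d
  have hk : π.ker ≤ Subgroup.center C := fun x hx => by
    rw [Subgroup.mem_center_iff]
    intro z
    rcases (hπ x).1 hx with rfl | rfl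
    · simp
    · exact Subtype.ext (Subgroup.mem_centralizer_singleton_iff.1 z.2)
  have h2 : ∀ t : C, π t = 1 → t * t = 1 := fun t ht => by
    rcases (hπ t).1 ht with rfl | rfl
    · exact one_mul _
    · exact Subtype.ext hdd
  have hD2 : ∃ a ∈ E, ∃ b ∈ E, a ≠ b := by
    obtain ⟨-, a, ha, b, hb, hab, -⟩ := h22
    exact ⟨a, ha, b, hb, fun h => hab (h ▸ Commute.refl a)⟩
  have hne : N ≠ ⊤ := fun h => by
    obtain ⟨a, -, b, -, hab⟩ := hD2
    refine hab ?_
    induction a using QuotientGroup.induction_on with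
    | H a => induction b using QuotientGroup.induction_on with
      | H b => rw [QuotientGroup.eq, show (Subgroup.zpowers d).subgroupOf C = ⊤ from h]; exact Subgroup.mem_top _
  have hprim := CfsgLib.Recog.FiM22Two.prim_of_class hE
    (CfsgLib.Components.IsQuasisimple.quotient hq hne) hD2
  have hgrp := CfsgLib.ThreeTrans.group_of_class hE
  have hs : Function.Surjective π := QuotientGroup.mk'_surjective N
  have hperf : commutator C = ⊤ := hq.1.commutator_eq_top
  have Sd : CfsgLib.Recog.FiM22Two.DoubleCover π δ E :=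
    ⟨hs, hπ, fun h => hd1 (congrArg Subtype.val h), hperf, hk, hgrp, hprim, h22⟩
  obtain ⟨K, B, hKS⟩ := CfsgLib.Recog.FiM22Two.exists_module_in Sd S
  have hA' : A = CfsgLib.Recog.FiM22Two.bigG π K :=
    hA.trans (congrArg (Subgroup.map C.subtype) (Sd.thompson_eq B hKS))
  subst hA'
  exact ⟨Sd.ea_bigG B, (Sd.card_bigG B).trans (by norm_num), Sd.ncard_conjugates B rfl hnwc,
    fun x hx y hy hcx hcy => Sd.transitive B rfl hx hy hcx hcy⟩

end Cfsg.Agent.S5455
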