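import Cfsg.Statements.S5459
import Cfsg.Agent.Lib.ThreeTrans.Dihedral
-- import your own Cfsg.Agent.* helpers here

set_option autoImplicit false
open Cfsg
open scoped commutatorElement

namespace Cfsg.Agent.S5459

/-- Let G be a finite group with a quasisimple normal subgroup L and an involution d such that G is generated by L and d, the centre of L has odd order, and d inverts every element of the centre of L. If the commuting graph on the conjugacy class of the image of d in G modulo the centre of L is connected, then the commuting graph on the conjugacy class of d is connected. -/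
theorem result {G : Type*} [Group G] [Finite G] (L : Subgroup G) [L.Normal] (hL : Cfsg.IsQuasisimple ↥L) (d : G) (hd : orderOf d = 2) (hgen : L ⊔ Subgroup.zpowers d = ⊤) (hodd : Odd (Nat.card ↥(Subgroup.center ↥L))) (hinv : ∀ c ∈ (Subgroup.center ↥L).map L.subtype, d * c * d⁻¹ = c⁻¹) [hn : ((Subgroup.center ↥L).map L.subtype).Normal] (hconn : (Cfsg.commutingGraph (conjugatesOf (QuotientGroup.mk d : G ⧸ (Subgroup.center ↥L).map L.subtype))).Connected) : (Cfsg.commutingGraph (conjugatesOf d)).Connected := by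
  set Zc := (Subgroup.center ↥L).map L.subtype with hZc
  have hdd := CfsgLib.ThreeTrans.mul_self_of_orderOf_two hd
  have hdi := CfsgLib.ThreeTrans.inv_of_orderOf_two hd
  have hLc : ∀ l ∈ L, ∀ c ∈ Zc, l * c = c * l := by
    rintro l hl _ ⟨w, hw, rfl⟩
    exact congrArg Subtype.val (Subgroup.mem_center_iff.1 hw ⟨l, hl⟩)
  have hZab : ∀ a ∈ Zc, ∀ b ∈ Zc, a * b = b * a := fun a ha b hb => by
    obtain ⟨w, -, rfl⟩ := id ha; exact hLc _ w.2 b hb
  have hcard : Odd (Nat.card Zc) := by
    rw [hZc, Nat.card_congr (Subgroup.equivMapOfInjective _ _ L.subtype_injective).toEquiv.symm]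
    exact hodd
  -- conjugates of `d` invert the odd central subgroup
  have hcinv : ∀ e ∈ conjugatesOf d, ∀ c ∈ Zc, e * c * e⁻¹ = c⁻¹ := by
    intro e he c hc
    obtain ⟨g, rfl⟩ := isConj_iff.1 he
    have h1 := hinv _ (hn.conj_mem c hc g⁻¹)
    calc g * d * g⁻¹ * c * (g * d * g⁻¹)⁻¹ = g * (d * (g⁻¹ * c * g⁻¹⁻¹) * d⁻¹) * g⁻¹ := by group
      _ = g * (g⁻¹ * c * g⁻¹⁻¹)⁻¹ * g⁻¹ := by rw [h1]
      _ = c⁻¹ := by group
  -- square roots
  have hsqrt : ∀ c ∈ Zc, ∃ s ∈ Zc, s * s = c := by
    intro c hc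
    obtain ⟨k, hk⟩ := hcard
    refine ⟨c ^ (k + 1), Zc.pow_mem hc _, ?_⟩
    rw [← pow_add, show k + 1 + (k + 1) = 2 * k + 1 + 1 by omega, _root_.pow_succ, ← hk]
    have := pow_card_eq_one' (G := Zc) (x := ⟨c, hc⟩)
    rw [show c ^ Nat.card Zc = 1 from congrArg Subtype.val this, one_mul]
  have hconjZ : ∀ e ∈ conjugatesOf d, ∀ s ∈ Zc, s * e * s⁻¹ = e * (s⁻¹ * s⁻¹) := by
    intro e he s hs
    have h1 := hcinv e he s hs
    have h2 : s * e = e * s⁻¹ := by
      have h3 : e * s⁻¹ * e⁻¹ = s := by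
        have := congrArg (·⁻¹) h1
        simpa [mul_assoc] using this
      calc s * e = e * s⁻¹ * e⁻¹ * e := by rw [h3]
        _ = e * s⁻¹ := by group
    rw [h2, mul_assoc]
  set A := Cfsg.commutingGraph (conjugatesOf d) with hA
  set d₀ : conjugatesOf d := ⟨d, IsConj.refl d⟩
  let cj : G → conjugatesOf d → conjugatesOf d := fun g e =>
    ⟨g * (e : G) * g⁻¹, IsConj.trans e.2 (isConj_iff.2 ⟨g, rfl⟩)⟩
  have hcj : ∀ g e e', A.Reachable e e' → A.Reachable (cj g e) (cj g e') := by
    intro g e e' h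
    let f : A →g A := ⟨cj g, by
      intro a b hab
      rw [hA, Cfsg.commutingGraph, SimpleGraph.fromRel_adj] at hab ⊢
      refine ⟨fun h => hab.1 (Subtype.ext (mul_left_cancel (mul_right_cancel (congrArg Subtype.val h)))), ?_⟩
      exact hab.2.imp (fun h => h.map (MulAut.conj g).toMonoidHom) (fun h => h.map (MulAut.conj g).toMonoidHom)⟩
    exact h.map f
  let S : Subgroup G :=
    { carrier := {g | A.Reachable d₀ (cj g d₀)}
      one_mem' := by
        show A.Reachable d₀ (cj 1 d₀)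
        rw [show cj 1 d₀ = d₀ from Subtype.ext (by simp [cj])]
      mul_mem' := by
        intro g h hg hh
        show A.Reachable d₀ (cj (g * h) d₀)
        rw [show cj (g * h) d₀ = cj g (cj h d₀) from Subtype.ext (by simp [cj, mul_assoc])]
        exact SimpleGraph.Reachable.trans hg (hcj g _ _ hh)
      inv_mem' := by
        intro g hg
        have := hcj g⁻¹ _ _ hg
        rw [show cj g⁻¹ (cj g d₀) = d₀ from Subtype.ext (by simp [cj, mul_assoc])] at this
        exact this.symm }
  have hdS : d ∈ S := by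
    show A.Reachable d₀ (cj d d₀)
    rw [show cj d d₀ = d₀ from Subtype.ext (by show d * d * d⁻¹ = d; group)]
  -- lifting of edges
  have hlift : ∀ q, (Cfsg.commutingGraph (conjugatesOf (QuotientGroup.mk d : G ⧸ Zc))).Reachable
      ⟨_, IsConj.refl _⟩ q → ∃ e : conjugatesOf d, A.Reachable d₀ e ∧ ((e : G) : G ⧸ Zc) = (q : G ⧸ Zc) := by
    intro q hq
    induction SimpleGraph.reachable_iff_reflTransGen _ _ |>.1 hq with
    | refl => exact ⟨d₀, SimpleGraph.Reachable.refl _, rfl⟩
    | @tail b c _ hbc ih =>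
      obtain ⟨e, he, hee⟩ := ih ((SimpleGraph.reachable_iff_reflTransGen _ _).2 (by assumption))
      rw [Cfsg.commutingGraph, SimpleGraph.fromRel_adj] at hbc
      obtain ⟨hne, hcomm⟩ := hbc
      have hcm : Commute (b : G ⧸ Zc) (c : G ⧸ Zc) := hcomm.elim id Commute.symm
      obtain ⟨u, hu⟩ := isConj_iff.1 c.2
      induction u using QuotientGroup.induction_on with
      | H g =>
      set f := g * d * g⁻¹ with hfdef
      have hfmem : f ∈ conjugatesOf d := isConj_iff.2 ⟨g, rfl⟩
      have hfc : ((f : G) : G ⧸ Zc) = (c : G ⧸ Zc) := by rw [← hu]; rfl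
      have hff : f * f = 1 := by
        calc f * f = g * (d * d) * g⁻¹ := by rw [hfdef]; group
          _ = 1 := by rw [hdd]; group
      have hei : (e : G)⁻¹ = e := by
        obtain ⟨g', hg'⟩ := isConj_iff.1 e.2
        rw [← hg']; simp [hdi, mul_assoc]
      have hfi : f⁻¹ = f := inv_eq_of_mul_eq_one_right hff
      set w := (e : G) * f * (e : G) * f with hw
      have hwZ : w ∈ Zc := by
        rw [← QuotientGroup.eq_one_iff, hw]
        simp only [QuotientGroup.mk_mul, hee, hfc]
        have h1 : (b : G ⧸ Zc) * (b : G ⧸ Zc) = 1 := by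
          rw [← hee, ← QuotientGroup.mk_mul, show (e : G) * (e : G) = 1 by
            rw [← eq_inv_iff_mul_eq_one, hei], QuotientGroup.mk_one]
        have h2 : (c : G ⧸ Zc) * (c : G ⧸ Zc) = 1 := by
          rw [← hfc, ← QuotientGroup.mk_mul, hff, QuotientGroup.mk_one]
        calc (b : G ⧸ Zc) * c * b * c = (b : G ⧸ Zc) * b * (c * c) := by
              rw [mul_assoc (b : G ⧸ Zc) c b, hcm.eq.symm, ← mul_assoc, mul_assoc _ (c : G ⧸ Zc) c]
          _ = 1 := by rw [h1, h2, one_mul]
      obtain ⟨t, htZ, ht⟩ := hsqrt _ (Zc.inv_mem hwZ)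
      obtain ⟨s, hsZ, hs⟩ := hsqrt _ (Zc.inv_mem htZ)
      -- the new lift is `f * t`
      have hf' : f * t ∈ conjugatesOf d := by
        have h1 := hconjZ f hfmem s hsZ
        rw [← mul_inv_rev, hs, inv_inv] at h1
        rw [← h1]
        exact IsConj.trans hfmem (isConj_iff.2 ⟨s, rfl⟩)
      have hf't : (((f * t : G)) : G ⧸ Zc) = (c : G ⧸ Zc) := by
        rw [QuotientGroup.mk_mul, (QuotientGroup.eq_one_iff t).2 htZ, mul_one, hfc]
      have het : (e : G) * t = t⁻¹ * (e : G) := by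
        rw [← hcinv _ e.2 t htZ]; group
      have hft : f * t = t⁻¹ * f := by
        rw [← hcinv _ hfmem t htZ]; group
      have hec : Commute (e : G) (f * t) := by
        have hprod : ((e : G) * (f * t)) * ((e : G) * (f * t)) = 1 := by
          have het' : t * (e : G) = (e : G) * t⁻¹ := by
            calc t * (e : G) = t * ((e : G) * t) * t⁻¹ := by group
              _ = (e : G) * t⁻¹ := by rw [het]; group
          calc ((e : G) * (f * t)) * ((e : G) * (f * t))
              = (e : G) * f * (t * (e : G)) * (f * t) := by group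
            _ = (e : G) * f * (e : G) * (t⁻¹ * f) * t := by rw [het']; group
            _ = w * (t * t) := by rw [← hft, hw]; group
            _ = 1 := by rw [ht, mul_inv_cancel]
        have h3 := eq_inv_of_mul_eq_one_left hprod
        rw [mul_inv_rev, hei] at h3
        have hinvft : (f * t)⁻¹ = f * t := by
          rw [mul_inv_rev, hfi, ← hft]
        rw [hinvft] at h3
        exact h3
      refine ⟨⟨f * t, hf'⟩, ?_, hf't⟩
      refine he.trans (SimpleGraph.Adj.reachable ?_)
      rw [hA, Cfsg.commutingGraph, SimpleGraph.fromRel_adj]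
      exact ⟨fun h => hne (Subtype.ext (hee.symm.trans ((congrArg (fun x : conjugatesOf d => ((x : G) : G ⧸ Zc)) h).trans hf't))),
        Or.inl hec⟩
  -- `S` covers the quotient
  have hSZ : ∀ g : G, ∃ c ∈ Zc, c * g ∈ S := by
    intro g
    obtain ⟨e, he, hee⟩ := hlift ⟨_, isConj_iff.2 ⟨(g : G ⧸ Zc), rfl⟩⟩ (hconn _ _)
    have hgd : g * d * g⁻¹ ∈ conjugatesOf d := isConj_iff.2 ⟨g, rfl⟩
    have hmk : ((g * d * g⁻¹ : G) : G ⧸ Zc) = ((e : G) : G ⧸ Zc) := by rw [hee]; rfl
    rw [QuotientGroup.eq] at hmk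
    obtain ⟨s, hsZ, hs⟩ := hsqrt _ (Zc.inv_mem hmk)
    refine ⟨s, hsZ, ?_⟩
    show A.Reachable d₀ (cj (s * g) d₀)
    rw [show cj (s * g) d₀ = e from Subtype.ext ?_]
    · exact he
    · show s * g * d * (s * g)⁻¹ = e
      calc s * g * d * (s * g)⁻¹ = s * (g * d * g⁻¹) * s⁻¹ := by group
        _ = (g * d * g⁻¹) * (s⁻¹ * s⁻¹) := hconjZ _ hgd s hsZ
        _ = e := by rw [← mul_inv_rev, hs, inv_inv]; group
  have hLS : L ≤ S := by
    haveI := hL.1
    have hLL : ⁅L, L⁆ = L := by
      have h1 := congrArg (Subgroup.map L.subtype) (Group.IsPerfect.commutator_eq_top (G := ↥L))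
      rw [commutator_def, Subgroup.map_commutator, ← MonoidHom.range_eq_map, Subgroup.range_subtype] at h1
      exact h1
    conv_lhs => rw [← hLL]
    rw [Subgroup.commutator_le]
    intro a ha b hb
    obtain ⟨c, hc, hca⟩ := hSZ a
    obtain ⟨c', hc', hcb⟩ := hSZ b
    have hcL : c ∈ L := by obtain ⟨w, -, rfl⟩ := id hc; exact w.2
    have hc'L : c' ∈ L := by obtain ⟨w, -, rfl⟩ := id hc'; exact w.2
    have : ⁅c * a, c' * b⁆ = ⁅a, b⁆ := by
      have e1 : ∀ l ∈ L, c * l = l * c := fun l hl => (hLc l hl c hc).symm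
      have e2 : ∀ l ∈ L, c' * l = l * c' := fun l hl => (hLc l hl c' hc').symm
      simp only [commutatorElement_def]
      calc c * a * (c' * b) * (c * a)⁻¹ * (c' * b)⁻¹
          = c * (a * c') * b * a⁻¹ * (c⁻¹ * b⁻¹) * c'⁻¹ := by group
        _ = c * (c' * a) * b * a⁻¹ * (b⁻¹ * c⁻¹) * c'⁻¹ := by
            rw [e2 a ha, show c⁻¹ * b⁻¹ = b⁻¹ * c⁻¹ by rw [← mul_inv_rev, ← mul_inv_rev, e1 b hb]]
        _ = c * c' * (a * b * a⁻¹ * b⁻¹) * (c' * c)⁻¹ := by group
        _ = a * b * a⁻¹ * b⁻¹ := by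
            have hab : a * b * a⁻¹ * b⁻¹ ∈ L :=
              L.mul_mem (L.mul_mem (L.mul_mem ha hb) (L.inv_mem ha)) (L.inv_mem hb)
            rw [mul_assoc c c', e2 _ hab, ← mul_assoc, e1 _ hab, mul_assoc _ c c', hZab c hc c' hc',
              mul_inv_cancel_right]
    rw [← this, commutatorElement_def]
    exact S.mul_mem (S.mul_mem (S.mul_mem hca hcb) (S.inv_mem hca)) (S.inv_mem hcb)
  have htop : S = ⊤ := by
    rw [eq_top_iff, ← hgen]
    exact sup_le hLS (Subgroup.zpowers_le.2 hdS)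
  haveI : Nonempty (conjugatesOf d) := ⟨d₀⟩
  refine SimpleGraph.Connected.mk fun x y => ?_
  have key : ∀ x, A.Reachable d₀ x := by
    rintro ⟨x, hx⟩
    obtain ⟨g, rfl⟩ := isConj_iff.1 hx
    exact (htop ▸ Subgroup.mem_top g : g ∈ S)
  exact (key x).symm.trans (key y)

end Cfsg.Agent.S5459
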