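import Cfsg.Statements.S5468
import Mathlib
import Cfsg.Agent.Lib.Recog.FiM22Two.PairM23
import Cfsg.Agent.Lib.Classical.Unitary.MatrixStructure
import Cfsg.Agent.Lib.Components.PLayer
import Cfsg.Agent.S5464

set_option autoImplicit false
open Cfsg

namespace Cfsg.Agent.S5468

/-- Let G be a finite group with trivial centre generated by a conjugation-invariant set D of 3-transpositions on which it acts primitively, such that for some d in D the subgroup generated by the members of D other than d commuting with d has central largest normal 2- and 3-subgroups, and suppose G with D is of type M(23). Let d₁, d₂ be distinct commuting members of D, j = d₁ d₂, K the joint centralizer of d₁ and d₂ and C the centralizer of j. Then K has index 2 in C, the centre of K is the subgroup generated by d₁ and d₂, K is quasisimple with K modulo its centre isomorphic to the projective special unitary group of dimension 6 over the field with four elements, and C modulo the subgroup generated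 by d₁ and d₂ has trivial centre (so it is that unitary group extended by an outer involution). -/
theorem result {G : Type*} [Group G] [Finite G] {D : Set G} (hD : Cfsg.IsThreeTranspositionGroup D) (hprim : Cfsg.IsPrimitiveUnderConj D) (d₀ : G) (hd₀ : d₀ ∈ D) (h3 : Cfsg.pCore 3 ↥(Subgroup.closure {y : G | y ∈ D ∧ y ≠ d₀ ∧ Commute d₀ y}) ≤ Subgroup.center ↥(Subgroup.closure {y : G | y ∈ D ∧ y ≠ d₀ ∧ Commute d₀ y})) (h2 : Cfsg.pCore 2 ↥(Subgroup.closure {y : G | y ∈ D ∧ y ≠ d₀ ∧ Commute d₀ y}) ≤ Subgroup.center ↥(Subgroup.closure {y : G | y ∈ D ∧ y ≠ d₀ ∧ Commute d₀ y})) (h23 : Cfsg.IsOfTypeM23 G D) (d₁ d₂ : G) (h₁ : d₁ ∈ D) (h₂ : d₂ ∈ D) (hne : d₁ ≠ d₂) (hc : Commute d₁ d₂) (K C V : Subgroup G) (hK : K = Subgroup.centralizer ({d₁, d₂} : Set G)) (hC : C = Subgroup.centralizer ({d₁ * d₂} : Set G)) (hV : V = Subgroup.closure ({d₁, d₂} : Set G)) [hn : (V.subgroupOf C).Normal] : K ≤ C ∧ (K.subgroupOf C).index = 2 ∧ (Subgroup.center ↥K).map K.subtype = V ∧ Cfsg.IsQuasisimple ↥K ∧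 (∃ (F : Type) (_ : Field F) (_ : Fintype F), Fintype.card F = 4 ∧ Nonempty (↥K ⧸ Subgroup.center ↥K ≃* Cfsg.PSU 6 F 2)) ∧ Subgroup.center (↥C ⧸ V.subgroupOf C) = ⊥ := by
  classical
  obtain ⟨d, S⟩ := CfsgLib.Recog.FiM22Two.exists_sec22 hD hprim h23
  have hZ := h23.1
  -- move the pair to the member of the section
  obtain ⟨g, hg⟩ := hprim.1 d₁ h₁ d S.mem
  set e := g * d₂ * g⁻¹ with he'
  have he : e ∈ CfsgLib.Recog.FiM22.Factor.nb D d :=
    ⟨hD.2.1 g d₂ h₂, fun h => hne (mul_left_cancel (mul_right_cancel (hg.trans h.symm))),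
      by rw [← hg]; exact CfsgLib.ThreeTrans.commute_conj_iff.2 hc⟩
  let φ := (MulAut.conj g).toMonoidHom
  have hφK : K.map φ = Subgroup.centralizer ({d, e} : Set G) := by
    ext x
    rw [Subgroup.mem_map_equiv, S.mem_pair, hK, Subgroup.mem_centralizer_iff]
    simp only [Set.mem_insert_iff, Set.mem_singleton_iff, forall_eq_or_imp, forall_eq, MulAut.conj_symm_apply]
    rw [← hg, he']
    constructor
    · rintro ⟨a, b⟩
      constructor
      · have := (CfsgLib.ThreeTrans.commute_conj_iff (g := g)).2 (a : Commute d₁ (g⁻¹ * x * g))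
        rw [CfsgLib.ThreeTrans.conj_cancel] at this
        exact this.symm
      · have := (CfsgLib.ThreeTrans.commute_conj_iff (g := g)).2 (b : Commute d₂ (g⁻¹ * x * g))
        rw [CfsgLib.ThreeTrans.conj_cancel] at this
        exact this.symm
    · rintro ⟨a, b⟩
      constructor
      · refine ((CfsgLib.ThreeTrans.commute_conj_iff (g := g)).1 ?_).eq
        rw [CfsgLib.ThreeTrans.conj_cancel]; exact a.symm
      · refine ((CfsgLib.ThreeTrans.commute_conj_iff (g := g)).1 ?_).eq
        rw [CfsgLib.ThreeTrans.conj_cancel]; exact b.symm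
  let ι : ↥K ≃* ↥(Subgroup.centralizer ({d, e} : Set G)) :=
    (K.equivMapOfInjective φ (MulAut.conj g).injective).trans (MulEquiv.subgroupCongr hφK)
  obtain ⟨hqs, ⟨q⟩⟩ := S.pair_quotient hZ he
  have hcen := S.pair_center hZ he
  have hmem : ∀ x : G, x ∈ K ↔ Commute x d₁ ∧ Commute x d₂ := fun x => by
    rw [hK, Subgroup.mem_centralizer_iff]
    exact ⟨fun h => ⟨(h d₁ (by simp)).symm, (h d₂ (by simp)).symm⟩, fun h z hz => by
      rcases hz with rfl | hz
      · exact h.1.eq.symm
      · rw [Set.mem_singleton_iff] at hz; subst hz; exact h.2.eq.symm⟩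
  have hKC : K ≤ C := fun x hx => by
    rw [hC, Subgroup.mem_centralizer_singleton_iff]
    exact (((hmem x).1 hx).1.mul_right ((hmem x).1 hx).2).eq
  have hperm : ∀ c ∈ C, (c * d₁ * c⁻¹ = d₁ ∧ c * d₂ * c⁻¹ = d₂) ∨ (c * d₁ * c⁻¹ = d₂ ∧ c * d₂ * c⁻¹ = d₁) := by
    intro c hcC
    rw [hC, Subgroup.mem_centralizer_singleton_iff] at hcC
    have key := Cfsg.Agent.S5464.result hD hprim d₀ hd₀ h3 h2 (Or.inl h23) 2 (by norm_num) (d₁ * d₂)
      [c * d₁ * c⁻¹, c * d₂ * c⁻¹] [d₁, d₂]
      ⟨by simp [hne], rfl, by simp [hD.2.1 c _ h₁, hD.2.1 c _ h₂], by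
        simp only [List.mem_cons, List.not_mem_nil, or_false]
        have := (CfsgLib.ThreeTrans.commute_conj_iff (g := c)).2 hc
        rintro a (rfl | rfl) b (rfl | rfl)
        exacts [Commute.refl _, this, this.symm, Commute.refl _], by
        rw [List.prod_cons, List.prod_singleton, show c * d₁ * c⁻¹ * (c * d₂ * c⁻¹) = c * (d₁ * d₂) * c⁻¹ by group,
          hcC, mul_inv_cancel_right]⟩
      ⟨by simp [hne], rfl, by simp [h₁, h₂], by
        simp only [List.mem_cons, List.not_mem_nil, or_false]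
        rintro a (rfl | rfl) b (rfl | rfl)
        exacts [Commute.refl _, hc, hc.symm, Commute.refl _], by simp⟩
    have e1 := (key (c * d₁ * c⁻¹)).1 (by simp)
    have e2 := (key (c * d₂ * c⁻¹)).1 (by simp)
    simp only [List.mem_cons, List.not_mem_nil, or_false] at e1 e2
    have hinj : c * d₁ * c⁻¹ ≠ c * d₂ * c⁻¹ := fun h => hne (mul_left_cancel (mul_right_cancel h))
    rcases e1 with e1 | e1 <;> rcases e2 with e2 | e2
    · exact absurd (e1.trans e2.symm) hinj
    · exact Or.inl ⟨e1, e2⟩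
    · exact Or.inr ⟨e1, e2⟩
    · exact absurd (e1.trans e2.symm) hinj
  have hfix : ∀ c ∈ C, c ∈ K ↔ c * d₁ * c⁻¹ = d₁ := fun c hcC => by
    rw [hmem]
    refine ⟨fun h => by rw [h.1.eq, mul_inv_cancel_right], fun h => ?_⟩
    rcases hperm c hcC with h' | h'
    · exact ⟨mul_inv_eq_iff_eq_mul.1 h'.1, mul_inv_eq_iff_eq_mul.1 h'.2⟩
    · exact absurd (h.symm.trans h'.1) hne
  obtain ⟨s, hs1, hs2⟩ : ∃ s : G, s * d₁ * s⁻¹ = d₂ ∧ s * d₂ * s⁻¹ = d₁ := by
    obtain ⟨k, hk⟩ := hprim.1 d₁ h₁ d₂ h₂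
    have hy : k * d₂ * k⁻¹ ∈ D := hD.2.1 k d₂ h₂
    obtain ⟨m, hm, hm'⟩ := S.setting.commute_transitive h₂ hy
      (fun h => hne (mul_left_cancel (mul_right_cancel (hk.trans h.symm))))
      (by have := (CfsgLib.ThreeTrans.commute_conj_iff (g := k)).2 hc; rwa [hk] at this) h₁ hne hc.symm
    refine ⟨m * k, ?_, ?_⟩
    · rw [show m * k * d₁ * (m * k)⁻¹ = m * (k * d₁ * k⁻¹) * m⁻¹ by group, hk, hm.eq, mul_inv_cancel_right]
    · rw [← hm']; group
  have hsC : s ∈ C := by
    rw [hC, Subgroup.mem_centralizer_singleton_iff]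
    refine mul_inv_eq_iff_eq_mul.1 ?_
    rw [show s * (d₁ * d₂) * s⁻¹ = (s * d₁ * s⁻¹) * (s * d₂ * s⁻¹) by group, hs1, hs2, hc.eq]
  have hindex : (K.subgroupOf C).index = 2 := by
    refine Subgroup.index_eq_two_iff.2 ⟨⟨s, hsC⟩, fun b => ?_⟩
    rw [Subgroup.mem_subgroupOf, Subgroup.mem_subgroupOf, Subgroup.coe_mul]
    have hbs : (b : G) * s ∈ C := mul_mem b.2 hsC
    rw [hfix _ b.2, hfix _ hbs]
    have e : (b : G) * s * d₁ * ((b : G) * s)⁻¹ = (b : G) * d₂ * (b : G)⁻¹ := by
      rw [show (b : G) * s * d₁ * ((b : G) * s)⁻¹ = (b : G) * (s * d₁ * s⁻¹) * (b : G)⁻¹ by group, hs1]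
    rw [e]
    rcases hperm b b.2 with h | h
    · exact Or.inr ⟨h.1, fun h' => hne (h'.symm.trans h.2)⟩
    · exact Or.inl ⟨h.2, fun h' => hne (h'.symm.trans h.1)⟩
  have hcase : ∀ x ∈ V, x = 1 ∨ x = d₁ ∨ x = d₂ ∨ x = d₁ * d₂ := by
    intro x hx
    rw [hV] at hx
    have h1 : φ x ∈ Subgroup.closure ({d, e} : Set G) := by
      have := Subgroup.mem_map_of_mem φ hx
      rwa [MonoidHom.map_closure, Set.image_pair, show φ d₁ = d from hg, show φ d₂ = e from rfl] at this
    rcases S.closure_pair_cases he h1 with h | h | h | h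
    · exact Or.inl ((MulAut.conj g).injective (h.trans (map_one _).symm))
    · exact Or.inr (Or.inl ((MulAut.conj g).injective (h.trans hg.symm)))
    · exact Or.inr (Or.inr (Or.inl ((MulAut.conj g).injective h)))
    · exact Or.inr (Or.inr (Or.inr ((MulAut.conj g).injective (h.trans (by
        rw [map_mul]
        exact congrArg₂ (· * ·) hg.symm rfl)))))
  have hcenK : (Subgroup.center ↥K).map K.subtype = V := by
    have hcomp : φ.comp K.subtype = (Subgroup.centralizer ({d, e} : Set G)).subtype.comp ι.toMonoidHom := by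
      ext x; rfl
    apply Subgroup.map_injective (f := φ) (MulAut.conj g).injective
    rw [Subgroup.map_map, hcomp, ← Subgroup.map_map, CfsgLib.Classical.Herm.map_center_of_equiv ι, hcen,
      hV, MonoidHom.map_closure, Set.image_pair, show φ d₁ = d from hg, show φ d₂ = e from rfl]
  have hqsK : Cfsg.IsQuasisimple ↥K := (CfsgLib.Components.isQuasisimple_congr ι).2 hqs
  refine ⟨hKC, hindex, hcenK, hqsK, ⟨CfsgLib.Recog.SporBound.Fi22U6.F4, inferInstance, inferInstance,
    CfsgLib.Recog.SporBound.Fi22U6.F4.card,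
    ⟨(QuotientGroup.congr _ _ ι (CfsgLib.Classical.Herm.map_center_of_equiv ι)).trans q⟩⟩, ?_⟩
  -- the quotient by the pair has trivial centre
  rw [eq_bot_iff]
  intro z hz
  obtain ⟨c, rfl⟩ := QuotientGroup.mk_surjective z
  have hcomm : ∀ y : C, (c * y * c⁻¹ * y⁻¹ : C) ∈ V.subgroupOf C := fun y => by
    have h := Subgroup.mem_center_iff.1 hz (QuotientGroup.mk y)
    rw [← QuotientGroup.eq_one_iff, QuotientGroup.mk_mul, QuotientGroup.mk_mul, QuotientGroup.mk_mul,
      QuotientGroup.mk_inv, QuotientGroup.mk_inv, ← h]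
    group
  rw [Subgroup.mem_bot, QuotientGroup.eq_one_iff, Subgroup.mem_subgroupOf]
  by_cases hcK : (c : G) ∈ K
  · rw [← hcenK]
    refine ⟨⟨c, hcK⟩, ?_, rfl⟩
    haveI := hqsK.2
    have h1 : (QuotientGroup.mk ⟨(c : G), hcK⟩ : ↥K ⧸ Subgroup.center ↥K) ∈ Subgroup.center _ := by
      rw [Subgroup.mem_center_iff]
      intro p
      obtain ⟨y, rfl⟩ := QuotientGroup.mk_surjective p
      have h := hcomm ⟨y, hKC y.2⟩
      rw [Subgroup.mem_subgroupOf, ← hcenK] at h
      obtain ⟨w, hw, hwe⟩ := h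
      have h2 : (QuotientGroup.mk ((⟨(c : G), hcK⟩ : ↥K) * y * ⟨(c : G), hcK⟩⁻¹ * y⁻¹) : ↥K ⧸ Subgroup.center ↥K) = 1 := by
        rw [show (⟨(c : G), hcK⟩ : ↥K) * y * ⟨(c : G), hcK⟩⁻¹ * y⁻¹ = w from Subtype.ext hwe.symm]
        exact (QuotientGroup.eq_one_iff w).2 hw
      simp only [QuotientGroup.mk_mul, QuotientGroup.mk_inv] at h2
      exact (mul_inv_eq_iff_eq_mul.1 (mul_inv_eq_one.1 h2)).symm
    rcases (inferInstance : (Subgroup.center (↥K ⧸ Subgroup.center ↥K)).Normal).eq_bot_or_eq_top with hb | hb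
    · rw [hb, Subgroup.mem_bot, QuotientGroup.eq_one_iff] at h1; exact h1
    · exfalso
      haveI := CfsgLib.Recog.FiM22.psu_simple
      let r := (QuotientGroup.congr _ _ ι (CfsgLib.Classical.Herm.map_center_of_equiv ι)).trans q
      refine CfsgLib.Recog.FiM22.psu_nonabelian fun a b => r.symm.injective ?_
      rw [map_mul, map_mul]
      exact Subgroup.mem_center_iff.1 (hb ▸ Subgroup.mem_top (r.symm b)) (r.symm a)
  · exfalso
    obtain ⟨hc1, hc2⟩ := (hperm c c.2).resolve_left fun h => hcK ((hfix _ c.2).2 h.1)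
    refine S.pair_moves hZ he (c := g * (c : G) * g⁻¹) ?_ ?_ fun w hw => ?_
    · rw [← hg, show g * (c : G) * g⁻¹ * (g * d₁ * g⁻¹) * (g * (c : G) * g⁻¹)⁻¹ =
        g * ((c : G) * d₁ * (c : G)⁻¹) * g⁻¹ by group, hc1]
    · rw [he', show g * (c : G) * g⁻¹ * (g * d₂ * g⁻¹) * (g * (c : G) * g⁻¹)⁻¹ =
        g * ((c : G) * d₂ * (c : G)⁻¹) * g⁻¹ by group, hc2, hg]
    · set w' := g⁻¹ * w * g with hw'
      have hgw : g * w' * g⁻¹ = w := CfsgLib.ThreeTrans.conj_cancel g w
      have hwD : w' ∈ D := by simpa using hD.2.1 g⁻¹ w hw.1.1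
      have hw1 : Commute d₁ w' := by
        rw [← CfsgLib.ThreeTrans.commute_conj_iff (g := g), hg, hgw]; exact hw.1.2.2
      have hw2 : Commute d₂ w' := by
        rw [← CfsgLib.ThreeTrans.commute_conj_iff (g := g), hgw]; exact hw.2.2.2
      have n1 : w' ≠ d₁ := fun h => hw.1.2.1 (by rw [← hgw, h, hg])
      have n2 : w' ≠ d₂ := fun h => hw.2.2.1 (by rw [← hgw, h])
      have hwK : w' ∈ K := (hmem w').2 ⟨hw1.symm, hw2.symm⟩
      set v := (c : G) * w' * (c : G)⁻¹ with hv
      have hvD : v ∈ D := hD.2.1 _ _ hwD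
      have hvV : v * w' ∈ V := by
        have := hcomm ⟨w', hKC hwK⟩
        rw [Subgroup.mem_subgroupOf] at this
        simpa [hv, CfsgLib.ThreeTrans.inv_eq hD.1 hwD] using this
      have hvw : v = w' := by
        by_contra hne'
        have hS := hD.1
        have hself := CfsgLib.ThreeTrans.mul_self hS hwD
        have hcases : ∀ z : G, v * w' = z → v = z * w' := fun z hz => by rw [← hz, mul_assoc, hself, mul_one]
        have T := CfsgLib.Recog.FiM22.Factor.trans_of_prim hD hprim
        have n3 := CfsgLib.Recog.FiM22.Factor.m23_noRel h23 T (k := 3) (by norm_num) (by norm_num)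
        have n4 := CfsgLib.Recog.FiM22.Factor.m23_noRel h23 T (k := 4) (by norm_num) (by norm_num)
        have vd1 : Commute v d₁ := by
          have := (CfsgLib.ThreeTrans.commute_conj_iff (g := (c : G))).2 hw2.symm
          rwa [hc2, ← hv] at this
        have vd2 : Commute v d₂ := by
          have := (CfsgLib.ThreeTrans.commute_conj_iff (g := (c : G))).2 hw1.symm
          rwa [hc1, ← hv] at this
        have v1 : v ≠ d₁ := fun h => n2 (mul_left_cancel (mul_right_cancel (h.trans hc2.symm) : (c : G) * w' = (c : G) * d₂))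
        have v2 : v ≠ d₂ := fun h => n1 (mul_left_cancel (mul_right_cancel (h.trans hc1.symm) : (c : G) * w' = (c : G) * d₁))
        rcases hcase _ hvV with h | h | h | h
        · exact hne' (by simpa using hcases _ h)
        · refine n3 [v, w', d₁] ⟨by simp [hne', v1, n1], by simp [hvD, hwD, h₁], ?_⟩ rfl ?_
          · have hvw' : Commute v w' := by
              rw [hcases _ h]; exact hw1.mul_left (Commute.refl w')
            simp only [List.mem_cons, List.not_mem_nil, or_false]
            rintro a (rfl | rfl | rfl) b (rfl | rfl | rfl)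
            exacts [Commute.refl _, hvw', vd1, hvw'.symm, Commute.refl _, hw1.symm, vd1.symm, hw1, Commute.refl _]
          · simp only [List.prod_cons, List.prod_nil, mul_one, ← mul_assoc, h, CfsgLib.ThreeTrans.mul_self hS h₁]
        · refine n3 [v, w', d₂] ⟨by simp [hne', v2, n2], by simp [hvD, hwD, h₂], ?_⟩ rfl ?_
          · have hvw' : Commute v w' := by
              rw [hcases _ h]; exact hw2.mul_left (Commute.refl w')
            simp only [List.mem_cons, List.not_mem_nil, or_false]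
            rintro a (rfl | rfl | rfl) b (rfl | rfl | rfl)
            exacts [Commute.refl _, hvw', vd2, hvw'.symm, Commute.refl _, hw2.symm, vd2.symm, hw2, Commute.refl _]
          · simp only [List.prod_cons, List.prod_nil, mul_one, ← mul_assoc, h, CfsgLib.ThreeTrans.mul_self hS h₂]
        · refine n4 [v, w', d₁, d₂] ⟨by simp [hne', v1, v2, n1, n2, hne], by simp [hvD, hwD, h₁, h₂], ?_⟩ rfl ?_
          · have hvw' : Commute v w' := by
              rw [hcases _ h]; exact (hw1.mul_left hw2).mul_left (Commute.refl w')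
            simp only [List.mem_cons, List.not_mem_nil, or_false]
            rintro a (rfl | rfl | rfl | rfl) b (rfl | rfl | rfl | rfl)
            exacts [Commute.refl _, hvw', vd1, vd2, hvw'.symm, Commute.refl _, hw1.symm, hw2.symm, vd1.symm, hw1,
              Commute.refl _, hc, vd2.symm, hw2, hc.symm, Commute.refl _]
          · simp only [List.prod_cons, List.prod_nil, mul_one, ← mul_assoc, h]
            rw [mul_assoc (d₁ * d₂) d₁, show d₁ * d₂ * (d₁ * d₂) = d₁ * d₁ * (d₂ * d₂) by rw [hc.symm.mul_mul_mul_comm],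
              CfsgLib.ThreeTrans.mul_self hS h₁, CfsgLib.ThreeTrans.mul_self hS h₂, one_mul]
      rw [show g * (c : G) * g⁻¹ * w * (g * (c : G) * g⁻¹)⁻¹ = g * v * g⁻¹ by rw [hv, hw']; group, hvw, hgw]

end Cfsg.Agent.S5468
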