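import Cfsg.Statements.S5471
import Mathlib
import Cfsg.Agent.Lib.Recog.FiM22Two.TypeM23
import Cfsg.Agent.S5464

set_option autoImplicit false
open Cfsg

namespace Cfsg.Agent.S5471

/-- Let G be a finite group with trivial centre generated by a conjugation-invariant set D of 3-transpositions on which it acts primitively, such that for some d in D the subgroup generated by the members of D other than d commuting with d has central largest normal 2- and 3-subgroups, and suppose G with D is of type M(23). Let d₁, d₂, d₃ be distinct pairwise commuting members of D and j their product. Then the joint centralizer of d₁, d₂, d₃ is normal in the centralizer of j with quotient isomorphic to the symmetric group of degree 3. -/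
theorem result {G : Type*} [Group G] [Finite G] {D : Set G} (hD : Cfsg.IsThreeTranspositionGroup D) (hprim : Cfsg.IsPrimitiveUnderConj D) (d₀ : G) (hd₀ : d₀ ∈ D) (h3 : Cfsg.pCore 3 ↥(Subgroup.closure {y : G | y ∈ D ∧ y ≠ d₀ ∧ Commute d₀ y}) ≤ Subgroup.center ↥(Subgroup.closure {y : G | y ∈ D ∧ y ≠ d₀ ∧ Commute d₀ y})) (h2 : Cfsg.pCore 2 ↥(Subgroup.closure {y : G | y ∈ D ∧ y ≠ d₀ ∧ Commute d₀ y}) ≤ Subgroup.center ↥(Subgroup.closure {y : G | y ∈ D ∧ y ≠ d₀ ∧ Commute d₀ y})) (h23 : Cfsg.IsOfTypeM23 G D) (d₁ d₂ d₃ : G) (h₁ : d₁ ∈ D) (h₂ : d₂ ∈ D) (h₃ : d₃ ∈ D) (h12 : d₁ ≠ d₂) (h13 : d₁ ≠ d₃) (h23 : d₂ ≠ d₃) (c12 : Commute d₁ d₂) (c13 : Commute d₁ d₃) (c23 : Commute d₂ d₃) (K C : Subgroup G) (hK : K = Subgroup.centralizer ({d₁, d₂, d₃} : Set G)) (hC : C = Subgroup.centralizer ({d₁ * d₂ * d₃} : Set G)) : K ≤ C ∧ ∃ _ : (K.subgroupOf C).Normal, Nonempty (↥C ⧸ K.subgroupOf C ≃* Equiv.Perm (Fin 3)) := by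
  classical
  have hM : Cfsg.IsOfTypeM23 G D := by assumption
  obtain ⟨d, S⟩ := CfsgLib.Recog.FiM22Two.exists_sec22 hD hprim hM
  let v : Fin 3 → G := ![d₁, d₂, d₃]
  have hvm : ∀ i, v i ∈ D := by intro i; fin_cases i <;> assumption
  have hvc : ∀ i k, Commute (v i) (v k) := by
    intro i k
    fin_cases i <;> fin_cases k
    exacts [Commute.refl _, c12, c13, c12.symm, Commute.refl _, c23, c13.symm, c23.symm, Commute.refl _]
  have hvi : Function.Injective v := by
    intro i k h
    fin_cases i <;> fin_cases k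
    exacts [rfl, absurd h h12, absurd h h13, absurd h.symm h12, rfl, absurd h h23, absurd h.symm h13,
      absurd h.symm h23, rfl]
  have hl : ∀ σ : Equiv.Perm (Fin 3), CfsgLib.Recog.FiM22.Factor.ComList D [v (σ 0), v (σ 1), v (σ 2)] := by
    intro σ
    refine ⟨?_, by simp [hvm], ?_⟩
    · rw [show [v (σ 0), v (σ 1), v (σ 2)] = (List.finRange 3).map (v ∘ σ) by simp [List.finRange_succ]]
      exact (List.nodup_finRange 3).map (hvi.comp σ.injective)
    · intro p hp q hq
      simp only [List.mem_cons, List.not_mem_nil, or_false] at hp hq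
      rcases hp with rfl | rfl | rfl <;> rcases hq with rfl | rfl | rfl <;> exact hvc _ _
  have hKC : K ≤ C := by
    rw [hK, hC]
    intro x hx
    have e : ∀ i : Fin 3, Commute (v i) x := fun i =>
      Subgroup.mem_centralizer_iff.1 hx (v i) (by fin_cases i <;> simp [v])
    exact Subgroup.mem_centralizer_singleton_iff.2 (((e 0).mul_left (e 1)).mul_left (e 2)).eq.symm
  refine ⟨hKC, ?_⟩
  have hperm : ∀ x : C, ∀ i, ∃ k, (x : G) * v i * (x : G)⁻¹ = v k := by
    intro x i
    have hn : ([d₁, d₂, d₃] : List G).Nodup := (hl 1).nodup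
    have hx : (x : G) * (d₁ * d₂ * d₃) * (x : G)⁻¹ = d₁ * d₂ * d₃ := by
      have := Subgroup.mem_centralizer_singleton_iff.1 ((SetLike.ext_iff.1 hC (x : G)).1 x.2)
      exact mul_inv_eq_iff_eq_mul.2 this
    have hl' := (hl 1).conj hD.2.1 (x : G)
    have key := Cfsg.Agent.S5464.result hD hprim d₀ hd₀ h3 h2 (Or.inl hM) 3 le_rfl (d₁ * d₂ * d₃)
      ([d₁, d₂, d₃].map (MulAut.conj (x : G))) [d₁, d₂, d₃]
      ⟨hl'.nodup, rfl, hl'.mem, hl'.comm, by
        rw [← map_list_prod, MulAut.conj_apply]; simpa [mul_assoc] using hx⟩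
      ⟨hn, rfl, (hl 1).mem, (hl 1).comm, by simp [mul_assoc]⟩ ((x : G) * v i * (x : G)⁻¹)
    have hm := key.1 (by fin_cases i <;> simp [v])
    simp only [List.mem_cons, List.not_mem_nil, or_false] at hm
    rcases hm with h | h | h
    exacts [⟨0, h⟩, ⟨1, h⟩, ⟨2, h⟩]
  let f : C → Fin 3 → Fin 3 := fun x i => (hperm x i).choose
  have hf : ∀ (x : C) (i : Fin 3), (x : G) * v i * (x : G)⁻¹ = v (f x i) := fun x i => (hperm x i).choose_spec
  have hfmul : ∀ (x y : C) (i : Fin 3), f (x * y) i = f x (f y i) := fun x y i => hvi (by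
    rw [← hf, ← hf, ← hf, Subgroup.coe_mul]; group)
  have hf1 : ∀ i, f 1 i = i := fun i => hvi (by rw [← hf]; simp)
  let φ : C →* Equiv.Perm (Fin 3) :=
    { toFun := fun x => ⟨f x, f x⁻¹, fun i => by rw [← hfmul, inv_mul_cancel, hf1],
        fun i => by rw [← hfmul, mul_inv_cancel, hf1]⟩
      map_one' := Equiv.ext hf1
      map_mul' := fun x y => Equiv.ext (hfmul x y) }
  have hker : φ.ker = K.subgroupOf C := by
    ext x
    rw [MonoidHom.mem_ker, Subgroup.mem_subgroupOf, hK]
    constructor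
    · intro h
      refine Subgroup.mem_centralizer_iff.2 fun z hz => ?_
      obtain ⟨i, rfl⟩ : ∃ i, v i = z := by
        simp only [Set.mem_insert_iff, Set.mem_singleton_iff] at hz
        rcases hz with h | h | h
        exacts [⟨0, h.symm⟩, ⟨1, h.symm⟩, ⟨2, h.symm⟩]
      have e := hf x i
      rw [show f x i = i from Equiv.ext_iff.1 h i] at e
      exact (mul_inv_eq_iff_eq_mul.1 e).symm
    · intro h
      refine Equiv.ext fun i => hvi ?_
      show v (f x i) = v i
      rw [← hf, ← Subgroup.mem_centralizer_iff.1 h (v i) (by fin_cases i <;> simp [v]), mul_inv_cancel_right]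
  have hsurj : Function.Surjective φ := by
    intro σ
    obtain ⟨g, e0, e1, e2⟩ := S.triple_conj (hl 1) (hl σ)
    have hg : ∀ i, g * v i * g⁻¹ = v (σ i) := by
      intro i; fin_cases i
      exacts [e0, e1, e2]
    have hjC : g ∈ C := by
      rw [hC, Subgroup.mem_centralizer_singleton_iff]
      refine mul_inv_eq_iff_eq_mul.1 ?_
      calc g * (d₁ * d₂ * d₃) * g⁻¹ = (g * v 0 * g⁻¹) * (g * v 1 * g⁻¹) * (g * v 2 * g⁻¹) := by
            show g * (d₁ * d₂ * d₃) * g⁻¹ = (g * d₁ * g⁻¹) * (g * d₂ * g⁻¹) * (g * d₃ * g⁻¹)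
            group
        _ = v (σ 0) * v (σ 1) * v (σ 2) := by rw [hg, hg, hg]
        _ = d₁ * d₂ * d₃ := by
          have hp : ([v (σ 0), v (σ 1), v (σ 2)] : List G).Perm [d₁, d₂, d₃] := by
            refine (List.perm_ext_iff_of_nodup (hl σ).nodup ((hl 1).nodup : [d₁, d₂, d₃].Nodup)).2 fun z => ?_
            constructor
            · intro hz
              simp only [List.mem_cons, List.not_mem_nil, or_false] at hz
              have : ∀ j, v j ∈ [d₁, d₂, d₃] := fun j => by fin_cases j <;> simp [v]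
              rcases hz with rfl | rfl | rfl <;> exact this _
            · intro hz
              obtain ⟨j, rfl⟩ : ∃ j, v j = z := by
                simp only [List.mem_cons, List.not_mem_nil, or_false] at hz
                rcases hz with h | h | h
                exacts [⟨0, h.symm⟩, ⟨1, h.symm⟩, ⟨2, h.symm⟩]
              obtain ⟨i, rfl⟩ := σ.surjective j
              fin_cases i <;> simp
          have := (hl 1).prod_perm hp.symm
          simpa [v, mul_assoc] using this
    exact ⟨⟨g, hjC⟩, Equiv.ext fun i => hvi (by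
      show v (f ⟨g, hjC⟩ i) = _
      rw [← hf]; exact hg i)⟩
  have hN : (K.subgroupOf C).Normal := hker ▸ inferInstance
  exact ⟨hN, ⟨(QuotientGroup.quotientMulEquivOfEq hker.symm).trans (QuotientGroup.quotientKerEquivOfSurjective φ hsurj)⟩⟩

end Cfsg.Agent.S5471
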