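import Cfsg.Statements.S5472
import Cfsg.Agent.Lib.Recog.FiM22.OuterAut
-- import your own Cfsg.Agent.* helpers here

set_option autoImplicit false
open Cfsg

namespace Cfsg.Agent.S5472

/-- Let G be a finite group with trivial centre generated by a conjugation-invariant set D of 3-transpositions on which it acts primitively, such that for some d in D the subgroup generated by the members of D other than d commuting with d has central largest normal 2- and 3-subgroups, and suppose G with D is of type M(22). Then G has a non-inner automorphism s of order 2 whose fixed-point subgroup is isomorphic to the full automorphism group of Ω⁺(8, 2) (the commutator subgroup of the isometry group of the hyperbolic quadratic form in dimension 8 over the field with two elements), together with distinct commuting members a, b of D fixed by s such that: s, s composed with conjugation by a, and s composed with conjugation by a b represent the three classes (under the automorphism group) of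 non-inner automorphisms of order 2; the elements fixed by the automorphism s composed with conjugation by a are exactly those fixed by s and commuting with a, and they form a group isomorphic to the direct product of a group of order 2 and the symplectic group of dimension 6 over the field with two elements; and the elements fixed by the automorphism s composed with conjugation by a b form a group whose largest normal 2-subgroup is elementary abelian of order 64 with quotient isomorphic to the full isometry group of the elliptic quadratic form in dimension 6 over the field with two elements. -/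
theorem result {G : Type*} [Group G] [Finite G] {D : Set G} (hD : Cfsg.IsThreeTranspositionGroup D) (hprim : Cfsg.IsPrimitiveUnderConj D) (d₀ : G) (hd₀ : d₀ ∈ D) (h3 : Cfsg.pCore 3 ↥(Subgroup.closure {y : G | y ∈ D ∧ y ≠ d₀ ∧ Commute d₀ y}) ≤ Subgroup.center ↥(Subgroup.closure {y : G | y ∈ D ∧ y ≠ d₀ ∧ Commute d₀ y})) (h2 : Cfsg.pCore 2 ↥(Subgroup.closure {y : G | y ∈ D ∧ y ≠ d₀ ∧ Commute d₀ y}) ≤ Subgroup.center ↥(Subgroup.closure {y : G | y ∈ D ∧ y ≠ d₀ ∧ Commute d₀ y})) (h22 : Cfsg.IsOfTypeM22 G D) : ∃ (s : MulAut G) (a b : G) (Cs : Subgroup G), orderOf s = 2 ∧ s ∉ (MulAut.conj : G →* MulAut G).range ∧ (∀ g : G, g ∈ Cs ↔ s g = g) ∧ Nonempty (↥Cs ≃* MulAut (Cfsg.Omega (ZMod 2) (Cfsg.quadFormPlus 4 (ZMod 2)))) ∧ a ∈ D ∧ b ∈ D ∧ a ≠ b ∧ Commute a b ∧ s a = a ∧ s b = b ∧ (∀ t : MulAut G, orderOf t = 2 → t ∉ (MulAut.conj : G →* MulAut G).range → (IsConj t s ∨ IsConj t (s * MulAut.conj a) ∨ IsConj t (s * MulAut.conj (a * b)))) ∧ ¬ IsConj s (s * MulAut.conj a) ∧ ¬ IsConj s (s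 * MulAut.conj (a * b)) ∧ ¬ IsConj (s * MulAut.conj a) (s * MulAut.conj (a * b)) ∧ (∀ g : G, (s * MulAut.conj a) g = g ↔ g ∈ Cs ⊓ Subgroup.centralizer ({a} : Set G)) ∧ Nonempty (↥(Cs ⊓ Subgroup.centralizer ({a} : Set G)) ≃* Multiplicative (ZMod 2) × Cfsg.PSp 3 (ZMod 2)) ∧ ∃ Csab O : Subgroup G, (∀ g : G, g ∈ Csab ↔ (s * MulAut.conj (a * b)) g = g) ∧ O = (Cfsg.pCore 2 ↥Csab).map Csab.subtype ∧ Cfsg.IsElementaryAbelian 2 O ∧ Nat.card O = 64 ∧ ∃ _ : (O.subgroupOf Csab).Normal, Nonempty (↥Csab ⧸ O.subgroupOf Csab ≃* Cfsg.isometryGroup (ZMod 2) (Cfsg.quadFormMinus 2 (ZMod 2) 1 1)) := by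
  obtain ⟨F, a, b, hinj, hI, ha, hb, hab, hc, hea, heb, hfix⟩ :=
    CfsgLib.Recog.FiM22.exists_outer_frame hD hprim h22
  set s := F.rep3 0 with hs
  have hr1 : F.rep3 1 = s * MulAut.conj a := by rw [hea]; exact F.rep_one
  have hr2 : F.rep3 2 = s * MulAut.conj (a * b) := by rw [map_mul, hea, heb]; exact F.rep_two
  have hle : ∀ i, F.Fx i ≤ (MulAut.conj : G →* MulAut G).range := fun i => hI ▸ inf_le_left
  have hmem : ∀ i (g : G), g ∈ (F.Fx i).comap (MulAut.conj : G →* MulAut G) ↔ F.rep3 i g = g := fun i g => by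
    rw [Subgroup.mem_comap, F.mem_Fx, CfsgLib.Recog.FiM22.fix_iff hinj]
    exact and_iff_right (hI ▸ ⟨g, rfl⟩)
  have h7 : MulAut.conj a ∈ F.Fx 0 := hea ▸ (F.genOne_spec List.mem_cons_self).2.1
  have h9 : MulAut.conj b ∈ F.Fx 0 := heb ▸ F.nine_mem
  have hne1 : F.rep3 0 ≠ 1 := fun e => F.rep3_outer (show 0 < 3 by norm_num) (e ▸ one_mem _)
  refine ⟨s, a, b, (F.Fx 0).comap MulAut.conj, orderOf_eq_prime (by rw [pow_two]; exact F.rep3_sq (by norm_num))
    hne1, hI ▸ F.rep3_outer (by norm_num), hmem 0, ?_, ha, hb, hab, hc, (hmem 0 a).1 h7,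
    (hmem 0 b).1 h9, fun t ht hto => ?_, ?_, ?_, ?_, ?_, ?_, ?_⟩
  · obtain ⟨e⟩ := F.Fx0_equiv CfsgLib.Recog.SporBound.OmegaEightAut.card_aut_Om_le
    exact ⟨(CfsgLib.Recog.FiM22.comapEquiv _ hinj _ (hle 0)).trans e⟩
  · have ht2 : t * t = 1 := by rw [← pow_two, ← ht]; exact pow_orderOf_eq_one t
    obtain ⟨i, hi, hcj⟩ := F.classify ht2 (hI ▸ hto) (hfix t ht2)
    interval_cases i
    · exact Or.inl hcj.symm
    · exact Or.inr (Or.inl (hr1 ▸ hcj.symm))
    · exact Or.inr (Or.inr (hr2 ▸ hcj.symm))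
  · exact hr1 ▸ F.not_conj.1
  · exact hr2 ▸ F.not_conj.2.1
  · rw [← hr1, ← hr2]; exact F.not_conj.2.2
  · intro g
    rw [← hr1, ← hmem 1, Subgroup.mem_comap, F.Fx1_eq, Subgroup.mem_inf, Subgroup.mem_inf, Subgroup.mem_comap]
    refine and_congr_right fun _ => ?_
    rw [Subgroup.mem_centralizer_singleton_iff, Subgroup.mem_centralizer_singleton_iff,
      CfsgLib.Recog.SporBound.Fi22Pair.Frame.aE, ← hea, ← map_mul, ← map_mul, hinj.eq_iff]
  · obtain ⟨e⟩ := F.Fx1_equiv
    have heq : (F.Fx 0).comap (MulAut.conj : G →* MulAut G) ⊓ Subgroup.centralizer ({a} : Set G) =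
        (F.Fx 1).comap MulAut.conj := by
      ext g
      rw [Subgroup.mem_inf, Subgroup.mem_comap, Subgroup.mem_comap, F.Fx1_eq, Subgroup.mem_inf,
        Subgroup.mem_centralizer_singleton_iff, Subgroup.mem_centralizer_singleton_iff,
        CfsgLib.Recog.SporBound.Fi22Pair.Frame.aE, ← hea, ← map_mul, ← map_mul, hinj.eq_iff]
    exact ⟨(MulEquiv.subgroupCongr heq).trans ((CfsgLib.Recog.FiM22.comapEquiv _ hinj _ (hle 1)).trans e)⟩
  · obtain ⟨hEA, hEc, hG, hcore, hmap, ⟨e⟩⟩ := F.Fx2_structure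
    set Csab := (F.Fx 2).comap (MulAut.conj : G →* MulAut G)
    let φ : Csab ≃* F.Gab :=
      (CfsgLib.Recog.FiM22.comapEquiv _ hinj _ (hle 2)).trans (MulEquiv.subgroupCongr hG.symm)
    have hφ : ∀ x : Csab, ((φ x : F.Gab) : MulAut G) = MulAut.conj (x : G) := fun _ => rfl
    have hpc := CfsgLib.Components.pCore_map_equiv 2 φ
    set O := (Cfsg.pCore 2 Csab).map Csab.subtype with hO
    have hOE : O = F.E6.comap (MulAut.conj : G →* MulAut G) := by
      ext g
      rw [hO, Subgroup.mem_comap, ← hmap, ← hpc, Subgroup.map_map, Subgroup.mem_map, Subgroup.mem_map]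
      constructor
      · rintro ⟨x, hx, rfl⟩
        exact ⟨x, hx, hφ x⟩
      · rintro ⟨x, hx, hxe⟩
        exact ⟨x, hx, hinj ((hφ x).symm.trans hxe)⟩
    have hOm : ∀ {z : G}, z ∈ O → MulAut.conj z ∈ F.E6 := fun {z} hz => by rw [hOE] at hz; exact hz
    have hEr : F.E6 ≤ (MulAut.conj : G →* MulAut G).range := F.E6_le_Gab.trans (hG ▸ hle 2)
    have hn : (O.subgroupOf Csab).Normal := by
      rw [hO, Subgroup.subgroupOf, Subgroup.comap_map_eq_self_of_injective Csab.subtype_injective]
      infer_instance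
    refine ⟨Csab, O, fun g => by rw [← hr2]; exact hmem 2 g, rfl, ⟨⟨⟨fun x y => Subtype.ext ?_⟩⟩, fun x hx => ?_⟩, ?_,
      hn, ⟨(QuotientGroup.congr (O.subgroupOf Csab) F.psi2.ker φ ?_).trans e⟩⟩
    · refine hinj ?_
      rw [Subgroup.coe_mul, Subgroup.coe_mul, map_mul, map_mul]
      exact congrArg Subtype.val (hEA.1.is_comm.comm (⟨_, hOm x.2⟩ : F.E6) ⟨_, hOm y.2⟩)
    · refine hinj ?_
      rw [map_pow, map_one]
      exact hEA.2 _ (hOm hx)
    · rw [hOE, Nat.card_congr (CfsgLib.Recog.FiM22.comapEquiv _ hinj _ hEr).toEquiv, hEc]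
    · rw [hO, Subgroup.subgroupOf, Subgroup.comap_map_eq_self_of_injective Csab.subtype_injective, ← hcore]
      exact hpc

end Cfsg.Agent.S5472
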