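import Cfsg.Statements.S5514
import Cfsg.Agent.Lib.ThreeTrans.O73.Split

set_option autoImplicit false
open Cfsg CfsgLib.ThreeTrans.O73

namespace Cfsg.Agent.S5514

local notation "P" => Cfsg.POmega (ZMod 3) (Cfsg.quadFormOdd 3 (ZMod 3))

/-- The projection Ω → PΩ. -/
def proj : ↥Om →* P := QuotientGroup.mk' (Subgroup.center Om)

theorem proj_injective : Function.Injective proj := by
  rw [← MonoidHom.ker_eq_bot_iff, proj, QuotientGroup.ker_mk']
  exact Subgroup.card_eq_one.1 center_Om_card

/-- The representatives in Ω. -/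
def r (i : Fin 7) : ↥Om := ⟨rep i, wd_mem_Om _⟩

/-- Their images in PΩ. -/
def y (i : Fin 7) : P := proj (r i)

theorem y_cube (i : Fin 7) : y i * (y i * y i) = 1 := by
  rw [y, ← map_mul, ← map_mul, show r i * (r i * r i) = 1 from Subtype.ext (rep_cube i), map_one]

theorem y_ne_one (i : Fin 7) : y i ≠ 1 := fun e =>
  rep_ne_one i (congrArg Subtype.val (proj_injective (e.trans (map_one proj).symm)))

theorem order_y (i : Fin 7) : orderOf (y i) = 3 := by
  have : Fact (Nat.Prime 3) := ⟨Nat.prime_three⟩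
  exact orderOf_eq_prime (by rw [pow_succ', pow_two]; exact y_cube i) (y_ne_one i)

theorem zpowers_sq {G : Type*} [Group G] {a : G} (h : a * (a * a) = 1) :
    Subgroup.zpowers (a * a) = Subgroup.zpowers a := by
  rw [show a * a = a⁻¹ from (eq_inv_of_mul_eq_one_right h), Subgroup.zpowers_inv]

theorem gen_cases {G : Type*} [Group G] {a b : G} (h : orderOf a = 3) (hb : b ∈ Subgroup.zpowers a)
    (hb1 : b ≠ 1) : b = a ∨ b = a * a := by
  have ho : IsOfFinOrder a := orderOf_pos_iff.1 (by omega)
  obtain ⟨k, rfl⟩ := ho.mem_powers_iff_mem_zpowers.2 hb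
  dsimp only at hb1 ⊢
  rw [← pow_mod_orderOf, h] at hb1 ⊢
  have : k % 3 < 3 := Nat.mod_lt _ (by omega)
  interval_cases k % 3
  · simp at hb1
  · exact Or.inl (pow_one a)
  · exact Or.inr (pow_two a)

/-- The commutator subgroup of the isometry group of a non-degenerate 7-dimensional quadratic form over the field with three elements, modulo its (trivial) centre — the simple group Ω(7, 3) — has exactly seven conjugacy classes of subgroups of order 3. -/
theorem result : ∃ Y : Fin 7 → Subgroup (Cfsg.POmega (ZMod 3) (Cfsg.quadFormOdd 3 (ZMod 3))), (∀ i, Nat.card (Y i) = 3) ∧ (∀ i j, (∃ g : Cfsg.POmega (ZMod 3) (Cfsg.quadFormOdd 3 (ZMod 3)), (Y i).map (MulAut.conj g).toMonoidHom = Y j) → i = j) ∧ (∀ X : Subgroup (Cfsg.POmega (ZMod 3) (Cfsg.quadFormOdd 3 (ZMod 3))), Nat.card X = 3 → ∃ i, ∃ g : Cfsg.POmega (ZMod 3) (Cfsg.quadFormOdd 3 (ZMod 3)), X.map (MulAut.conj g).toMonoidHom = Y i) := by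
  refine ⟨fun i => Subgroup.zpowers (y i), fun i => by rw [Nat.card_zpowers, order_y],
    fun i j hij => ?_, fun X hX => ?_⟩
  · obtain ⟨g, hg⟩ := hij
    obtain ⟨g, rfl⟩ := QuotientGroup.mk'_surjective (Subgroup.center Om) g
    change (Subgroup.zpowers (y i)).map (MulAut.conj (proj g)).toMonoidHom = Subgroup.zpowers (y j) at hg
    rw [MonoidHom.map_zpowers] at hg
    have hm : proj (g * r i * g⁻¹) ∈ Subgroup.zpowers (y j) := by
      rw [← hg]
      simp [y]
    have hne : proj (g * r i * g⁻¹) ≠ 1 := fun e => y_ne_one i (by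
      rw [map_mul, map_mul, map_inv, mul_inv_eq_one, mul_eq_left] at e
      exact e)
    refine rep_inj g.2 ?_
    rcases gen_cases (order_y j) hm hne with e | e
    · exact Or.inl (congrArg Subtype.val (proj_injective e))
    · exact Or.inr (congrArg Subtype.val (proj_injective (e.trans (map_mul proj _ _).symm)))
  · have : Fact (Nat.Prime 3) := ⟨Nat.prime_three⟩
    obtain ⟨⟨x, hx⟩, hx1⟩ : ∃ x : X, x ≠ 1 := by
      have : Finite X := Nat.finite_of_card_ne_zero (by omega)
      have : Nontrivial X := Finite.one_lt_card_iff_nontrivial.1 (by omega)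
      exact exists_ne 1
    have ox : orderOf x = 3 := by
      have h1 : orderOf (⟨x, hx⟩ : X) = 3 := orderOf_eq_prime
        (by have := pow_card_eq_one' (x := (⟨x, hx⟩ : X)); rwa [hX] at this) hx1
      rwa [Subgroup.orderOf_mk] at h1
    have hXx : Subgroup.zpowers x = X := by
      have : Finite X := Nat.finite_of_card_ne_zero (by omega)
      exact Subgroup.eq_of_le_of_card_ge (Subgroup.zpowers_le.2 hx) (by rw [hX, Nat.card_zpowers, ox])
    obtain ⟨u, rfl⟩ := QuotientGroup.mk'_surjective (Subgroup.center Om) x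
    change orderOf (proj u) = 3 at ox
    change Subgroup.zpowers (proj u) = X at hXx
    have hu : (u : O) * (u * u) = 1 := by
      have := pow_orderOf_eq_one (proj u)
      rw [ox, ← map_pow, ← map_one proj] at this
      have := congrArg Subtype.val (proj_injective this)
      simpa [pow_succ, mul_assoc] using this
    have hu1 : (u : O) ≠ 1 := fun e => by
      rw [show u = 1 from Subtype.ext e, map_one, orderOf_one] at ox
      omega
    obtain ⟨i, hi, g, hg, h⟩ := classify u.2 hu hu1
    refine ⟨⟨i, hi⟩, proj ⟨g, hg⟩, ?_⟩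
    rw [← hXx, MonoidHom.map_zpowers]
    rcases h with h | h
    · congr 1
      show proj ⟨g, hg⟩ * proj u * (proj ⟨g, hg⟩)⁻¹ = proj (r ⟨i, hi⟩)
      rw [← map_mul, ← map_inv, ← map_mul]
      exact congrArg proj (Subtype.ext h)
    · show Subgroup.zpowers (proj ⟨g, hg⟩ * proj u * (proj ⟨g, hg⟩)⁻¹) = Subgroup.zpowers (y ⟨i, hi⟩)
      rw [← zpowers_sq (y_cube ⟨i, hi⟩)]
      congr 1
      rw [y, ← map_mul, ← map_inv, ← map_mul, ← map_mul]
      exact congrArg proj (Subtype.ext h)

end Cfsg.Agent.S5514
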