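import Cfsg.Statements.S5515
import Cfsg.Agent.Lib.Known.OutPermFour
import Cfsg.Agent.S2608

set_option autoImplicit false
open Cfsg

namespace Cfsg.Agent.S5515

/-- Let G and G′ be finite groups whose generalized Fitting subgroups are isomorphic to PΩ⁺(8, 3) (the commutator subgroup of the isometry group of the hyperbolic quadratic form in dimension 8 over the field with three elements, modulo its centre) with quotients isomorphic to the symmetric group of degree 3. Then G and G′ are isomorphic. -/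
theorem result {G G' : Type*} [Group G] [Finite G] [Group G'] [Finite G'] (hF : Nonempty (↥(Cfsg.generalizedFittingSubgroup G) ≃* Cfsg.POmega (ZMod 3) (Cfsg.quadFormPlus 4 (ZMod 3)))) (hF' : Nonempty (↥(Cfsg.generalizedFittingSubgroup G') ≃* Cfsg.POmega (ZMod 3) (Cfsg.quadFormPlus 4 (ZMod 3)))) [hn : (Cfsg.generalizedFittingSubgroup G).Normal] [hn' : (Cfsg.generalizedFittingSubgroup G').Normal] (hq : Nonempty (G ⧸ Cfsg.generalizedFittingSubgroup G ≃* Equiv.Perm (Fin 3))) (hq' : Nonempty (G' ⧸ Cfsg.generalizedFittingSubgroup G' ≃* Equiv.Perm (Fin 3))) : Nonempty (G ≃* G') := by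
  classical
  haveI : Fact (Nat.Prime 3) := ⟨Nat.prime_three⟩
  have hOut := Cfsg.Agent.S2608.result (F := ZMod 3) (p := 3) (f := 1) (m := 4) le_rfl
    (by simp [ZMod.card]) (by norm_num) le_rfl
  rw [if_pos rfl] at hOut
  obtain ⟨ψ⟩ := hOut
  let u : Equiv.Perm (Fin 4) × Multiplicative (ZMod 1) ≃* Equiv.Perm (Fin 4) := MulEquiv.prodUnique
  have hZ : Subgroup.center (Cfsg.POmega (ZMod 3) (Cfsg.quadFormPlus 4 (ZMod 3))) = ⊥ := by
    rw [← CfsgLib.Classical.Quad.coe_qPlus]
    exact CfsgLib.Known.AutPOmega.center_POmega_eq_bot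
      ⟨CfsgLib.Classical.Quad.qPlus_nondeg 4, by simp⟩
  obtain ⟨e⟩ := hF
  obtain ⟨e'⟩ := hF'
  obtain ⟨q⟩ := hq
  obtain ⟨q'⟩ := hq'
  exact CfsgLib.Known.OutPermFour.iso_of_index_six _ _
    CfsgLib.Components.centralizer_gFitting_le CfsgLib.Components.centralizer_gFitting_le e e' hZ
    (ψ.trans u)
    (by rw [Subgroup.index_eq_card, Nat.card_congr q.toEquiv, Nat.card_perm, Nat.card_fin]; rfl)
    (by rw [Subgroup.index_eq_card, Nat.card_congr q'.toEquiv, Nat.card_perm, Nat.card_fin]; rfl)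

end Cfsg.Agent.S5515
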