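import Cfsg.Statements.S5516
import Cfsg.Agent.Lib.ThreeTrans.O83.Sep
import Cfsg.Agent.Lib.Known.OutPermFour
import Cfsg.Agent.S2608

set_option autoImplicit false
open Cfsg CfsgLib.ThreeTrans.O83

namespace Cfsg.Agent.S5516

/-- The orbit label of a class. -/
def lab (i : Fin 13) : Fin 7 := ![0, 1, 2, 1, 1, 3, 3, 3, 4, 5, 5, 5, 6] i

/-- A class in every orbit. -/
def repOf (k : Fin 7) : Fin 13 := ![0, 1, 2, 5, 8, 9, 12] k

/-- The rotation on classes. -/
def tp (i : Fin 13) : Fin 13 := ![0, 3, 2, 4, 1, 6, 7, 5, 8, 11, 9, 10, 12] i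

/-- The exchange on classes. -/
def sp (i : Fin 13) : Fin 13 := ![0, 1, 2, 4, 3, 5, 7, 6, 8, 10, 9, 11, 12] i

theorem tp_eq : ∀ i : Fin 13, (tp i : ℕ) = tauPerm.getD i 0 := by decide +kernel

theorem sp_eq : ∀ i : Fin 13, (sp i : ℕ) = sigPerm.getD i 0 := by decide +kernel

theorem lab_rep : ∀ k : Fin 7, lab (repOf k) = k := by decide +kernel

theorem perm_facts : ∀ f ∈ [tp, tp ∘ tp, sp, sp ∘ tp, sp ∘ (tp ∘ tp)],
    (∀ i, lab (f i) = lab i) ∧ ∃ i, f i ≠ i := by
  intro f hf
  simp only [List.mem_cons, List.not_mem_nil, or_false] at hf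
  rcases hf with rfl | rfl | rfl | rfl | rfl <;> decide +kernel

theorem reach : ∀ i : Fin 13, repOf (lab i) ∈ [i, tp i, tp (tp i)] := by decide +kernel

theorem map_mulAut_mul {G : Type*} [Group G] (A : Subgroup G) (a b : MulAut G) :
    A.map (a * b).toMonoidHom = (A.map b.toMonoidHom).map a.toMonoidHom := by
  rw [Subgroup.map_map]; rfl

/-- Images of subgroups compose. -/
theorem act_comp {S : Equiv.Perm (Fin 3) →* MulAut P} {a b : Equiv.Perm (Fin 3)} {f g : Fin 13 → Fin 13}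
    (ha : ∀ i, CfsgLib.ThreeTrans.O83.Rel ((X i).map (S a).toMonoidHom) (X (f i))) (hb : ∀ i, CfsgLib.ThreeTrans.O83.Rel ((X i).map (S b).toMonoidHom) (X (g i)))
    (i : Fin 13) : CfsgLib.ThreeTrans.O83.Rel ((X i).map (S (a * b)).toMonoidHom) (X (f (g i))) := by
  rw [map_mul, map_mulAut_mul]
  exact ((hb i).aut (S a)).trans (ha (g i))

set_option maxHeartbeats 1000000 in
/-- PΩ⁺(8, 3) (the commutator subgroup of the isometry group of the hyperbolic quadratic form in dimension 8 over the field with three elements, modulo its centre) has exactly 13 conjugacy classes of subgroups of order 3; and a finite group G whose generalized Fitting subgroup L is isomorphic to PΩ⁺(8, 3) with G/L the symmetric group of degree 3 has exactly 7 orbits, under conjugation, on the subgroups of L of order 3. -/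
theorem result {G : Type*} [Group G] [Finite G] (L : Subgroup G) (hL : L = Cfsg.generalizedFittingSubgroup G) (hF : Nonempty (↥L ≃* Cfsg.POmega (ZMod 3) (Cfsg.quadFormPlus 4 (ZMod 3)))) [hn : L.Normal] (hq : Nonempty (G ⧸ L ≃* Equiv.Perm (Fin 3))) : (∃ Y : Fin 13 → Subgroup (Cfsg.POmega (ZMod 3) (Cfsg.quadFormPlus 4 (ZMod 3))), (∀ i, Nat.card (Y i) = 3) ∧ (∀ i j, (∃ g : Cfsg.POmega (ZMod 3) (Cfsg.quadFormPlus 4 (ZMod 3)), (Y i).map (MulAut.conj g).toMonoidHom = Y j) → i = j) ∧ (∀ X : Subgroup (Cfsg.POmega (ZMod 3) (Cfsg.quadFormPlus 4 (ZMod 3))), Nat.card X = 3 → ∃ i, ∃ g : Cfsg.POmega (ZMod 3) (Cfsg.quadFormPlus 4 (ZMod 3)), X.map (MulAut.conj g).toMonoidHom = Y i)) ∧ ∃ Y : Fin 7 → Subgroup G, (∀ i, Y i ≤ L ∧ Nat.card (Y i) = 3) ∧ (∀ i j, (∃ g : G, (Y i).map (MulAut.conj g).toMonoidHom = Y j) → i = j) ∧ ∀ X : Subgroup G, X ≤ L → Nat.card X = 3 → ∃ i, ∃ g : G, X.map (MulAut.conj g).toMonoidHom = Y i := by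
  classical
  haveI : Fact (Nat.Prime 3) := ⟨Nat.prime_three⟩
  refine ⟨⟨X, card_X, fun i j h => rel_inj h, fun A hA => exists_rel hA⟩, ?_⟩
  subst hL
  obtain ⟨e⟩ := hF
  obtain ⟨q⟩ := hq
  have hC : Subgroup.centralizer (Cfsg.generalizedFittingSubgroup G : Set G) ≤ Cfsg.generalizedFittingSubgroup G :=
    CfsgLib.Components.centralizer_gFitting_le
  have h6 : (Cfsg.generalizedFittingSubgroup G).index = 6 := by
    rw [Subgroup.index_eq_card, Nat.card_congr q.toEquiv, Nat.card_perm, Nat.card_fin]; rfl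
  have hZ : Subgroup.center P = ⊥ := by
    show Subgroup.center (Cfsg.POmega (ZMod 3) (Cfsg.quadFormPlus 4 (ZMod 3))) = ⊥
    rw [← CfsgLib.Classical.Quad.coe_qPlus]
    exact CfsgLib.Known.AutPOmega.center_POmega_eq_bot
      ⟨CfsgLib.Classical.Quad.qPlus_nondeg 4, by simp⟩
  obtain ⟨ψ⟩ : Nonempty (Cfsg.Out P ≃* Equiv.Perm (Fin 4)) := by
    have hOut := Cfsg.Agent.S2608.result (F := ZMod 3) (p := 3) (f := 1) (m := 4) le_rfl
      (by simp [ZMod.card]) (by norm_num) le_rfl
    rw [if_pos rfl] at hOut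
    obtain ⟨ψ⟩ := hOut
    exact ⟨ψ.trans MulEquiv.prodUnique⟩
  obtain ⟨S, t, s, hall, -, ht, hs⟩ := exists_images
  have hT : ∀ i, CfsgLib.ThreeTrans.O83.Rel ((X i).map (S t).toMonoidHom) (X (tp i)) := fun i => ht i _ (tp_eq i)
  have hS : ∀ i, CfsgLib.ThreeTrans.O83.Rel ((X i).map (S s).toMonoidHom) (X (sp i)) := fun i => hs i _ (sp_eq i)
  have hperm : ∀ σ, σ = 1 ∨ ∃ f : Fin 13 → Fin 13,
      (∀ i, CfsgLib.ThreeTrans.O83.Rel ((X i).map (S σ).toMonoidHom) (X (f i))) ∧ (∀ i, lab (f i) = lab i) ∧ ∃ i, f i ≠ i := by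
    intro σ
    have hσ := hall σ
    simp only [List.mem_cons, List.not_mem_nil, or_false] at hσ
    rcases hσ with rfl | rfl | rfl | rfl | rfl | rfl
    · exact Or.inl rfl
    · exact Or.inr ⟨tp, hT, perm_facts _ (by simp)⟩
    · exact Or.inr ⟨tp ∘ tp, act_comp (f := tp) (g := tp) hT hT, perm_facts _ (by simp)⟩
    · exact Or.inr ⟨sp, hS, perm_facts _ (by simp)⟩
    · exact Or.inr ⟨sp ∘ tp, act_comp (f := sp) (g := tp) hS hT, perm_facts _ (by simp)⟩
    · exact Or.inr ⟨sp ∘ (tp ∘ tp), act_comp (f := sp) (g := tp ∘ tp) hS (act_comp (f := tp) (g := tp) hT hT), perm_facts _ (by simp)⟩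
  obtain ⟨π, hπ⟩ : ∃ π : MulAut P →* Equiv.Perm (Fin 4), π = ψ.toMonoidHom.comp (QuotientGroup.mk' (Cfsg.Inn P)) :=
    ⟨_, rfl⟩
  have hker : ∀ a, π a = 1 ↔ a ∈ Cfsg.Inn P := fun a => by
    rw [hπ, MonoidHom.comp_apply, MulEquiv.coe_toMonoidHom, MulEquiv.map_eq_one_iff,
      QuotientGroup.mk'_apply, QuotientGroup.eq_one_iff]
  have hsurj : Function.Surjective π := by
    rw [hπ]; exact ψ.surjective.comp (QuotientGroup.mk'_surjective _)
  have hH0 : Nat.card (π.comp S).range = 6 := by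
    have hinj : Function.Injective (π.comp S) := (injective_iff_map_eq_one _).2 fun σ hσ => by
      rcases hperm σ with h | ⟨f, hf, -, i, hi⟩
      · exact h
      obtain ⟨p, hp⟩ := (hker _).1 hσ
      refine absurd (rel_inj ?_).symm hi
      exact (rel_conj (X i) p).trans (hp ▸ hf i)
    rw [← Nat.card_congr (MonoidHom.ofInjective hinj).toEquiv, Nat.card_perm, Nat.card_fin]
    rfl
  let φ : G →* MulAut P := (MulAut.congr e).toMonoidHom.comp MulAut.conjNormal
  have hφ : ∀ (g : G) (l : ↥(Cfsg.generalizedFittingSubgroup G)), φ g (e l) = e (MulAut.conjNormal g l) :=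
    fun g l => by
      show e (MulAut.conjNormal g (e.symm (e l))) = _
      rw [e.symm_apply_apply]
  have hinn : ∀ f : ↥(Cfsg.generalizedFittingSubgroup G), φ (f : G) = MulAut.conj (e f) := fun f => by
    refine MulEquiv.ext fun z => ?_
    obtain ⟨l, rfl⟩ := e.surjective z
    rw [hφ, MulAut.conj_apply, ← map_inv, ← map_mul, ← map_mul]
    exact congrArg e (Subtype.ext (MulAut.conjNormal_apply _ _))
  have hfaith : ∀ g, φ g = 1 → g = 1 := fun g hg => by
    have hgC : g ∈ Subgroup.centralizer (Cfsg.generalizedFittingSubgroup G : Set G) :=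
      Subgroup.mem_centralizer_iff.2 fun l hl => by
        have h := hφ g ⟨l, hl⟩
        rw [hg, MulAut.one_apply, e.injective.eq_iff] at h
        have h' := congrArg Subtype.val h
        rw [MulAut.conjNormal_apply] at h'
        exact eq_mul_inv_iff_mul_eq.1 h'
    have h1 : MulAut.conj (e ⟨g, hC hgC⟩) = 1 := by rw [← hinn]; exact hg
    have hmem : e ⟨g, hC hgC⟩ ∈ Subgroup.center P := Subgroup.mem_center_iff.2 fun z => by
      have := DFunLike.congr_fun h1 z
      rw [MulAut.conj_apply, MulAut.one_apply, mul_inv_eq_iff_eq_mul] at this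
      exact this.symm
    rw [hZ, Subgroup.mem_bot, MulEquiv.map_eq_one_iff] at hmem
    exact congrArg Subtype.val hmem
  have hkerφ : (π.comp φ).ker = Cfsg.generalizedFittingSubgroup G := by
    ext g
    rw [MonoidHom.mem_ker, MonoidHom.comp_apply, hker]
    refine ⟨?_, fun hg => ⟨e ⟨g, hg⟩, (hinn ⟨g, hg⟩).symm⟩⟩
    rintro ⟨p, hp⟩
    obtain ⟨l, rfl⟩ := e.surjective p
    rw [← hinn] at hp
    have h1 := hfaith ((l : G)⁻¹ * g) (by rw [map_mul, map_inv, hp, inv_mul_cancel])
    rw [← eq_of_inv_mul_eq_one h1]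
    exact l.2
  obtain ⟨σ₀, hσ₀⟩ := CfsgLib.Known.OutPermFour.exists_conj (π.comp φ).range (π.comp S).range
    (by rw [← Subgroup.index_ker, hkerφ, h6]) hH0
  obtain ⟨a, rfl⟩ := hsurj σ₀
  let e' := e.trans a
  let φ' : G →* MulAut P := (MulAut.conj a).toMonoidHom.comp φ
  have hφ' : ∀ (g : G) (l : ↥(Cfsg.generalizedFittingSubgroup G)), φ' g (e' l) = e' (MulAut.conjNormal g l) :=
    fun g l => by
      show (a * φ g * a⁻¹) (a (e l)) = a (e _)
      rw [MulAut.mul_apply, MulAut.mul_apply, MulAut.inv_apply_self, hφ]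
  have hrange : (π.comp φ').range = (π.comp S).range := by
    rw [← hσ₀, show π.comp φ' = ((MulAut.conj (π a)).toMonoidHom).comp (π.comp φ) from
      MonoidHom.ext fun g => by simp [φ'], MonoidHom.range_comp]
  have hdec : ∀ g, ∃ σ p, φ' g = MulAut.conj p * S σ := fun g => by
    obtain ⟨σ, hσ⟩ := hrange.le ⟨g, rfl⟩
    obtain ⟨p, hp⟩ : φ' g * (S σ)⁻¹ ∈ Cfsg.Inn P := (hker _).1 (by
      rw [map_mul, map_inv, mul_inv_eq_one]; exact hσ.symm)
    exact ⟨σ, p, by rw [hp, inv_mul_cancel_right]⟩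
  have hlift : ∀ σ, ∃ g p, φ' g = MulAut.conj p * S σ := fun σ => by
    obtain ⟨g, hg⟩ := hrange.ge ⟨σ, rfl⟩
    obtain ⟨p, hp⟩ : φ' g * (S σ)⁻¹ ∈ Cfsg.Inn P := (hker _).1 (by
      rw [map_mul, map_inv, mul_inv_eq_one]; exact hg)
    exact ⟨g, p, by rw [hp, inv_mul_cancel_right]⟩
  have hconj : ∀ (g : G) (A : Subgroup P),
      ((A.map e'.symm.toMonoidHom).map (Cfsg.generalizedFittingSubgroup G).subtype).map (MulAut.conj g).toMonoidHom =
        ((A.map (φ' g).toMonoidHom).map e'.symm.toMonoidHom).map (Cfsg.generalizedFittingSubgroup G).subtype := by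
    intro g A
    simp only [Subgroup.map_map]
    congr 1
    refine MonoidHom.ext fun z => ?_
    obtain ⟨l, rfl⟩ := e'.surjective z
    simp [hφ']
  have hdown : ∀ {A B : Subgroup P}, (A.map e'.symm.toMonoidHom).map (Cfsg.generalizedFittingSubgroup G).subtype =
      (B.map e'.symm.toMonoidHom).map (Cfsg.generalizedFittingSubgroup G).subtype → A = B := fun h =>
    Subgroup.map_injective e'.symm.injective (Subgroup.map_injective (Subgroup.subtype_injective _) h)
  refine ⟨fun k => ((X (repOf k)).map e'.symm.toMonoidHom).map (Cfsg.generalizedFittingSubgroup G).subtype,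
    fun k => ⟨Subgroup.map_subtype_le _, ?_⟩, ?_, ?_⟩
  · rw [Subgroup.card_map_of_injective (Subgroup.subtype_injective _),
      Subgroup.card_map_of_injective e'.symm.injective, card_X]
  · rintro i j ⟨g, hg⟩
    rw [hconj] at hg
    have h := hdown hg
    obtain ⟨σ, p, hp⟩ := hdec g
    rw [hp, map_mulAut_mul] at h
    have hrel : CfsgLib.ThreeTrans.O83.Rel ((X (repOf i)).map (S σ).toMonoidHom) (X (repOf j)) := h ▸ rel_conj _ p
    rcases hperm σ with rfl | ⟨f, hf, hl, -⟩
    · rw [map_one, show (1 : MulAut P).toMonoidHom = MonoidHom.id P from rfl, Subgroup.map_id] at hrel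
      rw [← lab_rep i, ← lab_rep j, rel_inj hrel]
    · rw [← lab_rep i, ← lab_rep j, ← rel_inj ((hf (repOf i)).symm.trans hrel), hl]
  · intro A hAL hA
    let B : Subgroup P := (A.subgroupOf (Cfsg.generalizedFittingSubgroup G)).map e'.toMonoidHom
    have hAB : A = (B.map e'.symm.toMonoidHom).map (Cfsg.generalizedFittingSubgroup G).subtype := by
      have hBA : B.map e'.symm.toMonoidHom = A.subgroupOf (Cfsg.generalizedFittingSubgroup G) := by
        show ((A.subgroupOf _).map e'.toMonoidHom).map e'.symm.toMonoidHom = _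
        rw [Subgroup.map_map, show e'.symm.toMonoidHom.comp e'.toMonoidHom = MonoidHom.id _ from
          MonoidHom.ext fun z => e'.symm_apply_apply z, Subgroup.map_id]
      rw [hBA, Subgroup.map_subgroupOf_eq_of_le hAL]
    have hB : Nat.card B = 3 := by
      refine Eq.trans ?_ hA
      conv_rhs => rw [hAB]
      exact ((Subgroup.card_map_of_injective (Subgroup.subtype_injective _)).trans
        (Subgroup.card_map_of_injective e'.symm.injective)).symm
    obtain ⟨i, hi⟩ := exists_rel hB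
    obtain ⟨σ, hσ⟩ : ∃ σ, CfsgLib.ThreeTrans.O83.Rel ((X i).map (S σ).toMonoidHom) (X (repOf (lab i))) := by
      have h := reach i
      simp only [List.mem_cons, List.not_mem_nil, or_false] at h
      rcases h with h | h | h
      · refine ⟨1, ?_⟩
        rw [map_one, show (1 : MulAut P).toMonoidHom = MonoidHom.id P from rfl, Subgroup.map_id, h]
        exact ⟨1, by rw [map_one]; exact Subgroup.map_id _⟩
      · exact ⟨t, h ▸ hT i⟩
      · exact ⟨t * t, h ▸ act_comp hT hT i⟩
    obtain ⟨g, p, hg⟩ := hlift σ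
    obtain ⟨c, hc⟩ : CfsgLib.ThreeTrans.O83.Rel (B.map (φ' g).toMonoidHom) (X (repOf (lab i))) := by
      rw [hg, map_mulAut_mul]
      exact ((rel_conj _ p).symm.trans (hi.aut (S σ))).trans hσ
    refine ⟨lab i, (e'.symm c : G) * g, ?_⟩
    show A.map _ = ((X (repOf (lab i))).map e'.symm.toMonoidHom).map _
    rw [← hc, hAB, map_mul, map_mulAut_mul, hconj, hconj]
    congr 2
    refine congrArg (fun f : MulAut P => (B.map (φ' g).toMonoidHom).map f.toMonoidHom) (MulEquiv.ext fun z => ?_)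
    obtain ⟨l, rfl⟩ := e'.surjective z
    rw [hφ', MulAut.conj_apply]
    conv_rhs => rw [← e'.apply_symm_apply c, ← map_inv, ← map_mul, ← map_mul]
    exact congrArg e' (Subtype.ext (MulAut.conjNormal_apply _ _))

end Cfsg.Agent.S5516
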