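import Cfsg.Statements.S5517
import Mathlib
import Cfsg.Agent.Lib.Recog.SporBound.Fi22Eight
import Cfsg.Agent.Lib.Recog.FiM22.Identify
import Cfsg.Agent.Lib.Recog.SporBound.Fi22Aut.Main

set_option autoImplicit false
open Cfsg

namespace Cfsg.Agent.S5517

/-- Let G be a finite group with trivial centre generated by a conjugation-invariant set D of 3-transpositions on which it acts primitively, such that for some d in D the subgroup generated by the members of D other than d commuting with d has central largest normal 2- and 3-subgroups, and suppose G with D is of type M(22). Then G has a subgroup L generated by the members of D it contains and isomorphic to Ω(7, 3) (the commutator subgroup of the isometry group of a non-degenerate 7-dimensional quadratic form over the field with three elements, modulo its centre), and every Sylow 3-subgroup of L is a Sylow 3-subgroup of G. -/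
theorem result {G : Type*} [Group G] [Finite G] {D : Set G} (hD : Cfsg.IsThreeTranspositionGroup D) (hprim : Cfsg.IsPrimitiveUnderConj D) (d₀ : G) (hd₀ : d₀ ∈ D) (h3 : Cfsg.pCore 3 ↥(Subgroup.closure {y : G | y ∈ D ∧ y ≠ d₀ ∧ Commute d₀ y}) ≤ Subgroup.center ↥(Subgroup.closure {y : G | y ∈ D ∧ y ≠ d₀ ∧ Commute d₀ y})) (h2 : Cfsg.pCore 2 ↥(Subgroup.closure {y : G | y ∈ D ∧ y ≠ d₀ ∧ Commute d₀ y}) ≤ Subgroup.center ↥(Subgroup.closure {y : G | y ∈ D ∧ y ≠ d₀ ∧ Commute d₀ y})) (h22 : Cfsg.IsOfTypeM22 G D) : ∃ L : Subgroup G, Cfsg.IsDSubgroup D L ∧ Nonempty (↥L ≃* Cfsg.POmega (ZMod 3) (Cfsg.quadFormOdd 3 (ZMod 3))) ∧ ∀ P : Sylow 3 ↥L, ∃ P' : Sylow 3 G, (P : Subgroup ↥L).map L.subtype = (P' : Subgroup G) := by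
  haveI : Fact (Nat.Prime 3) := ⟨Nat.prime_three⟩
  obtain ⟨e, he⟩ := CfsgLib.Recog.FiM22.identify_of_type hD hprim h22
  obtain ⟨ψ⟩ := CfsgLib.Recog.SporBound.Fi22Eight.equiv
  set L := CfsgLib.Recog.SporBound.Fi22Group.L8.map e.toMonoidHom with hL
  have hidx : L.index = 14080 := by
    rw [hL, Subgroup.index_map_of_bijective e.bijective]
    exact CfsgLib.Recog.SporBound.Fi22Group.card_and_faithful.2.2.2.2
  refine ⟨L, ?_, ⟨((CfsgLib.Recog.SporBound.Fi22Group.L8.equivMapOfInjective _ e.injective).symm).trans ψ⟩, fun P => ?_⟩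
  · refine le_antisymm ((Subgroup.closure_le _).2 fun x hx => hx.2) ?_
    rw [hL, Subgroup.map_le_iff_le_comap]
    show Subgroup.closure _ ≤ _
    rw [Subgroup.closure_le]
    rintro _ ⟨x, hx, rfl⟩
    refine Subgroup.subset_closure ⟨?_, Subgroup.mem_map_of_mem _ (Subgroup.subset_closure ⟨x, hx, rfl⟩)⟩
    rw [← he]
    obtain ⟨h, hh⟩ := CfsgLib.Recog.SporBound.Fi22Aut.conj_letter (x := x) (by simp at hx; omega)
    exact ⟨_, isConj_iff.2 ⟨h, hh.symm⟩, rfl⟩
  · refine ⟨Sylow.ofCard ((P : Subgroup ↥L).map L.subtype) ?_, rfl⟩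
    have h0 : Nat.card L ≠ 0 := Nat.card_pos.ne'
    rw [Subgroup.card_map_of_injective (Subgroup.subtype_injective _), Sylow.card_eq_multiplicity,
      ← L.card_mul_index, hidx, Nat.factorization_mul h0 (by norm_num), Finsupp.add_apply,
      Nat.factorization_eq_zero_of_not_dvd (by norm_num : ¬ 3 ∣ 14080), Nat.add_zero]

end Cfsg.Agent.S5517
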