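import Cfsg.Statements.S5541
-- import your own Cfsg.Agent.* helpers here

set_option autoImplicit false
open Cfsg

namespace Cfsg.Agent.S5541

/-- Let ρ be a representation of a group H on a finite-dimensional real vector space U whose only ρ-invariant subspaces are the zero subspace and U, and suppose U carries a non-zero ρ-invariant symmetric bilinear form. Then the following are equivalent: (1) there is a non-zero ρ-equivariant commutative bilinear product on U of which every ρ-equivariant bilinear product is a scalar multiple; (2) there is a non-zero ρ-invariant trilinear form on U that is symmetric under all permutations of its arguments and of which every ρ-invariant trilinear form is a scalar multiple. -/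
theorem result {H : Type*} [Group H] {U : Type*} [AddCommGroup U] [Module ℝ U] [FiniteDimensional ℝ U] (ρ : Representation ℝ H U) (hirr : ∀ W : Submodule ℝ U, (∀ g : H, W.map (ρ g) ≤ W) → W = ⊥ ∨ W = ⊤) (B : LinearMap.BilinForm ℝ U) (hB0 : B ≠ 0) (hBs : ∀ u v, B u v = B v u) (hBi : ∀ (g : H) (u v : U), B (ρ g u) (ρ g v) = B u v) : (∃ m : U →ₗ[ℝ] U →ₗ[ℝ] U, m ≠ 0 ∧ (∀ u v, m u v = m v u) ∧ (∀ (g : H) (u v : U), m (ρ g u) (ρ g v) = ρ g (m u v)) ∧ ∀ m' : U →ₗ[ℝ] U →ₗ[ℝ] U, (∀ (g : H) (u v : U), m' (ρ g u) (ρ g v) = ρ g (m' u v)) → ∃ c : ℝ, m' = c • m) ↔ (∃ t : U →ₗ[ℝ] U →ₗ[ℝ] U →ₗ[ℝ] ℝ, t ≠ 0 ∧ (∀ u v w, t u v w = t v u w ∧ t u v w = t u w v) ∧ (∀ (g : H) (u v w : U), t (ρ g u) (ρ g v) (ρ g w) = t u v w) ∧ ∀ t' : U →ₗ[ℝ] U →ₗ[ℝ] U →ₗ[ℝ] ℝ, (∀ (g : H) (u v w : U), t' (ρ g u) (ρ g v) (ρ g w) = t' u v w) → ∃ c : ℝ, t' = c • t) := by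
  have hnd : Function.Injective (B : U →ₗ[ℝ] U →ₗ[ℝ] ℝ) := by
    rw [← LinearMap.ker_eq_bot]
    refine (hirr _ fun g => ?_).resolve_right fun h => hB0 (LinearMap.ker_eq_top.1 h)
    rintro _ ⟨u, hu, rfl⟩
    rw [SetLike.mem_coe, LinearMap.mem_ker] at hu
    rw [LinearMap.mem_ker]
    ext v
    rw [← ρ.self_inv_apply g v, hBi, hu]
    simp
  let e : U ≃ₗ[ℝ] (U →ₗ[ℝ] ℝ) := LinearEquiv.ofBijective B ⟨hnd,
    (LinearMap.injective_iff_surjective_of_finrank_eq_finrank Subspace.dual_finrank_eq.symm).1 hnd⟩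
  have he : ∀ u v, e u v = B u v := fun _ _ => rfl
  have hBe : ∀ (f : U →ₗ[ℝ] ℝ) v, B (e.symm f) v = f v := fun f v => by rw [← he, e.apply_symm_apply]
  have ext3 : ∀ {s t : U →ₗ[ℝ] U →ₗ[ℝ] U →ₗ[ℝ] ℝ}, (∀ u v w, s u v w = t u v w) → s = t :=
    fun h => LinearMap.ext fun u => LinearMap.ext fun v => LinearMap.ext (h u v)
  constructor
  · rintro ⟨m, hm0, hms, hmi, hmu⟩
    set t : U →ₗ[ℝ] U →ₗ[ℝ] U →ₗ[ℝ] ℝ := m.compr₂ B with ht
    have htv : ∀ u v w, t u v w = B (m u v) w := fun u v w => rfl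
    have ht0 : t ≠ 0 := fun h => hm0 (LinearMap.ext fun u => LinearMap.ext fun v => hnd (by
      have := LinearMap.congr_fun (LinearMap.congr_fun h u) v
      simpa [ht] using this))
    have hti : ∀ (g : H) u v w, t (ρ g u) (ρ g v) (ρ g w) = t u v w := fun g u v w => by
      rw [htv, htv, hmi, hBi]
    have huniq : ∀ t' : U →ₗ[ℝ] U →ₗ[ℝ] U →ₗ[ℝ] ℝ,
        (∀ (g : H) (u v w : U), t' (ρ g u) (ρ g v) (ρ g w) = t' u v w) → ∃ c : ℝ, t' = c • t := by
      intro t' ht'
      obtain ⟨c, hc⟩ := hmu (t'.compr₂ e.symm.toLinearMap) (fun g u v => by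
        apply hnd
        ext w
        rw [← ρ.self_inv_apply g w]
        show B (e.symm (t' (ρ g u) (ρ g v))) (ρ g (ρ g⁻¹ w)) = B (ρ g (e.symm (t' u v))) (ρ g (ρ g⁻¹ w))
        rw [hBi, hBe, ht', hBe])
      refine ⟨c, ext3 fun u v w => ?_⟩
      have h1 := LinearMap.congr_fun (LinearMap.congr_fun hc u) v
      show t' u v w = c * t u v w
      rw [htv, ← hBe (t' u v) w]
      rw [show e.symm (t' u v) = c • m u v from h1, map_smul, LinearMap.smul_apply, smul_eq_mul]
    refine ⟨t, ht0, fun u v w => ⟨by rw [htv, htv, hms], ?_⟩, hti, huniq⟩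
    let t' : U →ₗ[ℝ] U →ₗ[ℝ] U →ₗ[ℝ] ℝ :=
      { toFun := fun a => (t a).flip
        map_add' := fun a b => by ext; simp
        map_smul' := fun r a => by ext; simp }
    have ht'v : ∀ a b c, t' a b c = t a c b := fun a b c => rfl
    obtain ⟨c, hc⟩ := huniq t' (fun g a b d => by rw [ht'v, ht'v, hti])
    have hs : ∀ a b d, t a d b = c * t a b d := fun a b d => by
      rw [← ht'v, hc]; rfl
    rcases mul_eq_zero.1 (show (c - 1) * (c + 1) = 0 by
      by_contra hne
      refine ht0 (ext3 fun a b d => ?_)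
      have h1 := hs a b d
      rw [hs a d b, ← mul_assoc] at h1
      rcases mul_eq_zero.1 (show (c * c - 1) * t a b d = 0 by
        have := hs a d b; rw [hs a b d] at this; linarith) with h | h
      · exact absurd (by linarith : (c - 1) * (c + 1) = 0) hne
      · simpa using h) with h | h
    · rw [hs u w v, sub_eq_zero.1 h, one_mul]
    · exfalso
      refine ht0 (ext3 fun a b d => ?_)
      have hc1 : c = -1 := by linarith
      have s : ∀ a b d, t a d b = - t a b d := fun a b d => by rw [hs a b d, hc1]; ring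
      have p : ∀ a b d, t a b d = t b a d := fun a b d => by rw [htv, htv, hms]
      have := s a b d; have := p a d b; have := s d a b; have := p d b a
      have := s b d a; have := p b a d; have := s b a d; have := s d b a
      simp only [LinearMap.zero_apply]
      linarith
  · rintro ⟨t, ht0, hts, hti, htu⟩
    set m : U →ₗ[ℝ] U →ₗ[ℝ] U := t.compr₂ e.symm.toLinearMap with hm
    have hmv : ∀ u v w, B (m u v) w = t u v w := fun u v w => hBe _ w
    refine ⟨m, fun h => ht0 (ext3 fun u v w => ?_), fun u v => hnd (LinearMap.ext fun w => ?_),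
      fun g u v => hnd (LinearMap.ext fun w => ?_), fun m' hm' => ?_⟩
    · rw [← hmv, h]; simp
    · rw [hmv, hmv]; exact (hts u v w).1
    · rw [← ρ.self_inv_apply g w, hmv, hti, hBi, hmv]
    · obtain ⟨c, hc⟩ := htu (m'.compr₂ B) (fun g u v w => by
        show B (m' (ρ g u) (ρ g v)) (ρ g w) = B (m' u v) w
        rw [hm', hBi])
      refine ⟨c, LinearMap.ext fun u => LinearMap.ext fun v => hnd (LinearMap.ext fun w => ?_)⟩
      rw [show B (m' u v) w = (m'.compr₂ B) u v w from rfl, hc]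
      simp [← hmv]

end Cfsg.Agent.S5541
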