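import Cfsg.Statements.S5543
-- import your own Cfsg.Agent.* helpers here

set_option autoImplicit false
open Cfsg

namespace Cfsg.Agent.S5543

/-- Let V be a finite-dimensional real vector space with a commutative bilinear product and a positive-definite symmetric bilinear form that associates with the product and satisfies the Norton inequality (the Majorana setting of the definitions). Let X be a group of linear automorphisms of V in which every element squares to the identity, and suppose every non-identity element x of X is a Majorana involution with an axial vector a(x) of squared length 1, such that for any two distinct non-identity x, y the product a(x) ∘ a(y) equals (1/8)(a(x) + a(y) − a(xy)) (the dihedral subalgebra of type 2A whose third axis belongs to the involution xy). Then X has order at most 4. -/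
theorem result {V : Type*} [AddCommGroup V] [Module ℝ V] [FiniteDimensional ℝ V] (mul : V →ₗ[ℝ] V →ₗ[ℝ] V) (B : LinearMap.BilinForm ℝ V) (hV : Cfsg.Axial.IsMajoranaAmbient mul B) (X : Subgroup (V ≃ₗ[ℝ] V)) (hX : ∀ x ∈ X, x * x = 1) (ax : (V ≃ₗ[ℝ] V) → V) (hax : ∀ x ∈ X, x ≠ 1 → Cfsg.Axial.IsMajoranaPair mul B x (ax x)) (h1 : ∀ x ∈ X, x ≠ 1 → B (ax x) (ax x) = 1) (h2A : ∀ x ∈ X, ∀ y ∈ X, x ≠ 1 → y ≠ 1 → x ≠ y → mul (ax x) (ax y) = (1 / 8 : ℝ) • (ax x + ax y - ax (x * y))) : Nat.card ↥X ≤ 4 := by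
  obtain ⟨hcomm, -, -, -, -⟩ := hV
  haveI : Finite (⊥ : Subgroup (V ≃ₗ[ℝ] V)) := inferInstance
  by_contra hlt
  push Not at hlt
  have hinvX : ∀ x ∈ X, x⁻¹ = x := fun x hx => inv_eq_of_mul_eq_one_right (hX x hx)
  have hab : ∀ x ∈ X, ∀ y ∈ X, x * y = y * x := fun x hx y hy => by
    have := hinvX _ (X.mul_mem hx hy)
    rw [mul_inv_rev, hinvX x hx, hinvX y hy] at this
    exact this.symm
  haveI : Finite ↥X := Nat.finite_of_card_ne_zero (by omega)
  have exists_out : ∀ s : Finset ↥X, s.card ≤ 4 → ∃ x, x ∉ s := fun s hs => by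
    haveI := Fintype.ofFinite ↥X
    by_contra h
    push Not at h
    rw [show s = Finset.univ from Finset.eq_univ_of_forall h, Finset.card_univ, ← Nat.card_eq_fintype_card] at hs
    omega
  classical
  obtain ⟨x, hx⟩ := exists_out {1} (by simp)
  obtain ⟨y, hy⟩ := exists_out {1, x} (Finset.card_le_two.trans (by norm_num))
  obtain ⟨z, hz⟩ := exists_out {1, x, y, x * y} Finset.card_le_four
  simp only [Finset.mem_insert, Finset.mem_singleton, not_or] at hx hy hz
  obtain ⟨x, hxX⟩ := x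
  obtain ⟨y, hyX⟩ := y
  obtain ⟨z, hzX⟩ := z
  simp only [Subgroup.mk_eq_one, Subtype.mk.injEq, Subgroup.coe_mul, MulMemClass.mk_mul_mk] at hx hy hz
  have hxy := X.mul_mem hxX hyX
  have hxz := X.mul_mem hxX hzX
  have hyz := X.mul_mem hyX hzX
  have hxyz := X.mul_mem hxX hyz
  have hmulX : ∀ a ∈ X, ∀ b ∈ X, a * b = 1 → a = b := fun a _ b hb h => by
    rw [← hinvX b hb]; exact eq_inv_of_mul_eq_one_left h
  have xx : ∀ t, x * (x * t) = t := fun t => by rw [← mul_assoc, hX x hxX, one_mul]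
  have yy : ∀ t, y * (y * t) = t := fun t => by rw [← mul_assoc, hX y hyX, one_mul]
  have nxy : x * y ≠ 1 := fun h => hy.2 (hmulX x hxX y hyX h).symm
  have nxz : x * z ≠ 1 := fun h => hz.2.1 (hmulX x hxX z hzX h).symm
  have nyz : y * z ≠ 1 := fun h => hz.2.2.1 (hmulX y hyX z hzX h).symm
  have nxyz : x * (y * z) ≠ 1 := fun h => by
    apply hz.2.2.2
    have h1 := hmulX x hxX _ hyz h
    rw [h1, hab y hyX z hzX, mul_assoc, hX y hyX, mul_one]
  obtain ⟨-, -, ⟨⟨-, -, -, hfus⟩, -⟩, -⟩ := hax x hxX hx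
  set A := fun t => ax t with hA
  have M : ∀ p ∈ X, ∀ q ∈ X, p ≠ 1 → q ≠ 1 → p ≠ q → ∀ r, p * q = r →
      mul (ax p) (ax q) = (1 / 8 : ℝ) • (ax p + ax q - ax r) := fun p hp q hq a b c r hr => hr ▸ h2A p hp q hq a b c
  have exy : mul (ax x) (ax y) = (1 / 8 : ℝ) • (ax x + ax y - ax (x * y)) := M x hxX y hyX hx hy.1 (Ne.symm hy.2) _ rfl
  have ex_xy : mul (ax x) (ax (x * y)) = (1 / 8 : ℝ) • (ax x + ax (x * y) - ax y) :=
    M x hxX _ hxy hx nxy (fun h => hy.1 (mul_eq_left.1 h.symm)) _ (xx y)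
  have exz : mul (ax x) (ax z) = (1 / 8 : ℝ) • (ax x + ax z - ax (x * z)) := M x hxX z hzX hx hz.1 (Ne.symm hz.2.1) _ rfl
  have ex_xz : mul (ax x) (ax (x * z)) = (1 / 8 : ℝ) • (ax x + ax (x * z) - ax z) :=
    M x hxX _ hxz hx nxz (fun h => hz.1 (mul_eq_left.1 h.symm)) _ (xx z)
  have ex_yz : mul (ax x) (ax (y * z)) = (1 / 8 : ℝ) • (ax x + ax (y * z) - ax (x * (y * z))) :=
    M x hxX _ hyz hx nyz (fun h => nxyz (by rw [← h, hX x hxX])) _ rfl
  have ex_xyz : mul (ax x) (ax (x * (y * z))) = (1 / 8 : ℝ) • (ax x + ax (x * (y * z)) - ax (y * z)) :=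
    M x hxX _ hxyz hx nxyz (fun h => nyz (mul_eq_left.1 h.symm)) _ (xx _)
  have ey_z : mul (ax y) (ax z) = (1 / 8 : ℝ) • (ax y + ax z - ax (y * z)) := M y hyX z hzX hy.1 hz.1 (Ne.symm hz.2.2.1) _ rfl
  have ey_xz : mul (ax y) (ax (x * z)) = (1 / 8 : ℝ) • (ax y + ax (x * z) - ax (x * (y * z))) :=
    M y hyX _ hxz hy.1 nxz (fun h => hz.2.2.2 (by rw [h, xx])) _ (by rw [← mul_assoc, hab y hyX x hxX, mul_assoc])
  have exy_z : mul (ax (x * y)) (ax z) = (1 / 8 : ℝ) • (ax (x * y) + ax z - ax (x * (y * z))) :=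
    M _ hxy z hzX nxy hz.1 (Ne.symm hz.2.2.2) _ (mul_assoc _ _ _)
  have exy_xz : mul (ax (x * y)) (ax (x * z)) = (1 / 8 : ℝ) • (ax (x * y) + ax (x * z) - ax (y * z)) :=
    M _ hxy _ hxz nxy nxz (fun h => hz.2.2.1 (mul_left_cancel h).symm) _ (by
      rw [hab x hxX y hyX, mul_assoc, xx])
  have hw : ∀ p : V, mul (ax x) p = (1 / 4 : ℝ) • p → p ∈ Cfsg.Axial.eigen mul (ax x) (1 / 4 : ℝ) :=
    fun p hp => Module.End.mem_eigenspace_iff.2 hp
  have h14 : (1 / 4 : ℝ) ∈ Cfsg.Axial.majoranaSpectrum := by simp [Cfsg.Axial.majoranaSpectrum]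
  have hprod := hfus _ h14 _ h14 (ax y - ax (x * y)) (hw _ (by rw [map_sub, exy, ex_xy]; module))
    (ax z - ax (x * z)) (hw _ (by rw [map_sub, exz, ex_xz]; module))
  have hlaw : Cfsg.Axial.monsterLaw (1 / 4 : ℝ) (1 / 32) (1 / 4) (1 / 4) = {1, 0} := by
    norm_num [Cfsg.Axial.monsterLaw]
  rw [hlaw] at hprod
  set p := ax (x * (y * z)) - ax (y * z) with hp
  have hpe : mul (ax y - ax (x * y)) (ax z - ax (x * z)) = (1 / 4 : ℝ) • p := by
    simp only [map_sub, LinearMap.sub_apply, ey_z, ey_xz, exy_z, exy_xz, hp]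
    module
  rw [hpe] at hprod
  have hidem : ∀ v ∈ Cfsg.Axial.eigenSum mul (ax x) ({1, 0} : Set ℝ), mul (ax x) (mul (ax x) v) = mul (ax x) v := by
    intro v hv
    have hle : Cfsg.Axial.eigenSum mul (ax x) ({1, 0} : Set ℝ) ≤
        LinearMap.ker ((mul (ax x)) ∘ₗ (mul (ax x)) - mul (ax x)) := by
      refine iSup₂_le fun c hc v hv => ?_
      have h1 := Module.End.mem_eigenspace_iff.1 hv
      rcases hc with rfl | hc
      · simp [h1]
      · rw [Set.mem_singleton_iff] at hc; subst hc; simp [h1]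
    simpa [sub_eq_zero] using hle hv
  have hpeig : mul (ax x) p = (1 / 4 : ℝ) • p := by rw [hp, map_sub, ex_yz, ex_xyz]; module
  have h1x := h1 x hxX hx
  have hI := hidem _ hprod
  rw [map_smul, hpeig, map_smul, map_smul, hpeig, smul_smul, smul_smul, smul_smul] at hI
  have hp0 : p = 0 := by
    have h2 : ((1 / 4 : ℝ) * (1 / 4 * (1 / 4)) - 1 / 4 * (1 / 4)) • p = 0 := by
      rw [sub_smul, sub_eq_zero, ← mul_assoc (1 / 4 : ℝ) (1 / 4) (1 / 4)]; exact hI
    exact (smul_eq_zero.1 h2).resolve_left (by norm_num)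
  have heq : ax (x * (y * z)) = ax (y * z) := sub_eq_zero.1 hp0
  obtain ⟨-, -, ⟨⟨-, hid, -, -⟩, -⟩, -⟩ := hax _ hyz nyz
  have h3 := M _ hxyz _ hyz nxyz nyz (fun h => hx (mul_eq_right.1 h)) x
    (by rw [mul_assoc, hX _ hyz, mul_one])
  rw [heq, hid] at h3
  have h4 : ax x = (-6 : ℝ) • ax (y * z) := by
    have h5 : (8 : ℝ) • ax (y * z) = ax (y * z) + ax (y * z) - ax x := by
      conv_lhs => rw [h3]
      module
    rw [eq_sub_iff_add_eq] at h5
    rw [← sub_eq_zero] at h5 ⊢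
    rw [← h5]
    module
  have h6 := h1x
  simp only [h4, map_smul, LinearMap.smul_apply, smul_eq_mul, h1 _ hyz nyz] at h6
  norm_num at h6

end Cfsg.Agent.S5543
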