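import Cfsg.Statements.S5545
-- import your own Cfsg.Agent.* helpers here

set_option autoImplicit false
open Cfsg

namespace Cfsg.Agent.S5545

open Cfsg.Axial

variable {V : Type*} [AddCommGroup V] [Module ℝ V]

/-- An automorphism commuting with a Majorana involution carries an axial vector to an axial vector. -/
lemma transport {mul : V →ₗ[ℝ] V →ₗ[ℝ] V} {B : LinearMap.BilinForm ℝ V} (φ μ : V ≃ₗ[ℝ] V) (a : V)
    (hφ : ∀ u v, φ (mul u v) = mul (φ u) (φ v)) (hcomm : φ * μ = μ * φ)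
    (h : IsMajoranaPair mul B μ a) : IsMajoranaPair mul B μ (φ a) := by
  obtain ⟨hm, hB, ⟨⟨ha0, haa, htop, hfus⟩, hprim⟩, hfix, hneg⟩ := h
  have heig : ∀ c, eigen mul (φ a) c = (eigen mul a c).map (φ : V →ₗ[ℝ] V) := by
    intro c
    ext v
    rw [Submodule.mem_map_equiv, eigen, eigen, Module.End.mem_eigenspace_iff,
      Module.End.mem_eigenspace_iff]
    conv_rhs => rw [← φ.injective.eq_iff, hφ, map_smul, φ.apply_symm_apply]
  have hsum : ∀ S, eigenSum mul (φ a) S = (eigenSum mul a S).map (φ : V →ₗ[ℝ] V) := fun S => by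
    simp only [eigenSum, Submodule.map_iSup, heig]
  have hcv : ∀ v, μ (φ v) = φ (μ v) := fun v => (LinearEquiv.congr_fun hcomm v).symm
  refine ⟨hm, hB, ⟨⟨?_, ?_, ?_, ?_⟩, ?_⟩, ?_, ?_⟩
  · simpa using ha0
  · rw [← hφ, haa]
  · rw [hsum, htop, Submodule.map_top, LinearMap.range_eq_top]
    exact φ.surjective
  · intro c hc d hd u hu v hv
    rw [heig] at hu hv
    obtain ⟨u, hu, rfl⟩ := hu
    obtain ⟨v, hv, rfl⟩ := hv
    rw [hsum]
    exact ⟨_, hfus c hc d hd u hu v hv, hφ u v⟩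
  · rw [heig, hprim, Submodule.map_span, Set.image_singleton]
    rfl
  · intro v hv
    rw [hsum] at hv
    obtain ⟨v, hv, rfl⟩ := hv
    show μ (φ v) = φ v
    rw [hcv]; exact congrArg φ (hfix v hv)
  · intro v hv
    rw [heig] at hv
    obtain ⟨v, hv, rfl⟩ := hv
    show μ (φ v) = -φ v
    rw [hcv, ← map_neg]; exact congrArg φ (hneg v hv)

/-- The components of a fixed vector of a Majorana involution. -/
lemma components {mul : V →ₗ[ℝ] V →ₗ[ℝ] V} {B : LinearMap.BilinForm ℝ V}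
    (hV : IsMajoranaAmbient mul B) {μ : V ≃ₗ[ℝ] V} {a : V} (h : IsMajoranaPair mul B μ a)
    (hn : B a a = 1) {b : V} (hb : μ b = b) :
    ∃ u w : V, mul a u = 0 ∧ mul a w = (1 / 4 : ℝ) • w ∧ b = B a b • a + u + w := by
  obtain ⟨-, -, ⟨⟨-, haa, htop, -⟩, hprim⟩, hfix, hneg⟩ := h
  have hmem : b ∈ eigenSum mul a majoranaSpectrum := htop ▸ Submodule.mem_top
  simp only [eigenSum, majoranaSpectrum, iSup_insert, iSup_singleton, ← sup_assoc] at hmem
  obtain ⟨x, hx, y, hy, hxy⟩ := Submodule.mem_sup.1 hmem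
  have hx' : x ∈ eigenSum mul a {1, 0, 1 / 4} := by
    simpa only [eigenSum, iSup_insert, iSup_singleton, ← sup_assoc] using hx
  have hy0 : y = 0 := by
    have h1 : μ x + μ y = x + y := by rw [← map_add, hxy, hb]
    have h2 : μ x = x := hfix x hx'
    have h3 : μ y = -y := hneg y hy
    rw [h2, h3] at h1
    have : (2 : ℝ) • y = 0 := by linear_combination (norm := module) (-1 : ℝ) • h1
    exact (smul_eq_zero.1 this).resolve_left two_ne_zero
  obtain ⟨z, hz, w, hw, hzw⟩ := Submodule.mem_sup.1 hx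
  obtain ⟨e, he, u, hu, heu⟩ := Submodule.mem_sup.1 hz
  rw [hprim, Submodule.mem_span_singleton] at he
  obtain ⟨s, rfl⟩ := he
  have hu' : mul a u = 0 := by
    have := Module.End.mem_eigenspace_iff.1 hu
    simpa using this
  have hw' : mul a w = (1 / 4 : ℝ) • w := Module.End.mem_eigenspace_iff.1 hw
  have hbe : b = s • a + u + w := by rw [heu, hzw, ← hxy, hy0, add_zero]
  refine ⟨u, w, hu', hw', ?_⟩
  obtain ⟨-, -, -, hassoc, -⟩ := hV
  have hau : B a u = 0 := by
    have := hassoc a a u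
    rw [hu', haa, map_zero] at this
    exact this.symm
  have haw : B a w = 0 := by
    have := hassoc a a w
    rw [hw', haa, map_smul, smul_eq_mul] at this
    linarith
  have hs : B a b = s := by
    rw [hbe]; simp [hn, hau, haw]
  rw [hs]; exact hbe

/-- The product of an axis with its product with a fixed vector. -/
lemma mul_mul_eq {mul : V →ₗ[ℝ] V →ₗ[ℝ] V} {B : LinearMap.BilinForm ℝ V}
    (hV : IsMajoranaAmbient mul B) {μ : V ≃ₗ[ℝ] V} {a : V} (h : IsMajoranaPair mul B μ a)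
    (hn : B a a = 1) {b : V} (hb : μ b = b) :
    mul a (mul a b) = (1 / 4 : ℝ) • mul a b + (3 / 4 * B a b) • a := by
  obtain ⟨u, w, hu, hw, hbe⟩ := components hV h hn hb
  have haa := h.2.2.1.1.2.1
  have hp : mul a b = B a b • a + (1 / 4 : ℝ) • w := by
    conv_lhs => rw [hbe]
    simp [haa, hu, hw]
  rw [hp]
  simp only [map_add, map_smul, haa, hw]
  module

/-- The square of the product of two commuting axes, from the `1/4`-part of the fusion law. -/
lemma square_eq {mul : V →ₗ[ℝ] V →ₗ[ℝ] V} {B : LinearMap.BilinForm ℝ V}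
    (hV : IsMajoranaAmbient mul B) {μ μ' : V ≃ₗ[ℝ] V} {a b : V} (h : IsMajoranaPair mul B μ a)
    (h' : IsMajoranaPair mul B μ' b) (hn : B a a = 1) (hn' : B b b = 1) (hb : μ b = b)
    (ha : μ' a = a) :
    (16 : ℝ) • mul (mul a b) (mul a b) = (4 * B a b - 1) • mul a b + (3 * B a b) • b
      + (8 * B a b ^ 2 + 2 * B a b) • a := by
  obtain ⟨u, w, hu, hw, hbe⟩ := components hV h hn hb
  have haa := h.2.2.1.1.2.1
  have hbb := h'.2.2.1.1.2.1
  have hfus := h.2.2.1.1.2.2.2
  have hcm := hV.1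
  have hsymm := hV.2.1
  have hap := mul_mul_eq hV h hn hb
  have hbp : mul b (mul a b) = (1 / 4 : ℝ) • mul a b + (3 / 4 * B a b) • b := by
    rw [hcm a b, hsymm a b]; exact mul_mul_eq hV h' hn' ha
  set α := B a b with hα
  set p := mul a b with hp
  have hp' : p = α • a + (1 / 4 : ℝ) • w := by
    rw [hp]
    conv_lhs => rw [hbe]
    simp [haa, hu, hw]
  have hu0 : u ∈ eigen mul a 0 := Module.End.mem_eigenspace_iff.2 (by rw [hu, zero_smul])
  have hw4 : w ∈ eigen mul a (1 / 4 : ℝ) := Module.End.mem_eigenspace_iff.2 hw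
  have huw : mul a (mul u w) = (1 / 4 : ℝ) • mul u w := by
    have := hfus 0 (by simp [majoranaSpectrum]) (1 / 4) (by simp [majoranaSpectrum]) u hu0 w hw4
    rw [show monsterLaw (1 / 4 : ℝ) (1 / 32) 0 (1 / 4) = {1 / 4} by norm_num [monsterLaw]] at this
    simp only [eigenSum, iSup_singleton] at this
    exact Module.End.mem_eigenspace_iff.1 this
  have huu : mul a (mul a (mul u u + mul w w)) = mul a (mul u u + mul w w) := by
    have h1 := hfus 0 (by simp [majoranaSpectrum]) 0 (by simp [majoranaSpectrum]) u hu0 u hu0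
    rw [show monsterLaw (1 / 4 : ℝ) (1 / 32) 0 0 = {0} by norm_num [monsterLaw]] at h1
    simp only [eigenSum, iSup_singleton] at h1
    have h1' : mul a (mul u u) = 0 := by simpa using Module.End.mem_eigenspace_iff.1 h1
    have h2 := hfus (1 / 4) (by simp [majoranaSpectrum]) (1 / 4) (by simp [majoranaSpectrum]) w hw4 w hw4
    rw [show monsterLaw (1 / 4 : ℝ) (1 / 32) (1 / 4) (1 / 4) = {1, 0} by norm_num [monsterLaw]] at h2
    simp only [eigenSum, iSup_insert, iSup_singleton] at h2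
    obtain ⟨x, hx, y, hy, hxy⟩ := Submodule.mem_sup.1 h2
    have hx' : mul a x = x := by simpa using Module.End.mem_eigenspace_iff.1 hx
    have hy' : mul a y = 0 := by simpa using Module.End.mem_eigenspace_iff.1 hy
    rw [← hxy]
    simp [h1', hx', hy']
  -- the square of `b`
  have hsq : mul u u + mul w w = b - ((α ^ 2) • a + (α / 2) • w + (2 : ℝ) • mul u w) := by
    conv_rhs => rw [← hbb, hbe]
    simp only [map_add, map_smul, LinearMap.add_apply, LinearMap.smul_apply, haa, hu, hw,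
      hcm u a, hcm w a, hcm w u]
    module
  rw [hsq] at huu
  have hab2 : mul a b = α • a + (1 / 4 : ℝ) • w := hp'
  simp only [map_add, map_sub, map_smul, haa, hw, huw, hab2] at huu
  have key : mul u w = ((2 - α) / 4) • w := by
    have : (3 / 8 : ℝ) • mul u w = (3 / 8 * ((2 - α) / 4)) • w := by
      linear_combination (norm := module) huu
    rw [mul_smul] at this
    exact smul_right_injective V (by norm_num : (3 / 8 : ℝ) ≠ 0) this
  have hw' : w = (4 : ℝ) • p - (4 * α) • a := by rw [hp']; module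
  have hu' : u = b + (3 * α) • a - (4 : ℝ) • p := by
    rw [eq_sub_iff_add_eq, hp']; conv_rhs => rw [hbe]
    module
  rw [hu', hw'] at key
  simp only [map_add, map_sub, map_smul, LinearMap.add_apply, LinearMap.sub_apply,
    LinearMap.smul_apply, haa, hcm p a, hcm b a, ← hp, hap, hbp] at key
  linear_combination (norm := module) (-1 : ℝ) • key


/-- Let V be a finite-dimensional real vector space with a commutative bilinear product and a positive-definite symmetric bilinear form that associates with the product and satisfies the Norton inequality (the Majorana setting of the definitions). Let μ₀, μ₁ be commuting Majorana involutions with distinct axial vectors a₀ ≠ a₁ of squared length 1, each involution having no other axial vector. Then either a₀ and a₁ are orthogonal with a₀ ∘ a₁ = 0 (type 2B), or their inner product is 1/8 and, with a₂ = a₀ + a₁ − 8 a₀ ∘ a₁, the vector a₂ is an idempotent and a₀ ∘ a₂ = (1/8)(a₀ + a₂ − a₁), a₁ ∘ a₂ = (1/8)(a₁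 + a₂ − a₀) (type 2A: the three idempotents span a subalgebra with aᵢ ∘ aⱼ = (1/8)(aᵢ + aⱼ − aₖ)). -/
theorem result {V : Type*} [AddCommGroup V] [Module ℝ V] [FiniteDimensional ℝ V] (mul : V →ₗ[ℝ] V →ₗ[ℝ] V) (B : LinearMap.BilinForm ℝ V) (hV : Cfsg.Axial.IsMajoranaAmbient mul B) (μ₀ μ₁ : V ≃ₗ[ℝ] V) (a₀ a₁ : V) (h₀ : Cfsg.Axial.IsMajoranaPair mul B μ₀ a₀) (h₁ : Cfsg.Axial.IsMajoranaPair mul B μ₁ a₁) (hu₀ : ∀ a : V, Cfsg.Axial.IsMajoranaPair mul B μ₀ a → a = a₀) (hu₁ : ∀ a : V, Cfsg.Axial.IsMajoranaPair mul B μ₁ a → a = a₁) (hn₀ : B a₀ a₀ = 1) (hn₁ : B a₁ a₁ = 1) (hc : μ₀ * μ₁ = μ₁ * μ₀) (hne : a₀ ≠ a₁) : (B a₀ a₁ = 0 ∧ mul a₀ a₁ = 0) ∨ (B a₀ a₁ = 1 / 8 ∧ mul (a₀ + a₁ - (8 : ℝ) • mul a₀ a₁) (a₀ + a₁ - (8 : ℝ) • mul a₀ a₁) = a₀ + a₁ - (8 : ℝ) • mul a₀ a₁ ∧ mul a₀ (a₀ + a₁ - (8 : ℝ) • mul a₀ a₁) = (1 / 8 : ℝ) • (a₀ + (a₀ + a₁ - (8 : ℝ) • mul a₀ a₁) - a₁) ∧ mul a₁ (a₀ + a₁ - (8 : ℝ) • mul a₀ a₁) = (1 / 8 : ℝ) • (a₁ + (a₀ + a₁ - (8 : ℝ) • mul a₀ a₁)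 - a₀)) := by
  have hab : μ₀ a₁ = a₁ := hu₁ _ (transport μ₀ μ₁ a₁ h₀.1 hc h₁)
  have hba : μ₁ a₀ = a₀ := hu₀ _ (transport μ₁ μ₀ a₀ h₁.1 hc.symm h₀)
  obtain ⟨hcm, hsymm, hpos, -, hnorton⟩ := id hV
  have e₀ := square_eq hV h₀ h₁ hn₀ hn₁ hab hba
  have e₁ := square_eq hV h₁ h₀ hn₁ hn₀ hba hab
  have hap := mul_mul_eq hV h₀ hn₀ hab
  have hbp := mul_mul_eq hV h₁ hn₁ hba
  have haa := h₀.2.2.1.1.2.1
  have hbb := h₁.2.2.1.1.2.1
  rw [hsymm a₁ a₀, hcm a₁ a₀] at e₁ hbp
  set α := B a₀ a₁ with hα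
  set p := mul a₀ a₁ with hp
  have hd : (8 * α ^ 2 - α) • (a₀ - a₁) = 0 := by
    linear_combination (norm := module) e₁ - e₀
  rcases smul_eq_zero.1 hd with hα' | hα'
  · have : α * (8 * α - 1) = 0 := by linear_combination hα'
    rcases mul_eq_zero.1 this with h0 | h0
    · left
      refine ⟨h0, ?_⟩
      by_contra hp0
      have h1 := hnorton a₀ a₁
      rw [haa, hbb, ← hp, ← hα, h0] at h1
      exact absurd h1 (not_le.2 (hpos p hp0))
    · right
      have hv : α = 1 / 8 := by linarith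
      rw [hv] at e₀ e₁ hap hbp
      norm_num at e₀ e₁ hap hbp
      refine ⟨hv, ?_, ?_, ?_⟩
      · simp only [map_add, map_sub, map_smul, LinearMap.add_apply, LinearMap.sub_apply,
          LinearMap.smul_apply, haa, hbb, hcm a₁ a₀, hcm p a₀, hcm p a₁, ← hp, hap, hbp]
        linear_combination (norm := module) (2 : ℝ) • e₀ + (2 : ℝ) • e₁
      · simp only [map_add, map_sub, map_smul, haa, ← hp, hap]
        module
      · simp only [map_add, map_sub, map_smul, hbb, hcm a₁ a₀, ← hp, hbp]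
        module
  · exact absurd (sub_eq_zero.1 hα') hne

end Cfsg.Agent.S5545
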