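import Cfsg.Statements.S5555
import Cfsg.Agent.Lib.ThreeTrans.RadicalSplit
-- import your own Cfsg.Agent.* helpers here

set_option autoImplicit false
open Cfsg

namespace Cfsg.Agent.S5555

/-- Let G be a finite group generated by a conjugacy class D of 3-transpositions, with trivial centre and with generalized Fitting subgroup F*(G) = O₂(G) (so the Fitting subgroup is O₂(G) too). If G/O₂(G) is isomorphic to the derived group of SU₃(2) (the group of order 54 generated by nine 3-transpositions), then O₂(G) has a complement in G. -/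
theorem result {G : Type*} [Group G] [Finite G] {D : Set G} (hD : Cfsg.IsThreeTranspositionClass D)
    (hZ : Subgroup.center G = ⊥) (hF : Cfsg.generalizedFittingSubgroup G = Cfsg.pCore 2 G)
    (hq : ∃ (F : Type) (_ : Field F) (_ : Fintype F), Fintype.card F = 4 ∧ Nonempty (G ⧸ Cfsg.pCore 2 G ≃* ↥(commutator ↥(Cfsg.SU 3 F 2)))) :
    ∃ K : Subgroup G, (Cfsg.pCore 2 G).IsComplement' K := by
  obtain ⟨F, _, _, hF4, ⟨φ⟩⟩ := hq
  obtain ⟨d, x, y, hg, hgen, hc⟩ := CfsgLib.ThreeTrans.su32_gen54 hF4
  refine CfsgLib.ThreeTrans.Radical.exists_complement hD (d₀ := φ.symm d) (x₀ := φ.symm x) (y₀ := φ.symm y)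
    ⟨?_, ?_, ?_, ?_, ?_, ?_, ?_⟩ ?_ ?_
  · rw [← map_mul, hg.sq, map_one]
  · rw [← map_inv, ← map_inv, ← map_mul, ← map_mul, hg.invx]
  · rw [← map_inv, ← map_inv, ← map_mul, ← map_mul, hg.invy]
  · rw [← map_pow, hg.cubex, map_one]
  · rw [← map_pow, hg.cubey, map_one]
  · rw [← map_mul, ← map_pow, hg.cubexy, map_one]
  · rw [← map_inv, ← map_mul, ← map_pow, hg.cubexy', map_one]
  · have := congrArg (Subgroup.map φ.symm.toMonoidHom) hgen
    rw [MonoidHom.map_closure, Subgroup.map_top_of_surjective _ φ.symm.surjective] at this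
    simpa [Set.image_insert_eq] using this
  · rw [Nat.card_congr φ.toEquiv, hc]

end Cfsg.Agent.S5555
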