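import Cfsg.Statements.S5557
import Cfsg.Agent.Lib.ThreeTrans.RadicalAbelian.Generic
import Cfsg.Agent.Lib.ThreeTrans.RadicalAbelian.Unitary
import Cfsg.Agent.Lib.ThreeTrans.RadicalAbelian.Image
import Cfsg.Agent.Lib.Classical.Unitary.MatrixStructure
import Cfsg.Agent.Lib.Known.UnitMult.Main
-- import your own Cfsg.Agent.* helpers here

set_option autoImplicit false
open Cfsg

namespace Cfsg.Agent.S5557

open CfsgLib.Classical CfsgLib.Classical.Herm CfsgLib.ThreeTrans CfsgLib.ThreeTrans.UnitaryTransTwo CfsgLib.ThreeTrans.UniqueClass CfsgLib.ThreeTrans.RadicalAbelian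

/-- Let G be a finite group generated by a conjugacy class D of 3-transpositions, with trivial centre and with generalized Fitting subgroup F*(G) = O₂(G) (so the Fitting subgroup is O₂(G) too). If G/O₂(G) is isomorphic to SU₇(2), then O₂(G) is elementary abelian. No complement is asserted. -/
theorem result {G : Type*} [Group G] [Finite G] {D : Set G} (hD : Cfsg.IsThreeTranspositionClass D)
    (hZ : Subgroup.center G = ⊥) (hF : Cfsg.generalizedFittingSubgroup G = Cfsg.pCore 2 G)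
    (hq : ∃ (F : Type) (_ : Field F) (_ : Fintype F), Fintype.card F = 4 ∧ Nonempty (G ⧸ Cfsg.pCore 2 G ≃* ↥(Cfsg.SU 7 F 2))) :
    Cfsg.IsElementaryAbelian 2 (Cfsg.pCore 2 G) := by
  obtain ⟨F, _, _, hcard, ⟨e₀⟩⟩ := hq
  have hF4 : Fintype.card F = 2 ^ 2 := by rw [hcard]; norm_num
  have h := hermStd_isHerm (n := 7) hF4
  let e := e₀.trans (suEquiv 7 hF4)
  -- the quotient is simple and perfect with trivial multiplier
  have hsimple : IsSimpleGroup (G ⧸ pCore 2 G) := by
    have hz : Subgroup.center (Cfsg.SU 7 F 2) = ⊥ := by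
      rw [← Subgroup.card_eq_one, card_center_SU hF4 7 (by norm_num)]; norm_num
    have hp : IsSimpleGroup (Cfsg.PSU 7 F 2) := isSimpleGroup_PSU' hF4 7 (by norm_num) (by omega)
    exact (e₀.trans ((QuotientGroup.quotientBot).symm.trans (QuotientGroup.quotientMulEquivOfEq hz.symm))).isSimpleGroup_congr.2 hp
  haveI : Nontrivial (G ⧸ pCore 2 G) := hsimple.toNontrivial
  have hperf : commutator (G ⧸ pCore 2 G) = ⊤ := by
    have h1 := h.HSU_le_commutator (by rw [finrank_std]; norm_num)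
      (by rw [finrank_std]; omega)
    have h2 : (commutator (HSU (hermStd 7 hF4))).map e.symm.toMonoidHom = commutator (G ⧸ pCore 2 G) := by
      rw [commutator_def, commutator_def, Subgroup.map_commutator,
        Subgroup.map_top_of_surjective _ e.symm.surjective]
    rw [← h2, h1, Subgroup.map_top_of_surjective _ e.symm.surjective]
  -- the members map onto the transvections
  let φ : G →* HU (hermStd 7 hF4) := (HSU (hermStd 7 hF4)).subtype.comp (e.toMonoidHom.comp img)
  have hφ : ∀ x y : G, φ x = φ y → img x = img y := fun x y hxy => e.injective (Subtype.ext hxy)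
  have hmem : ∀ d ∈ D, ∃ (a : Fin 7 → F) (ha : hermStd 7 hF4 a a = 0), a ≠ 0 ∧ φ d = t hF4 ha := by
    intro d hd
    refine eq_transvection hF4 (by norm_num) (by norm_num) ?_ ?_ fun s hs => ?_
    · rw [← map_mul, mul_self hD.1 hd, map_one]
    · intro h1
      exact not_mem_of_nontrivial hD hd (img_eq_one_iff.1 ((hφ d 1 (h1.trans (map_one φ).symm)).trans (map_one _)))
    · obtain ⟨g, hg⟩ := ((e.surjective.comp (QuotientGroup.mk'_surjective (pCore 2 G))) ⟨s, hs⟩)
      have hgs : φ g = s := congrArg Subtype.val hg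
      rw [← hgs, ← map_inv, ← map_mul, ← map_mul, ← map_mul, ← map_pow, ← map_pow]
      exact (hD.1.2 d hd _ (class_conj hD g d hd)).imp (fun h => by rw [h, map_one]) (fun h => by rw [h, map_one])
  obtain ⟨d₀, hd₀⟩ := class_nonempty hD
  obtain ⟨a₀, ha₀, ha₀0, hd₀φ⟩ := hmem d₀ hd₀
  have hall : ∀ (a : Fin 7 → F) (ha : hermStd 7 hF4 a a = 0), a ≠ 0 → ∃ d ∈ D, φ d = t hF4 ha := by
    intro a ha ha0
    obtain ⟨s, hs, hsa⟩ := h.transitive_isotropic (by rw [finrank_std]; norm_num) ha₀0 ha0 ha₀ ha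
    obtain ⟨g, hg⟩ := ((e.surjective.comp (QuotientGroup.mk'_surjective (pCore 2 G))) ⟨s, h.trGroup_le hs⟩)
    have hgs : φ g = s := congrArg Subtype.val hg
    refine ⟨g * d₀ * g⁻¹, class_conj hD g d₀ hd₀, ?_⟩
    rw [map_mul, map_mul, map_inv, hgs, hd₀φ, t_conj]
    exact t_congr hF4 ha _ one_ne_zero (by rw [one_smul]; exact hsa)
  obtain ⟨f, hf⟩ := h.exists_apply_eq_one ha₀0
  obtain ⟨b, hb0, hb, hbf⟩ := exists_iso_pair hF4 ![hermStd 7 hF4 a₀, hermStd 7 hF4 f] (by norm_num)
  have hab : hermStd 7 hF4 a₀ b = 0 := hbf 0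
  have hbf' : hermStd 7 hF4 b f = 0 := h.eq_zero_symm (hbf 1)
  have hw : ∃ x ∈ img '' D, ∃ y ∈ img '' D, x ≠ y ∧ Commute x y := by
    obtain ⟨d₁, hd₁, hd₁φ⟩ := hall b hb hb0
    refine ⟨_, ⟨d₀, hd₀, rfl⟩, _, ⟨d₁, hd₁, rfl⟩, fun heq => ?_, e.injective ?_⟩
    · have hne := t_ne hF4 hb ha₀ hbf' (by rw [hf]; exact one_ne_zero) ha₀0
      exact hne (by rw [← hd₁φ, ← hd₀φ]; exact (congrArg (fun q => ((e q : HSU _) : HU (hermStd 7 hF4))) heq).symm)
    · refine Subtype.ext ?_
      show ((e (img d₀ * img d₁) : HSU _) : HU (hermStd 7 hF4)) = ((e (img d₁ * img d₀) : HSU _) : HU (hermStd 7 hF4))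
      rw [← map_mul img, ← map_mul img]
      show φ (d₀ * d₁) = φ (d₁ * d₀)
      rw [map_mul, map_mul, hd₀φ, hd₁φ]
      exact (t_comm hF4 ha₀ hb hab).eq
  -- five points of a totally isotropic line
  obtain ⟨w, hw0, hw1⟩ : ∃ w : F, w ≠ 0 ∧ w ≠ 1 := by
    classical
    by_contra hc
    push Not at hc
    have hle : (Finset.univ : Finset F) ⊆ {0, 1} := fun x _ => by
      by_cases hx : x = 0
      · simp [hx]
      · simp [hc x hx]
    have := (Finset.card_le_card hle).trans Finset.card_le_two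
    rw [Finset.card_univ, hcard] at this
    omega
  have hw3 := norm_one hF4 hw0
  rw [powHom_apply] at hw3
  have hw2 : w * w + w + 1 = 0 := by
    have h3 : (w - 1) * (w * w + w + 1) = 0 := by linear_combination hw3
    exact (mul_eq_zero.1 h3).resolve_left (sub_ne_zero.2 hw1)
  have hba : hermStd 7 hF4 b a₀ = 0 := h.eq_zero_symm hab
  have hiso : ∀ c : F, hermStd 7 hF4 (a₀ + c • b) (a₀ + c • b) = 0 := fun c => by
    simp only [map_add, LinearMap.add_apply, smul_left, smul_right, ha₀, hb, hab, hba, mul_zero, add_zero]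
  have hne : ∀ c : F, a₀ + c • b ≠ 0 := fun c e0 => one_ne_zero (α := F) (by
    have := congrArg (hermStd 7 hF4 f) e0
    rw [map_add, smul_right, map_zero, show hermStd 7 hF4 f b = 0 from hbf 1, mul_zero, add_zero] at this
    rw [← hf, ← h.symm, this, map_zero])
  obtain ⟨d1, hd1, h1⟩ := hall _ (hiso 1) (hne 1)
  obtain ⟨d2, hd2, h2⟩ := hall _ (hiso w) (hne w)
  obtain ⟨d3, hd3, h3⟩ := hall _ (hiso (w + 1)) (hne (w + 1))
  obtain ⟨d4, hd4, h4⟩ := hall b hb hb0
  have hpair : ∀ x ∈ [d₀, d1, d2, d3, d4], x ∈ D ∧ ∃ (c c' : F) (hx : hermStd 7 hF4 (c • a₀ + c' • b) (c • a₀ + c' • b) = 0),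
      φ x = t hF4 hx := by
    have hi : ∀ c c' : F, hermStd 7 hF4 (c • a₀ + c' • b) (c • a₀ + c' • b) = 0 := fun c c' => by
      simp only [map_add, LinearMap.add_apply, smul_left, smul_right, ha₀, hb, hab, hba, mul_zero, add_zero]
    intro x hx
    simp only [List.mem_cons, List.not_mem_nil, or_false] at hx
    rcases hx with rfl | rfl | rfl | rfl | rfl
    · exact ⟨hd₀, 1, 0, hi _ _, hd₀φ.trans (t_congr hF4 (hi 1 0) ha₀ one_ne_zero (by simp))⟩
    · exact ⟨hd1, 1, 1, hi _ _, h1.trans (t_congr hF4 (hi 1 1) (hiso 1) one_ne_zero (by simp))⟩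
    · exact ⟨hd2, 1, w, hi _ _, h2.trans (t_congr hF4 (hi 1 w) (hiso w) one_ne_zero (by simp))⟩
    · exact ⟨hd3, 1, w + 1, hi _ _, h3.trans (t_congr hF4 (hi 1 (w + 1)) (hiso (w + 1)) one_ne_zero (by simp))⟩
    · exact ⟨hd4, 0, 1, hi _ _, h4.trans (t_congr hF4 (hi 0 1) hb one_ne_zero (by simp))⟩
  refine isElementaryAbelian_pCore hD hZ
    (fun d hd f hf hc => generate_of_simple hD hsimple hperf hw hd hf hc) hperf ?_
    [d₀, d1, d2, d3, d4] (fun x hx => (hpair x hx).1) ?_ ⟨2, rfl⟩ ?_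
  · intro Γ _ _ π hs hc hd
    have hk : (e.toMonoidHom.comp π).ker = π.ker := by
      ext x; simp [MonoidHom.mem_ker]
    rw [← hk]
    exact CfsgLib.Known.UnitMult.ker_eq_bot h (by rw [finrank_std]; norm_num)
      (by rw [finrank_std]; omega) (by rw [finrank_std]; omega) (by rw [finrank_std]; omega) _
      ⟨e.surjective.comp hs, hk.symm ▸ hc, hk.symm ▸ hd⟩
  · intro x hx y hy
    obtain ⟨hxD, c, c', hxi, hxφ⟩ := hpair x hx
    obtain ⟨hyD, k, k', hyi, hyφ⟩ := hpair y hy
    refine commute_of_img hD hxD hyD (e.injective (Subtype.ext ?_))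
    rw [← map_mul img, ← map_mul img]
    show φ (x * y) = φ (y * x)
    rw [map_mul, map_mul, hxφ, hyφ]
    refine (t_comm hF4 hxi hyi ?_).eq
    simp only [map_add, LinearMap.add_apply, smul_left, smul_right, ha₀, hb, hab, hba, mul_zero, add_zero]
  · rw [← img_eq_one_iff]
    refine hφ _ 1 ?_ |>.trans (map_one _)
    rw [map_one]
    simp only [List.prod_cons, List.prod_nil, mul_one, map_mul, hd₀φ, h1, h2, h3, h4]
    refine ext_ap hF4 fun x => ?_
    simp only [ap_mul, ap, t_apply, map_add, LinearMap.add_apply, smul_left, smul_right, ha₀, hb, hab, hba,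
      mul_zero, zero_add, add_zero]
    show _ = x
    funext i
    simp only [Pi.add_apply, Pi.smul_apply, smul_eq_mul, powHom_apply]
    linear_combination
      (hermStd 7 hF4 a₀ x * (2 * a₀ i + b i + b i * w) + hermStd 7 hF4 b x * (a₀ i + a₀ i * w ^ 2 + b i + b i * w ^ 3)) * two_zero hF4
        + hermStd 7 hF4 b x * b i * hw2

end Cfsg.Agent.S5557
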