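import Cfsg.Statements.S5558
import Cfsg.Agent.Lib.ThreeTrans.UniqueClass.Images
import Cfsg.Agent.Lib.ThreeTrans.UniqueClass.Coset
import Cfsg.Agent.Lib.Components.FStar

set_option autoImplicit false
open Cfsg

namespace Cfsg.Agent.S5558

/-- Let G be a finite group generated by a conjugacy class D of 3-transpositions, with trivial centre and with generalized Fitting subgroup F*(G) = O₂(G) (so the Fitting subgroup is O₂(G) too). If moreover O₂(G) is elementary abelian, then D is the only conjugacy class of 3-transpositions generating G. -/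
theorem result {G : Type*} [Group G] [Finite G] {D : Set G} (hD : Cfsg.IsThreeTranspositionClass D)
    (hZ : Subgroup.center G = ⊥) (hF : Cfsg.generalizedFittingSubgroup G = Cfsg.pCore 2 G)
    (hV : Cfsg.IsElementaryAbelian 2 (Cfsg.pCore 2 G)) :
    ∀ E : Set G, Cfsg.IsThreeTranspositionClass E → E = D := by
  intro E hE
  haveI := hV.1
  letI : CommGroup ↥(Cfsg.pCore 2 G) :=
    { (inferInstance : Group ↥(Cfsg.pCore 2 G)) with mul_comm := fun a b => hV.1.1.comm a b }
  let M : CfsgLib.ThreeTrans.UniqueClass.Act G (Additive ↥(Cfsg.pCore 2 G)) :=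
    { inc := fun a => ((Additive.toMul a : ↥(Cfsg.pCore 2 G)) : G)
      act := fun x a => Additive.ofMul ⟨x * ((Additive.toMul a : ↥(Cfsg.pCore 2 G)) : G) * x⁻¹,
        (inferInstance : (Cfsg.pCore 2 G).Normal).conj_mem _ (Additive.toMul a).2 x⟩
      inc_inj := fun a b h => Additive.toMul.injective (Subtype.ext h)
      inc_mem := fun a => (Additive.toMul a).2
      inc_surj := fun v hv => ⟨Additive.ofMul ⟨v, hv⟩, rfl⟩
      inc_add := fun a b => rfl
      inc_act := fun x a => rfl
      self := fun a => Additive.toMul.injective (Subtype.ext (by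
        have h := hV.2 _ (Additive.toMul a).2
        rw [pow_two] at h
        exact h))
      cent := by
        rw [← hF]
        exact CfsgLib.Components.centralizer_gFitting_le
      centre := hZ }
  have hsub : E ⊆ D := fun e he => by
    obtain ⟨d, hd, h⟩ := CfsgLib.ThreeTrans.UniqueClass.exists_same_img M hD hE he
    exact CfsgLib.ThreeTrans.UniqueClass.mem_of_same_img M hD hE hd he h
  obtain ⟨-, ⟨d₀, -, hDeq⟩, -⟩ := hD
  obtain ⟨-, ⟨e₀, -, hEeq⟩, -⟩ := hE
  have h0 : e₀ ∈ conjugatesOf d₀ := hDeq ▸ hsub (hEeq ▸ mem_conjugatesOf_self)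
  rw [hEeq, hDeq]
  exact (isConj_iff_conjugatesOf_eq.1 h0).symm

end Cfsg.Agent.S5558
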