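import Cfsg.Statements.S5559
import Cfsg.Agent.Lib.ThreeTrans.Braid
import Cfsg.Agent.Lib.ThreeTrans.RadicalSplit
-- import your own Cfsg.Agent.* helpers here

set_option autoImplicit false
open Cfsg

namespace Cfsg.Agent.S5559

/-- Let H be a finite group generated by a conjugacy class E of 3-transpositions with at least two members, with F*(H) = O₂(H), and such that H/O₂(H) has a normal Sylow 3-subgroup of 2-power index (that is, H = O_{2,3,2}(H)). Then H/O₂(H) is isomorphic to the symmetric group of degree 3 or to the derived group of SU₃(2) (of order 54). -/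
theorem result {H : Type*} [Group H] [Finite H] {E : Set H} (hE : Cfsg.IsThreeTranspositionClass E)
    (hE2 : ∃ a ∈ E, ∃ b ∈ E, a ≠ b) (hF : Cfsg.generalizedFittingSubgroup H = Cfsg.pCore 2 H)
    (h232 : ∃ P : Sylow 3 (H ⧸ Cfsg.pCore 2 H), (P : Subgroup (H ⧸ Cfsg.pCore 2 H)).Normal ∧
      ∃ k : ℕ, (P : Subgroup (H ⧸ Cfsg.pCore 2 H)).index = 2 ^ k) :
    Nonempty (H ⧸ Cfsg.pCore 2 H ≃* Equiv.Perm (Fin 3)) ∨
      ∃ (F : Type) (_ : Field F) (_ : Fintype F), Fintype.card F = 4 ∧
        Nonempty (H ⧸ Cfsg.pCore 2 H ≃* ↥(commutator ↥(Cfsg.SU 3 F 2))) := by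
  obtain ⟨P, hPn, k, hk⟩ := h232
  obtain ⟨d, hd, hd1, hcase⟩ := CfsgLib.ThreeTrans.Radical.structure_quotient hE hE2 hF hPn P.isPGroup' hk
  rcases hcase with ⟨x, hx1, hx3, hdx, hgen⟩ | ⟨x, y, hg, hgen, hc⟩
  · left
    have hd' : d⁻¹ = d := inv_eq_of_mul_eq_one_right hd
    have hdx' : d * x * d = x⁻¹ := by
      have := hdx
      rwa [hd'] at this
    obtain ⟨φ, hφ0, hφ1⟩ := CfsgLib.ThreeTrans.exists_hom_perm_three (a := d) (b := d * x) hd
      (by rw [← mul_assoc, hdx', inv_mul_cancel])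
      (by
        have hxx : x * x = x⁻¹ := eq_inv_of_mul_eq_one_left (by rw [← pow_two, ← pow_succ]; exact hx3)
        calc d * (d * x) * d = x * d := by rw [← mul_assoc d d, hd, one_mul]
          _ = d * (d * x * d) := by rw [← mul_assoc, ← mul_assoc, hd, one_mul]
          _ = d * (x * x) := by rw [hdx', hxx]
          _ = d * x * d * (d * x) := by rw [mul_assoc (d * x) d, ← mul_assoc d d x, hd, one_mul, mul_assoc])
    refine ⟨(MulEquiv.ofBijective φ ⟨?_, ?_⟩).symm⟩
    · refine CfsgLib.ThreeTrans.injective_of_perm_three φ ?_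
      rw [map_mul, hφ0, hφ1, ← mul_assoc, hd, one_mul]
      exact hx1
    · rw [← MonoidHom.range_eq_top, eq_top_iff, ← hgen, Subgroup.closure_le]
      rintro t (rfl | rfl)
      · exact ⟨_, hφ0⟩
      · exact ⟨Equiv.swap 0 1 * Equiv.swap 1 2, by rw [map_mul, hφ0, hφ1, ← mul_assoc, hd, one_mul]⟩
  · right
    letI : Fintype (GaloisField 2 2) := Fintype.ofFinite _
    have hF4 : Fintype.card (GaloisField 2 2) = 4 := by
      rw [← Nat.card_eq_fintype_card, GaloisField.card 2 2 (by norm_num)]; rfl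
    obtain ⟨d', x', y', hg', hgen', hc'⟩ := CfsgLib.ThreeTrans.su32_gen54 hF4
    exact ⟨GaloisField 2 2, inferInstance, inferInstance, hF4,
      CfsgLib.ThreeTrans.iso54 hg hg' hgen hgen' hc hc'.ge⟩

end Cfsg.Agent.S5559
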