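import Cfsg.Statements.S5560
import Cfsg.Agent.Lib.ZStar.OddPProducts

set_option autoImplicit false
open Cfsg

namespace Cfsg.Agent.S5560

/-- A Z*-type result for an odd prime p. Let G be a finite group and d an involution of G such that the product of any two conjugates of d has order a power of p. Then the product of any two conjugates of d lies in the largest normal p-subgroup O_p(G); in other words the conjugacy class of d lies in the coset O_p(G)d, and d is central modulo O_p(G). -/
theorem result {G : Type*} [Group G] [Finite G] {p : ℕ} (hp : p.Prime) (hp2 : p ≠ 2)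
    (d : G) (hd : orderOf d = 2)
    (hprod : ∀ a ∈ conjugatesOf d, ∀ b ∈ conjugatesOf d, ∃ k : ℕ, orderOf (a * b) = p ^ k) :
    ∀ a ∈ conjugatesOf d, ∀ b ∈ conjugatesOf d, a * b ∈ Cfsg.pCore p G := by
  have : Fact p.Prime := ⟨hp⟩
  intro a ha b hb
  obtain ⟨g, rfl⟩ := isConj_iff.1 (show IsConj d a from ha)
  obtain ⟨h, rfl⟩ := isConj_iff.1 (show IsConj d b from hb)
  set π := QuotientGroup.mk' (pCore p G) with hπ
  have hdne : π d ≠ 1 := fun h1 => by
    obtain ⟨k, hk⟩ := IsPGroup.iff_orderOf.1 (CfsgLib.Core.isPGroup_pCore p G)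
      ⟨d, (QuotientGroup.eq_one_iff d).1 h1⟩
    rw [← Subgroup.orderOf_coe] at hk
    simp only at hk
    rw [hd] at hk
    rcases k with _ | k
    · norm_num at hk
    · exact hp2 ((Nat.prime_dvd_prime_iff_eq hp Nat.prime_two).1 (hk ▸ dvd_pow_self p k.succ_ne_zero))
  have key := CfsgLib.ZStar.conj_eq_of_pCore_eq_bot (p := p) hp2 (d := π d)
    (orderOf_eq_prime (by rw [← map_pow, ← hd, pow_orderOf_eq_one, map_one]) hdne)
    (fun x y => by
      obtain ⟨x, rfl⟩ := QuotientGroup.mk'_surjective (pCore p G) x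
      obtain ⟨y, rfl⟩ := QuotientGroup.mk'_surjective (pCore p G) y
      obtain ⟨k, hk⟩ := hprod (x * d * x⁻¹) (show IsConj d (x * d * x⁻¹) from isConj_iff.2 ⟨x, rfl⟩)
        (y * d * y⁻¹) (show IsConj d (y * d * y⁻¹) from isConj_iff.2 ⟨y, rfl⟩)
      obtain ⟨j, -, hj⟩ := (Nat.dvd_prime_pow hp).1 (hk ▸ orderOf_map_dvd π (x * d * x⁻¹ * (y * d * y⁻¹)))
      exact ⟨j, by rw [← hj]; simp only [hπ, map_mul, map_inv]⟩)
    (CfsgLib.Core.pCore_quotient_pCore p G)
  rw [← QuotientGroup.eq_one_iff]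
  show π _ = 1
  rw [map_mul, map_mul, map_mul, map_mul, map_mul, map_inv, map_inv, key, key, ← map_mul,
    ← pow_two, ← hd, pow_orderOf_eq_one, map_one]

end Cfsg.Agent.S5560
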