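import Cfsg.Statements.S5562
import Cfsg.Agent.Lib.ThreeTrans.Dihedral
-- import your own Cfsg.Agent.* helpers here

set_option autoImplicit false
open Cfsg

namespace Cfsg.Agent.S5562

/-- Let G be a finite group, d an involution of G whose conjugates pairwise have products of odd order, and x any involution of G. Then the conjugacy class of d is the disjoint union, over the conjugates a of d commuting with x, of the sets of conjugates of d commuting with ax: every conjugate of d commutes with ax for exactly one conjugate a of d that commutes with x. -/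
theorem result {G : Type*} [Group G] [Finite G] (d : G) (hd : orderOf d = 2)
    (hodd : ∀ a ∈ conjugatesOf d, ∀ b ∈ conjugatesOf d, Odd (orderOf (a * b)))
    (x : G) (hx : orderOf x = 2) :
    ∀ e ∈ conjugatesOf d,
      ∃! a : G, a ∈ conjugatesOf d ∧ Commute a x ∧ Commute e (a * x) := by
  intro e he
  have hord : ∀ c ∈ conjugatesOf d, orderOf c = 2 := fun c hc => by
    obtain ⟨g, rfl⟩ := isConj_iff.1 hc
    rw [show g * d * g⁻¹ = (MulAut.conj g) d from rfl, MulEquiv.orderOf_eq, hd]
  have hi : ∀ c ∈ conjugatesOf d, c⁻¹ = c := fun c hc => CfsgLib.ThreeTrans.inv_of_orderOf_two (hord c hc)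
  have hcl : ∀ g : G, ∀ c ∈ conjugatesOf d, g * c * g⁻¹ ∈ conjugatesOf d := fun g c hc =>
    IsConj.trans hc (isConj_iff.2 ⟨g, rfl⟩)
  have hxi := CfsgLib.ThreeTrans.inv_of_orderOf_two hx
  have hxx := CfsgLib.ThreeTrans.mul_self_of_orderOf_two hx
  set e' := x * e * x⁻¹ with he'def
  have he' : e' ∈ conjugatesOf d := hcl x e he
  have hei := hi e he
  have he'i := hi e' he'
  have hee : e * e = 1 := CfsgLib.ThreeTrans.mul_self_of_orderOf_two (hord e he)
  obtain ⟨k, hk⟩ := hodd e he e' he'
  set w := e * e' with hw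
  have hw1 : w ^ (2 * k + 1) = 1 := by rw [← hk]; exact pow_orderOf_eq_one w
  have hmul : ∀ m : ℕ, w ^ (2 * ((2 * k + 1) * m) + (k + 1)) = w ^ (k + 1) := fun m => by
    rw [pow_add, show 2 * ((2 * k + 1) * m) = (2 * k + 1) * (2 * m) by ring, pow_mul, hw1, one_pow, one_mul]
  set a := e * w ^ (k + 1) with hadef
  have ha : a ∈ conjugatesOf d := by
    -- `a` is a conjugate of `e`
    have := hcl (w ^ ((k + 1) * (k + 1)))⁻¹ e he
    rw [inv_inv, hw, CfsgLib.ThreeTrans.conj_pow_first hei he'i, ← hw] at this
    convert this using 1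
    rw [hadef]; congr 1
    -- 2(k+1)^2 = (k+1) + (k+1)(2k+1)
    rw [show 2 * ((k + 1) * (k + 1)) = (k + 1) + (2 * k + 1) * (k + 1) by ring, pow_add w (k + 1) ((2 * k + 1) * (k + 1)), pow_mul, hw1,
      one_pow, mul_one]
  have hai := hi a ha
  have haexch : a * e * a = e' := by
    have hk1 : e * w ^ (k + 1) = (w ^ (k + 1))⁻¹ * e := by
      rw [hw]; exact CfsgLib.ThreeTrans.left_mul_pow_mul hei he'i _
    calc a * e * a = e * (w ^ (k + 1) * (e * e) * w ^ (k + 1)) := by rw [hadef]; group
      _ = e * w ^ ((k + 1) + (k + 1)) := by rw [hee, mul_one, ← pow_add]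
      _ = e * w := by rw [show k + 1 + (k + 1) = 2 * k + 1 + 1 by omega, _root_.pow_succ, hw1, one_mul]
      _ = e' := by rw [hw, ← mul_assoc, hee, one_mul]
  -- uniqueness of an exchanging member
  have huniq : ∀ c ∈ conjugatesOf d, c * e * c = e' → c = a := by
    intro c hc hce
    obtain ⟨m, hm⟩ := hodd e he c hc
    have h1 := CfsgLib.ThreeTrans.unique_exchange hei (hi c hc) hce m
      (by rw [← hm]; exact pow_orderOf_eq_one _)
    rw [← hw] at h1
    -- both exponents give the same square root
    have hdvd : w ^ (2 * m + 1) = 1 := by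
      rw [hw, show e * e' = (e * c) ^ 2 by rw [← hce, pow_two]; group, ← pow_mul, mul_comm, pow_mul, ← hm,
        pow_orderOf_eq_one, one_pow]
    rw [h1, hadef]
    congr 1
    calc w ^ (m + 1) = w ^ (m + 1) * (w ^ (2 * k + 1)) ^ (m + 1) := by rw [hw1, one_pow, mul_one]
      _ = w ^ (k + 1) * (w ^ (2 * m + 1)) ^ (k + 1) := by
          rw [← pow_mul, ← pow_mul, ← pow_add, ← pow_add]; congr 1; ring
      _ = w ^ (k + 1) := by rw [hdvd, one_pow, mul_one]
  have hxe : x * e' * x = e := by
    rw [he'def, hxi]
    calc x * (x * e * x) * x = (x * x) * e * (x * x) := by group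
      _ = e := by rw [hxx, one_mul, mul_one]
  have hax : Commute a x := by
    have hc : x * a * x⁻¹ ∈ conjugatesOf d := hcl x a ha
    have hback : a * e' * a = e := by
      rw [← haexch]
      calc a * (a * e * a) * a = (a * a) * e * (a * a) := by group
        _ = e := by rw [CfsgLib.ThreeTrans.mul_self_of_orderOf_two (hord a ha), one_mul, mul_one]
    have hxex : x * e * x = e' := by rw [he'def, hxi]
    have : (x * a * x⁻¹) * e * (x * a * x⁻¹) = e' := by
      rw [hxi]
      calc x * a * x * e * (x * a * x) = x * a * (x * e * x) * a * x := by group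
        _ = x * (a * e' * a) * x := by rw [hxex]; group
        _ = e' := by rw [hback, hxex]
    have h2 := huniq _ hc this
    exact (mul_inv_eq_iff_eq_mul.1 h2).symm
  have iff_exch : ∀ c ∈ conjugatesOf d, Commute c x → (Commute e (c * x) ↔ c * e * c = e') := by
    intro c hc hcx
    have hcc := CfsgLib.ThreeTrans.mul_self_of_orderOf_two (hord c hc)
    constructor
    · intro h
      have h2 : e' = c * e * c := by
        have h3 : (c * x) * e * (c * x)⁻¹ = e := by rw [← h.eq, mul_inv_cancel_right]
        rw [mul_inv_rev, hi c hc] at h3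
        calc e' = (c * c) * e' * (c * c) := by rw [hcc, one_mul, mul_one]
          _ = c * ((c * x) * e * (x⁻¹ * c)) * c := by rw [he'def]; group
          _ = c * e * c := by rw [h3]
      exact h2.symm
    · intro h
      show e * (c * x) = (c * x) * e
      symm
      calc c * x * e = c * e' * x := by rw [he'def]; group
        _ = c * (c * e * c) * x := by rw [h]
        _ = (c * c) * e * c * x := by group
        _ = e * (c * x) := by rw [hcc, one_mul, mul_assoc]
  refine ⟨a, ⟨ha, hax, (iff_exch a ha hax).2 haexch⟩, ?_⟩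
  rintro c ⟨hc, hcx, hce⟩
  exact huniq c hc ((iff_exch c hc hcx).1 hce)

end Cfsg.Agent.S5562
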