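import Cfsg.Statements.S5568
import Cfsg.Agent.Lib.JankoFourHexad.Cent
import Cfsg.Agent.Lib.JankoFourHexad.General
-- import your own Cfsg.Agent.* helpers here

set_option autoImplicit false
open Cfsg CfsgLib.ThreeTrans CfsgLib.JankoFour CfsgLib.JankoFourHexad

namespace Cfsg.Agent.S5568

/-- Let G be a finite non-abelian simple group of Janko-four type (an involution z whose centralizer H has an extraspecial largest normal 2-subgroup E of order 2^13 containing its centralizer in H, a normal subgroup N ≥ E of H with N/E of order 3 and H/N the automorphism group of M₂₂, and a subgroup P ≤ N of order 3 with C_E(P) = ⟨z⟩, N_H(P) ≠ C_H(P) and P ≤ C_H(P)′). Let V be an elementary abelian subgroup of G of order 2^11. Then under conjugation by the normalizer of V the non-identity elements of V fall into an orbit of length 1771 consisting of conjugates of z and an orbit of length 276 consisting of involutions t not conjugate to z, and for such t the centralizer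 of t in G lies in the normalizer of V. -/
theorem result {G : Type*} [Group G] [Finite G] [IsSimpleGroup G] (hG : ¬ IsMulCommutative G) (z : G) (hJ : Cfsg.IsOfJankoFourTypeAt z) (V : Subgroup G) (hV : Cfsg.IsElementaryAbelian 2 V) (hcard : Nat.card ↥V = 2 ^ 11) :
    ∃ z' t : G, z' ∈ V ∧ t ∈ V ∧ t ≠ 1 ∧ IsConj z z' ∧ ¬ IsConj z t ∧
    Set.ncard {v : G | ∃ n ∈ Subgroup.normalizer (V : Set G), n * z' * n⁻¹ = v} = 1771 ∧
    Set.ncard {v : G | ∃ n ∈ Subgroup.normalizer (V : Set G), n * t * n⁻¹ = v} = 276 ∧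
    Subgroup.centralizer ({t} : Set G) ≤ Subgroup.normalizer (V : Set G) := by
  classical
  obtain ⟨S, rfl, B, g, rfl⟩ := exists_frame_conj hJ hV hcard
  have hJ' : IsOfJankoFourType G := ⟨_, hJ⟩
  obtain ⟨-, hD, hO⟩ := B.duads_spec hG hJ'
  have h2D : dMask.testBit 2 = true := fixed_free.2.2.2.2.2
  obtain ⟨h20, h2z⟩ := (hD 2 (by norm_num)).1 h2D
  have hinj : ∀ {a b : ℕ}, a < 2048 → b < 2048 → g * B.vel a * g⁻¹ = g * B.vel b * g⁻¹ → a = b := fun ha hb e =>
    B.vel_inj ha hb (mul_left_cancel (mul_right_cancel e))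
  refine ⟨g * S.z * g⁻¹, g * B.vel 2 * g⁻¹, ⟨_, B.z_mem_V, rfl⟩, ⟨_, B.vel_mem (by norm_num), rfl⟩, ?_,
    isConj_iff.2 ⟨g, rfl⟩, ?_, ?_, ?_, ?_⟩
  · exact fun e => h20 (hinj (by norm_num) (by norm_num) (e.trans (by rw [HexBase.vel_zero, mul_one, mul_inv_cancel])))
  · exact fun c => h2z (c.trans (isConj_iff.2 ⟨g, rfl⟩).symm)
  · rw [← (B.zset_spec hG hJ').1, ← Set.ncard_coe_finset,
      ← Set.ncard_image_of_injective (B.zset : Set (Fin 2048)) (f := fun k : Fin 2048 => g * B.vel k.1 * g⁻¹)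
        fun a b e => Fin.ext (hinj a.2 b.2 e)]
    congr 1
    ext v
    constructor
    · rintro ⟨n, hn, rfl⟩
      obtain ⟨k, hk, e⟩ := B.conj_mem (mem_norm_conj.1 hn) B.z_mem_V
      refine ⟨⟨k, hk⟩, B.mem_zset.2 (isConj_iff.2 ⟨g⁻¹ * n * g, e.symm⟩), ?_⟩
      show g * B.vel k * g⁻¹ = _
      rw [e]; group
    · rintro ⟨k, hk, rfl⟩
      obtain ⟨c, hc⟩ := isConj_iff.1 (B.mem_zset.1 hk)
      obtain ⟨m, hm, e⟩ := B.fuse hJ' (g := c) (hc ▸ B.vel_mem k.2)
      refine ⟨g * m * g⁻¹, mem_norm_conj.2 (by rwa [show g⁻¹ * (g * m * g⁻¹) * g = m by group]), ?_⟩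
      show _ = g * B.vel k.1 * g⁻¹
      rw [← hc, ← e]; group
  · rw [← Nat.eq_of_beq_eq_true duad_count, HexBase.countLt_fin, ← Set.ncard_coe_finset,
      ← Set.ncard_image_of_injective _ (f := fun k : Fin 2048 => g * B.vel k.1 * g⁻¹)
        fun a b e => Fin.ext (hinj a.2 b.2 e)]
    congr 1
    ext v
    constructor
    · rintro ⟨n, hn, rfl⟩
      have hm := mem_norm_conj.1 hn
      have hlt := B.act_lt (g⁻¹ * n * g) 2
      refine ⟨⟨_, hlt⟩, Finset.mem_filter.2 ⟨Finset.mem_univ _, (hD _ hlt).2 ⟨fun e => h20 ?_, fun c => h2z ?_⟩⟩, ?_⟩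
      · exact B.act_inj hm (by norm_num) (by norm_num) (e.trans (B.act_zero hm).symm)
      · exact (B.isZc_act hm (by norm_num)).1 c
      · show g * B.vel _ * g⁻¹ = _
        rw [B.vel_act hm (by norm_num)]; group
    · rintro ⟨k, hk, rfl⟩
      obtain ⟨m, hm, e⟩ := hO k.1 k.2 (Finset.mem_filter.1 hk).2
      refine ⟨g * m * g⁻¹, mem_norm_conj.2 (by rwa [show g⁻¹ * (g * m * g⁻¹) * g = m by group]), ?_⟩
      show _ = g * B.vel k.1 * g⁻¹
      rw [e]; group
  · intro x hx
    refine mem_norm_conj.2 (B.cent_duad hG hJ' (mem_centralizer_singleton_iff'.2 ?_))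
    have := (LargeData.commute_conj_iff' (g := g⁻¹)).2
      (show Commute x (g * B.vel 2 * g⁻¹) from mem_centralizer_singleton_iff'.1 hx)
    rwa [inv_inv, show g⁻¹ * (g * B.vel 2 * g⁻¹) * g = B.vel 2 by group] at this

end Cfsg.Agent.S5568
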