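import Cfsg.Statements.S5573
import Cfsg.Agent.Lib.JankoFourSevenLocal.Main
-- import your own Cfsg.Agent.* helpers here

set_option autoImplicit false
open Cfsg

namespace Cfsg.Agent.S5573

/-- Let G be a finite non-abelian simple group of Janko-four type (an involution z whose centralizer H has an extraspecial largest normal 2-subgroup E of order 2^13 containing its centralizer in H, a normal subgroup N ≥ E of H with N/E of order 3 and H/N the automorphism group of M₂₂, and a subgroup P ≤ N of order 3 with C_E(P) = ⟨z⟩, N_H(P) ≠ C_H(P) and P ≤ C_H(P)′). Let S ≤ H have order 7. Then S is a Sylow 7-subgroup of G, its centralizer is S × I with I isomorphic to the symmetric group of degree 5, and its normalizer has order three times that of its centralizer, namely 2^3·3^2·5·7. -/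
theorem result {G : Type*} [Group G] [Finite G] [IsSimpleGroup G] (hG : ¬ IsMulCommutative G) (z : G) (hJ : Cfsg.IsOfJankoFourTypeAt z) (S : Subgroup G) (hS : Nat.card ↥S = 7) (hSz : S ≤ Subgroup.centralizer ({z} : Set G)) :
    ¬ (49 ∣ Nat.card G) ∧
    (∃ I : Subgroup G, Cfsg.IsInternalDirectProduct S I (Subgroup.centralizer (S : Set G)) ∧ Nonempty (↥I ≃* Equiv.Perm (Fin 5))) ∧
    Nat.card ↥(Subgroup.normalizer (S : Set G)) = 3 * Nat.card ↥(Subgroup.centralizer (S : Set G)) ∧
    Nat.card ↥(Subgroup.normalizer (S : Set G)) = 2 ^ 3 * 3 ^ 2 * 5 * 7 := by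
  classical
  haveI : Fact (Nat.Prime 7) := ⟨by norm_num⟩
  have hJ' := hJ
  obtain ⟨P, hP⟩ := hJ'
  obtain ⟨T, rfl, -⟩ := CfsgLib.JankoFour.exists_setting hP
  haveI : Nonempty (CfsgLib.JankoFour.Frame T) := CfsgLib.JankoFour.exists_frame T
  obtain ⟨g, hg⟩ := exists_prime_orderOf_dvd_card' (G := S) 7 hS.symm.dvd
  have hx : orderOf (g : G) = 7 := by rw [Subgroup.orderOf_coe, hg]
  have hxz : Commute (g : G) T.z := CfsgLib.ThreeTrans.mem_centralizer_singleton_iff'.1 (hSz g.2)
  have hgS : Subgroup.zpowers (g : G) = S :=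
    Subgroup.eq_of_le_of_card_ge (Subgroup.zpowers_le.2 g.2) (by rw [hS, Nat.card_zpowers, hx])
  have hcen : Subgroup.centralizer (S : Set G) = Subgroup.centralizer ({(g : G)} : Set G) := by
    rw [← show Subgroup.centralizer (Subgroup.zpowers (g : G) : Set G) = Subgroup.centralizer (S : Set G) by rw [hgS],
      Subgroup.zpowers_eq_closure, Subgroup.centralizer_closure]
  have hN := CfsgLib.JankoFour.Seven.normalizer_card T hx hxz hG hJ
  have hC := CfsgLib.JankoFour.Seven.card_cent T hx hxz hG hJ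
  obtain ⟨I, hI, he⟩ := CfsgLib.JankoFour.Seven.direct T hx hxz hG hJ
  rw [hgS] at hN hI
  refine ⟨CfsgLib.JankoFour.Seven.not_sq_dvd T hx hxz hG hJ, ⟨I, ?_, he⟩, ?_, ?_⟩
  · rw [hcen]; exact hI
  · rw [hN, hcen, hC]
  · rw [hN]; norm_num

end Cfsg.Agent.S5573
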