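import Cfsg.Statements.S5588
import Cfsg.Agent.Lib.Recog.YSpider.Main

set_option autoImplicit false
set_option maxRecDepth 20000
set_option Elab.async false
open Cfsg

namespace Cfsg.Agent.S5588

open CfsgLib.Recog.YSpider CfsgLib.ThreeTrans.CosetIndex

theorem prod_reverse_word (w : List ℕ) : ((w.reverse).map gy).prod = ((w.map gy).prod)⁻¹ := by
  induction w with
  | nil => simp
  | cons x w ih =>
    rw [List.reverse_cons, List.map_append, List.prod_append, ih, List.map_singleton, List.prod_singleton,
      List.map_cons, List.prod_cons, mul_inv_rev, inv_eq_of_mul_eq_one_right (gy_sq x)]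

/-- The long known words, the spider relation read backwards among them. -/
def longs : List (List ℕ) := [legWord 0 1 2, legWord 0 2 1]

theorem first_one : ∀ w ∈ [legWord 0 1 2], (w.map gy).prod = 1 := fun w hw =>
  base_one w (List.mem_cons_of_mem _ (List.mem_append_right _ hw))

theorem first_view : (relWords Spor.Fi22.edges leg3 Cfsg.Agent.S1687.gens).all
    (fun w => known [legWord 0 1 2] (see (comp (List.range 16) m22) w)) = true := by decide +kernel

theorem longs_one : ∀ w ∈ longs, (w.map gy).prod = 1 := by
  intro w hw
  simp only [longs, List.mem_cons, List.not_mem_nil, or_false] at hw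
  rcases hw with rfl | rfl
  · exact first_one _ List.mem_cons_self
  · have e := view_eq (σ := List.range 16) (known_one first_one) first_view (u := U4) (w := [])
      triv_U4 triv_nil (by decide +kernel)
    rw [show see (comp (List.range 16) m22) U4 = legWord 0 2 1 by decide +kernel] at e
    exact e

/-- The arms in the order of a relator. -/
def arms (p q r : ℕ) : List ℕ :=
  0 :: List.range' (5 * p + 1) 5 ++ List.range' (5 * q + 1) 5 ++ List.range' (5 * r + 1) 5

theorem arm_end {r : FreeGroup Spor.Bimonster.Gen} {σ : List ℕ} (h : Good (known longs) σ = true)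
    (e : letters gensY r = idx σ 5 :: (see σ (nine [0, 1, 6, 11, 2, 7, 3])).reverse) :
    ((letters gensY r).map gy).prod = 1 := by
  rw [e, List.map_cons, List.prod_cons, prod_reverse_word, end_eq (known_one longs_one) h, mul_inv_cancel]

theorem good0 : Good (known longs) (arms 0 1 2) = true := by decide +kernel

theorem good1 : Good (known longs) (arms 0 2 1) = true := by decide +kernel

theorem good2 : Good (known longs) (arms 1 0 2) = true := by decide +kernel

theorem good3 : Good (known longs) (arms 1 2 0) = true := by decide +kernel

theorem good4 : Good (known longs) (arms 2 0 1) = true := by decide +kernel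

theorem good5 : Good (known longs) (arms 2 1 0) = true := by decide +kernel

set_option maxHeartbeats 4000000 in
/-- In the group presented by the sixteen involutions of the Y₅₅₅ Coxeter diagram subject only to the Coxeter relations and the single spider relation (a b₁ c₁ a b₂ c₂ a b₃ c₃)^10 = 1, each of the further relators used in the definitions' presentation of the Bimonster (each end node equals the ninth power of the Coxeter element of a sub-diagram of type E₇) already holds. Equivalently, the Y₅₅₅ diagram with the spider relation alone presents the Bimonster. -/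
theorem result :
    ∀ r ∈ Cfsg.Spor.Bimonster.extra,
      (PresentedGroup.mk (Cfsg.Spor.coxRelators Cfsg.Spor.Bimonster.edges ∪ {r' | r' ∈ [(Cfsg.Spor.Bimonster.a * Cfsg.Spor.Bimonster.b1 * Cfsg.Spor.Bimonster.c1 * Cfsg.Spor.Bimonster.a * Cfsg.Spor.Bimonster.b2 * Cfsg.Spor.Bimonster.c2 * Cfsg.Spor.Bimonster.a * Cfsg.Spor.Bimonster.b3 * Cfsg.Spor.Bimonster.c3) ^ 10]}) r) = 1 := by
  intro r hr
  refine (mk_prod r).trans ?_
  simp only [Spor.Bimonster.extra, List.mem_cons, List.not_mem_nil, or_false] at hr
  rcases hr with rfl | rfl | rfl | rfl | rfl | rfl | rfl
  · exact first_one _ (List.mem_singleton.2 (by decide +kernel))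
  · exact arm_end good0 (by decide +kernel)
  · exact arm_end good1 (by decide +kernel)
  · exact arm_end good2 (by decide +kernel)
  · exact arm_end good3 (by decide +kernel)
  · exact arm_end good4 (by decide +kernel)
  · exact arm_end good5 (by decide +kernel)

end Cfsg.Agent.S5588
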