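import Cfsg.Statements.S5594
import Cfsg.Agent.Lib.Sporadic.M24
import Cfsg.Agent.Lib.ThreeTrans.Co0Elts
-- import your own Cfsg.Agent.* helpers here

set_option autoImplicit false
open Cfsg CfsgLib.ThreeTrans.Leech CfsgLib.Sporadic
open scoped Pointwise

namespace Cfsg.Agent.S5594

/-- The automorphism group of the Leech lattice contains the negation map, and the subgroup of order 2 it generates has no complement: the automorphism group is a non-split extension of its quotient by that subgroup (it is not the direct product of a group of order 2 with the first Conway group). -/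
theorem result :
    ∃ n : ↥Cfsg.Co0, (∀ v : ↥Cfsg.leechLattice, ((n • v : ↥Cfsg.leechLattice) : Cfsg.GolayPt → ℤ) = -(v : Cfsg.GolayPt → ℤ)) ∧
    ∀ K : Subgroup ↥Cfsg.Co0, ¬ (Subgroup.zpowers n).IsComplement' K := by
  have hO : ∀ m : ℕ, m < 2 ^ 24 → inCode m = true → popc m = 8 → setOfMask m ∈ octads :=
    fun m hm h1 h2 => mem_octads_iff.2 (by rw [maskOf_setOfMask hm]; exact ⟨h1, h2⟩)
  have hU : (Finset.univ : Finset GolayPt) ∈ supports (golayCode : Set (GolayPt → ZMod 2)) :=
    mem_supports_iff.2 (by decide +kernel)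
  refine ⟨flipElt hU, fun v => ?_, fun K hK => ?_⟩
  · rw [flipElt_apply]; funext i; simp [flipVec]
  have hext : ∀ g h : ↥Co0, (∀ v : ↥leechLattice, ((g • v : ↥leechLattice) : GolayPt → ℤ) =
      ((h • v : ↥leechLattice) : GolayPt → ℤ)) → g = h :=
    fun g h e => Subtype.ext (Equiv.ext fun v => Subtype.ext (e v))
  have hne : flipElt hU ≠ 1 := by
    intro e
    have := congrArg (fun g : ↥Co0 =>
      ((g • (⟨omegaVec, mem_iff.2 isL_omega⟩ : ↥leechLattice) : ↥leechLattice) : GolayPt → ℤ) none) e
    simp only [flipElt_apply, one_smul] at this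
    simp [flipVec, omegaVec] at this
  have hsq : flipElt hU ^ 2 = 1 := hext _ _ fun v => by
    rw [sq, mul_smul, flipElt_apply, flipElt_apply, CfsgLib.ThreeTrans.Leech.flip_flip, one_smul]
  have hidx : K.index = 2 := by
    rw [hK.index_eq_card, Nat.card_zpowers]
    exact orderOf_eq_prime hsq hne
  have hn : flipElt hU ∉ K := fun h =>
    hne (Subgroup.mem_bot.1 (hK.disjoint.le_bot ⟨Subgroup.mem_zpowers _, h⟩))
  have hK2 : ∀ a b : ↥Co0, a * b ∈ K ↔ (a ∈ K ↔ b ∈ K) := fun a b =>
    Subgroup.mul_mem_iff_of_index_two hidx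
  let P : Finset GolayPt → Prop := fun s => ∀ hs, flipElt (s := s) hs ∈ K
  have hadd : ∀ (s t : Finset GolayPt) (hs : s ∈ supports (golayCode : Set (GolayPt → ZMod 2)))
      (ht : t ∈ supports (golayCode : Set (GolayPt → ZMod 2))),
      P (symmDiff s t) ↔ (P s ↔ P t) := by
    intro s t hs ht
    have e : flipElt (symmDiff_mem_supports hs ht) = flipElt hs * flipElt ht := hext _ _ fun v => by
      rw [mul_smul, flipElt_apply, flipElt_apply, flipElt_apply]
      funext i
      simp only [flipVec, Finset.mem_symmDiff]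
      by_cases h1 : i ∈ s <;> by_cases h2 : i ∈ t <;> simp [h1, h2]
    constructor
    · intro h
      have := (hK2 _ _).1 (e ▸ h (symmDiff_mem_supports hs ht))
      exact ⟨fun a _ => this.1 (a hs), fun a _ => this.2 (a ht)⟩
    · intro h _
      rw [e]
      exact (hK2 _ _).2 ⟨fun a => h.1 (fun _ => a) ht, fun a => h.2 (fun _ => a) hs⟩
  have hperm : ∀ o o', o ∈ octads → o' ∈ octads → P o → P o' := by
    intro o o' ho ho' h hs'
    obtain ⟨g, hg, e⟩ := exists_smul_octad ho ho'
    subst e
    have e : flipElt hs' * permElt hg = permElt hg * flipElt ho.1 := hext _ _ fun v => by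
      rw [mul_smul, mul_smul, flipElt_apply, permElt_apply, permElt_apply, flipElt_apply]
      funext i
      simp only [flipVec, permVec]
      have : i ∈ g • o ↔ g.symm i ∈ o := Finset.inv_smul_mem_iff.symm
      simp [this]
    have h2 := hK2 (flipElt hs') (permElt hg)
    rw [e] at h2
    have h3 := hK2 (permElt hg) (flipElt ho.1)
    have h4 := h ho.1
    simp only [h4, iff_true] at h3
    exact (h2.1 |> fun f => (by by_cases hp : permElt hg ∈ K 
                                · exact (f (h3.2 hp)).2 hp
                                · by_contra hc; exact hp (h3.1 (h2.2 (iff_of_false hc hp)))))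
  have h1 := hO (8388615 ||| 4268048) (by decide) (by decide +kernel) (by decide +kernel)
  have h2 := hO (147496 ||| 2621632) (by decide) (by decide +kernel) (by decide +kernel)
  have h3 := hO (1082880 ||| 268544) (by decide) (by decide +kernel) (by decide +kernel)
  have h4 := hO (4268048 ||| 147496) (by decide) (by decide +kernel) (by decide +kernel)
  have h5 := hO (8388615 ||| 147496) (by decide) (by decide +kernel) (by decide +kernel)
  have h6 : P (setOfMask (8388615 ||| 147496)) ↔
      (P (setOfMask (8388615 ||| 4268048)) ↔ P (setOfMask (4268048 ||| 147496))) := by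
    rw [← hadd _ _ h1.1 h4.1, ← setOfMask_xor]
    rfl
  have a14 := hperm _ _ h1 h4
  have a41 := hperm _ _ h4 h1
  have a51 := hperm _ _ h5 h1
  have p1 : P (setOfMask (8388615 ||| 4268048)) := a51 (h6.2 ⟨a14, a41⟩)
  have p12 := (hadd _ _ h1.1 h2.1).2 ⟨fun _ => hperm _ _ h1 h2 p1, fun _ => p1⟩
  have p3 := hperm _ _ h1 h3 p1
  have h12 := symmDiff_mem_supports h1.1 h2.1
  have pU := (hadd _ _ h12 h3.1).2 ⟨fun _ => p3, fun _ => p12⟩
  have eU : symmDiff (symmDiff (setOfMask (8388615 ||| 4268048)) (setOfMask (147496 ||| 2621632)))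
      (setOfMask (1082880 ||| 268544)) = Finset.univ := by decide +kernel
  rw [eU] at pU
  exact hn (pU hU)

end Cfsg.Agent.S5594
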