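import Cfsg.Statements.S5622
import Cfsg.Agent.Lib.ThreeTrans.SelfDual24
-- import your own Cfsg.Agent.* helpers here

set_option autoImplicit false
open Cfsg

namespace Cfsg.Agent.S5622

/-- Let C be a self-dual binary code of length 24 with minimum weight at least 8 (a 12-dimensional subspace of the 24-dimensional space over the field with two elements, any two of whose words have dot product zero, with no non-zero word of weight below 8 — an abstract extended binary Golay code). Then the minimum weight of C is exactly 8, and the supports of the words of weight 8 (the octads) form a Steiner system S(5, 8, 24) on the 24 coordinates: every 5 coordinates lie in the support of exactly one word of weight 8. -/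
theorem result (C : Submodule (ZMod 2) (Fin 24 → ZMod 2)) (hdim : Module.finrank (ZMod 2) C = 12) (horth : ∀ v ∈ C, ∀ w ∈ C, ∑ i, v i * w i = 0) (hmin : ∀ w ∈ C, w ≠ 0 → 8 ≤ hammingNorm w) : (∃ w ∈ C, hammingNorm w = 8) ∧ Cfsg.IsSteinerSystem 5 8 (Cfsg.wordsOfWeight (C : Set (Fin 24 → ZMod 2)) 8) := by
  refine ⟨?_, ?_, ?_⟩
  · obtain ⟨T, -, hT⟩ := Finset.exists_subset_card_eq (s := (Finset.univ : Finset (Fin 24))) (n := 5) (by simp)
    obtain ⟨o, ho, h8, -⟩ := CfsgLib.ThreeTrans.Golay.exists_octad hdim hmin hT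
    exact ⟨_, ho, by rw [CfsgLib.ThreeTrans.Golay.norm_eq_card, CfsgLib.ThreeTrans.Golay.supp_ind, h8]⟩
  · exact fun b hb => hb.2
  · intro T hT
    have key : ∀ b : Finset (Fin 24), b ∈ Cfsg.supports (C : Set (Fin 24 → ZMod 2)) ↔
        CfsgLib.ThreeTrans.Golay.ind b ∈ C := by
      intro b
      constructor
      · intro hb
        obtain ⟨v, hv, hvb⟩ := hb
        have : CfsgLib.ThreeTrans.Golay.supp v = b := hvb
        rw [← this, CfsgLib.ThreeTrans.Golay.ind_supp]; exact hv
      · intro hb
        exact ⟨_, hb, CfsgLib.ThreeTrans.Golay.supp_ind b⟩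
    obtain ⟨o, ho, h8, hTo⟩ := CfsgLib.ThreeTrans.Golay.exists_octad hdim hmin hT
    refine ⟨o, ⟨⟨(key o).2 ho, h8⟩, hTo⟩, fun o' ho' => ?_⟩
    exact CfsgLib.ThreeTrans.Golay.octad_unique hmin hT ((key o').1 ho'.1.1) ho ho'.1.2 h8 ho'.2 hTo

end Cfsg.Agent.S5622
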