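import Cfsg.Statements.S5623
import Cfsg.Agent.Lib.ThreeTrans.SelfDual24
-- import your own Cfsg.Agent.* helpers here

set_option autoImplicit false
open Cfsg

namespace Cfsg.Agent.S5623

/-- Let C be a self-dual binary code of length 24 with minimum weight at least 8 (a 12-dimensional subspace of the 24-dimensional space over the field with two elements, any two of whose words have dot product zero, with no non-zero word of weight below 8 — an abstract extended binary Golay code). Then every coset w + C of C in the ambient space contains either exactly one word of weight at most 4, which then has weight at most 3, or exactly six words of weight at most 4, all of weight exactly 4 and with pairwise disjoint supports (a sextet). -/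
theorem result (C : Submodule (ZMod 2) (Fin 24 → ZMod 2)) (hdim : Module.finrank (ZMod 2) C = 12) (horth : ∀ v ∈ C, ∀ w ∈ C, ∑ i, v i * w i = 0) (hmin : ∀ w ∈ C, w ≠ 0 → 8 ≤ hammingNorm w) (w : Fin 24 → ZMod 2) : (∃ u : Fin 24 → ZMod 2, {u : Fin 24 → ZMod 2 | u - w ∈ C ∧ hammingNorm u ≤ 4} = {u} ∧ hammingNorm u ≤ 3) ∨ ({u : Fin 24 → ZMod 2 | u - w ∈ C ∧ hammingNorm u ≤ 4}.ncard = 6 ∧ ∀ u ∈ {u : Fin 24 → ZMod 2 | u - w ∈ C ∧ hammingNorm u ≤ 4}, hammingNorm u = 4 ∧ ∀ u' ∈ {u : Fin 24 → ZMod 2 | u - w ∈ C ∧ hammingNorm u ≤ 4}, u ≠ u' → Disjoint (Finset.univ.filter fun i => u i ≠ 0) (Finset.univ.filter fun i => u' i ≠ 0)) := by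
  classical
  set G := CfsgLib.ThreeTrans.Golay.cls C with hG
  set c : (Fin 24 → ZMod 2) ⧸ C := Submodule.Quotient.mk w with hc
  have hmem : ∀ u : Fin 24 → ZMod 2, u - w ∈ C ↔ G (CfsgLib.ThreeTrans.Golay.supp u) = c := by
    intro u
    rw [hG, hc, CfsgLib.ThreeTrans.Golay.cls, CfsgLib.ThreeTrans.Golay.ind_supp, Submodule.Quotient.eq]
  rcases CfsgLib.ThreeTrans.Golay.dichotomy hdim hmin c with ⟨s, hs, hsc⟩ | h6
  · left
    refine ⟨CfsgLib.ThreeTrans.Golay.ind s, ?_, ?_⟩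
    · refine Set.eq_singleton_iff_unique_mem.2 ⟨⟨?_, ?_⟩, fun u hu => ?_⟩
      · rw [hmem, CfsgLib.ThreeTrans.Golay.supp_ind]; exact hsc
      · rw [CfsgLib.ThreeTrans.Golay.norm_eq_card, CfsgLib.ThreeTrans.Golay.supp_ind]; omega
      · obtain ⟨h1, h2⟩ := hu
        rw [hmem, ← hsc] at h1
        rw [CfsgLib.ThreeTrans.Golay.norm_eq_card] at h2
        rcases CfsgLib.ThreeTrans.Golay.eq_or_disjoint hmin h2 (show s.card ≤ 4 by omega) h1 with e | ⟨-, e, -⟩
        · rw [← e, CfsgLib.ThreeTrans.Golay.ind_supp]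
        · omega
    · rw [CfsgLib.ThreeTrans.Golay.norm_eq_card, CfsgLib.ThreeTrans.Golay.supp_ind]; exact hs
  · right
    set F := CfsgLib.ThreeTrans.Golay.quads.filter (G · = c) with hF
    have hchar : ∀ u : Fin 24 → ZMod 2, u - w ∈ C ∧ hammingNorm u ≤ 4 ↔ CfsgLib.ThreeTrans.Golay.supp u ∈ F := by
      intro u
      rw [hmem, CfsgLib.ThreeTrans.Golay.norm_eq_card, hF, Finset.mem_filter, CfsgLib.ThreeTrans.Golay.mem_quads]
      refine ⟨fun ⟨h1, h2⟩ => ⟨?_, h1⟩, fun ⟨h1, h2⟩ => ⟨h2, h1.le⟩⟩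
      obtain ⟨t, ht⟩ := Finset.card_pos.1 (by rw [h6]; norm_num : 0 < F.card)
      rw [hF, Finset.mem_filter, CfsgLib.ThreeTrans.Golay.mem_quads] at ht
      rcases CfsgLib.ThreeTrans.Golay.eq_or_disjoint hmin h2 ht.1.le (h1.trans ht.2.symm) with e | ⟨e, -, -⟩
      · rw [e]; exact ht.1
      · exact e
    have himg : {u : Fin 24 → ZMod 2 | u - w ∈ C ∧ hammingNorm u ≤ 4} = ↑(F.image CfsgLib.ThreeTrans.Golay.ind) := by
      ext u
      rw [Set.mem_ofPred_eq, hchar, Finset.coe_image, Set.mem_image]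
      refine ⟨fun h => ⟨_, h, CfsgLib.ThreeTrans.Golay.ind_supp u⟩, ?_⟩
      rintro ⟨s, hs, rfl⟩
      rw [CfsgLib.ThreeTrans.Golay.supp_ind]; exact hs
    refine ⟨?_, ?_⟩
    · rw [himg, Set.ncard_coe_finset, Finset.card_image_of_injective, h6]
      intro a b e
      simpa [CfsgLib.ThreeTrans.Golay.supp_ind] using congrArg CfsgLib.ThreeTrans.Golay.supp e
    · intro u hu
      have hu' := (hchar u).1 hu
      rw [hF, Finset.mem_filter, CfsgLib.ThreeTrans.Golay.mem_quads] at hu'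
      refine ⟨hu'.1, fun u' hu2 hne => ?_⟩
      have hu2' := (hchar u').1 hu2
      rw [hF, Finset.mem_filter, CfsgLib.ThreeTrans.Golay.mem_quads] at hu2'
      rcases CfsgLib.ThreeTrans.Golay.eq_or_disjoint hmin hu'.1.le hu2'.1.le (hu'.2.trans hu2'.2.symm) with e | ⟨-, -, e⟩
      · exact absurd (by rw [← CfsgLib.ThreeTrans.Golay.ind_supp u, e, CfsgLib.ThreeTrans.Golay.ind_supp]) hne
      · exact e

end Cfsg.Agent.S5623
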