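import Cfsg.Statements.S5625
import Cfsg.Agent.Lib.ThreeTrans.Steiner
-- import your own Cfsg.Agent.* helpers here

set_option autoImplicit false
open Cfsg

namespace Cfsg.Agent.S5625

/-- In any Steiner system S(5, 8, 24) and for any set Y of three points, the blocks meeting Y in exactly 3, 2, 1 and 0 points number 21, 168, 360 and 210 respectively (so there are 759 blocks in all). -/
theorem result (α : Type*) [Fintype α] [DecidableEq α] (hα : Fintype.card α = 24) (B : Set (Finset α)) (hB : Cfsg.IsSteinerSystem 5 8 B) (Y : Finset α) (hY : Y.card = 3) : {b : Finset α | b ∈ B ∧ (b ∩ Y).card = 3}.ncard = 21 ∧ {b : Finset α | b ∈ B ∧ (b ∩ Y).card = 2}.ncard = 168 ∧ {b : Finset α | b ∈ B ∧ (b ∩ Y).card = 1}.ncard = 360 ∧ {b : Finset α | b ∈ B ∧ (b ∩ Y).card = 0}.ncard = 210 := by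
  classical
  open CfsgLib.ThreeTrans in
  have hc : ∀ T : Finset α, T.card ≤ 5 →
      ((blocksF B).filter (T ⊆ ·)).card * (8 - T.card).choose (5 - T.card) = (24 - T.card).choose (5 - T.card) :=
    fun T hT => hα ▸ steiner_count hB hT
  open CfsgLib.ThreeTrans in
  have hsum : ∀ j, j ≤ 3 → (∑ b ∈ blocksF B, (b ∩ Y).card.choose j) * (8 - j).choose (5 - j) =
      Nat.choose 3 j * (24 - j).choose (5 - j) := by
    intro j hj
    rw [sum_choose_inter, Finset.sum_mul, Finset.sum_const_nat (m := (24 - j).choose (5 - j)),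
      Finset.card_powersetCard, hY]
    intro T hT
    rw [Finset.mem_powersetCard] at hT
    have := hc T (by omega)
    rwa [hT.2] at this
  set n : ℕ → ℕ := fun i => ((CfsgLib.ThreeTrans.blocksF B).filter (fun b => (b ∩ Y).card = i)).card with hn
  have hset : ∀ i, {b : Finset α | b ∈ B ∧ (b ∩ Y).card = i}.ncard = n i := by
    intro i
    rw [hn]
    beta_reduce
    rw [← Set.ncard_coe_finset]
    congr 1
    ext b
    simp [CfsgLib.ThreeTrans.mem_blocksF]
  have hexp : ∀ j, ∑ b ∈ CfsgLib.ThreeTrans.blocksF B, (b ∩ Y).card.choose j =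
      n 0 * Nat.choose 0 j + n 1 * Nat.choose 1 j + n 2 * Nat.choose 2 j + n 3 * Nat.choose 3 j := by
    intro j
    rw [← Finset.sum_fiberwise_of_maps_to (t := Finset.range 4) (g := fun b => (b ∩ Y).card)
      (fun b _ => Finset.mem_range.2 (by
        have := Finset.card_le_card (Finset.inter_subset_right : b ∩ Y ⊆ Y)
        omega))]
    simp only [Finset.sum_range_succ, Finset.sum_range_zero, zero_add]
    congr 1
    congr 1
    congr 1
    all_goals
      rw [Finset.sum_const_nat]
      intro b hb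
      rw [(Finset.mem_filter.1 hb).2]
  have e0 := hsum 0 (by norm_num)
  have e1 := hsum 1 (by norm_num)
  have e2 := hsum 2 (by norm_num)
  have e3 := hsum 3 (by norm_num)
  rw [hexp] at e0 e1 e2 e3
  norm_num [Nat.choose] at e0 e1 e2 e3
  rw [hset, hset, hset, hset]
  omega

end Cfsg.Agent.S5625
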