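import Cfsg.Statements.S5632
import Cfsg.Agent.Lib.Geo.Transvection

set_option autoImplicit false
open Cfsg

namespace Cfsg.Agent.S5632

/-- For a finite field F and subspaces 0 < W < U of F^n with dim W + dim U = n, the elements of SL_n(F) stabilising both W and U form a subgroup that is not maximal in SL_n(F): some subgroup lies strictly between it and SL_n(F). -/
theorem result {F : Type*} [Field F] [Fintype F] (n : ℕ) (W U : Submodule F (Fin n → F)) (hW0 : W ≠ ⊥) (hWU : W < U) (hdim : Module.finrank F W + Module.finrank F U = n) : ∃ K : Subgroup (Matrix.GeneralLinearGroup (Fin n) F), Cfsg.Geo.subspaceStabilizer W ⊓ Cfsg.Geo.subspaceStabilizer U ⊓ Cfsg.Geo.specialLinear (Fin n) F < K ∧ K < Cfsg.Geo.specialLinear (Fin n) F := by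
  obtain ⟨u, huU, hu⟩ := SetLike.exists_of_lt hWU
  obtain ⟨w, hw, hw0⟩ := (Submodule.ne_bot_iff W).1 hW0
  obtain ⟨z, -, hz⟩ : ∃ z, z ∈ (⊤ : Submodule F (Fin n → F)) ∧ z ∉ U := by
    refine SetLike.exists_of_lt (lt_top_iff_ne_top.2 fun h => hW0 ?_)
    rw [h, finrank_top, Module.finrank_pi, Fintype.card_fin] at hdim
    exact Submodule.finrank_eq_zero.1 (by omega)
  refine ⟨Cfsg.Geo.subspaceStabilizer U ⊓ Cfsg.Geo.specialLinear (Fin n) F, ?_, ?_⟩
  · refine lt_of_le_of_ne (inf_le_inf_right _ inf_le_right) fun h => ?_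
    obtain ⟨g, hgS, hgU, hgW⟩ := CfsgLib.Geo.exists_mover U W u w huU hu hw
      (CfsgLib.Geo.notMem_span_singleton hw hw0 hu)
    exact hgW (h.ge ⟨hgU, hgS⟩).1.1
  · refine lt_of_le_of_ne inf_le_right fun h => ?_
    obtain ⟨g, hgS, -, hgU⟩ := CfsgLib.Geo.exists_mover ⊤ U z w Submodule.mem_top hz (hWU.le hw)
      (CfsgLib.Geo.notMem_span_singleton (hWU.le hw) hw0 hz)
    exact hgU (h.ge hgS).1

end Cfsg.Agent.S5632
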