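import Cfsg.Statements.S5633
import Cfsg.Agent.Lib.Geo.Transvection

set_option autoImplicit false
open Cfsg

namespace Cfsg.Agent.S5633

/-- For a finite field F and complementary non-zero subspaces W ⊕ U = F^n with dim W < dim U, the elements of SL_n(F) stabilising both W and U form a subgroup that is not maximal in SL_n(F): some subgroup lies strictly between it and SL_n(F). -/
theorem result {F : Type*} [Field F] [Fintype F] (n : ℕ) (W U : Submodule F (Fin n → F)) (hW0 : W ≠ ⊥) (hWU : W ⊓ U = ⊥) (hWU' : W ⊔ U = ⊤) (hdim : Module.finrank F W < Module.finrank F U) : ∃ K : Subgroup (Matrix.GeneralLinearGroup (Fin n) F), Cfsg.Geo.subspaceStabilizer W ⊓ Cfsg.Geo.subspaceStabilizer U ⊓ Cfsg.Geo.specialLinear (Fin n) F < K ∧ K < Cfsg.Geo.specialLinear (Fin n) F := by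
  obtain ⟨w, hw, hw0⟩ := (Submodule.ne_bot_iff W).1 hW0
  have hU0 : U ≠ ⊥ := by
    rintro rfl
    rw [finrank_bot] at hdim
    omega
  obtain ⟨u, hu, hu0⟩ := (Submodule.ne_bot_iff U).1 hU0
  have huW : u ∉ W := fun h => hu0 ((Submodule.mem_bot F).1 (hWU ▸ ⟨h, hu⟩))
  have hwU : w ∉ U := fun h => hw0 ((Submodule.mem_bot F).1 (hWU ▸ ⟨hw, h⟩))
  refine ⟨Cfsg.Geo.subspaceStabilizer W ⊓ Cfsg.Geo.specialLinear (Fin n) F, ?_, ?_⟩
  · refine lt_of_le_of_ne (inf_le_inf_right _ inf_le_left) fun h => ?_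
    obtain ⟨g, hgS, hgW, hgU⟩ := CfsgLib.Geo.exists_mover W U w u hw hwU hu
      (CfsgLib.Geo.notMem_span_singleton hu hu0 hwU)
    exact hgU (h.ge ⟨hgW, hgS⟩).1.2
  · refine lt_of_le_of_ne inf_le_right fun h => ?_
    obtain ⟨g, hgS, -, hgW⟩ := CfsgLib.Geo.exists_mover ⊤ W u w Submodule.mem_top huW hw
      (CfsgLib.Geo.notMem_span_singleton hw hw0 huW)
    exact hgW (h.ge hgS).1

end Cfsg.Agent.S5633
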