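import Cfsg.Statements.S5635
import Cfsg.Agent.Lib.Geo.DecompCoords

set_option autoImplicit false
open Cfsg

namespace Cfsg.Agent.S5635

open Matrix in
theorem case_one {F : Type*} [Field F] [Fintype F] (n : ℕ) {t : ℕ} (ht : 5 ≤ t)
    (D : Fin t → Submodule F (Fin n → F)) (b : Module.Basis (Fin t × Fin 1) F (Fin n → F))
    (hb : ∀ i v, v ∈ D i ↔ ∀ p : Fin t × Fin 1, p.1 ≠ i → b.repr v p = 0) (hq : Fintype.card F ≤ 4) :
    ∃ g ∈ Cfsg.Geo.specialLinear (Fin n) F, g ∈ CfsgLib.Geo.weightGroup b ∧ g ∉ Cfsg.Geo.decompositionStabilizer D := by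
  classical
  let c : ℕ → Fin t := fun k => if h : k < t then ⟨k, h⟩ else ⟨0, by omega⟩
  have hc : ∀ k l, k < 5 → l < 5 → (c k = c l ↔ k = l) := fun k l hk hl => by
    simp only [c, dif_pos (show k < t by omega), dif_pos (show l < t by omega), Fin.mk.injEq]
  have hcard : Fintype.card F = 2 ∨ Fintype.card F = 3 ∨ Fintype.card F = 4 := by
    have := Fintype.one_lt_card (α := F)
    omega
  have hq0 := FiniteField.cast_card_eq_zero F
  have h5 : (5 : F) ≠ 0 := by
    intro h
    rcases hcard with h' | h' | h' <;> rw [h'] at hq0 <;> push_cast at hq0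
    · exact one_ne_zero (α := F) (by linear_combination h - 2 * hq0)
    · exact one_ne_zero (α := F) (by linear_combination 2 * hq0 - h)
    · exact one_ne_zero (α := F) (by linear_combination h - hq0)
  let x : ℕ → (Fin n → F) →ₗ[F] F := fun k => (b.coord (c k, 0))
  let e : ℕ → Fin n → F := fun k => b (c k, 0)
  have hxe : ∀ k l, k < 5 → l < 5 → x k (e l) = if k = l then 1 else 0 := fun k l hk hl => by
    simp only [x, e, Module.Basis.coord_apply, Module.Basis.repr_self, Finsupp.single_apply, Prod.mk.injEq,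
      and_true, hc l k hl hk]
    simp only [eq_comm]
  let f := x 0 + x 1 + x 2 + x 3
  let u := e 0 + e 1 + e 2 + e 3
  have hfu : f u = 4 := by
    simp [f, u, hxe]
    norm_num
  have hf : 1 + f u ≠ 0 := by
    rw [hfu]
    convert h5 using 1
    norm_num
  let v := ((5 : F)⁻¹ - 1) • e 4
  have hgv : x 4 v = (5 : F)⁻¹ - 1 := by simp [v, hxe]
  have hg : 1 + x 4 v ≠ 0 := by
    rw [hgv, add_sub_cancel]
    exact inv_ne_zero h5
  have hdet : (1 + f u) * (1 + x 4 v) = 1 := by
    rw [hgv, hfu, add_sub_cancel, show (1 : F) + 4 = 5 by norm_num, mul_inv_cancel₀ h5]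
  set g := CfsgLib.Geo.rankOne f u hf * CfsgLib.Geo.rankOne (x 4) v hg with hgdef
  have happ : ∀ y, (g : Matrix (Fin n) (Fin n) F) *ᵥ y = (y + x 4 y • v) + f (y + x 4 y • v) • u := fun y => by
    rw [hgdef, Units.val_mul, ← Matrix.mulVec_mulVec, CfsgLib.Geo.rankOne_mulVec, CfsgLib.Geo.rankOne_mulVec]
  have hfv : f v = 0 := by simp [f, v, hxe]
  have hrepr : ∀ y i, b.repr ((g : Matrix (Fin n) (Fin n) F) *ᵥ y) (i, 0) = b.repr y (i, 0) +
      (if c 4 = i then x 4 y * ((5 : F)⁻¹ - 1) else 0) +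
      f y * ((if c 0 = i then 1 else 0) + (if c 1 = i then 1 else 0) + (if c 2 = i then 1 else 0) +
        (if c 3 = i then 1 else 0)) := by
    intro y i
    rw [happ, map_add f, map_smul f, hfv, smul_zero, add_zero]
    simp only [map_add, map_smul, Finsupp.coe_add, Pi.add_apply, Finsupp.coe_smul, Pi.smul_apply, smul_eq_mul, v, u, e,
      Module.Basis.repr_self, Finsupp.single_apply, Prod.mk.injEq, and_true, mul_ite, mul_one, mul_zero]
  refine ⟨g, CfsgLib.Geo.mul_rankOne_mem_specialLinear f (x 4) u v hf hg hdet, fun y => ?_, ?_⟩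
  · refine CfsgLib.Geo.weight_eq_of_eq_off b {c 0, c 1, c 2, c 3, c 4} _ _ (fun w => w 0 ^ (Fintype.card F - 1))
      (fun w => CfsgLib.Geo.chi_one w) (fun i hi j => ?_) ?_
    · simp only [Finset.mem_insert, Finset.mem_singleton, not_or] at hi
      rw [Fin.fin_one_eq_zero j, hrepr, if_neg (Ne.symm hi.1), if_neg (Ne.symm hi.2.1), if_neg (Ne.symm hi.2.2.1),
        if_neg (Ne.symm hi.2.2.2.1), if_neg (Ne.symm hi.2.2.2.2)]
      ring
    · rw [Finset.sum_insert (by simp [hc]), Finset.sum_insert (by simp [hc]), Finset.sum_insert (by simp [hc]),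
        Finset.sum_insert (by simp [hc]), Finset.sum_singleton, Finset.sum_insert (by simp [hc]),
        Finset.sum_insert (by simp [hc]), Finset.sum_insert (by simp [hc]),
        Finset.sum_insert (by simp [hc]), Finset.sum_singleton]
      have h4 : (b.repr y (c 4, 0) + x 4 y * ((5 : F)⁻¹ - 1)) ^ (Fintype.card F - 1) =
          b.repr y (c 4, 0) ^ (Fintype.card F - 1) := by
        have : b.repr y (c 4, 0) + x 4 y * ((5 : F)⁻¹ - 1) = b.repr y (c 4, 0) * (5 : F)⁻¹ := by
          show b.repr y (c 4, 0) + b.repr y (c 4, 0) * _ = _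
          ring
        rw [this, mul_pow, FiniteField.pow_card_sub_one_eq_one _ (inv_ne_zero h5), mul_one]
      simp only [hrepr, hc, Nat.reduceEqDiff, if_true, if_false, reduceIte, Nat.ofNat_pos, zero_add, add_zero,
        mul_zero, mul_one, Nat.one_lt_ofNat, Nat.reduceLT, OfNat.ofNat_ne_zero, OfNat.ofNat_ne_one, zero_ne_one,
        one_ne_zero, OfNat.zero_ne_ofNat, OfNat.one_ne_ofNat, h4]
      simp only [f, x, LinearMap.add_apply, Module.Basis.coord_apply]
      set X0 := b.repr y (c 0, 0)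
      set X1 := b.repr y (c 1, 0)
      set X2 := b.repr y (c 2, 0)
      set X3 := b.repr y (c 3, 0)
      rcases hcard with h | h | h <;> rw [h] at hq0 ⊢ <;> push_cast at hq0
      · linear_combination (2 * (X0 + X1 + X2 + X3)) * hq0
      · linear_combination (2 * (X0 + X1 + X2 + X3) ^ 2) * hq0
      · have h2 : (2 : F) = 0 := pow_eq_zero_iff (two_ne_zero) |>.1 (by linear_combination hq0)
        linear_combination (5 * (X0 + X1 + X2 + X3) ^ 3 - 3 * (X0 + X1 + X2 + X3) *
          (X0 * X1 + X0 * X2 + X0 * X3 + X1 * X2 + X1 * X3 + X2 * X3)) * h2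
  · refine CfsgLib.Geo.notMem_decompositionStabilizer b hb g (c 0, 0) (c 1, 0) (c 2, 0) ?_ ?_ ?_
    · simp [hc]
    · rw [hrepr]
      simp [f, x, hc, Finsupp.single_apply]
    · rw [hrepr]
      simp [f, x, hc, Finsupp.single_apply]

open Matrix in
theorem case_two {F : Type*} [Field F] [Fintype F] (n : ℕ) {t : ℕ} (ht : 3 ≤ t)
    (D : Fin t → Submodule F (Fin n → F)) (b : Module.Basis (Fin t × Fin 2) F (Fin n → F))
    (hb : ∀ i v, v ∈ D i ↔ ∀ p : Fin t × Fin 2, p.1 ≠ i → b.repr v p = 0) (hq : Fintype.card F = 2) :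
    ∃ g ∈ Cfsg.Geo.specialLinear (Fin n) F, g ∈ CfsgLib.Geo.weightGroup b ∧ g ∉ Cfsg.Geo.decompositionStabilizer D := by
  classical
  let c : ℕ → Fin t := fun k => if h : k < t then ⟨k, h⟩ else ⟨0, by omega⟩
  have hc : ∀ k l, k < 3 → l < 3 → (c k = c l ↔ k = l) := fun k l hk hl => by
    simp only [c, dif_pos (show k < t by omega), dif_pos (show l < t by omega), Fin.mk.injEq]
  have h2 : (2 : F) = 0 := by
    have := FiniteField.cast_card_eq_zero F
    rw [hq] at this
    exact_mod_cast this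
  let f : (Fin n → F) →ₗ[F] F := b.coord (c 0, 1) + b.coord (c 1, 1) + b.coord (c 2, 1)
  let u := b (c 0, 0) + b (c 1, 0) + b (c 2, 0)
  have hfu : f u = 0 := by simp [f, u, Finsupp.single_apply]
  have hf : 1 + f u ≠ 0 := by rw [hfu, add_zero]; exact one_ne_zero
  set g := CfsgLib.Geo.rankOne f u hf with hgdef
  have hrepr : ∀ y p, b.repr ((g : Matrix (Fin n) (Fin n) F) *ᵥ y) p = b.repr y p +
      f y * ((if (c 0, (0 : Fin 2)) = p then 1 else 0) + (if (c 1, (0 : Fin 2)) = p then 1 else 0) +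
        (if (c 2, (0 : Fin 2)) = p then 1 else 0)) := by
    intro y p
    rw [hgdef, CfsgLib.Geo.rankOne_mulVec]
    simp only [map_add, map_smul, Finsupp.coe_add, Pi.add_apply, Finsupp.coe_smul, Pi.smul_apply, smul_eq_mul, u,
      Module.Basis.repr_self, Finsupp.single_apply]
  refine ⟨g, CfsgLib.Geo.rankOne_mem_specialLinear f u hf hfu, fun y => ?_, ?_⟩
  · refine CfsgLib.Geo.weight_eq_of_eq_off b {c 0, c 1, c 2} _ _
      (fun w => w 0 ^ 2 + w 0 * w 1 + w 1 ^ 2) (fun w => CfsgLib.Geo.chi_two hq w) (fun i hi j => ?_) ?_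
    · simp only [Finset.mem_insert, Finset.mem_singleton, not_or] at hi
      rw [hrepr, if_neg (fun h => hi.1 (congrArg Prod.fst h).symm), if_neg (fun h => hi.2.1 (congrArg Prod.fst h).symm),
        if_neg (fun h => hi.2.2 (congrArg Prod.fst h).symm)]
      ring
    · rw [Finset.sum_insert (by simp [hc]), Finset.sum_insert (by simp [hc]), Finset.sum_singleton,
        Finset.sum_insert (by simp [hc]), Finset.sum_insert (by simp [hc]), Finset.sum_singleton]
      simp [hrepr, hc, f]
      linear_combination ((b.repr y (c 0, 1) + b.repr y (c 1, 1) + b.repr y (c 2, 1)) *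
          (b.repr y (c 0, 0) + b.repr y (c 1, 0) + b.repr y (c 2, 0) + 2 * (b.repr y (c 0, 1) + b.repr y (c 1, 1) + b.repr y (c 2, 1)))) * h2
  · refine CfsgLib.Geo.notMem_decompositionStabilizer b hb g (c 0, 1) (c 1, 0) (c 2, 0) ?_ ?_ ?_
    · simp [hc]
    · rw [hrepr]
      simp [f, hc, Finsupp.single_apply]
    · rw [hrepr]
      simp [f, hc, Finsupp.single_apply]

/-- For a finite field F with q elements and n ≥ 13, let D be a decomposition of F^n into t ≥ 2 independent subspaces of equal dimension m spanning F^n, where m = 1 and q ≤ 4, or m = 2 and q = 2. Then the elements of SL_n(F) permuting the members of D form a subgroup that is not maximal: some subgroup lies strictly between it and SL_n(F). -/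
theorem result {F : Type*} [Field F] [Fintype F] (n : ℕ) (hn : 13 ≤ n) {t : ℕ} (m : ℕ) (D : Fin t → Submodule F (Fin n → F)) (hD : Cfsg.Geo.IsMDecomposition m D) (h : (m = 1 ∧ Fintype.card F ≤ 4) ∨ (m = 2 ∧ Fintype.card F = 2)) : ∃ K : Subgroup (Matrix.GeneralLinearGroup (Fin n) F), Cfsg.Geo.decompositionStabilizer D ⊓ Cfsg.Geo.specialLinear (Fin n) F < K ∧ K < Cfsg.Geo.specialLinear (Fin n) F := by
  classical
  obtain ⟨b, hb⟩ := CfsgLib.Geo.exists_adapted_basis hD
  have hn' : n = t * m := (Fintype.card_fin n).symm.trans (CfsgLib.Geo.card_eq_mul hD)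
  have ht : 5 ≤ t := by rcases h with ⟨rfl, -⟩ | ⟨rfl, -⟩ <;> omega
  have hw : ∃ g ∈ Cfsg.Geo.specialLinear (Fin n) F,
      g ∈ CfsgLib.Geo.weightGroup b ∧ g ∉ Cfsg.Geo.decompositionStabilizer D := by
    rcases h with ⟨rfl, hq⟩ | ⟨rfl, hq⟩
    · exact case_one n ht D b hb hq
    · exact case_two n (by omega) D b hb hq
  obtain ⟨g, hgS, hgW, hgD⟩ := hw
  refine ⟨CfsgLib.Geo.weightGroup b ⊓ Cfsg.Geo.specialLinear (Fin n) F, lt_of_le_of_ne
    (inf_le_inf_right _ (CfsgLib.Geo.decompositionStabilizer_le_weightGroup b hb))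
    (fun heq => hgD (heq.ge ⟨hgW, hgS⟩).1), lt_of_le_of_ne inf_le_right fun heq => ?_⟩
  have hm : 0 < m := hD.pos
  let z : Fin m := ⟨0, hm⟩
  let i0 : Fin t := ⟨0, by omega⟩
  let i1 : Fin t := ⟨1, by omega⟩
  have hne : i0 ≠ i1 := by simp [i0, i1, Fin.ext_iff]
  have h0 : b.coord (i1, z) (b (i0, z)) = 0 := by simp [hne]
  have hf : (1 : F) + b.coord (i1, z) (b (i0, z)) ≠ 0 := by rw [h0, add_zero]; exact one_ne_zero
  have hmem := (heq.ge (CfsgLib.Geo.rankOne_mem_specialLinear _ _ hf h0)).1 (b (i1, z))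
  rw [CfsgLib.Geo.rankOne_mulVec] at hmem
  have hc1 : b.coord (i1, z) (b (i1, z)) = 1 := by simp
  rw [hc1, one_smul] at hmem
  unfold CfsgLib.Geo.weight at hmem
  rw [← Finset.sum_add_sum_compl {i0, i1}, ← Finset.sum_add_sum_compl {i0, i1}, Finset.sum_pair hne,
    Finset.sum_pair hne] at hmem
  have e0 : ¬ ∀ j, b.repr (b (i1, z) + b (i0, z)) (i0, j) = 0 := fun hh => by
    have := hh z
    simp [hne.symm] at this
  have e1 : ¬ ∀ j, b.repr (b (i1, z) + b (i0, z)) (i1, j) = 0 := fun hh => by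
    have := hh z
    simp [hne] at this
  have e2 : ∀ j, b.repr (b (i1, z)) (i0, j) = 0 := fun j => by simp [Finsupp.single_apply, hne.symm]
  have e3 : ¬ ∀ j, b.repr (b (i1, z)) (i1, j) = 0 := fun hh => by
    have := hh z
    simp at this
  rw [if_neg e0, if_neg e1, if_pos e2, if_neg e3, Finset.sum_eq_zero, Finset.sum_eq_zero] at hmem
  · simp at hmem
  · intro i hi
    simp only [Finset.mem_compl, Finset.mem_insert, Finset.mem_singleton, not_or] at hi
    rw [if_pos]
    intro j
    simp [Finsupp.single_apply, Ne.symm hi.2]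
  · intro i hi
    simp only [Finset.mem_compl, Finset.mem_insert, Finset.mem_singleton, not_or] at hi
    rw [if_pos]
    intro j
    simp [Finsupp.single_apply, Ne.symm hi.1, Ne.symm hi.2]

end Cfsg.Agent.S5635
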