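import Cfsg.Statements.S5638
import Mathlib

set_option autoImplicit false
open Cfsg

namespace Cfsg.Agent.S5638

open Matrix Kronecker in
theorem core {F : Type*} [Field F] [Fintype F] (hq : Fintype.card F = 2) (n₂ : ℕ) (hn₂ : 2 ≤ n₂) :
    ∃ N : Subgroup (Matrix.GeneralLinearGroup (Fin 2 × Fin n₂) F),
      Cfsg.Geo.kroneckerSubgroup 2 n₂ F < N ∧ N < ⊤ := by
  classical
  have h2 : (2 : F) = 0 := by
    have := FiniteField.cast_card_eq_zero F
    rw [hq] at this
    exact_mod_cast this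
  let k0 : Fin n₂ := ⟨0, by omega⟩
  let k1 : Fin n₂ := ⟨1, by omega⟩
  have hk : k0 ≠ k1 := by simp [k0, k1, Fin.ext_iff]
  let wm : Matrix (Fin 2) (Fin 2) F := !![0, 1; 1, 1]
  let w : Matrix.GeneralLinearGroup (Fin 2) F :=
    Matrix.GeneralLinearGroup.mkOfDetNeZero wm (by simp [wm, det_fin_two_of])
  have hw3 : w ^ 3 = 1 := by
    refine Units.ext ?_
    show (wm ^ 3 : Matrix (Fin 2) (Fin 2) F) = (1 : Matrix (Fin 2) (Fin 2) F)
    ext i j
    fin_cases i <;> fin_cases j <;> simp [wm, pow_succ, mul_apply, Fin.sum_univ_two] <;> linear_combination h2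
  have hw1 : w ≠ 1 := fun h => by
    have := congrArg (fun g : Matrix.GeneralLinearGroup (Fin 2) F => (g : Matrix (Fin 2) (Fin 2) F) 0 0) h
    exact zero_ne_one (α := F) (by simpa [w, wm] using this)
  have hord : orderOf w = 3 := by
    haveI : Fact (Nat.Prime 3) := ⟨Nat.prime_three⟩
    exact orderOf_eq_prime hw3 hw1
  have hGL : Nat.card (Matrix.GeneralLinearGroup (Fin 2) F) = 6 := by
    have := Matrix.card_GL_field (𝔽 := F) 2
    simp [hq, Fin.prod_univ_two] at this
    simpa [Nat.card_eq_fintype_card] using this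
  have hnorm : (Subgroup.zpowers w).Normal := by
    apply Subgroup.normal_of_index_eq_two
    have h := (Subgroup.zpowers w).card_mul_index
    rw [Nat.card_zpowers, hord, hGL] at h
    omega
  let ι₁ : Matrix.GeneralLinearGroup (Fin 2) F →* Matrix.GeneralLinearGroup (Fin 2 × Fin n₂) F :=
    Units.map
      { toFun := fun a => a ⊗ₖ (1 : Matrix (Fin n₂) (Fin n₂) F)
        map_one' := Matrix.one_kronecker_one
        map_mul' := fun a b => by rw [← Matrix.mul_kronecker_mul, mul_one] }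
  let N := Subgroup.normalizer (((Subgroup.zpowers w).map ι₁ : Subgroup _) : Set (Matrix.GeneralLinearGroup (Fin 2 × Fin n₂) F))
  have hconj : ∀ g, g ∈ Cfsg.Geo.kroneckerSubgroup 2 n₂ F → ∀ x ∈ (Subgroup.zpowers w).map ι₁,
      g * x * g⁻¹ ∈ (Subgroup.zpowers w).map ι₁ := by
    rintro g ⟨a, b, hg⟩ _ ⟨y, hy, rfl⟩
    refine ⟨a * y * a⁻¹, hnorm.conj_mem y hy a, ?_⟩
    rw [eq_mul_inv_iff_mul_eq]
    refine Units.ext ?_
    show ((a * y * a⁻¹ : Matrix.GeneralLinearGroup (Fin 2) F) : Matrix (Fin 2) (Fin 2) F) ⊗ₖ (1 : Matrix _ _ F) *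
      (g : Matrix (Fin 2 × Fin n₂) (Fin 2 × Fin n₂) F) = (g : Matrix (Fin 2 × Fin n₂) (Fin 2 × Fin n₂) F) * ((y : Matrix (Fin 2) (Fin 2) F) ⊗ₖ (1 : Matrix _ _ F))
    rw [hg, ← Matrix.mul_kronecker_mul, ← Matrix.mul_kronecker_mul, ← Units.val_mul, ← Units.val_mul, mul_one, one_mul,
      inv_mul_cancel_right]
  have hle : Cfsg.Geo.kroneckerSubgroup 2 n₂ F ≤ N := fun g hg => Subgroup.mem_normalizer_iff.2 fun x =>
    ⟨fun hx => hconj g hg x hx, fun hx => by
      have := hconj _ (inv_mem hg) _ hx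
      simpa [mul_assoc] using this⟩
  refine ⟨N, lt_of_le_of_ne hle fun heq => ?_, lt_top_iff_ne_top.2 fun htop => ?_⟩
  · let E : Matrix (Fin n₂) (Fin n₂) F := Matrix.single k0 k1 1
    have hsq : (wm ⊗ₖ E) * (wm ⊗ₖ E) = 0 := by
      rw [← Matrix.mul_kronecker_mul, show E * E = 0 from Matrix.single_mul_single_of_ne _ _ _ _ hk.symm _,
        Matrix.kronecker_zero]
    let g : Matrix.GeneralLinearGroup (Fin 2 × Fin n₂) F :=
      ⟨1 + wm ⊗ₖ E, 1 - wm ⊗ₖ E, by rw [add_mul, one_mul, mul_sub, hsq, mul_one]; abel,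
        by rw [sub_mul, one_mul, mul_add, hsq, mul_one]; abel⟩
    have hcomm : ∀ x ∈ (Subgroup.zpowers w).map ι₁, g * x = x * g := by
      rintro _ ⟨y, ⟨i, rfl⟩, rfl⟩
      have h1 : g * ι₁ w = ι₁ w * g := by
        refine Units.ext ?_
        show (1 + wm ⊗ₖ E) * (wm ⊗ₖ (1 : Matrix _ _ F)) = wm ⊗ₖ (1 : Matrix _ _ F) * (1 + wm ⊗ₖ E)
        rw [add_mul, mul_add, one_mul, mul_one, ← Matrix.mul_kronecker_mul, ← Matrix.mul_kronecker_mul, mul_one, one_mul]
      rw [map_zpow]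
      exact (Commute.zpow_right h1 i).eq
    have hgN : g ∈ N := Subgroup.mem_normalizer_iff.2 fun x => ⟨fun hx => by
        rw [hcomm x hx, mul_inv_cancel_right]; exact hx,
      fun hx => by
        have h := hcomm _ hx
        have : x = g * x * g⁻¹ := by
          rw [inv_mul_cancel_right] at h
          exact mul_left_cancel h.symm
        rw [this]
        exact hx⟩
    obtain ⟨a, b, hab⟩ : g ∈ Cfsg.Geo.kroneckerSubgroup 2 n₂ F := heq ▸ hgN
    have e1 := congrFun (congrFun hab (0, k0)) (0, k0)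
    have e2 := congrFun (congrFun hab (0, k0)) (1, k1)
    have e3 := congrFun (congrFun hab (0, k0)) (1, k0)
    simp [g, E, wm, Matrix.kroneckerMap_apply, Matrix.single_apply, hk.symm] at e1 e2 e3
    rcases e3 with h | h
    · rw [h, zero_mul] at e2
      exact one_ne_zero e2
    · rw [h, mul_zero] at e1
      exact one_ne_zero e1
  · let X : Matrix (Fin 2 × Fin n₂) (Fin 2 × Fin n₂) F := Matrix.single (0, k0) (0, k1) 1
    have hX : X * X = 0 := Matrix.single_mul_single_of_ne _ _ _ _ (by simp [hk.symm]) _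
    let g : Matrix.GeneralLinearGroup (Fin 2 × Fin n₂) F :=
      ⟨1 + X, 1 - X, by rw [add_mul, one_mul, mul_sub, hX, mul_one]; abel,
        by rw [sub_mul, one_mul, mul_add, hX, mul_one]; abel⟩
    obtain ⟨y, -, hy⟩ := (Subgroup.mem_normalizer_iff.1 (htop ▸ Subgroup.mem_top g : g ∈ N) (ι₁ w)).1
      ⟨w, Subgroup.mem_zpowers w, rfl⟩
    rw [eq_mul_inv_iff_mul_eq] at hy
    have h : ((y : Matrix (Fin 2) (Fin 2) F) ⊗ₖ (1 : Matrix (Fin n₂) (Fin n₂) F) * (1 + X) :
          Matrix (Fin 2 × Fin n₂) (Fin 2 × Fin n₂) F) (0, k0) (1, k1) =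
        ((1 + X) * (wm ⊗ₖ (1 : Matrix (Fin n₂) (Fin n₂) F)) :
          Matrix (Fin 2 × Fin n₂) (Fin 2 × Fin n₂) F) (0, k0) (1, k1) :=
      congrArg (fun g : Matrix.GeneralLinearGroup (Fin 2 × Fin n₂) F => (g : Matrix (Fin 2 × Fin n₂) (Fin 2 × Fin n₂) F) (0, k0) (1, k1)) hy
    rw [add_mul, one_mul, mul_add, mul_one, Matrix.add_apply, Matrix.add_apply,
      Matrix.mul_single_apply_of_ne _ _ _ _ _ (by simp), Matrix.single_mul_apply_same] at h
    simp [wm, Matrix.kroneckerMap_apply, hk] at h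

/-- Over the field with 2 elements, for n = 2 n₂ ≥ 13, the stabiliser in SL_n of a tensor decomposition with factors of dimensions 2 and n₂ (the conjugate by any P of the Kronecker-product subgroup transported along any bijection Fin n ≃ Fin 2 × Fin n₂, intersected with SL_n) is not a maximal subgroup: some subgroup lies strictly between it and SL_n. -/
theorem result {F : Type*} [Field F] [Fintype F] (n : ℕ) (hn : 13 ≤ n) (hq : Fintype.card F = 2) (n₂ : ℕ) (e : Fin n ≃ Fin 2 × Fin n₂) (P : Matrix.GeneralLinearGroup (Fin n) F) : ∃ K : Subgroup (Matrix.GeneralLinearGroup (Fin n) F), Cfsg.Geo.tensorProductSubgroup 2 n₂ e P ⊓ Cfsg.Geo.specialLinear (Fin n) F < K ∧ K < Cfsg.Geo.specialLinear (Fin n) F := by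
  have hn₂ : 2 ≤ n₂ := by
    have := Fintype.card_congr e
    rw [Fintype.card_fin, Fintype.card_prod, Fintype.card_fin, Fintype.card_fin] at this
    omega
  obtain ⟨N, h1, h2⟩ := core hq n₂ hn₂
  let ψ := (Cfsg.Geo.glReindex e.symm).trans (MulAut.conj P)
  have hS : Cfsg.Geo.specialLinear (Fin n) F = ⊤ := by
    refine eq_top_iff.2 fun g _ => MonoidHom.mem_ker.2 (Units.ext ?_)
    have h := FiniteField.pow_card_sub_one_eq_one _ (Matrix.GeneralLinearGroup.det g).ne_zero
    rwa [hq, pow_one] at h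
  have hT : Cfsg.Geo.tensorProductSubgroup 2 n₂ e P = (Cfsg.Geo.kroneckerSubgroup 2 n₂ F).map ψ.toMonoidHom :=
    Subgroup.map_map _ _ _
  rw [hS, inf_top_eq, hT]
  exact ⟨N.map ψ.toMonoidHom, (Subgroup.map_lt_map_iff_of_injective ψ.injective).2 h1,
    lt_top_iff_ne_top.2 fun h => h2.ne (Subgroup.map_injective ψ.injective
      (h.trans (Subgroup.map_top_of_surjective _ ψ.surjective).symm))⟩

end Cfsg.Agent.S5638
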