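import Cfsg.Statements.S5643
import Cfsg.Agent.Lib.Geo.UnitarySimilitude

set_option autoImplicit false
open Cfsg

namespace Cfsg.Agent.S5643

/-- For a finite field F and n ≥ 13, let σ be a field automorphism of F of order two and f a non-degenerate unitary form on F^n with respect to σ. Then the elements of SL_n(F) that are similarities of f form a maximal subgroup of SL_n(F). -/
theorem result {F : Type*} [Field F] [Fintype F] (n : ℕ) (hn : 13 ≤ n) (σ : F ≃+* F) (f : (Fin n → F) → (Fin n → F) → F) (hf : Cfsg.Geo.IsUnitaryForm σ f) : Cfsg.Geo.IsMaximalIn (Cfsg.Geo.specialLinear (Fin n) F) (Cfsg.Geo.similarityGroup f ⊓ Cfsg.Geo.specialLinear (Fin n) F) := by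
  have hr : ∀ v a b, f v (a + b) = f v a + f v b := fun v a b => by
    rw [hf.herm, hf.add_left, map_add, ← hf.herm, ← hf.herm]
  have hs : ∀ (c : F) (v a : Fin n → F), f v (c • a) = σ c * f v a := fun c v a => by
    rw [hf.herm, hf.smul_left, map_mul, ← hf.herm]
  let B : (Fin n → F) →ₛₗ[(σ : F →+* F)] (Fin n → F) →ₗ[F] F :=
    LinearMap.mk₂'ₛₗ (σ : F →+* F) (RingHom.id F) (fun u y => f y u)
      (fun u u' y => hr y u u') (fun c u y => by simpa using hs c y u)
      (fun u y y' => hf.add_left y y' u) (fun c u y => by simpa using hf.smul_left c y u)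
  have h : CfsgLib.Classical.Herm.IsHerm B :=
    { invol := ⟨fun e => hf.ne_refl (RingEquiv.ext fun x => RingHom.congr_fun e x), hf.involutive⟩
      symm := fun x y => (hf.herm x y).symm
      nondeg := fun x hx => by
        by_contra h0
        obtain ⟨y, hy⟩ := (hf.nondegenerate x h0).1
        exact hy (hx y) }
  exact CfsgLib.Geo.UnitarySim.isMaximalIn_unitarySimilitude h (by simp; omega) (fun u y => rfl)

end Cfsg.Agent.S5643
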