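import Cfsg.Statements.S5673
import Cfsg.Agent.Lib.Geo.Asch.OrthMax

set_option autoImplicit false
open Cfsg

namespace Cfsg.Agent.S5673

/-- Subgroup structure of the odd-dimensional orthogonal groups. Let F be a finite field of odd order and m ≥ 3, let Q be the standard quadratic form x₀² + Σ x_i y_i on F^(2m+1), and let Ω be the commutator subgroup of its isometry group, viewed inside GL_(2m+1)(F). Let H be a subgroup of Ω whose product with the scalar matrices in Ω is not all of Ω. Then either H is contained in a member of one of the geometric classes of subgroups of the isometry group (with the conditions built into InOrthogonalOddClass), or H is in the residual class: modulo scalars it is almost simple, and the perfect preimage of its socle acts absolutely irreducibly, is realisable over no proper subfield, and fixes no non-degenerate unitary form. -/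
theorem result {F : Type*} [Field F] [Fintype F] (hodd : Odd (Fintype.card F)) (m : ℕ) (hm : 3 ≤ m) (H : Subgroup (Matrix.GeneralLinearGroup (Unit ⊕ (Fin m ⊕ Fin m)) F)) (hH : H ≤ Cfsg.Geo.omegaGL (Cfsg.quadFormOdd m F)) (hproper : H ⊔ (Cfsg.Geo.scalars (Unit ⊕ (Fin m ⊕ Fin m)) F ⊓ Cfsg.Geo.omegaGL (Cfsg.quadFormOdd m F)) ≠ Cfsg.Geo.omegaGL (Cfsg.quadFormOdd m F)) : (∃ M : Subgroup (Matrix.GeneralLinearGroup (Unit ⊕ (Fin m ⊕ Fin m)) F), Cfsg.Geo.InOrthogonalOddClass m F M ∧ H ≤ M) ∨ Cfsg.Geo.InOrthogonalResidualClass H := by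
  classical
  have h2 : (2 : F) ≠ 0 := CfsgLib.Geo.Asch.odd_card_iff'.1 hodd
  rw [← CfsgLib.Classical.Quad.coe_qOdd m F] at hH
  have hQ := CfsgLib.Classical.Quad.qOdd_nondeg (F := F) h2 m
  have hiso := CfsgLib.Geo.Asch.iso_of_le_omega hH
  have hI : H ≤ Cfsg.isometryGroup F (⇑(CfsgLib.Classical.Quad.qOdd m F)) :=
    hH.trans CfsgLib.Geo.Asch.omega_le_isometry
  have hcard : Fintype.card (Unit ⊕ (Fin m ⊕ Fin m)) = 2 * m + 1 := by simp; omega
  have hn : Odd (Fintype.card (Unit ⊕ (Fin m ⊕ Fin m))) := hcard ▸ odd_two_mul_add_one m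
  unfold Cfsg.Geo.InOrthogonalOddClass
  simp only
  rw [← CfsgLib.Classical.Quad.coe_qOdd m F]
  rcases CfsgLib.Geo.Asch.orth_host hQ (by omega) (fun _ => h2) (.inl hn) H hiso with
    ⟨W, h0, hts, hle⟩ | ⟨W, h0, h1, hnd, hle⟩ | ⟨h20, -⟩ | ⟨t, k, D, hD, hp, hle⟩ | ⟨k, D, hk, -⟩ |
    ⟨r, K, hr, hrn, hK, hcase, hle⟩ | ⟨n₁, n₂, e, P, X, Y, -, -, he₁, -, hn12, -⟩ |
    ⟨-, n₁, n₂, e, P, X, Y, h3, hn12, hprod, hXu, hYu, hX, hY, hG, hle⟩ | ⟨F₀, r, P, ζ, hr, hc, hζ, hrat, hle⟩ |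
    ⟨-, d, t, e, P, X, c, hd, hd3, ht, -, hex, hc, hXu, hX, hG, hle⟩ | ⟨h8, -⟩ | hres
  · exact .inl ⟨_, .inl ⟨W, h0, hts, rfl⟩, le_inf hle hI⟩
  · exact .inl ⟨_, .inr <| .inl ⟨W, h0, h1, hnd, rfl⟩, le_inf hle hI⟩
  · exact absurd h20 h2
  · rcases Nat.lt_or_ge 1 k with hk | hk
    · exact .inl ⟨_, .inr <| .inr <| .inl ⟨t, k, D, hk, hD, rfl⟩, le_inf hle hI⟩
    · obtain rfl : k = 1 := le_antisymm hk hD.decomp.decomp.pos
      exact .inl ⟨_, .inr <| .inr <| .inr <| .inl ⟨t, D, hp rfl, hD, rfl⟩, le_inf hle hI⟩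
  · rw [hcard] at hk; omega
  · rcases hcase with ⟨hsa, hne, -⟩ | ⟨rfl, -⟩
    · exact .inl ⟨_, .inr <| .inr <| .inr <| .inr <| .inl ⟨r, K, hr, fun h => hne (by omega), hK, hsa, rfl⟩,
        le_inf hle hI⟩
    · exact absurd (even_iff_two_dvd.2 hrn) (Nat.not_even_iff_odd.2 hn)
  · exact absurd (hn12 ▸ he₁.mul_right n₂) (Nat.not_even_iff_odd.2 hn)
  · rcases hn12.eq_or_lt with rfl | hlt
    · have hd : Odd n₁ := (Nat.odd_mul.1 (hprod ▸ hn : Odd (n₁ * n₁))).1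
      by_cases hex : Fintype.card F = 3 ∧ n₁ = 3
      · obtain ⟨hF, rfl⟩ := hex
        by_cases hirr : Cfsg.Geo.ActsIrreducibly (Cfsg.Geo.matrixSet H)
        · obtain ⟨D, hD, hleD⟩ :=
            CfsgLib.Geo.Asch.blocks_of_three hF h2 (by omega) hiso hle hG hXu hYu hX
          exact .inl ⟨_, .inr <| .inr <| .inl ⟨3, 3, D, by omega,
            CfsgLib.Geo.Asch.isometric_of_irreducible hiso hirr hD hleD, rfl⟩, le_inf hleD hI⟩
        · rcases CfsgLib.Geo.Asch.reducible_host h2 hiso hirr with ⟨W, h0, hts, hleW⟩ | ⟨W, h0, h1, hnd, hleW⟩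
          · exact .inl ⟨_, .inl ⟨W, h0, hts, rfl⟩, le_inf hleW hI⟩
          · exact .inl ⟨_, .inr <| .inl ⟨W, h0, h1, hnd, rfl⟩, le_inf hleW hI⟩
      · obtain ⟨P₁, c, hc, hG₁, hle₁⟩ := CfsgLib.Geo.Asch.square_of_tensor h2 hd hXu hYu hX hY hG hle
        exact .inl ⟨_, .inr <| .inr <| .inr <| .inr <| .inr <| .inr <| .inr ⟨n₁, 2, _, P₁, _, h3, le_rfl, hex,
          CfsgLib.Geo.Asch.isSymmetricForm_formOfGram hXu hX,
          CfsgLib.Geo.Asch.tensorPowerFormStructure_of_orGram hc hG₁, rfl⟩, le_inf hle₁ hI⟩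
    · exact .inl ⟨_, .inr <| .inr <| .inr <| .inr <| .inr <| .inl ⟨n₁, n₂, e, P, _, _, h3, hlt,
        CfsgLib.Geo.Asch.isSymmetricForm_formOfGram hXu hX, CfsgLib.Geo.Asch.isSymmetricForm_formOfGram hYu hY,
        CfsgLib.Geo.Asch.tensorFormStructure_of_orGram hG, rfl⟩, le_inf hle hI⟩
  · obtain ⟨P', hrat', he⟩ := CfsgLib.Geo.Asch.rational_qOdd h2 m hζ hrat
    exact .inl ⟨_, .inr <| .inr <| .inr <| .inr <| .inr <| .inr <| .inl ⟨F₀, r, P', hr, hc, hrat', rfl⟩,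
      le_inf (he.symm ▸ hle) hI⟩
  · exact .inl ⟨_, .inr <| .inr <| .inr <| .inr <| .inr <| .inr <| .inr ⟨d, t, e, P, _, hd3, ht, hex,
      CfsgLib.Geo.Asch.isSymmetricForm_formOfGram hXu hX,
      CfsgLib.Geo.Asch.tensorPowerFormStructure_of_orGram hc hG, rfl⟩, le_inf hle hI⟩
  · omega
  · exact .inr hres

end Cfsg.Agent.S5673
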