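import Cfsg.Statements.S5674
import Cfsg.Agent.Lib.Geo.OrthSingular
import Cfsg.Agent.Lib.Classical.Quad.NegOne

set_option autoImplicit false
open Cfsg

namespace Cfsg.Agent.S5674

/-- Let F be a finite field of odd order, m ≥ 6, Q the standard quadratic form x₀² + Σ x_i y_i on F^(2m+1) and Ω the commutator subgroup of its isometry group inside GL_(2m+1)(F). The elements of Ω stabilising a non-zero subspace on which Q vanishes form a maximal subgroup of Ω. -/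
theorem result {F : Type*} [Field F] [Fintype F] (hodd : Odd (Fintype.card F)) (m : ℕ) (hm : 6 ≤ m) (W : Submodule F (Unit ⊕ (Fin m ⊕ Fin m) → F)) (hW0 : W ≠ ⊥) (hW : Cfsg.Geo.IsTotallySingularQuad (Cfsg.quadFormOdd m F) W) : Cfsg.Geo.IsMaximalIn (Cfsg.Geo.omegaGL (Cfsg.quadFormOdd m F)) (Cfsg.Geo.subspaceStabilizer W ⊓ Cfsg.Geo.omegaGL (Cfsg.quadFormOdd m F)) := by
  obtain ⟨Q, hQf, hQ, h2⟩ : ∃ Q : QuadraticForm F (Unit ⊕ (Fin m ⊕ Fin m) → F),
      ⇑Q = Cfsg.quadFormOdd m F ∧ (QuadraticMap.polarBilin Q).Nondegenerate ∧ (2 : F) ≠ 0 :=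
    ⟨CfsgLib.Classical.Quad.qOdd m F, CfsgLib.Classical.Quad.coe_qOdd m F,
      CfsgLib.Classical.Quad.qOdd_nondeg (CfsgLib.Classical.Quad.two_ne_zero_of_odd rfl hodd) m,
      CfsgLib.Classical.Quad.two_ne_zero_of_odd rfl hodd⟩
  rw [← hQf] at hW ⊢
  have hn : Module.finrank F (Unit ⊕ (Fin m ⊕ Fin m) → F) = 2 * m + 1 := by
    simp [Module.finrank_pi]; omega
  refine CfsgLib.Geo.OrthMax.isMaximalIn_omega hQ (by simp; omega) W
    (CfsgLib.Geo.OrthMax.stab_singular_ne hQ (by omega) hW0 hW) fun K hK hKE =>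
      CfsgLib.Geo.OrthMax.le_of_stab_singular_lt hQ (by omega) hW (fun h => by omega) hK hKE

end Cfsg.Agent.S5674
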