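import Cfsg.Statements.S5675
import Cfsg.Agent.Lib.Geo.OrthNondeg
import Cfsg.Agent.Lib.Classical.Quad.NegOne

set_option autoImplicit false
open Cfsg

namespace Cfsg.Agent.S5675

/-- Let F be a finite field of odd order q, m ≥ 6, Q the standard quadratic form on F^(2m+1) and Ω the commutator subgroup of its isometry group. Let W be a non-zero subspace of even dimension on which the polar form of Q is non-degenerate; exclude the case q = 3, dim W = 2 with Q vanishing on some line of W (a plus-type plane). Then the elements of Ω stabilising W (equivalently, stabilising its orthogonal complement, of odd dimension) form a maximal subgroup of Ω. -/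
theorem result {F : Type*} [Field F] [Fintype F] (hodd : Odd (Fintype.card F)) (m : ℕ) (hm : 6 ≤ m) (W : Submodule F (Unit ⊕ (Fin m ⊕ Fin m) → F)) (hW0 : W ≠ ⊥) (hev : Even (Module.finrank F W)) (hW : Cfsg.Geo.IsNondegenerateOn (QuadraticMap.polar (Cfsg.quadFormOdd m F)) W) (hex : ¬ (Fintype.card F = 3 ∧ Module.finrank F W = 2 ∧ Cfsg.Geo.IsPlusTypeOn (Cfsg.quadFormOdd m F) W)) : Cfsg.Geo.IsMaximalIn (Cfsg.Geo.omegaGL (Cfsg.quadFormOdd m F)) (Cfsg.Geo.subspaceStabilizer W ⊓ Cfsg.Geo.omegaGL (Cfsg.quadFormOdd m F)) := by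
  obtain ⟨Q, hQf, hQ, h2⟩ : ∃ Q : QuadraticForm F (Unit ⊕ (Fin m ⊕ Fin m) → F),
      ⇑Q = Cfsg.quadFormOdd m F ∧ (QuadraticMap.polarBilin Q).Nondegenerate ∧ (2 : F) ≠ 0 :=
    ⟨CfsgLib.Classical.Quad.qOdd m F, CfsgLib.Classical.Quad.coe_qOdd m F,
      CfsgLib.Classical.Quad.qOdd_nondeg (CfsgLib.Classical.Quad.two_ne_zero_of_odd rfl hodd) m,
      CfsgLib.Classical.Quad.two_ne_zero_of_odd rfl hodd⟩
  rw [← hQf] at hW hex ⊢
  have hWn : CfsgLib.Geo.OrthMax.Nondeg Q W := fun x hx hy => by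
    by_contra h0
    obtain ⟨-, y, hy', hne⟩ := hW x hx h0
    exact hne (hy y hy')
  have hn : Module.finrank F (Unit ⊕ (Fin m ⊕ Fin m) → F) = 2 * m + 1 := by
    simp [Module.finrank_pi]; omega
  have hU := CfsgLib.Geo.OrthMax.finrank_perp hQ W
  have hle := Submodule.finrank_le W
  refine CfsgLib.Geo.OrthMax.isMaximalIn_nondeg hQ (by simp; omega) hWn hW0 ?_ ?_
    (fun h => by obtain ⟨r, hr⟩ := hev; rw [hU, hn] at h; omega) ?_
  · intro e
    rw [e, finrank_top, hn] at hev
    obtain ⟨r, hr⟩ := hev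
    omega
  · rintro h ⟨u, hu, hu0, hqu⟩
    rw [Nat.card_eq_fintype_card]
    by_contra h4
    refine hex ⟨?_, h, Submodule.span F {u}, by simpa using hu, ?_, ?_⟩
    · obtain ⟨r, hr⟩ := hodd
      have := Fintype.one_lt_card (α := F)
      omega
    · intro x hx
      obtain ⟨c, rfl⟩ := Submodule.mem_span_singleton.1 hx
      rw [CfsgLib.Classical.Quad.apply_smul, hqu, mul_zero]
    · rw [finrank_span_singleton hu0, h]
  · intro h
    simp at h
    omega

end Cfsg.Agent.S5675
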