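import Cfsg.Statements.S5677
import Cfsg.Agent.Lib.Geo.OrthBlockMax
import Cfsg.Agent.Lib.Classical.Quad.NegOne

set_option autoImplicit false
open Cfsg

namespace Cfsg.Agent.S5677

/-- Let F be a finite field of odd order q, m ≥ 6, Q the standard quadratic form on F^(2m+1) and Ω the commutator subgroup of its isometry group. Let D be a decomposition of F^(2m+1) into t ≥ 2 pairwise orthogonal, pairwise Q-isometric subspaces of equal dimension k > 1 on which the polar form is non-degenerate. Unless q = 3 and k = 3, the elements of Ω permuting the members of D form a maximal subgroup of Ω. -/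
theorem result {F : Type*} [Field F] [Fintype F] (hodd : Odd (Fintype.card F)) (m : ℕ) (hm : 6 ≤ m) {t : ℕ} (k : ℕ) (hk : 1 < k) (D : Fin t → Submodule F (Unit ⊕ (Fin m ⊕ Fin m) → F)) (hD : Cfsg.Geo.IsOrthogonalMDecomposition (Cfsg.quadFormOdd m F) k D) (hex : ¬ (Fintype.card F = 3 ∧ k = 3)) : Cfsg.Geo.IsMaximalIn (Cfsg.Geo.omegaGL (Cfsg.quadFormOdd m F)) (Cfsg.Geo.decompositionStabilizer D ⊓ Cfsg.Geo.omegaGL (Cfsg.quadFormOdd m F)) := by
  have h2 : (2 : F) ≠ 0 := CfsgLib.Classical.Quad.two_ne_zero_of_odd rfl hodd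
  obtain ⟨Q, hQf, hQ⟩ : ∃ Q : QuadraticForm F (Unit ⊕ (Fin m ⊕ Fin m) → F),
      ⇑Q = Cfsg.quadFormOdd m F ∧ (QuadraticMap.polarBilin Q).Nondegenerate :=
    ⟨CfsgLib.Classical.Quad.qOdd m F, CfsgLib.Classical.Quad.coe_qOdd m F,
      CfsgLib.Classical.Quad.qOdd_nondeg h2 m⟩
  rw [← hQf] at hD ⊢
  obtain ⟨b, -⟩ := CfsgLib.Geo.exists_adapted_basis hD.decomp.decomp
  have hcard := Module.finrank_eq_card_basis b
  rw [Module.finrank_fintype_fun_eq_card] at hcard
  simp only [Fintype.card_sum, Fintype.card_unit, Fintype.card_fin, Fintype.card_prod] at hcard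
  have hk3 : 3 ≤ k := by
    by_contra h
    have : k = 2 := by omega
    subst this
    omega
  refine CfsgLib.Geo.OrthBlock.isMaximalIn_omega hQ (by simp; omega) hD hk3 (fun h => ⟨h2, ?_⟩) ?_
  · rw [Nat.card_eq_fintype_card]
    have h1 : 1 < Fintype.card F := Fintype.one_lt_card
    obtain ⟨r, hr⟩ := hodd
    have : Fintype.card F ≠ 3 := fun h' => hex ⟨h', h⟩
    omega
  · intro h4 hF
    rw [Nat.card_eq_fintype_card] at hF
    rw [hF] at hodd
    exact absurd hodd (by decide)

end Cfsg.Agent.S5677
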