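import Cfsg.Statements.S5680
import Cfsg.Agent.Lib.Geo.OrthExt.Matrix
import Cfsg.Agent.Lib.Classical.Quad.NegOne
import Cfsg.Agent.Lib.Classical.Quad.StandardForms
import Cfsg.Agent.Lib.Geo.OrthMaximalBasic

set_option autoImplicit false
open Cfsg

namespace Cfsg.Agent.S5680

/-- Let F be a finite field of odd order, m ≥ 6, Q the standard quadratic form on F^(2m+1) and Ω the commutator subgroup of its isometry group. Let K be a subfield of the algebra of (2m+1) × (2m+1) matrices over F containing the scalars, of prime degree r over F with r ≠ 2m + 1, whose elements are self-adjoint for the polar form of Q. Then the elements of Ω normalising K form a maximal subgroup of Ω. -/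
theorem result {F : Type*} [Field F] [Fintype F] (hodd : Odd (Fintype.card F)) (m : ℕ) (hm : 6 ≤ m) (r : ℕ) (hr : r.Prime) (hrn : 2 * m + 1 ≠ r) (K : Subalgebra F (Matrix (Unit ⊕ (Fin m ⊕ Fin m)) (Unit ⊕ (Fin m ⊕ Fin m)) F)) (hK : Cfsg.Geo.IsFieldSubalgebra r K) (hsa : Cfsg.Geo.IsSelfAdjointFor (QuadraticMap.polar (Cfsg.quadFormOdd m F)) K) : Cfsg.Geo.IsMaximalIn (Cfsg.Geo.omegaGL (Cfsg.quadFormOdd m F)) (Cfsg.Geo.subalgebraNormalizer K ⊓ Cfsg.Geo.omegaGL (Cfsg.quadFormOdd m F)) := by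
  have h2 := CfsgLib.Classical.Quad.two_ne_zero_of_odd rfl hodd
  obtain ⟨Q, hQf, hQ⟩ : ∃ Q : QuadraticForm F (Unit ⊕ (Fin m ⊕ Fin m) → F),
      ⇑Q = Cfsg.quadFormOdd m F ∧ (QuadraticMap.polarBilin Q).Nondegenerate :=
    ⟨CfsgLib.Classical.Quad.qOdd m F, CfsgLib.Classical.Quad.coe_qOdd m F, CfsgLib.Classical.Quad.qOdd_nondeg h2 m⟩
  rw [← hQf] at hsa ⊢
  have hcard : Fintype.card (Unit ⊕ (Fin m ⊕ Fin m)) = 2 * m + 1 := by simp; omega
  refine CfsgLib.Geo.OrthExt.isMaximalIn_omega hQ h2 (by omega) hr ?_ K hK hsa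
  rw [hcard]
  haveI : Nontrivial K := ⟨⟨0, 1, zero_ne_one⟩⟩
  have hdvd : r ∣ 2 * m + 1 := by
    rw [← hcard, ← Module.finrank_pi F, ← hK.finrank_eq]
    exact CfsgLib.Geo.OrthExt.finrank_dvd K hK
  obtain ⟨c, hc⟩ := hdvd
  rcases le_or_gt 3 c with h | h
  · rw [hc, mul_comm 3 r]
    exact Nat.mul_le_mul_left r h
  · interval_cases c <;> omega

end Cfsg.Agent.S5680
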