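import Cfsg.Statements.S5684
import Cfsg.Agent.Lib.Geo.OrthWreath.Level
import Cfsg.Agent.Lib.Geo.OrthWreath.Glue
import Cfsg.Agent.Lib.Classical.Quad.StandardForms

set_option autoImplicit false
open Cfsg

namespace Cfsg.Agent.S5684

/-- Let F be a finite field of odd order q, m ≥ 6, Q the standard quadratic form on F^(2m+1) and Ω the commutator subgroup of its isometry group. Suppose the polar form of Q is similar, through a change of basis P and a bijection of index sets e, to the t-fold tensor power (t ≥ 2) of a non-degenerate symmetric bilinear form f₁ on F^k with k ≥ 3 and (q, k) ≠ (3, 3). Then the elements of Ω in the stabiliser of this decomposition form a maximal subgroup of Ω. -/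
theorem result {F : Type*} [Field F] [Fintype F] (hodd : Odd (Fintype.card F)) (m : ℕ) (hm : 6 ≤ m) (k t : ℕ) (hk : 3 ≤ k) (ht : 2 ≤ t) (hex : ¬ (Fintype.card F = 3 ∧ k = 3)) (e : (Unit ⊕ (Fin m ⊕ Fin m)) ≃ (Fin t → Fin k)) (P : Matrix.GeneralLinearGroup (Unit ⊕ (Fin m ⊕ Fin m)) F) (f₁ : (Fin k → F) → (Fin k → F) → F) (hf₁ : Cfsg.Geo.IsSymmetricForm f₁) (hT : Cfsg.Geo.IsTensorPowerFormStructure id (QuadraticMap.polar (Cfsg.quadFormOdd m F)) f₁ e P) : Cfsg.Geo.IsMaximalIn (Cfsg.Geo.omegaGL (Cfsg.quadFormOdd m F)) (Cfsg.Geo.tensorWreathSubgroup k t e P ⊓ Cfsg.Geo.omegaGL (Cfsg.quadFormOdd m F)) := by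
  classical
  obtain ⟨s, rfl⟩ : ∃ s, t = s + 1 := ⟨t - 1, by omega⟩
  have hcard : 2 * m + 1 = k ^ (s + 1) := by
    have := Fintype.card_congr e
    simp only [Fintype.card_sum, Fintype.card_unit, Fintype.card_fin, Fintype.card_fun] at this
    omega
  have hko : Odd k := by
    rcases Nat.even_or_odd k with h | h
    · exact absurd (hcard ▸ odd_two_mul_add_one m : Odd (k ^ (s + 1)))
        (Nat.not_odd_iff_even.2 (Nat.even_pow.2 ⟨h, by omega⟩))
    · exact h
  have h2 : (2 : F) ≠ 0 := CfsgLib.Classical.Quad.two_ne_zero_of_odd rfl hodd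
  let f : LinearMap.BilinForm F (Fin k → F) := LinearMap.mk₂ F f₁ hf₁.bilinear.add_left hf₁.bilinear.smul_left
    hf₁.bilinear.add_right hf₁.bilinear.smul_right
  have hf : CfsgLib.Geo.MixTensor.SymForm f := by
    refine ⟨h2, ?_, fun a b => hf₁.symm b a⟩
    constructor <;> intro x hx <;> by_contra h0
    · obtain ⟨y, hy⟩ := (hf₁.nondegenerate x h0).2
      exact hy (hx y)
    · obtain ⟨y, hy⟩ := (hf₁.nondegenerate x h0).1
      exact hy (hx y)
  rw [← CfsgLib.Classical.Quad.coe_qOdd m F] at hT ⊢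
  refine CfsgLib.Geo.OrthWreath.maximal_of_dichotomy hf (fun u v => rfl) e P hT
    (fun x hx => let ⟨π, us, h⟩ := hx.normal hf hk hko; ⟨π, fun l => (us l).1, h⟩) (CfsgLib.Geo.OrthWreath.exists_not_isStd hf hk (by omega))
    (CfsgLib.Geo.OrthWreath.dichotomy hf hk hko (fun h => ?_) s)
  obtain ⟨j, hj⟩ := hko
  have : k ≠ 3 := fun h3 => hex ⟨by rwa [Nat.card_eq_fintype_card] at h, h3⟩
  omega

end Cfsg.Agent.S5684
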