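import Cfsg.Statements.S5688
import Cfsg.Agent.Lib.Geo.OrthNondeg

set_option autoImplicit false
open Cfsg

namespace Cfsg.Agent.S5688

/-- Let F be a finite field with q elements, n ≥ 13 even, Q a non-degenerate quadratic form on F^n of plus type (some subspace of dimension n/2 is totally singular), and Ω the commutator subgroup of the isometry group of Q, viewed inside GL_n(F). Let W be a non-zero proper subspace with dim W ≠ n/2 on which the polar form of Q is non-degenerate. Exclude the case q ≤ 3 in which W, or its orthogonal complement, is a plane containing a line on which Q vanishes. Then the elements of Ω stabilising W form a maximal subgroup of Ω. -/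
theorem result {F : Type*} [Field F] [Fintype F] {n : ℕ} (hn : 13 ≤ n) (heven : Even n) (Q : (Fin n → F) → F) (hQ : Cfsg.Geo.IsNondegenerateQuadraticForm Q) (hplus : Cfsg.Geo.IsPlusTypeOn Q ⊤) (W : Submodule F (Fin n → F)) (hW0 : W ≠ ⊥) (hW1 : W ≠ ⊤) (hdim : 2 * Module.finrank F W ≠ n) (hW : Cfsg.Geo.IsNondegenerateOn (QuadraticMap.polar Q) W) (hex : ¬ (Fintype.card F ≤ 3 ∧ (∃ U : Submodule F (Fin n → F), Module.finrank F U = 2 ∧ Cfsg.Geo.IsNondegenerateOn (QuadraticMap.polar Q) U ∧ Cfsg.Geo.IsPlusTypeOn Q U ∧ (U = W ∨ (Cfsg.Geo.AreOrthogonalFor (QuadraticMap.polar Q) U W ∧ Module.finrank F U + Module.finrank F W = n))))) : Cfsg.Geo.IsMaximalIn (Cfsg.Geo.omegaGL Q) (Cfsg.Geo.subspaceStabilizer W ⊓ Cfsg.Geo.omegaGL Q) := by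
  obtain ⟨Q', rfl, hQ'⟩ := CfsgLib.Geo.OrthMax.exists_quadraticForm hQ
  have hWn : CfsgLib.Geo.OrthMax.Nondeg Q' W := fun x hx hy => by
    by_contra h0
    obtain ⟨-, y, hy', hne⟩ := hW x hx h0
    exact hne (hy y hy')
  have hn' : Module.finrank F (Fin n → F) = n := Module.finrank_fin_fun F
  have hU := CfsgLib.Geo.OrthMax.finrank_perp hQ' W
  have hle := Submodule.finrank_le W
  have plane : ∀ U : Submodule F (Fin n → F), Module.finrank F U = 2 →
      CfsgLib.Geo.OrthMax.Nondeg Q' U → (∃ u ∈ U, u ≠ 0 ∧ Q' u = 0) →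
      (U = W ∨ Cfsg.Geo.AreOrthogonalFor (QuadraticMap.polar ⇑Q') U W ∧
        Module.finrank F U + Module.finrank F W = n) → 4 ≤ Nat.card F := by
    rintro U h hUn ⟨u, hu, hu0, hqu⟩ hcase
    rw [Nat.card_eq_fintype_card]
    by_contra h4
    refine hex ⟨by omega, U, h, fun x hx hx0 => ?_, ⟨Submodule.span F {u}, by simpa using hu, ?_, ?_⟩, hcase⟩
    · obtain ⟨y, hy, hxy⟩ := hUn.exists_polar_one hx hx0
      exact ⟨⟨y, hy, by rw [QuadraticMap.polar_comm, hxy]; exact one_ne_zero⟩,
        ⟨y, hy, by rw [hxy]; exact one_ne_zero⟩⟩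
    · intro x hx
      obtain ⟨c, rfl⟩ := Submodule.mem_span_singleton.1 hx
      rw [CfsgLib.Classical.Quad.apply_smul, hqu, mul_zero]
    · rw [finrank_span_singleton hu0, h]
  refine CfsgLib.Geo.OrthMax.isMaximalIn_nondeg hQ' (by simp; omega) hWn hW0 hW1
    (fun h hu => plane W h hWn hu (Or.inl rfl))
    (fun h hu => plane _ h (hWn.perp hQ') hu (Or.inr ⟨fun x hx y hy =>
      CfsgLib.Geo.OrthMax.perp_left hx hy, by omega⟩)) ?_
  intro h
  rw [Fintype.card_fin] at h
  exact absurd h hdim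

end Cfsg.Agent.S5688
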