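import Cfsg.Statements.S5690
import Cfsg.Agent.Lib.Geo.OrthNotMaximal

set_option autoImplicit false
open Cfsg

namespace Cfsg.Agent.S5690

/-- Let F be a finite field with q elements, n ≥ 13 even, Q a non-degenerate quadratic form on F^n (of either type), and Ω the commutator subgroup of the isometry group of Q, viewed inside GL_n(F). Suppose q ≤ 3 and W is a plane on which the polar form is non-degenerate and which contains a line on which Q vanishes. Then the elements of Ω stabilising W form a subgroup that is not maximal: some subgroup lies strictly between it and Ω. -/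
theorem result {F : Type*} [Field F] [Fintype F] {n : ℕ} (hn : 13 ≤ n) (heven : Even n) (Q : (Fin n → F) → F) (hQ : Cfsg.Geo.IsNondegenerateQuadraticForm Q) (hq : Fintype.card F ≤ 3) (W : Submodule F (Fin n → F)) (hdim : Module.finrank F W = 2) (hW : Cfsg.Geo.IsNondegenerateOn (QuadraticMap.polar Q) W) (hWp : Cfsg.Geo.IsPlusTypeOn Q W) : ∃ K : Subgroup (Matrix.GeneralLinearGroup (Fin n) F), Cfsg.Geo.subspaceStabilizer W ⊓ Cfsg.Geo.omegaGL Q < K ∧ K < Cfsg.Geo.omegaGL Q := by
  obtain ⟨Q', rfl, hQ'⟩ := CfsgLib.Geo.OrthMax.exists_quadraticForm hQ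
  have hWn : CfsgLib.Geo.OrthMax.Nondeg Q' W := fun x hx hy => by
    by_contra h0
    obtain ⟨-, y, hy', hne⟩ := hW x hx h0
    exact hne (hy y hy')
  have hsq : ∀ a : F, a ≠ 0 → a * a = 1 := fun a ha => by
    have h := FiniteField.pow_card_sub_one_eq_one a ha
    rcases (show Fintype.card F = 2 ∨ Fintype.card F = 3 by
      have := Fintype.one_lt_card (α := F); omega) with hc | hc
    · rw [hc, pow_one] at h
      rw [h, mul_one]
    · rwa [hc, show 3 - 1 = 2 from rfl, sq] at h
  have hiso : ∃ u ∈ W, u ≠ 0 ∧ Q' u = 0 := by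
    obtain ⟨U, hUW, hU, hU2⟩ := hWp
    rw [hdim] at hU2
    obtain ⟨u, hu, hu0⟩ := Submodule.exists_mem_ne_zero_of_ne_bot (show U ≠ ⊥ from fun e => by
      rw [e, finrank_bot] at hU2
      omega)
    exact ⟨u, hUW hu, hu0, hU u hu⟩
  exact CfsgLib.Geo.OrthMax.exists_between_plane hQ' (by simp; omega) hsq hdim hWn hiso

end Cfsg.Agent.S5690
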