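import Cfsg.Statements.S5694
import Cfsg.Agent.Lib.Geo.OrthPlaneApply
import Cfsg.Agent.Lib.Classical.Quad.NegOne

set_option autoImplicit false
open Cfsg

namespace Cfsg.Agent.S5694

/-- Let F be a finite field with q elements, n ≥ 13 even, Q a non-degenerate quadratic form on F^n of minus type (no subspace of dimension n/2 is totally singular), and Ω the commutator subgroup of the isometry group of Q, viewed inside GL_n(F). Let D be a decomposition of F^n into t ≥ 2 pairwise orthogonal, pairwise Q-isometric subspaces of equal dimension k ≥ 2 on which the polar form is non-degenerate, such that: if k is odd, q is odd and the discriminant of Q is a square; if k is even, t is odd and no member is of plus type. Unless q = 3 and k ∈ {2, 3}, the elements of Ω permuting the members of D form a maximal subgroup of Ω. -/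
theorem result {F : Type*} [Field F] [Fintype F] {n : ℕ} (hn : 13 ≤ n) (heven : Even n) (Q : (Fin n → F) → F) (hQ : Cfsg.Geo.IsNondegenerateQuadraticForm Q) (hminus : ¬ Cfsg.Geo.IsPlusTypeOn Q ⊤) {t : ℕ} (k : ℕ) (hk : 2 ≤ k) (D : Fin t → Submodule F (Fin n → F)) (hD : Cfsg.Geo.IsOrthogonalMDecomposition Q k D) (hko : Odd k → (Odd (Fintype.card F) ∧ Cfsg.Geo.HasSquareDiscriminant Q)) (hke : Even k → (Odd t ∧ ∀ i, ¬ Cfsg.Geo.IsPlusTypeOn Q (D i))) (hex : ¬ (Fintype.card F = 3 ∧ (k = 2 ∨ k = 3))) : Cfsg.Geo.IsMaximalIn (Cfsg.Geo.omegaGL Q) (Cfsg.Geo.decompositionStabilizer D ⊓ Cfsg.Geo.omegaGL Q) := by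
  obtain ⟨Q', hQf, hQ'⟩ := CfsgLib.Geo.OrthMax.exists_quadraticForm hQ
  subst hQf
  rcases Nat.lt_or_ge k 3 with hk3 | hk3
  · obtain rfl : k = 2 := by omega
    refine CfsgLib.Geo.OrthPlane.isMaximalIn_omega hQ' (by simp; omega) hD ?_ fun hall => ?_
    · rw [Nat.card_eq_fintype_card]
      exact fun h => hex ⟨h, Or.inl rfl⟩
    · obtain ⟨⟨r, hr⟩, hno⟩ := hke even_two
      exact absurd (hall ⟨0, by omega⟩) (hno _)
  · refine CfsgLib.Geo.OrthBlock.isMaximalIn_omega hQ' (by simp; omega) hD hk3 (fun h => ?_) ?_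
    · subst h
      obtain ⟨ho, -⟩ := hko (by decide)
      refine ⟨CfsgLib.Classical.Quad.two_ne_zero_of_odd rfl ho, ?_⟩
      rw [Nat.card_eq_fintype_card]
      have h1 : 1 < Fintype.card F := Fintype.one_lt_card
      have a3 : Fintype.card F ≠ 3 := fun h => hex ⟨h, Or.inr rfl⟩
      obtain ⟨r, hr⟩ := ho
      omega
    · intro h4 hF p
      exact (hke ⟨2, h4⟩).2 p

end Cfsg.Agent.S5694
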