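import Cfsg.Statements.S5699
import Cfsg.Agent.Lib.Geo.OrthNondeg

set_option autoImplicit false
open Cfsg

namespace Cfsg.Agent.S5699

/-- Let F be a finite field with q elements, n ≥ 13 even, Q a non-degenerate quadratic form on F^n (of either type), and Ω the commutator subgroup of the isometry group of Q, viewed inside GL_n(F). Let D be a decomposition of F^n into two orthogonal subspaces of odd dimension n/2 on which the polar form is non-degenerate and which are not Q-isometric to each other. Then the elements of Ω permuting (necessarily fixing) the two subspaces form a maximal subgroup of Ω. -/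
theorem result {F : Type*} [Field F] [Fintype F] {n : ℕ} (hn : 13 ≤ n) (heven : Even n) (Q : (Fin n → F) → F) (hQ : Cfsg.Geo.IsNondegenerateQuadraticForm Q) (k : ℕ) (hk : 2 * k = n) (hko : Odd k) (D : Fin 2 → Submodule F (Fin n → F)) (hD : Cfsg.Geo.IsNondegenerateMDecomposition (QuadraticMap.polar Q) k D) (hni : ¬ Cfsg.Geo.AreIsometricFor Q (D 0) (D 1)) : Cfsg.Geo.IsMaximalIn (Cfsg.Geo.omegaGL Q) (Cfsg.Geo.decompositionStabilizer D ⊓ Cfsg.Geo.omegaGL Q) := by
  obtain ⟨Q', rfl, hQ'⟩ := CfsgLib.Geo.OrthMax.exists_quadraticForm hQ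
  have hn' : Module.finrank F (Fin n → F) = n := Module.finrank_fin_fun F
  have hnd : CfsgLib.Geo.OrthMax.Nondeg Q' (D 0) := fun x hx hy => by
    by_contra h0
    obtain ⟨-, y, hy', hne⟩ := hD.nondegenerate 0 x hx h0
    exact hne (hy y hy')
  have hd := hD.decomp.finrank_eq
  have hperp : CfsgLib.Geo.OrthMax.perp Q' (D 0) = D 1 := by
    refine (Submodule.eq_of_le_of_finrank_le (fun x hx => CfsgLib.Geo.OrthMax.mem_perp.2 fun w hw => ?_) ?_).symm
    · exact hD.orthogonal 0 1 (by decide) w hw x hx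
    · rw [CfsgLib.Geo.OrthMax.finrank_perp hQ', hd, hd, hn']; omega
  have h0 : D 0 ≠ ⊥ := fun h => by
    have := hd 0
    rw [h, finrank_bot] at this
    omega
  have h1 : D 0 ≠ ⊤ := fun h => by
    have := hd 0
    rw [h, finrank_top, hn'] at this
    omega
  have key : Cfsg.Geo.decompositionStabilizer D ⊓ Cfsg.Geo.omegaGL (⇑Q') =
      Cfsg.Geo.subspaceStabilizer (D 0) ⊓ Cfsg.Geo.omegaGL (⇑Q') := by
    ext g
    constructor
    · rintro ⟨⟨σ, hσ⟩, hg⟩
      refine ⟨?_, hg⟩
      obtain ⟨g', -, rfl⟩ := id hg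
      have hinj : Function.Injective (Matrix.toLin' ((g' : Matrix.GeneralLinearGroup (Fin n) F) :
          Matrix (Fin n) (Fin n) F)) := fun a b hab => by
        have := congrArg (((g' : Matrix.GeneralLinearGroup (Fin n) F)⁻¹ : Matrix.GeneralLinearGroup (Fin n) F) :
          Matrix (Fin n) (Fin n) F).mulVec hab
        simpa [Matrix.mulVec_mulVec] using this
      have hfix : σ 0 = 0 := by
        by_contra hne
        have h01 : σ 0 = 1 := by omega
        refine hni ⟨(Submodule.equivMapOfInjective _ hinj (D 0)).trans (LinearEquiv.ofEq _ _ ((hσ 0).trans (by rw [h01]))),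
          fun w => ?_⟩
        show Q' (Matrix.toLin' _ (w : Fin n → F)) = _
        rw [Matrix.toLin'_apply]
        exact g'.2 (w : Fin n → F) (w : Fin n → F)
      intro v
      constructor
      · intro hv
        exact (hσ 0).trans (by rw [hfix]) ▸ Submodule.mem_map_of_mem (f := Matrix.toLin' _) hv
      · intro hv
        obtain ⟨w, hw, hwv⟩ := ((hσ 0).trans (congrArg D hfix)).ge hv
        exact hinj (a₁ := w) (a₂ := v) (hwv.trans (Matrix.toLin'_apply _ _).symm) ▸ hw
    · rintro ⟨hs, hg⟩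
      refine ⟨⟨1, fun i => ?_⟩, hg⟩
      obtain ⟨g', -, rfl⟩ := id hg
      have hmap0 : ∀ v ∈ D 0, ((g' : Matrix.GeneralLinearGroup (Fin n) F) : Matrix (Fin n) (Fin n) F).mulVec v ∈ D 0 :=
        fun v hv => (hs v).1 hv
      have hpol : ∀ a b : Fin n → F, QuadraticMap.polar ⇑Q'
          (((g' : Matrix.GeneralLinearGroup (Fin n) F) : Matrix (Fin n) (Fin n) F).mulVec a)
          (((g' : Matrix.GeneralLinearGroup (Fin n) F) : Matrix (Fin n) (Fin n) F).mulVec b) =
          QuadraticMap.polar ⇑Q' a b := fun a b => by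
        have hQg : ∀ v : Fin n → F, Q' (((g' : Matrix.GeneralLinearGroup (Fin n) F) : Matrix (Fin n) (Fin n) F).mulVec v) = Q' v :=
          fun v => g'.2 v v
        simp only [QuadraticMap.polar, ← Matrix.mulVec_add, hQg]
      have hinv : ∀ a, ∃ b, ((g' : Matrix.GeneralLinearGroup (Fin n) F) : Matrix (Fin n) (Fin n) F).mulVec b = a :=
        fun a => ⟨(((g' : Matrix.GeneralLinearGroup (Fin n) F)⁻¹ : Matrix.GeneralLinearGroup (Fin n) F) :
          Matrix (Fin n) (Fin n) F).mulVec a, by simp [Matrix.mulVec_mulVec]⟩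
      have hmap1 : ∀ v ∈ D 1, ((g' : Matrix.GeneralLinearGroup (Fin n) F) : Matrix (Fin n) (Fin n) F).mulVec v ∈ D 1 := by
        intro v hv
        rw [← hperp] at hv ⊢
        refine CfsgLib.Geo.OrthMax.mem_perp.2 fun w hw => ?_
        obtain ⟨b, rfl⟩ := hinv w
        rw [hpol]
        exact CfsgLib.Geo.OrthMax.mem_perp.1 hv b ((hs b).2 hw)
      have hle : (D i).map (Matrix.toLin' ((g' : Matrix.GeneralLinearGroup (Fin n) F) :
          Matrix (Fin n) (Fin n) F)) ≤ D i := by
        rintro _ ⟨v, hv, rfl⟩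
        rw [Matrix.toLin'_apply]
        fin_cases i
        · exact hmap0 v hv
        · exact hmap1 v hv
      rw [Equiv.Perm.one_apply]
      refine Submodule.eq_of_le_of_finrank_eq hle (Submodule.equivMapOfInjective _ ?_ (D i)).finrank_eq.symm
      intro a b hab
      have := congrArg (((g' : Matrix.GeneralLinearGroup (Fin n) F)⁻¹ : Matrix.GeneralLinearGroup (Fin n) F) :
          Matrix (Fin n) (Fin n) F).mulVec hab
      simpa [Matrix.mulVec_mulVec] using this
  rw [key]
  refine CfsgLib.Geo.OrthMax.isMaximalIn_nondeg hQ' (by simp; omega) hnd h0 h1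
    (fun h _ => by rw [hd] at h; omega) (fun h _ => by rw [hperp, hd] at h; omega) (fun _ g hg => hni ?_)
  rw [hperp] at hg
  let e : (D 1) ≃ₗ[F] (D 0) :=
    (Submodule.equivMapOfInjective _ (g : (Fin n → F) ≃ₗ[F] (Fin n → F)).injective (D 1)).trans
      (LinearEquiv.ofEq _ _ hg)
  refine ⟨e.symm, fun w => ?_⟩
  obtain ⟨v, rfl⟩ := e.surjective w
  rw [LinearEquiv.symm_apply_apply]
  exact (CfsgLib.Classical.Quad.mem_OQ.1 g.2 (v : Fin n → F)).symm

end Cfsg.Agent.S5699
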