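import Cfsg.Statements.S5708
import Cfsg.Agent.Lib.Geo.OrthWreath.Even.Final
import Cfsg.Agent.Lib.Geo.OrthWreath.Four.Plane
import Cfsg.Agent.Lib.Geo.OrthWreath.Glue
import Cfsg.Agent.Lib.Geo.OrthTensorFour.Final
import Cfsg.Agent.Lib.Classical.Quad.StandardForms
import Cfsg.Agent.Lib.Geo.OrthMaximalBasic

set_option autoImplicit false
open Cfsg

namespace Cfsg.Agent.S5708

/-- Let F be a finite field with q elements, n ≥ 13 even, Q a non-degenerate quadratic form on F^n of plus type (some subspace of dimension n/2 is totally singular), and Ω the commutator subgroup of the isometry group of Q, viewed inside GL_n(F). Suppose q is odd and that, through a change of basis P and a bijection of index sets e, the polar form of Q is similar to the t-fold tensor power (t ≥ 2) of a non-degenerate symmetric bilinear form f₁ on F^k with k even, where either k ≥ 6 and f₁ has a totally isotropic subspace of dimension k/2 (plus type), or k ≥ 4 and it has none (minus type). Then the elements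 of Ω in the stabiliser of this decomposition form a maximal subgroup of Ω. -/
theorem result {F : Type*} [Field F] [Fintype F] {n : ℕ} (hn : 13 ≤ n) (heven : Even n) (Q : (Fin n → F) → F) (hQ : Cfsg.Geo.IsNondegenerateQuadraticForm Q) (hplus : Cfsg.Geo.IsPlusTypeOn Q ⊤) (hodd : Odd (Fintype.card F)) (k t : ℕ) (ht : 2 ≤ t) (hke : Even k) (e : (Fin n) ≃ (Fin t → Fin k)) (P : Matrix.GeneralLinearGroup (Fin n) F) (f₁ : (Fin k → F) → (Fin k → F) → F) (hf₁ : Cfsg.Geo.IsSymmetricForm f₁) (hsize : (6 ≤ k ∧ Cfsg.Geo.IsPlusTypeOn (fun v : Fin k → F => f₁ v v) ⊤) ∨ (4 ≤ k ∧ ¬ Cfsg.Geo.IsPlusTypeOn (fun v : Fin k → F => f₁ v v) ⊤)) (hT : Cfsg.Geo.IsTensorPowerFormStructure id (QuadraticMap.polar Q) f₁ e P) : Cfsg.Geo.IsMaximalIn (Cfsg.Geo.omegaGL Q) (Cfsg.Geo.tensorWreathSubgroup k t e P ⊓ Cfsg.Geo.omegaGL Q) := by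
  classical
  obtain ⟨s, rfl⟩ : ∃ s, t = s + 1 := ⟨t - 1, by omega⟩
  have h2 : (2 : F) ≠ 0 := CfsgLib.Classical.Quad.two_ne_zero_of_odd rfl hodd
  let f : LinearMap.BilinForm F (Fin k → F) := LinearMap.mk₂ F f₁ hf₁.bilinear.add_left hf₁.bilinear.smul_left
    hf₁.bilinear.add_right hf₁.bilinear.smul_right
  have hf : CfsgLib.Geo.MixTensor.SymForm f := by
    refine ⟨h2, ?_, fun a b => hf₁.symm b a⟩
    constructor <;> intro x hx <;> by_contra h0
    · obtain ⟨y, hy⟩ := (hf₁.nondegenerate x h0).2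
      exact hy (hx y)
    · obtain ⟨y, hy⟩ := (hf₁.nondegenerate x h0).1
      exact hy (hx y)
  have hk : 4 ≤ k := by rcases hsize with h | h <;> omega
  have thin : k = 4 → CfsgLib.Geo.OrthTensorFour.Thin f := by
    intro h4
    subst h4
    rcases hsize with h | h
    · omega
    · exact CfsgLib.Geo.OrthTensorFour.thin_of_minus hf (fun u v => rfl) h.2
  obtain ⟨Q', rfl, -⟩ := CfsgLib.Geo.OrthMax.exists_quadraticForm hQ
  refine CfsgLib.Geo.OrthWreath.maximal_of_dichotomy hf (fun u v => rfl) e P hT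
    (fun x hx => ?_) (CfsgLib.Geo.OrthWreath.exists_not_isStd hf (by omega) (by omega))
    (CfsgLib.Geo.OrthWreath.dichotomy_even hf hk hke thin (fun _ _ _ C => C.plane_std) s)
  obtain ⟨π, gs, m, e', -, -, -⟩ := hx.acts hf (by omega)
  exact ⟨π, gs, e'⟩

end Cfsg.Agent.S5708
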