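import Cfsg.Statements.S5727
import Cfsg.Agent.Lib.Geo.Transitive

set_option autoImplicit false
open Cfsg

namespace Cfsg.Agent.S5727

/-- If a finite group acts faithfully and transitively on a set with m·p elements, where p is a prime and 1 ≤ m ≤ p, then some element of order p fixes no point. -/
theorem result {G Ω : Type*} [Group G] [Finite G] [MulAction G Ω] [FaithfulSMul G Ω] [Fintype Ω] (htr : MulAction.IsPretransitive G Ω)
    (p m : ℕ) (hp : p.Prime) (hm : 1 ≤ m) (hmp : m ≤ p) (hΩ : Fintype.card Ω = m * p) :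
    ∃ g : G, orderOf g = p ∧ ∀ ω : Ω, g • ω ≠ ω := by
  haveI := Fact.mk hp
  haveI := htr
  classical
  rcases hmp.eq_or_lt with rfl | hlt
  · exact CfsgLib.Geo.exists_derangement_orderOf_eq (k := 2) (by norm_num) (by rw [Nat.card_eq_fintype_card, hΩ, sq])
  obtain ⟨P⟩ : Nonempty (Sylow p G) := inferInstance
  have := Fintype.ofFinite G
  have hN : 0 < m * p := Nat.mul_pos hm hp.pos
  have horb : ∀ a : Ω, Nat.card (MulAction.orbit (P : Subgroup G) a) = p := by
    intro a
    have hd := CfsgLib.Geo.sylow_orbit_dvd (k := 1) P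
      (by rw [pow_one, Nat.card_eq_fintype_card, hΩ]; exact dvd_mul_left p m) a
    rw [pow_one] at hd
    obtain ⟨j, hj⟩ := P.isPGroup'.card_orbit a
    have hle : Nat.card (MulAction.orbit (P : Subgroup G) a) < p ^ 2 := by
      refine lt_of_le_of_lt (Nat.card_le_card_of_injective _ Subtype.val_injective) ?_
      rw [Nat.card_eq_fintype_card, hΩ, sq]
      exact Nat.mul_lt_mul_of_pos_right hlt hp.pos
    rw [hj] at hd hle ⊢
    have h1 : j < 2 := (Nat.pow_lt_pow_iff_right hp.one_lt).1 hle
    interval_cases j
    · simp at hd; exact absurd hd hp.one_lt.ne'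
    · simp
  have hidx : ∀ a : Ω, (MulAction.stabilizer (P : Subgroup G) a).index = p := fun a => by
    rw [MulAction.index_stabilizer, ← Nat.card_coe_set_eq, horb]
  have hnor : ∀ a : Ω, (MulAction.stabilizer (P : Subgroup G) a).Normal := fun a => by
    refine Subgroup.normal_of_index_eq_minFac_card ?_
    obtain ⟨e, he⟩ := IsPGroup.iff_card.1 P.isPGroup'
    have he0 : e ≠ 0 := by
      rintro rfl
      have := Subgroup.index_dvd_card (MulAction.stabilizer (P : Subgroup G) a)
      rw [hidx, he, pow_zero] at this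
      exact hp.one_lt.ne' (Nat.dvd_one.1 this)
    rw [hidx, he, Nat.pow_minFac he0, hp.minFac_eq]
  -- an element fixing a point fixes its whole orbit
  have hfix : ∀ (g : (P : Subgroup G)) (a : Ω), g • a = a →
      p ≤ (Finset.univ.filter fun b : Ω => g • b = b).card := by
    intro g a hga
    refine le_trans (le_of_eq (horb a).symm) ?_
    rw [Nat.card_coe_set_eq, Set.ncard_eq_toFinset_card']
    refine Finset.card_le_card fun b hb => ?_
    rw [Set.mem_toFinset] at hb
    obtain ⟨h, rfl⟩ := hb
    refine Finset.mem_filter.2 ⟨Finset.mem_univ _, ?_⟩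
    have h' : h⁻¹ * g * h⁻¹⁻¹ ∈ MulAction.stabilizer (P : Subgroup G) a := (hnor a).conj_mem g hga h⁻¹
    rw [inv_inv, MulAction.mem_stabilizer_iff, mul_smul, mul_smul, inv_smul_eq_iff] at h'
    exact h'
  have hex : ∃ g : (P : Subgroup G), ∀ a : Ω, g • a ≠ a := by
    by_contra! hall
    have key : ∑ g : (P : Subgroup G), (Finset.univ.filter fun b : Ω => g • b = b).card
        = ∑ a : Ω, Nat.card (MulAction.stabilizer (P : Subgroup G) a) := by
      simp only [Finset.card_filter]
      rw [Finset.sum_comm]
      refine Finset.sum_congr rfl fun a _ => ?_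
      rw [← Finset.card_filter]
      exact (Nat.subtype_card (p := fun g => g ∈ MulAction.stabilizer (P : Subgroup G) a) _
        (fun g => by simp [MulAction.mem_stabilizer_iff])).symm
    have hone : (Finset.univ.filter fun b : Ω => (1 : (P : Subgroup G)) • b = b).card = m * p := by
      simp [hΩ]
    have hlow : (Fintype.card (P : Subgroup G) - 1) * p + m * p ≤
        ∑ g : (P : Subgroup G), (Finset.univ.filter fun b : Ω => g • b = b).card := by
      rw [← Finset.add_sum_erase _ _ (Finset.mem_univ 1), hone, add_comm]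
      refine add_le_add le_rfl ?_
      refine le_trans (le_of_eq ?_) (Finset.card_nsmul_le_sum _ _ p fun g hg => ?_)
      · rw [Finset.card_erase_of_mem (Finset.mem_univ _), Finset.card_univ, smul_eq_mul]
      · obtain ⟨a, ha⟩ := hall g
        exact hfix g a ha
    rw [key] at hlow
    have hup : ∀ a : Ω, p * Nat.card (MulAction.stabilizer (P : Subgroup G) a) = Fintype.card (P : Subgroup G) := by
      intro a
      have h0 := Subgroup.index_mul_card (MulAction.stabilizer (P : Subgroup G) a)
      rw [hidx a] at h0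
      rw [h0, Nat.card_eq_fintype_card]
    have hsum : p * ∑ a : Ω, Nat.card (MulAction.stabilizer (P : Subgroup G) a)
        = m * p * Fintype.card (P : Subgroup G) := by
      rw [Finset.mul_sum, Finset.sum_congr rfl (fun a _ => hup a), Finset.sum_const, Finset.card_univ, hΩ,
        smul_eq_mul]
    have hpos : 1 ≤ Fintype.card (P : Subgroup G) := Fintype.card_pos
    obtain ⟨c, hc⟩ := Nat.exists_eq_add_of_le hpos
    rw [hc, Nat.add_sub_cancel_left] at hlow
    rw [hc] at hsum
    have h3 : p * (c * p + m * p) ≤ m * p * (1 + c) := hsum ▸ Nat.mul_le_mul_left p hlow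
    nlinarith [Nat.mul_le_mul_left (c * p) hlt, Nat.mul_lt_mul_of_pos_left hp.one_lt hN]
  obtain ⟨g, hg⟩ := hex
  refine ⟨(g : G), orderOf_eq_prime ?_ ?_, fun ω => hg ω⟩
  · refine FaithfulSMul.eq_of_smul_eq_smul (α := Ω) fun a => ?_
    haveI := hnor a
    have : g ^ p ∈ MulAction.stabilizer (P : Subgroup G) a := by
      have h0 := Subgroup.pow_index_mem (MulAction.stabilizer (P : Subgroup G) a) g
      rwa [hidx a] at h0
    rw [one_smul]
    exact this
  · intro h
    obtain ⟨a⟩ : Nonempty Ω := Fintype.card_pos_iff.1 (hΩ ▸ hN)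
    exact hg a (show (g : G) • a = a by rw [h, one_smul])

end Cfsg.Agent.S5727
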