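import Cfsg.Statements.S5728


set_option autoImplicit false
open Cfsg

namespace Cfsg.Agent.S5728

/-- An elusive transitive action. Let p = 2^s − 1 be a prime and let F be the field with p² elements. Inside the group of affine maps x ↦ a·x + b of F (a ≠ 0), consider the subgroup of maps with both coefficients in the prime field. Then every element of prime order of the affine group is conjugate, within the affine group, to an element of that subgroup; equivalently, in the transitive action of the affine group on the cosets of that subgroup (of degree p(p + 1)) every element of prime order fixes a point. -/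
theorem result (p s : ℕ) [Fact p.Prime] (hs : p = 2 ^ s - 1)
    (g : Equiv.Perm (GaloisField p 2)) (hg : g ∈ Cfsg.affineGroup (GaloisField p 2)) (hord : (orderOf g).Prime) :
    ∃ x ∈ Cfsg.affineGroup (GaloisField p 2), ∃ a b : ZMod p, a ≠ 0 ∧
      ∀ y : GaloisField p 2, (x * g * x⁻¹) y = algebraMap (ZMod p) (GaloisField p 2) a * y + algebraMap (ZMod p) (GaloisField p 2) b := by
  classical
  obtain ⟨a, b, hab⟩ := hg
  haveI : Fintype (GaloisField p 2) := Fintype.ofFinite _
  set r := orderOf g with hr
  have hpow : ∀ (m : ℕ), ∃ t : (GaloisField p 2), ∀ y, (g ^ m) y = (a : (GaloisField p 2)) ^ m * y + t := by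
    intro m
    induction m with
    | zero => exact ⟨0, fun y => by simp⟩
    | succ m ih =>
      obtain ⟨t, ht⟩ := ih
      exact ⟨(a : (GaloisField p 2)) ^ m * b + t, fun y => by rw [pow_succ, Equiv.Perm.mul_apply, hab, ht]; ring⟩
  have har : (a : (GaloisField p 2)) ^ r = 1 := by
    obtain ⟨t, ht⟩ := hpow r
    have h0 := ht 0
    have h1 := ht 1
    simp only [hr, pow_orderOf_eq_one, Equiv.Perm.one_apply, mul_zero, zero_add, mul_one] at h0 h1
    rw [← h0, add_zero] at h1
    exact h1.symm
  have hcard : Fintype.card (GaloisField p 2) = p ^ 2 := by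
    rw [← Nat.card_eq_fintype_card]; exact GaloisField.card p 2 two_ne_zero
  have hp := (Fact.out : p.Prime)
  by_cases ha1 : (a : (GaloisField p 2)) = 1
  · -- translation
    have hb0 : b ≠ 0 := by
      intro hb
      apply hord.one_lt.ne'
      rw [hr, orderOf_eq_one_iff]
      ext y; simp [hab, ha1, hb]
    refine ⟨(Equiv.mulLeft₀ (b⁻¹) (inv_ne_zero hb0)), ⟨Units.mk0 b⁻¹ (inv_ne_zero hb0), 0, fun y => by simp⟩,
      1, 1, one_ne_zero, fun y => ?_⟩
    simp only [Equiv.Perm.coe_mul, Function.comp_apply, map_one, one_mul]
    rw [hab, ha1, one_mul, Equiv.Perm.inv_def]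
    have : (Equiv.mulLeft₀ b⁻¹ (inv_ne_zero hb0)).symm y = b * y := by
      rw [Equiv.symm_apply_eq]; simp [← mul_assoc, inv_mul_cancel₀ hb0]
    rw [this]
    simp [mul_add, ← mul_assoc, inv_mul_cancel₀ hb0]
  · have hrp : r ≠ p := by
      intro h
      apply ha1
      have : ((a : (GaloisField p 2)) - 1) ^ p = 0 := by
        rw [sub_pow_char, one_pow, ← (congrArg ((a : (GaloisField p 2)) ^ ·) h), har, sub_self]
      exact sub_eq_zero.1 (eq_zero_of_pow_eq_zero this)
    have horda : orderOf (a : (GaloisField p 2)) = r := orderOf_eq_prime (hp := ⟨hord⟩) har ha1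
    have hdvd : r ∣ (p - 1) * (p + 1) := by
      rw [← horda]
      refine orderOf_dvd_of_pow_eq_one ?_
      have h := FiniteField.pow_card_sub_one_eq_one (a : (GaloisField p 2)) a.ne_zero
      rw [hcard] at h
      rw [← h]; congr 1
      rw [mul_comm, ← Nat.sq_sub_sq, one_pow]
    have hmem : ∃ a' : ZMod p, algebraMap (ZMod p) (GaloisField p 2) a' = (a : (GaloisField p 2)) := by
      have hfix : (a : (GaloisField p 2)) ^ p = (a : (GaloisField p 2)) := by
        have h1 : r ∣ p - 1 := by
          rcases hord.dvd_mul.1 hdvd with h | h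
          · exact h
          · have hs2 : p + 1 = 2 ^ s := by
              rw [hs]; exact Nat.sub_add_cancel Nat.one_le_two_pow
            rw [hs2] at h
            have := (Nat.prime_dvd_prime_iff_eq hord Nat.prime_two).1 (hord.dvd_of_dvd_pow h)
            rw [this]
            rcases hp.eq_two_or_odd' with h2 | h2
            · exact absurd (this.trans h2.symm) hrp
            · obtain ⟨c, hc⟩ := h2; exact ⟨c, by omega⟩
        obtain ⟨c, hc⟩ := h1
        have hp1 : p = r * c + 1 := by have := hp.one_le; omega
        calc (a : GaloisField p 2) ^ p = (a : GaloisField p 2) ^ (r * c + 1) := congrArg _ hp1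
          _ = _ := by rw [pow_succ, pow_mul, har, one_pow, one_mul]
      have : (a : (GaloisField p 2)) ∈ (algebraMap (ZMod p) (GaloisField p 2)).fieldRange := by
        rw [Subsingleton.elim (algebraMap (ZMod p) (GaloisField p 2))
          (ZMod.castHom (m := p) dvd_rfl (GaloisField p 2)), ZMod.fieldRange_castHom_eq_bot,
          Subfield.mem_bot_iff_pow_eq_self (GaloisField p 2) p]
        exact hfix
      exact this
    obtain ⟨a', ha'⟩ := hmem
    have ha'0 : a' ≠ 0 := by
      rintro rfl
      exact a.ne_zero (by rw [← ha', map_zero])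
    refine ⟨Equiv.addRight (b / ((a : (GaloisField p 2)) - 1)), ⟨1, b / ((a : (GaloisField p 2)) - 1), fun y => by simp⟩, a', 0, ha'0, fun y => ?_⟩
    simp only [Equiv.Perm.coe_mul, Function.comp_apply, map_zero, add_zero, ha']
    rw [hab, Equiv.Perm.inv_def]
    have : (Equiv.addRight (b / ((a : (GaloisField p 2)) - 1))).symm y = y - b / ((a : (GaloisField p 2)) - 1) := by
      rw [Equiv.symm_apply_eq]; simp
    rw [this]
    have hne : (a : (GaloisField p 2)) - 1 ≠ 0 := sub_ne_zero.2 ha1
    simp only [Equiv.coe_addRight]
    field_simp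
    ring

end Cfsg.Agent.S5728
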