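import Cfsg.Statements.S5729


set_option autoImplicit false
open Cfsg

namespace Cfsg.Agent.S5729

/-- Let a finite group G act faithfully and transitively on a set with n ≥ 3 points. Then either G is a Frobenius permutation group (Frobenius as a permutation group: transitive, some non-identity element fixes a point, and no non-identity element fixes two points) of order n(n − 1) and exactly |G|/n of its elements are derangements (fix no point), or the number of derangements is greater than |G|/n. -/
theorem result {G Ω : Type*} [Group G] [Finite G] [MulAction G Ω] [FaithfulSMul G Ω] [Fintype Ω] (htr : MulAction.IsPretransitive G Ω) (hn : 3 ≤ Fintype.card Ω) :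
    ((MulAction.IsPretransitive G Ω ∧ (∃ g : G, g ≠ 1 ∧ ∃ ω : Ω, g • ω = ω) ∧ ∀ g : G, g ≠ 1 → Nat.card (MulAction.fixedBy Ω g) ≤ 1) ∧ Nat.card G = Fintype.card Ω * (Fintype.card Ω - 1) ∧ Fintype.card Ω * Nat.card {g : G // ∀ ω : Ω, g • ω ≠ ω} = Nat.card G) ∨
    Nat.card G < Fintype.card Ω * Nat.card {g : G // ∀ ω : Ω, g • ω ≠ ω} := by
  classical
  haveI := htr
  have := Fintype.ofFinite G
  have hf : ∀ g : G, Nat.card (MulAction.fixedBy Ω g) = Fintype.card (MulAction.fixedBy Ω g) :=
    fun g => Nat.card_eq_fintype_card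
  set f : G → ℕ := fun g => Fintype.card (MulAction.fixedBy Ω g) with hfdef
  set n := Fintype.card Ω with hn'
  have hdef : ∀ g : G, (∀ ω : Ω, g • ω ≠ ω) ↔ f g = 0 := fun g => by
    rw [hfdef]
    simp only [Fintype.card_eq_zero_iff, isEmpty_subtype, MulAction.mem_fixedBy]
  set D := (Finset.univ.filter fun g : G => f g = 0).card with hD
  have hcardD : Nat.card {g : G // ∀ ω : Ω, g • ω ≠ ω} = D :=
    Nat.subtype_card _ (fun g => by simp [hdef g])
  have hΩne : Nonempty Ω := Fintype.card_pos_iff.1 (by omega)
  obtain ⟨a₀⟩ := hΩne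
  -- first moment
  have hS1 : ∑ g : G, f g = Fintype.card G := by
    have := MulAction.sum_card_fixedBy_eq_card_orbits_mul_card_group G Ω
    rw [this]
    have : Fintype.card (MulAction.orbitRel.Quotient G Ω) = 1 := by
      rw [Fintype.card_eq_one_iff]
      refine ⟨Quotient.mk'' a₀, fun x => ?_⟩
      induction x using Quotient.inductionOn' with
      | h b => exact Quotient.sound' (MulAction.exists_smul_eq G a₀ b)
    rw [this, one_mul]
  -- second moment
  have hS2 : 2 * Fintype.card G ≤ ∑ g : G, f g * f g := by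
    have e : ∀ g : G, Fintype.card (MulAction.fixedBy (Ω × Ω) g) = f g * f g := fun g => by
      rw [hfdef]
      simp only [← Fintype.card_prod]
      refine Fintype.card_congr ⟨fun x => (⟨x.1.1, congrArg Prod.fst x.2⟩, ⟨x.1.2, congrArg Prod.snd x.2⟩),
        fun x => ⟨(x.1.1, x.2.1), Prod.ext x.1.2 x.2.2⟩, fun x => rfl, fun x => rfl⟩
    have := MulAction.sum_card_fixedBy_eq_card_orbits_mul_card_group G (Ω × Ω)
    simp only [e] at this
    rw [this]
    refine Nat.mul_le_mul_right _ (Fintype.one_lt_card_iff_nontrivial.2 ?_)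
    obtain ⟨b, hb⟩ := Fintype.exists_ne_of_one_lt_card (by omega : 1 < Fintype.card Ω) a₀
    refine ⟨Quotient.mk'' (a₀, a₀), Quotient.mk'' (a₀, b), fun h => ?_⟩
    obtain ⟨g, hg⟩ := Quotient.exact' h
    have h1 : g • a₀ = a₀ := congrArg Prod.fst hg
    have h2 : g • b = a₀ := congrArg Prod.snd hg
    exact hb (MulAction.injective g (h2.trans h1.symm))
  set S2 := ∑ g : G, f g * f g with hS2'
  have hle : ∀ g : G, f g ≤ n := fun g => Fintype.card_subtype_le _
  -- the pointwise identity f(f-1) ... written additively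
  let e : G → ℕ := fun g => (f g - 1) * (n - f g)
  have hpt : ∀ g : G, f g * f g + n = (n + 1) * f g + (if f g = 0 then n else 0) - e g ∧
      e g ≤ (n + 1) * f g + (if f g = 0 then n else 0) := fun g => by
    have := hle g
    simp only [e]
    by_cases h : f g = 0
    · simp [h]
    · rw [if_neg h]
      obtain ⟨c, hc⟩ := Nat.exists_eq_add_of_le (Nat.one_le_iff_ne_zero.2 h)
      obtain ⟨d, hd⟩ := Nat.exists_eq_add_of_le this
      rw [hd, hc, Nat.add_sub_cancel_left, Nat.add_sub_cancel_left]
      constructor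
      · refine Nat.eq_sub_of_add_eq ?_
        ring
      · nlinarith
  have hsum : S2 + n * Fintype.card G + ∑ g, e g = (n + 1) * Fintype.card G + n * D := by
    have h1 : ∑ g : G, (f g * f g + n + e g) = ∑ g : G, ((n + 1) * f g + (if f g = 0 then n else 0)) :=
      Finset.sum_congr rfl fun g _ => by rw [(hpt g).1, Nat.sub_add_cancel (hpt g).2]
    simp only [Finset.sum_add_distrib, ← Finset.mul_sum, hS1, Finset.sum_const, Finset.card_univ,
      smul_eq_mul, ← Finset.sum_filter] at h1
    rw [mul_comm n, h1, mul_comm n D, hD]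
  rw [hcardD]
  simp only [Nat.card_eq_fintype_card, hf]
  rcases lt_or_ge (Fintype.card G) (n * D) with h | h
  · exact Or.inr h
  left
  have he0 : ∑ g, e g = 0 := by
    generalize hE : ∑ g, e g = E at hsum ⊢
    nlinarith
  have hS2eq : S2 = 2 * Fintype.card G := by nlinarith
  have hDeq : n * D = Fintype.card G := by nlinarith
  have hcase : ∀ g : G, g ≠ 1 → f g ≤ 1 := by
    intro g hg
    have := (Finset.sum_eq_zero_iff.1 he0) g (Finset.mem_univ g)
    rcases mul_eq_zero.1 this with h' | h'
    · omega
    · exfalso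
      refine hg (FaithfulSMul.eq_of_smul_eq_smul (α := Ω) fun a => ?_)
      rw [one_smul]
      have hall : MulAction.fixedBy Ω g = Set.univ := by
        rw [← set_fintype_card_eq_univ_iff]
        have : Fintype.card (MulAction.fixedBy Ω g) = n := by have := hle g; show f g = n; omega
        exact this
      exact (hall.ge (Set.mem_univ a) : a ∈ MulAction.fixedBy Ω g)
  have hf1 : f 1 = n := by
    rw [hfdef, hn']
    refine Fintype.card_congr (Equiv.subtypeUnivEquiv fun x => ?_)
    exact MulAction.mem_fixedBy.2 (one_smul G x)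
  have hrest : ∀ g ∈ (Finset.univ : Finset G).erase 1, f g * f g = f g := fun g hg => by
    have := hcase g (Finset.ne_of_mem_erase hg)
    interval_cases (f g) <;> rfl
  have hG : Fintype.card G + n = n * n := by
    have a1 : f 1 + ∑ g ∈ Finset.univ.erase 1, f g = ∑ g, f g :=
      Finset.add_sum_erase Finset.univ f (Finset.mem_univ (1 : G))
    have a2 : f 1 * f 1 + ∑ g ∈ Finset.univ.erase 1, f g * f g = ∑ g, f g * f g :=
      Finset.add_sum_erase Finset.univ (fun g => f g * f g) (Finset.mem_univ (1 : G))
    have a3 : ∑ g ∈ Finset.univ.erase 1, f g * f g = ∑ g ∈ Finset.univ.erase 1, f g :=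
      Finset.sum_congr rfl hrest
    rw [a3, hf1] at a2
    rw [hS1, hf1] at a1
    simp only [← hS2', hS2eq] at a2
    omega
  have hG' : Fintype.card G = n * (n - 1) := by
    rw [Nat.mul_sub, mul_one]; omega
  refine ⟨⟨htr, ?_, hcase⟩, hG', hDeq⟩
  by_contra! hno
  have hreg : Fintype.card G = n := by
    rw [← hS1, ← Finset.add_sum_erase Finset.univ f (Finset.mem_univ (1 : G)), hf1,
      Finset.sum_eq_zero fun g hg => (hdef g).1 (hno g (Finset.ne_of_mem_erase hg)), add_zero]
  rw [hreg] at hG
  nlinarith

end Cfsg.Agent.S5729
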