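import Cfsg.Statements.S5732
import Cfsg.Agent.Lib.Perm.DerangeIndex.Affine

set_option autoImplicit false
open Cfsg

namespace Cfsg.Agent.S5732

/-- There is a bound N such that for every finite group G acting faithfully and transitively on a set with n ≥ N points, either G is primitive and a Frobenius permutation group (Frobenius as a permutation group: transitive, some non-identity element fixes a point, and no non-identity element fixes two points), or the subgroup generated by the derangements of G has index at most √n − 1 in G. -/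
theorem result : ∃ N : ℕ, ∀ (G Ω : Type*) [Group G] [Finite G] [MulAction G Ω] [FaithfulSMul G Ω] [Fintype Ω],
      MulAction.IsPretransitive G Ω → N ≤ Fintype.card Ω →
      (MulAction.IsPreprimitive G Ω ∧ (MulAction.IsPretransitive G Ω ∧ (∃ g : G, g ≠ 1 ∧ ∃ ω : Ω, g • ω = ω) ∧ ∀ g : G, g ≠ 1 → Nat.card (MulAction.fixedBy Ω g) ≤ 1)) ∨
      ((Subgroup.closure {g : G | ∀ ω : Ω, g • ω ≠ ω}).index : ℝ) ≤ Real.sqrt (Fintype.card Ω) - 1 := by
  refine ⟨14, fun G Ω _ _ _ _ _ htrans hN => ?_⟩
  haveI := htrans
  set S : Set G := {g : G | ∀ ω : Ω, g • ω ≠ ω} with hS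
  haveI hn : (Subgroup.closure S).Normal := Subgroup.Normal.mk fun x hx g => by
    induction hx using Subgroup.closure_induction with
    | mem y hy =>
      refine Subgroup.subset_closure fun ω => ?_
      intro h
      refine hy (g⁻¹ • ω) ?_
      rw [eq_inv_smul_iff, ← mul_smul, ← mul_smul]
      exact h
    | one => simp
    | mul a b _ _ ha hb =>
      rw [show g * (a * b) * g⁻¹ = g * a * g⁻¹ * (g * b * g⁻¹) by group]
      exact mul_mem ha hb
    | inv a _ ha =>
      rw [show g * a⁻¹ * g⁻¹ = (g * a * g⁻¹)⁻¹ by group]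
      exact inv_mem ha
  rw [← Nat.card_eq_fintype_card] at hN ⊢
  rcases CfsgLib.Perm.DerangeIndex.frobenius_or_sq_index_le hN (Subgroup.closure S)
    (fun g hg => Subgroup.subset_closure hg)
    (fun K hK => (Subgroup.closure_le _).2 fun g hg => hK g hg) with ⟨h1, h2, h3⟩ | h
  · exact Or.inl ⟨h1, htrans, h2, h3⟩
  · refine Or.inr ?_
    rw [le_sub_iff_add_le]
    refine Real.le_sqrt_of_sq_le ?_
    exact_mod_cast h

end Cfsg.Agent.S5732
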