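import Cfsg.Statements.S5735
import Cfsg.Agent.Lib.Perm.Binary.Main

set_option autoImplicit false
open Cfsg

namespace Cfsg.Agent.S5735

/-- Let G be a finite simple group with exactly one conjugacy class of involutions, and let H be a proper subgroup of even order. Then the action of G on the cosets of H is binary if and only if one of the following holds: G ≅ SL₂(2^a) with a ≥ 2 and H is a Sylow 2-subgroup; G is a Suzuki group Sz(2^(2a+1)) with a ≥ 1 and H is the centre of a Sylow 2-subgroup; G ≅ PSU₃(2^a) with a ≥ 2 and H is the centre of a Sylow 2-subgroup. Here an action is binary (relational complexity 2) when, for every n ≥ 2 and all n-tuples I, J of points, if for every pair of positions some group element carries the corresponding pair of entries of I to those of J, then a single group element carries I to J. -/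
theorem result {G : Type*} [Group G] [Finite G] [IsSimpleGroup G] (hinv : ∃ s : G, orderOf s = 2)
    (hone : ∀ s t : G, orderOf s = 2 → orderOf t = 2 → IsConj s t)
    (H : Subgroup G) (hH : H ≠ ⊤) (heven : Even (Nat.card H)) :
    (∀ (n : ℕ) (I J : Fin n → G ⧸ H), 2 ≤ n →
        (∀ i j : Fin n, i ≠ j → ∃ g : G, g • I i = J i ∧ g • I j = J j) → ∃ g : G, ∀ i, g • I i = J i) ↔
      (((∃ (F : Type) (_ : Field F) (_ : Fintype F) (a : ℕ), 2 ≤ a ∧ Fintype.card F = 2 ^ a ∧ Nonempty (G ≃* Matrix.SpecialLinearGroup (Fin 2) F)) ∧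
          ∃ P : Sylow 2 G, H = P) ∨
        (Cfsg.Lie.IsoSuzuki G ∧ ∃ P : Sylow 2 G, H = (Subgroup.center (P : Subgroup G)).map (P : Subgroup G).subtype) ∨
        ((∃ (F : Type) (_ : Field F) (_ : Fintype F) (a : ℕ), 2 ≤ a ∧ Fintype.card F = (2 ^ a) ^ 2 ∧ Nonempty (G ≃* Cfsg.PSU 3 F (2 ^ a))) ∧
          ∃ P : Sylow 2 G, H = (Subgroup.center (P : Subgroup G)).map (P : Subgroup G).subtype)) := by
  constructor
  · intro hB
    rcases CfsgLib.Perm.Binary.exists_family hone hH heven hB with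
      ⟨F, iF, iFt, hc, h4, ⟨e⟩⟩ | ⟨F, iF, iFt, q, hqe, hq4, hF, ⟨e⟩⟩ | hS
    · obtain ⟨n, -, hn⟩ := FiniteField.card F 2
      refine Or.inl ⟨⟨F, iF, iFt, n, ?_, hn, ⟨e⟩⟩, CfsgLib.Perm.Binary.sl_two_forward h4 e hH heven hB⟩
      by_contra h
      rw [hn] at h4
      have : (2 : ℕ) ^ (n : ℕ) ≤ 2 ^ 1 := Nat.pow_le_pow_right two_pos (by omega)
      omega
    · obtain ⟨p, f, hp, hc, hf⟩ := CfsgLib.Classical.Herm.exists_prime_pow_root hF
      have hp2 : p = 2 := ((Nat.prime_dvd_prime_iff_eq Nat.prime_two hp).1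
        (Nat.prime_two.dvd_of_dvd_pow (n := f) (hf ▸ even_iff_two_dvd.1 hqe))).symm
      subst hp2
      refine Or.inr (Or.inr ⟨⟨F, iF, iFt, f, ?_, hf ▸ hF, ⟨hf ▸ e⟩⟩,
        CfsgLib.Perm.Binary.psu_forward hqe hq4 hF e hone hH heven hB⟩)
      by_contra h
      have : (2 : ℕ) ^ f ≤ 2 ^ 1 := Nat.pow_le_pow_right two_pos (by omega)
      omega
    · exact Or.inr (Or.inl ⟨hS, CfsgLib.Perm.Binary.suzuki_forward hS hH heven hB⟩)
  · rintro (⟨⟨F, _, _, a, ha, hF, ⟨e⟩⟩, P, rfl⟩ | ⟨hS, P, rfl⟩ | ⟨⟨F, _, _, a, ha, hF, ⟨e⟩⟩, P, rfl⟩)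
    · exact CfsgLib.Perm.Binary.sl_two_backward ha hF e P hH
    · exact CfsgLib.Perm.Binary.suzuki_backward hS P hH
    · exact (CfsgLib.Perm.Binary.bin_center_psu ha hF e P).1

end Cfsg.Agent.S5735
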