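import Cfsg.Statements.S5747


set_option autoImplicit false
open Cfsg

namespace Cfsg.Agent.S5747

/-- An irredundant base. -/
def IB (G : Type*) {Ω : Type*} [Group G] [MulAction G Ω] {t : ℕ} (f : Fin t → Ω) : Prop :=
  (∀ g : G, (∀ i : Fin t, g • f i = f i) → g = 1) ∧ ∀ i : Fin t, ∃ g : G, (∀ j : Fin t, j < i → g • f j = f j) ∧ g • f i ≠ f i

/-- A base in which no point is redundant given all the others. -/
theorem min_of_reorderable {G Ω : Type*} [Group G] [MulAction G Ω]
    (h : ∀ (t : ℕ) (f : Fin t → Ω) (σ : Equiv.Perm (Fin t)), IB G f → IB G (f ∘ σ))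
    {t : ℕ} (f : Fin t → Ω) (hf : IB G f) (i : Fin t) :
    ∃ g : G, (∀ j, j ≠ i → g • f j = f j) ∧ g • f i ≠ f i := by
  obtain ⟨t, rfl⟩ : ∃ s, t = s + 1 := ⟨t - 1, by have := i.2; omega⟩
  obtain ⟨g, hg1, hg2⟩ := (h _ f (Equiv.swap i (Fin.last t)) hf).2 (Fin.last t)
  refine ⟨g, fun j hj => ?_, by simpa using hg2⟩
  have := hg1 (Equiv.swap i (Fin.last t) j) (by
    refine lt_of_le_of_ne (Fin.le_last _) fun e => hj ?_
    rw [Equiv.swap_apply_eq_iff, Equiv.swap_apply_right] at e
    exact e)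
  simpa using this

theorem injective_of_min {G Ω : Type*} [Group G] [MulAction G Ω] {t : ℕ} (f : Fin t → Ω)
    (hf : ∀ i, ∃ g : G, (∀ j, j ≠ i → g • f j = f j) ∧ g • f i ≠ f i) : Function.Injective f := by
  intro a b hab
  by_contra hne
  obtain ⟨g, hg1, hg2⟩ := hf a
  exact hg2 (hab ▸ hg1 b (Ne.symm hne))

/-- The exchange step. -/
theorem exchange {G Ω : Type*} [Group G] [MulAction G Ω]
    (h : ∀ (t : ℕ) (f : Fin t → Ω) (σ : Equiv.Perm (Fin t)), IB G f → IB G (f ∘ σ))
    {t t' : ℕ} (f : Fin (t + 1) → Ω) (f' : Fin t' → Ω) (hf : IB G f) (hf' : IB G f') (i : Fin (t + 1)) :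
    ∃ b ∈ Set.range f', IB G (Function.update f i b) := by
  obtain ⟨g₀, hg₀, hg₀i⟩ := min_of_reorderable h f hf i
  have hb : ∃ k, g₀ • f' k ≠ f' k := by
    by_contra! hall
    exact hg₀i (by rw [hf'.1 g₀ hall, one_smul])
  obtain ⟨k, hk⟩ := hb
  refine ⟨f' k, ⟨k, rfl⟩, ?_⟩
  set b := f' k with hbdef
  set σ := Equiv.swap i (Fin.last t) with hσ
  set u := Function.update f i b with hu
  have hval : ∀ p, p ≠ Fin.last t → σ p ≠ i := fun p hp e => hp (σ.injective (e.trans
    (by rw [hσ, Equiv.swap_apply_right])))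
  have hlast : σ (Fin.last t) = i := by rw [hσ, Equiv.swap_apply_right]
  have hb2 : ∀ p, ∃ g : G, (∀ q, q < p → g • (u ∘ σ) q = (u ∘ σ) q) ∧ g • (u ∘ σ) p ≠ (u ∘ σ) p := by
    intro p
    rcases eq_or_ne p (Fin.last t) with rfl | hp
    · refine ⟨g₀, fun q hq => ?_, ?_⟩
      · rw [Function.comp_apply, hu, Function.update_of_ne (hval q hq.ne)]
        exact hg₀ _ (hval q hq.ne)
      · rw [Function.comp_apply, hu, hlast, Function.update_self]
        exact hk
    · obtain ⟨g, hg1, hg2⟩ := (h _ f σ hf).2 p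
      refine ⟨g, fun q hq => ?_, ?_⟩
      · have hq' : q ≠ Fin.last t := (hq.trans_le (Fin.le_last _)).ne
        rw [Function.comp_apply, hu, Function.update_of_ne (hval q hq')]
        exact hg1 q hq
      · rw [Function.comp_apply, hu, Function.update_of_ne (hval p hp)]
        exact hg2
  suffices hbase : ∀ g : G, (∀ j, g • (u ∘ σ) j = (u ∘ σ) j) → g = 1 by
    have h1 := h _ (u ∘ σ) σ ⟨hbase, hb2⟩
    have h2 : (u ∘ σ) ∘ σ = u := by funext p; simp [hσ]
    rwa [h2] at h1
  by_contra! hno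
  obtain ⟨g₁, hg₁, hg₁ne⟩ := hno
  have hfix : ∀ j, j ≠ i → g₁ • f j = f j := fun j hj => by
    have := hg₁ (σ j)
    simpa [hu, hσ, Function.update_of_ne hj] using this
  have hmove : g₁ • f i ≠ f i := fun e => hg₁ne (hf.1 g₁ fun j => by
    rcases eq_or_ne j i with rfl | hj
    · exact e
    · exact hfix j hj)
  have hib : IB G (Fin.snoc (u ∘ σ) (f i) : Fin (t + 2) → Ω) := by
    refine ⟨fun g hg => hf.1 g fun j => ?_, fun p => ?_⟩
    · rcases eq_or_ne j i with rfl | hj
      · simpa using hg (Fin.last (t + 1))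
      · simpa [hu, hσ, Function.update_of_ne hj] using hg (σ j).castSucc
    · induction p using Fin.lastCases with
      | last =>
        refine ⟨g₁, fun q hq => ?_, by simpa using hmove⟩
        induction q using Fin.lastCases with
        | last => exact absurd hq (lt_irrefl _)
        | cast q => simpa using hg₁ q
      | cast p =>
        obtain ⟨g, hg1, hg2⟩ := hb2 p
        refine ⟨g, fun q hq => ?_, by simpa using hg2⟩
        induction q using Fin.lastCases with
        | last => exact absurd hq (not_lt.2 (Fin.le_last _))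
        | cast q => simpa using hg1 q (Fin.castSucc_lt_castSucc_iff.1 hq)
  obtain ⟨g, hg1, hg2⟩ := min_of_reorderable h _ hib (Fin.last t).castSucc
  apply hg2
  rw [hf.1 g fun j => ?_, one_smul]
  rcases eq_or_ne j i with rfl | hj
  · simpa using hg1 (Fin.last (t + 1)) (Fin.castSucc_lt_last _).ne'
  · have hne : σ j ≠ Fin.last t := fun e => hj (σ.injective (by rw [e, hσ, Equiv.swap_apply_left]))
    simpa [hu, hσ, Function.update_of_ne hj] using hg1 (σ j).castSucc
      (fun e => hne (Fin.castSucc_injective _ e))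

theorem card_le {G Ω : Type*} [Group G] [MulAction G Ω]
    (h : ∀ (t : ℕ) (f : Fin t → Ω) (σ : Equiv.Perm (Fin t)), IB G f → IB G (f ∘ σ))
    {t t' : ℕ} (f : Fin t → Ω) (f' : Fin t' → Ω) (hf : IB G f) (hf' : IB G f') : t ≤ t' := by
  rcases t with - | t
  · exact Nat.zero_le _
  suffices hs : ∀ U : Finset (Fin (t + 1)), ∃ u, IB G u ∧ ∀ i ∈ U, u i ∈ Set.range f' by
    obtain ⟨u, hu, hu'⟩ := hs Finset.univ
    choose φ hφ using fun i => hu' i (Finset.mem_univ i)
    have hφi : Function.Injective φ := fun a b e =>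
      injective_of_min u (min_of_reorderable h u hu) (by rw [← hφ a, ← hφ b, e])
    simpa using Fintype.card_le_of_injective φ hφi
  intro U
  induction U using Finset.induction_on with
  | empty => exact ⟨f, hf, fun i hi => absurd hi (Finset.notMem_empty i)⟩
  | insert i U hi ih =>
    obtain ⟨u, hu, hu'⟩ := ih
    obtain ⟨b, hb, hb'⟩ := exchange h u f' hu hf' i
    refine ⟨_, hb', fun j hj => ?_⟩
    rcases eq_or_ne j i with rfl | hji
    · rwa [Function.update_self]
    · rw [Function.update_of_ne hji]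
      exact hu' j ((Finset.mem_insert.1 hj).resolve_left hji)

/-- Let a finite group G act on a finite set Ω. An irredundant base is a sequence of points ω₁, …, ω_t whose pointwise stabiliser is trivial and in which each ω_i is moved by some element fixing ω₁, …, ω_{i−1}. Then all irredundant bases have the same length if and only if every reordering of an irredundant base is again an irredundant base. -/
theorem result {G Ω : Type*} [Group G] [Finite G] [MulAction G Ω] [Fintype Ω] :
    (∀ (t t' : ℕ) (f : Fin t → Ω) (f' : Fin t' → Ω), ((∀ g : G, (∀ i : Fin t, g • f i = f i) → g = 1) ∧ ∀ i : Fin t, ∃ g : G, (∀ j : Fin t, j < i → g • f j = f j) ∧ g • f i ≠ f i) → ((∀ g : G, (∀ i : Fin t', g • f' i = f' i) → g = 1) ∧ ∀ i : Fin t', ∃ g : G, (∀ j : Fin t', j < i → g • f' j = f' j) ∧ g • f' i ≠ f' i) → t = t') ↔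
    (∀ (t : ℕ) (f : Fin t → Ω) (σ : Equiv.Perm (Fin t)), ((∀ g : G, (∀ i : Fin t, g • f i = f i) → g = 1) ∧ ∀ i : Fin t, ∃ g : G, (∀ j : Fin t, j < i → g • f j = f j) ∧ g • f i ≠ f i) → ((∀ g : G, (∀ i : Fin t, g • (f ∘ σ) i = (f ∘ σ) i) → g = 1) ∧ ∀ i : Fin t, ∃ g : G, (∀ j : Fin t, j < i → g • (f ∘ σ) j = (f ∘ σ) j) ∧ g • (f ∘ σ) i ≠ (f ∘ σ) i)) := by
  classical
  constructor
  · intro hsame t f σ hf
    set w := f ∘ σ with hw
    let R : Finset (Fin t) := Finset.univ.filter fun i => ∃ g : G, (∀ j, j < i → g • w j = w j) ∧ g • w i ≠ w i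
    let o := R.orderEmbOfFin rfl
    have hbase : ∀ g : G, (∀ i, g • w i = w i) → g = 1 := fun g hg => hf.1 g fun i => by
      have := hg (σ.symm i)
      simpa [hw] using this
    have hib : IB G (w ∘ o) := by
      refine ⟨fun g hg => hbase g fun i => ?_, fun i => ?_⟩
      · induction i using WellFoundedLT.induction with
        | _ i ih =>
          by_cases hiR : i ∈ R
          · obtain ⟨k, rfl⟩ : i ∈ Set.range o := by rw [Finset.range_orderEmbOfFin]; exact hiR
            exact hg k
          · by_contra hmove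
            exact hiR (Finset.mem_filter.2 ⟨Finset.mem_univ _, g, ih, hmove⟩)
      · obtain ⟨g, hg1, hg2⟩ := (Finset.mem_filter.1 (R.orderEmbOfFin_mem rfl i)).2
        exact ⟨g, fun j hj => hg1 _ (o.strictMono hj), hg2⟩
    have hcard := hsame _ _ f (w ∘ o) hf hib
    have hR : R = Finset.univ := Finset.eq_univ_of_card _ (by rw [Fintype.card_fin]; exact hcard.symm)
    exact ⟨hbase, fun i => (Finset.mem_filter.1 (hR.ge (Finset.mem_univ i))).2⟩
  · intro h t t' f f' hf hf'
    exact le_antisymm (card_le h f f' hf hf') (card_le h f' f hf' hf)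

end Cfsg.Agent.S5747
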