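import Cfsg.Statements.S5752
import Mathlib
import Cfsg.Agent.Lib.Perm.ThompsonWielandtBoth

set_option autoImplicit false
open Cfsg

namespace Cfsg.Agent.S5752

open CfsgLib.ThompsonWielandt CfsgLib

theorem normClosed_of_isCoatom {G : Type*} [Group G] {M : Subgroup G} (hmax : IsCoatom M)
    (hcore : ∀ X : Subgroup G, X.Normal → X ≤ M → X = ⊥) : NormClosed M := by
  intro X hX hn hne
  rcases hmax.le_iff.1 hn with h | h
  · exact absurd (hcore X (Subgroup.normalizer_eq_top_iff.1 h) hX) hne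
  · exact h.le

theorem mem_core_step {G : Type*} [Group G] {M Y : Subgroup G} :
    ((Y.subgroupOf M).normalCore).map M.subtype = coreIn M Y := by
  ext x
  constructor
  · rintro ⟨z, hz, rfl⟩
    exact ⟨z.2, fun k hk => by simpa [Subgroup.mem_subgroupOf] using hz ⟨k, hk⟩⟩
  · intro hx
    exact ⟨⟨x, hx.1⟩, fun k => by simpa [Subgroup.mem_subgroupOf] using hx.2 k k.2, rfl⟩

theorem coreIn_inf_right {G : Type*} [Group G] {M N : Subgroup G} : coreIn M (M ⊓ N) = coreIn M N := by
  ext x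
  exact ⟨fun h => ⟨h.1, fun k hk => (h.2 k hk).2⟩, fun h => ⟨h.1, fun k hk =>
    ⟨M.mul_mem (M.mul_mem hk h.1) (M.inv_mem hk), h.2 k hk⟩⟩⟩

theorem subnormal_second {G : Type*} [Group G] [Finite G] {M N K : Subgroup G} (hK : K ≤ coreIn N M) :
    ((coreIn M K).subgroupOf N).IsSubnormal := by
  have h1 : coreIn M K ≤ coreIn N M := coreIn_le_right.trans hK
  have h2 : ((coreIn N M).subgroupOf N).Normal :=
    (Subgroup.normal_subgroupOf_iff_le_normalizer coreIn_le_left).2 le_normalizer_coreIn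
  refine Subgroup.IsSubnormal.step _ ((coreIn N M).subgroupOf N) (fun x hx => h1 hx) h2.isSubnormal ?_
  refine (Subgroup.normal_subgroupOf_iff_le_normalizer
    (show (coreIn M K).subgroupOf N ≤ (coreIn N M).subgroupOf N from fun x hx => h1 hx)).2 fun y hy => ?_
  exact mem_normalizer_of_conj fun t ht => conj_mem_coreIn (coreIn_le_right hy) ht


/-- A form of the Thompson–Wielandt Theorem on primitive permutation groups. Let G be a finite group and M₁, M₂ two distinct conjugate maximal subgroups of G with trivial core in G; define two descending sequences of subgroups by A₀ = M₁, B₀ = M₂ and, for every i, A_{i+1} = the core in M₁ of A_i ∩ B_i and B_{i+1} = the core in M₂ of A_i ∩ B_i (the core in M of a subgroup Y ≤ M is the largest normal subgroup of M contained in Y). If A₂ and B₂ are both non-trivial, then for some prime p the subgroup generated by A₂ and B₂ is a p-group, and for each j the generalized Fitting subgroups of M_j and of its first core (A₁, resp.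 B₁) are their largest normal p-subgroups. -/
theorem result {G : Type*} [Group G] [Finite G] (M₁ M₂ : Subgroup G) (hmax : IsCoatom M₁) (g : G)
    (hconj : M₂ = M₁.map (MulAut.conj g).toMonoidHom) (hne : M₁ ≠ M₂) (hcore : M₁.normalCore = ⊥)
    (A B : ℕ → Subgroup G) (hA0 : A 0 = M₁) (hB0 : B 0 = M₂)
    (hA : ∀ i, A (i + 1) = ((A i ⊓ B i).subgroupOf M₁).normalCore.map M₁.subtype)
    (hB : ∀ i, B (i + 1) = ((A i ⊓ B i).subgroupOf M₂).normalCore.map M₂.subtype) (hA2 : A 2 ≠ ⊥) (hB2 : B 2 ≠ ⊥) :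
    ∃ p : ℕ, p.Prime ∧ IsPGroup p ↥(A 2 ⊔ B 2) ∧
      Cfsg.generalizedFittingSubgroup ↥M₁ = Cfsg.pCore p ↥M₁ ∧ Cfsg.generalizedFittingSubgroup ↥(A 1) = Cfsg.pCore p ↥(A 1) ∧
      Cfsg.generalizedFittingSubgroup ↥M₂ = Cfsg.pCore p ↥M₂ ∧ Cfsg.generalizedFittingSubgroup ↥(B 1) = Cfsg.pCore p ↥(B 1) := by
  classical
  have hcore1 : ∀ X : Subgroup G, X.Normal → X ≤ M₁ → X = ⊥ := fun X hX hle => by
    rw [eq_bot_iff, ← hcore]
    exact fun x hx k => hle (hX.conj_mem x hx k)
  have hmax2 : IsCoatom M₂ := by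
    rw [hconj]
    exact ((MulAut.conj g).mapSubgroup.isCoatom_iff M₁).2 hmax
  have hcore2 : ∀ X : Subgroup G, X.Normal → X ≤ M₂ → X = ⊥ := fun X hX hle => by
    refine hcore1 X hX fun x hx => ?_
    have h1 := hle (hX.conj_mem x hx g)
    rw [hconj] at h1
    obtain ⟨y, hy, he⟩ := h1
    have : y = x := (MulAut.conj g).injective he
    exact this ▸ hy
  have hN1 := normClosed_of_isCoatom hmax hcore1
  have hN2 := normClosed_of_isCoatom hmax2 hcore2
  have h12 : ¬ M₂ ≤ M₁ := fun h => hne ((hmax2.le_iff.1 h).resolve_left hmax.1)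
  have h21 : ¬ M₁ ≤ M₂ := fun h => hne ((hmax.le_iff.1 h).resolve_left hmax2.1).symm
  have hA1 : A 1 = coreIn M₁ M₂ := by rw [hA, hA0, hB0, mem_core_step, coreIn_inf_right]
  have hB1 : B 1 = coreIn M₂ M₁ := by rw [hB, hA0, hB0, mem_core_step, inf_comm M₁, coreIn_inf_right]
  have hA2' : A 2 = coreIn M₁ (A 1 ⊓ B 1) := by rw [hA, mem_core_step]
  have hB2' : B 2 = coreIn M₂ (A 1 ⊓ B 1) := by rw [hB, mem_core_step]
  have hAH : A 2 ≤ coreIn M₂ M₁ := by rw [hA2', ← hB1]; exact coreIn_le_right.trans inf_le_right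
  have hBH : B 2 ≤ coreIn M₁ M₂ := by rw [hB2', ← hA1]; exact coreIn_le_right.trans inf_le_left
  have hAM : A 2 ≤ M₁ := hA2'.le.trans coreIn_le_left
  have hBM : B 2 ≤ M₂ := hB2'.le.trans coreIn_le_left
  have hAn : M₁ ≤ Subgroup.normalizer (A 2 : Set G) := by rw [hA2']; exact le_normalizer_coreIn
  have hBn : M₂ ≤ Subgroup.normalizer (B 2 : Set G) := by rw [hB2']; exact le_normalizer_coreIn
  have hAsn : ((A 2).subgroupOf M₂).IsSubnormal := by
    rw [hA2']; exact subnormal_second (inf_le_right.trans hB1.le)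
  have hBsn : ((B 2).subgroupOf M₁).IsSubnormal := by
    rw [hB2']; exact subnormal_second (inf_le_left.trans hA1.le)
  let e : M₁ ≃* M₂ := ((MulAut.conj g).subgroupMap M₁).trans (MulEquiv.subgroupCongr hconj.symm)
  have hcard : ∀ q : ℕ, q.Prime → Nat.card (pCoreOf q M₁) = Nat.card (pCoreOf q M₂) := fun q _ => by
    rw [pCoreOf, pCoreOf, Subgroup.card_map_of_injective M₁.subtype_injective,
      Subgroup.card_map_of_injective M₂.subtype_injective, ← Components.pCore_map_equiv q e,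
      Subgroup.card_map_of_injective e.injective]
  obtain ⟨p, hp, hF, -⟩ := CfsgLib.ThompsonWielandt.main hN1 hN2 hAM hAn (hAH.trans coreIn_le_left) hAsn hA2 hBM
    hBn hBsn hBH hB2 h12 h21 hcard
  haveI := Fact.mk hp
  haveI : Nontrivial M₁ := M₁.nontrivial_iff_ne_bot.2 fun h => hA2 (le_bot_iff.1 (h ▸ hAM))
  have hne1 : pCoreOf p M₁ ≠ ⊥ := fun h => Components.gFitting_ne_bot (G := M₁)
    (hF.trans ((Subgroup.map_eq_bot_iff_of_injective _ M₁.subtype_injective).1 h))
  have hne2 : pCoreOf p M₂ ≠ ⊥ := fun h => hne1 (Subgroup.card_eq_one.1 (by rw [hcard p hp, h]; simp))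
  have hB2p : IsPGroup p (B 2) := by
    by_contra h
    exact hne1 (pCoreOf_le_of_not hN1 hN2 hBM hBn hBsn hBH h12 h (hcard p hp))
  have hA2p : IsPGroup p (A 2) := by
    by_contra h
    exact hne2 (pCoreOf_le_of_not hN2 hN1 hAM hAn hAsn hAH h21 h (hcard p hp).symm)
  have hF2 : Cfsg.generalizedFittingSubgroup M₂ = Cfsg.pCore p M₂ := by
    rw [← Components.gFitting_map_equiv e, ← Components.pCore_map_equiv p e, hF]
  have hdesc : ∀ (M L : Subgroup G), L ≤ M → M ≤ Subgroup.normalizer (L : Set G) →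
      Cfsg.generalizedFittingSubgroup M = Cfsg.pCore p M →
      Cfsg.generalizedFittingSubgroup L = Cfsg.pCore p L := by
    intro M L hLM hn h
    rw [LocalEvenB.gFitting_eq_pCore_iff, ← LocalEvenB.hasCharP_iff]
    rw [LocalEvenB.gFitting_eq_pCore_iff, ← LocalEvenB.hasCharP_iff] at h
    exact h.of_normalized hLM ((LocalEvenB.pCoreOf_le M).trans hn)
  refine ⟨p, hp, IsPGroup.to_sup_of_normal_left' hA2p hB2p ((hBH.trans coreIn_le_left).trans hAn), hF,
    hdesc M₁ _ (hA1.le.trans coreIn_le_left) (by rw [hA1]; exact le_normalizer_coreIn) hF, hF2,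
    hdesc M₂ _ (hB1.le.trans coreIn_le_left) (by rw [hB1]; exact le_normalizer_coreIn) hF2⟩

end Cfsg.Agent.S5752
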