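import Cfsg.Statements.S5754


set_option autoImplicit false
open Cfsg

namespace Cfsg.Agent.S5754

open QuadraticMap in
theorem polar_sub {F V : Type*} [Field F] [AddCommGroup V] [Module F V] (Q : QuadraticForm F V) (a b : V) :
    polar Q a b = Q a + Q b - Q (a - b) := by
  have h1 : polar Q a (-b) = -polar Q a b := polar_neg_right Q a b
  have h2 : polar Q a (-b) = Q (a + -b) - Q a - Q (-b) := rfl
  rw [QuadraticMap.map_neg, ← sub_eq_add_neg, h1] at h2
  linear_combination -h2

/-- The reflection in an anisotropic vector, in any characteristic. -/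
def reflect {F V : Type*} [Field F] [AddCommGroup V] [Module F V] (Q : QuadraticForm F V) (w : V) (hw : Q w ≠ 0) :
    Q.IsometryEquiv Q where
  toFun x := x - (QuadraticMap.polar Q w x / Q w) • w
  invFun x := x - (QuadraticMap.polar Q w x / Q w) • w
  map_add' x y := by
    rw [QuadraticMap.polar_add_right, add_div, add_smul]; abel
  map_smul' c x := by
    rw [QuadraticMap.polar_smul_right, RingHom.id_apply, smul_sub, smul_smul, smul_eq_mul, mul_div_assoc]
  left_inv x := by
    simp only [QuadraticMap.polar_sub_right, QuadraticMap.polar_smul_right, QuadraticMap.polar_self, smul_eq_mul,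
      sub_sub, ← add_smul]
    have h : QuadraticMap.polar Q w x / Q w + (QuadraticMap.polar Q w x -
        QuadraticMap.polar Q w x / Q w * (2 * Q w)) / Q w = 0 := by field_simp; ring
    simp only [nsmul_eq_mul, Nat.cast_ofNat] at *
    rw [h, zero_smul, sub_zero]
  right_inv x := by
    simp only [QuadraticMap.polar_sub_right, QuadraticMap.polar_smul_right, QuadraticMap.polar_self, smul_eq_mul,
      sub_sub, ← add_smul]
    have h : QuadraticMap.polar Q w x / Q w + (QuadraticMap.polar Q w x -
        QuadraticMap.polar Q w x / Q w * (2 * Q w)) / Q w = 0 := by field_simp; ring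
    simp only [nsmul_eq_mul, Nat.cast_ofNat] at *
    rw [h, zero_smul, sub_zero]
  map_app' x := by
    show Q (x - (QuadraticMap.polar Q w x / Q w) • w) = Q x
    have h := polar_sub Q x ((QuadraticMap.polar Q w x / Q w) • w)
    rw [QuadraticMap.polar_smul_right, QuadraticMap.map_smul, QuadraticMap.polar_comm (f := ⇑Q) x w, smul_eq_mul,
      smul_eq_mul] at h
    have : QuadraticMap.polar Q w x / Q w * Q w = QuadraticMap.polar Q w x := div_mul_cancel₀ _ hw
    linear_combination h + (QuadraticMap.polar Q w x / Q w) * this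

theorem reflect_apply {F V : Type*} [Field F] [AddCommGroup V] [Module F V] (Q : QuadraticForm F V) (w : V)
    (hw : Q w ≠ 0) (x : V) : reflect Q w hw x = x - (QuadraticMap.polar Q w x / Q w) • w := rfl

/-- Let V be a finite-dimensional vector space over a finite field F carrying an anisotropic quadratic form Q (Q(v) = 0 only for v = 0). Then the group of all maps v ↦ φ(v) + c, with φ an isometry of Q and c ∈ V, acts on V as a binary permutation group: given n ≥ 2 and two n-tuples u, u' of vectors such that every pair of corresponding entries of u is carried to that of u' by such a map, one such map carries u to u'. -/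
theorem result {F V : Type*} [Field F] [Finite F] [AddCommGroup V] [Module F V] [Module.Finite F V]
    (Q : QuadraticForm F V) (hQ : Q.Anisotropic) (n : ℕ) (hn : 2 ≤ n) (u u' : Fin n → V)
    (h2 : ∀ i j : Fin n, i ≠ j → ∃ (φ : Q.IsometryEquiv Q) (c : V), φ (u i) + c = u' i ∧ φ (u j) + c = u' j) :
    ∃ (φ : Q.IsometryEquiv Q) (c : V), ∀ i, φ (u i) + c = u' i := by
  classical
  let i0 : Fin n := ⟨0, by omega⟩
  let v : Fin n → V := fun i => u i - u i0
  let v' : Fin n → V := fun i => u' i - u' i0
  have hQ' : ∀ i j, Q (v i - v j) = Q (v' i - v' j) := by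
    intro i j
    rcases eq_or_ne i j with rfl | hij
    · simp
    · obtain ⟨φ, c, h1, h2⟩ := h2 i j hij
      have e : φ (u i - u j) = u' i - u' j := by rw [map_sub, ← h1, ← h2]; abel
      have := φ.map_app (u i - u j)
      rw [e] at this
      simpa [v, v'] using this.symm
  have hQ0 : ∀ i, Q (v i) = Q (v' i) := fun i => by simpa [v, v'] using hQ' i i0
  suffices h : ∀ U : Finset (Fin n), ∃ φ : Q.IsometryEquiv Q, ∀ i ∈ U, φ (v i) = v' i by
    obtain ⟨φ, hφ⟩ := h Finset.univ
    refine ⟨φ, u' i0 - φ (u i0), fun i => ?_⟩
    have := hφ i (Finset.mem_univ i)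
    rw [map_sub] at this
    rw [add_sub, add_comm, add_sub_assoc, this]
    simp [v']
  intro U
  induction U using Finset.induction_on with
  | empty => exact ⟨QuadraticMap.IsometryEquiv.refl Q, by simp⟩
  | insert k U hk ih =>
    obtain ⟨φ, hφ⟩ := ih
    by_cases hx : φ (v k) = v' k
    · exact ⟨φ, fun i hi => by rcases Finset.mem_insert.1 hi with rfl | hi; exacts [hx, hφ i hi]⟩
    have hw : Q (φ (v k) - v' k) ≠ 0 := fun h => hx (sub_eq_zero.1 (hQ _ h))
    refine ⟨φ.trans (reflect Q _ hw), fun i hi => ?_⟩
    show reflect Q _ hw (φ (v i)) = v' i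
    rw [reflect_apply]
    have hQx : Q (φ (v k)) = Q (v' k) := by rw [φ.map_app, hQ0]
    rcases Finset.mem_insert.1 hi with rfl | hi
    · have h1 : QuadraticMap.polar Q (φ (v i) - v' i) (φ (v i)) = Q (φ (v i) - v' i) := by
        rw [QuadraticMap.polar_sub_left, QuadraticMap.polar_self, polar_sub Q (v' i),
          ← QuadraticMap.map_neg Q (φ (v i) - v' i), neg_sub, hQx]
        simp only [nsmul_eq_mul, Nat.cast_ofNat]
        ring
      rw [h1, div_self hw, one_smul, sub_sub_cancel]
    · have h1 : QuadraticMap.polar Q (φ (v k) - v' k) (φ (v i)) = 0 := by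
        rw [QuadraticMap.polar_sub_left, hφ i hi, polar_sub Q (φ (v k)), polar_sub Q (v' k), hQx, ← hQ' k i,
          ← hφ i hi, ← map_sub]
        simp only [φ.map_app]
        ring
      rw [h1, zero_div, zero_smul, sub_zero, hφ i hi]

end Cfsg.Agent.S5754
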