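import Cfsg.Statements.S5769
import Cfsg.Agent.Lib.Lie.SixtyFive.E7
import Cfsg.Agent.Lib.Lie.SixtyFive.Groups

set_option autoImplicit false
open Cfsg

namespace Cfsg.Agent.S5769

/-- The Chevalley group of type E₇ over the field with two elements (generated by its root elements in the adjoint representation) has no subgroup isomorphic to any of PSL₂(64), PSp₄(8), PSL₄(8), PSU₄(8) or PSp₆(8). Here F₈ and F₆₄ denote fields with 8 and 64 elements. -/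
theorem result {F₈ F₆₄ : Type*} [Field F₈] [Fintype F₈] (h8 : Fintype.card F₈ = 8) [Field F₆₄] [Fintype F₆₄] (h64 : Fintype.card F₆₄ = 64)
    (H : Subgroup ↥(Cfsg.Lie.chevE7.group (ZMod 2))) :
    IsEmpty (↥H ≃* Matrix.ProjectiveSpecialLinearGroup (Fin 2) F₆₄) ∧ IsEmpty (↥H ≃* Cfsg.PSp 2 F₈) ∧
    IsEmpty (↥H ≃* Matrix.ProjectiveSpecialLinearGroup (Fin 4) F₈) ∧ IsEmpty (↥H ≃* Cfsg.PSU 4 F₆₄ 8) ∧ IsEmpty (↥H ≃* Cfsg.PSp 3 F₈) := by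
  have key : ∀ x : ↥H, orderOf x ≠ 65 := fun x h =>
    CfsgLib.Lie.SixtyFive.chevE7_two_not_orderOf_sixty_five (x : ↥(Cfsg.Lie.chevE7.group (ZMod 2)))
      (by rw [Subgroup.orderOf_coe]; exact h)
  obtain ⟨⟨a, ha⟩, ⟨b, hb⟩, ⟨c, hc⟩, ⟨d, hd⟩, ⟨e, he⟩⟩ := CfsgLib.Lie.SixtyFive.exists_sixty_five h8 h64
  exact ⟨⟨fun f => key (f.symm a) (by rw [MulEquiv.orderOf_eq, ha])⟩, ⟨fun f => key (f.symm b) (by rw [MulEquiv.orderOf_eq, hb])⟩,
    ⟨fun f => key (f.symm c) (by rw [MulEquiv.orderOf_eq, hc])⟩, ⟨fun f => key (f.symm d) (by rw [MulEquiv.orderOf_eq, hd])⟩,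
    ⟨fun f => key (f.symm e) (by rw [MulEquiv.orderOf_eq, he])⟩⟩

end Cfsg.Agent.S5769
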