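import Cfsg.Statements.S5781
import Mathlib
import Cfsg.Agent.Lib.Geo.Asch.LinearCases
import Cfsg.Agent.Lib.Geo.Asch.LinesFive

set_option autoImplicit false
open Cfsg

namespace Cfsg.Agent.S5781

/-- Every maximal subgroup of SL_4(q) is of one of the listed geometric types or lies in the residual class. Let F be a finite field with q elements and H a maximal subgroup of SL_4(F) (inside GL_4(F)). Then H is the intersection with SL_4(F) of one of: the stabiliser of a proper non-zero subspace; for q ≥ 7, the stabiliser of a decomposition into four independent lines; for q ≥ 4, the stabiliser of a decomposition into two independent planes; the normaliser of a degree-2 subfield of the matrix algebra; a subfield group for a subfield F₀ with |F| = |F₀|^r, r prime; for q = p ≡ 1 mod 4 prime, the normaliser of an absolutely irreducible 2-subgroup R of exponent 4 with centre of order 4, all of whose characteristic abelian subgroups are cyclic, of order 2^(2+2m) for some m (here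 |R| = 64), with 4 dividing p − 1; for q odd, the similarity group of a non-degenerate quadratic form; the similarity group of a non-degenerate symplectic form; the similarity group of a non-degenerate unitary form — or else H lies in the residual class of the linear case. -/
theorem result {F : Type*} [Field F] [Fintype F] (H : Subgroup (Matrix.GeneralLinearGroup (Fin 4) F)) (hH : Cfsg.Geo.IsMaximalIn (Cfsg.Geo.specialLinear (Fin 4) F) H) :
    (∃ W : Submodule F (Fin 4 → F), W ≠ ⊥ ∧ W ≠ ⊤ ∧ H = Cfsg.Geo.subspaceStabilizer W ⊓ Cfsg.Geo.specialLinear (Fin 4) F) ∨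
    (7 ≤ Fintype.card F ∧ ∃ D : Fin 4 → Submodule F (Fin 4 → F), Cfsg.Geo.IsMDecomposition 1 D ∧ H = Cfsg.Geo.decompositionStabilizer D ⊓ Cfsg.Geo.specialLinear (Fin 4) F) ∨
    (4 ≤ Fintype.card F ∧ ∃ D : Fin 2 → Submodule F (Fin 4 → F), Cfsg.Geo.IsMDecomposition 2 D ∧ H = Cfsg.Geo.decompositionStabilizer D ⊓ Cfsg.Geo.specialLinear (Fin 4) F) ∨
    (∃ K : Subalgebra F (Matrix (Fin 4) (Fin 4) F), Cfsg.Geo.IsFieldSubalgebra 2 K ∧ H = Cfsg.Geo.subalgebraNormalizer K ⊓ Cfsg.Geo.specialLinear (Fin 4) F) ∨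
    (∃ (F₀ : Subfield F) (r : ℕ) (P : Matrix.GeneralLinearGroup (Fin 4) F), r.Prime ∧ Fintype.card F = Nat.card F₀ ^ r ∧ H = Cfsg.Geo.subfieldSubgroup F₀ P ⊓ Cfsg.Geo.specialLinear (Fin 4) F) ∨
    (∃ (p : ℕ) (R : Subgroup (Matrix.GeneralLinearGroup (Fin 4) F)), p.Prime ∧ Fintype.card F = p ∧ p % 4 = 1 ∧ Cfsg.Geo.IsLinearSymplecticTypeData 2 R ∧ H = Cfsg.Geo.subgroupNormalizer R ⊓ Cfsg.Geo.specialLinear (Fin 4) F) ∨
    (Odd (Fintype.card F) ∧ ∃ Q : (Fin 4 → F) → F, Cfsg.Geo.IsNondegenerateQuadraticForm Q ∧ H = Cfsg.Geo.quadSimilarityGroup Q ⊓ Cfsg.Geo.specialLinear (Fin 4) F) ∨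
    (∃ f : (Fin 4 → F) → (Fin 4 → F) → F, Cfsg.Geo.IsSymplecticForm f ∧ H = Cfsg.Geo.similarityGroup f ⊓ Cfsg.Geo.specialLinear (Fin 4) F) ∨
    (∃ (σ : F ≃+* F) (f : (Fin 4 → F) → (Fin 4 → F) → F), Cfsg.Geo.IsUnitaryForm σ f ∧ H = Cfsg.Geo.similarityGroup f ⊓ Cfsg.Geo.specialLinear (Fin 4) F) ∨
    Cfsg.Geo.InLinearResidualClass H := by
  open CfsgLib.Geo.Asch in
  rcases linear_maximal (n := 4) (by norm_num) H hH with ⟨W, h0, h1, h⟩ | ⟨t, m, D, hD, htm, h⟩ |
    ⟨r, K, hr, hrn, hK, h⟩ | ⟨d, k, e, P, hd, hk, hdk, h⟩ | ⟨F₀, r, P, hr, hc, h⟩ | ⟨r, m, R, hR, hrm, h⟩ |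
    ⟨d, t, e, P, hd, ht, hdt, h⟩ | h | ⟨f, hf, -, h⟩ | h | h
  · exact .inl ⟨W, h0, h1, h⟩
  · have h2 := hD.two_le
    have h3 := hD.pos
    have : m ≤ 4 := by nlinarith
    obtain ⟨rfl, rfl⟩ | ⟨rfl, rfl⟩ : (m = 1 ∧ t = 4) ∨ (m = 2 ∧ t = 2) := by
      interval_cases m <;> omega
    · by_cases hq : 7 ≤ Fintype.card F
      · exact .inr <| .inl ⟨hq, D, hD, h⟩
      by_cases hq5 : Fintype.card F < 5
      · rcases lines_reduce (by norm_num) hH hq5 hD h with h | h | h
        · exact .inl h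
        · exact .inr <| .inr <| .inr <| .inr <| .inr <| .inr <| .inl h
        · exact .inr <| .inr <| .inr <| .inr <| .inr <| .inr <| .inr <| .inr <| .inl h
      exfalso
      refine lines_five_not_maximal ?_ hD hH h
      have hpp : IsPrimePow (Fintype.card F) := FiniteField.isPrimePow_card F
      by_contra h5
      have h6 : Fintype.card F = 6 := by omega
      rw [h6] at hpp
      exact absurd hpp (by decide +kernel)
    · by_cases hq : 4 ≤ Fintype.card F
      · exact .inr <| .inr <| .inl ⟨hq, D, hD, h⟩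
      exact .inr <| .inr <| .inr <| .inr <| .inr <| .inr <| .inr <| .inl (planes_reduce (by norm_num) hH (by norm_num)
        (by have := Fintype.one_lt_card (α := F); omega) hD h)
  · obtain rfl : r = 2 := by
      have := Nat.le_of_dvd (by norm_num) hrn
      interval_cases r <;> first | rfl | (revert hr hrn; norm_num)
    exact .inr <| .inr <| .inr <| .inl ⟨K, hK, h⟩
  · exfalso
    have : d ≤ 4 := by nlinarith
    interval_cases d <;> omega
  · exact .inr <| .inr <| .inr <| .inr <| .inl ⟨F₀, r, P, hr, hc, h⟩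
  · obtain rfl : r = 2 := by
      have hp := hR.symplecticType.prime
      exact (Nat.prime_dvd_prime_iff_eq hp Nat.prime_two).1 (hp.dvd_of_dvd_pow (show r ∣ 2 ^ 2 by
        rcases Nat.eq_zero_or_pos m with rfl | hm
        · simp at hrm
        · rw [show (2 : ℕ) ^ 2 = 4 by norm_num, hrm]; exact dvd_pow_self r hm.ne'))
    obtain ⟨p, hp, hc, hmod⟩ := symplectic_residue_two le_rfl hR
    exact .inr <| .inr <| .inr <| .inr <| .inr <| .inl ⟨p, R, hp, hc, hmod, hR, h⟩
  · exfalso
    have h1 : d ^ 2 ≤ d ^ t := Nat.pow_le_pow_right (by omega) ht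
    nlinarith
  · exact .inr <| .inr <| .inr <| .inr <| .inr <| .inr <| .inl h
  · exact .inr <| .inr <| .inr <| .inr <| .inr <| .inr <| .inr <| .inl ⟨f, hf, h⟩
  · exact .inr <| .inr <| .inr <| .inr <| .inr <| .inr <| .inr <| .inr <| .inl h
  · exact .inr <| .inr <| .inr <| .inr <| .inr <| .inr <| .inr <| .inr <| .inr h

end Cfsg.Agent.S5781
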