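import Cfsg.Statements.S5784
import Mathlib
import Cfsg.Agent.Lib.Geo.Asch.UnitFour

set_option autoImplicit false
open Cfsg

namespace Cfsg.Agent.S5784

/-- Every maximal subgroup of SU_4(q) is of one of the listed geometric types or lies in the residual class. Let F be the field with q² elements, f the standard unitary form Σ u_i v_i^q on F^4, and H a maximal subgroup of SU_4(q) (inside GL_4(F)). Then H is the intersection with SU_4(q) of one of: the stabiliser of a non-zero subspace on which f vanishes; the stabiliser of a non-degenerate 1-space; for q ≠ 3, the stabiliser of a decomposition into four mutually orthogonal non-degenerate 1-spaces; for q ≥ 3, of a decomposition into two orthogonal non-degenerate 2-spaces; for q ≥ 4, of a decomposition into two totally isotropic 2-spaces; a subfield group of odd prime index whose F₀-structure carries f; a subfield group of index 2 whose F₀-structure carries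 ζ f, vanishing on pairs (u, u), for some non-zero ζ with ζ + ζ^q = 0; for q odd, a subfield group of index 2 whose F₀-structure carries f; for q = p ≡ 3 mod 4 prime, the normaliser of an absolutely irreducible symplectic-type 2-group of exponent 4, order 64 and centre of order 4 inside the similarity group of f — or else H lies in the residual class of the unitary case. -/
theorem result {F : Type*} [Field F] [Fintype F] (q : ℕ) (hF : Fintype.card F = q ^ 2) (H : Subgroup (Matrix.GeneralLinearGroup (Fin 4) F)) (hH : Cfsg.Geo.IsMaximalIn (Cfsg.GU 4 F q ⊓ Cfsg.Geo.specialLinear (Fin 4) F) H) :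
    (∃ W : Submodule F (Fin 4 → F), W ≠ ⊥ ∧ Cfsg.Geo.IsTotallySingularFor (Cfsg.hermForm 4 F q) W ∧ H = Cfsg.Geo.subspaceStabilizer W ⊓ (Cfsg.GU 4 F q ⊓ Cfsg.Geo.specialLinear (Fin 4) F)) ∨
    (∃ W : Submodule F (Fin 4 → F), W ≠ ⊥ ∧ Cfsg.Geo.IsNondegenerateOn (Cfsg.hermForm 4 F q) W ∧ 2 * Module.finrank F W < 4 ∧ H = Cfsg.Geo.subspaceStabilizer W ⊓ (Cfsg.GU 4 F q ⊓ Cfsg.Geo.specialLinear (Fin 4) F)) ∨
    (q ≠ 3 ∧ ∃ D : Fin 4 → Submodule F (Fin 4 → F), Cfsg.Geo.IsNondegenerateMDecomposition (Cfsg.hermForm 4 F q) 1 D ∧ H = Cfsg.Geo.decompositionStabilizer D ⊓ (Cfsg.GU 4 F q ⊓ Cfsg.Geo.specialLinear (Fin 4) F)) ∨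
    (3 ≤ q ∧ ∃ D : Fin 2 → Submodule F (Fin 4 → F), Cfsg.Geo.IsNondegenerateMDecomposition (Cfsg.hermForm 4 F q) 2 D ∧ H = Cfsg.Geo.decompositionStabilizer D ⊓ (Cfsg.GU 4 F q ⊓ Cfsg.Geo.specialLinear (Fin 4) F)) ∨
    (4 ≤ q ∧ ∃ D : Fin 2 → Submodule F (Fin 4 → F), Cfsg.Geo.IsMDecomposition 2 D ∧ (∀ i, Cfsg.Geo.IsTotallySingularFor (Cfsg.hermForm 4 F q) (D i)) ∧ H = Cfsg.Geo.decompositionStabilizer D ⊓ (Cfsg.GU 4 F q ⊓ Cfsg.Geo.specialLinear (Fin 4) F)) ∨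
    (∃ (F₀ : Subfield F) (r : ℕ) (P : Matrix.GeneralLinearGroup (Fin 4) F), r.Prime ∧ Odd r ∧ Fintype.card F = Nat.card F₀ ^ r ∧ Cfsg.Geo.IsFormRationalStructure (Cfsg.hermForm 4 F q) F₀ 1 P ∧ H = Cfsg.Geo.subfieldSubgroup F₀ P ⊓ (Cfsg.GU 4 F q ⊓ Cfsg.Geo.specialLinear (Fin 4) F)) ∨
    (∃ (F₀ : Subfield F) (P : Matrix.GeneralLinearGroup (Fin 4) F) (ζ : F), Fintype.card F = Nat.card F₀ ^ 2 ∧ ζ ≠ 0 ∧ ζ + ζ ^ q = 0 ∧ Cfsg.Geo.IsFormRationalStructure (Cfsg.hermForm 4 F q) F₀ ζ P ∧ (∀ u : Fin 4 → F, (∀ i, u i ∈ F₀) → (Cfsg.hermForm 4 F q) (Matrix.mulVec (P : Matrix (Fin 4) (Fin 4) F) u) (Matrix.mulVec (P : Matrix (Fin 4) (Fin 4) F) u) = 0) ∧ H = Cfsg.Geo.subfieldSubgroup F₀ P ⊓ (Cfsg.GU 4 F q ⊓ Cfsg.Geo.specialLinear (Fin 4) F)) ∨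
    (Odd q ∧ ∃ (F₀ : Subfield F) (P : Matrix.GeneralLinearGroup (Fin 4) F), Fintype.card F = Nat.card F₀ ^ 2 ∧ Cfsg.Geo.IsFormRationalStructure (Cfsg.hermForm 4 F q) F₀ 1 P ∧ H = Cfsg.Geo.subfieldSubgroup F₀ P ⊓ (Cfsg.GU 4 F q ⊓ Cfsg.Geo.specialLinear (Fin 4) F)) ∨
    (∃ (p : ℕ) (R : Subgroup (Matrix.GeneralLinearGroup (Fin 4) F)), p.Prime ∧ q = p ∧ p % 4 = 3 ∧ Cfsg.Geo.IsSymplecticTypeGroup 2 R ∧ Cfsg.Geo.ActsAbsolutelyIrreducibly (Cfsg.Geo.matrixSet R) ∧ R ≤ Cfsg.Geo.similarityGroup (Cfsg.hermForm 4 F q) ∧ Nat.card R = 64 ∧ Nat.card (Subgroup.center R) = 4 ∧ H = Cfsg.Geo.subgroupNormalizer R ⊓ (Cfsg.GU 4 F q ⊓ Cfsg.Geo.specialLinear (Fin 4) F)) ∨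
    Cfsg.Geo.InUnitaryResidualClass H := by
  classical
  obtain ⟨σ, hq⟩ := CfsgLib.Geo.Asch.exists_isQPow hF
  have h1q := CfsgLib.Geo.Asch.IsQPow.one_lt hF
  rcases CfsgLib.Geo.Asch.unitary_maximal hq hF (by norm_num)
      (fun r R h => CfsgLib.Geo.Asch.not_SU_four_le_subgroupNormalizer hq hF h) hH with
    h | h | ⟨t, m, D, hD, htm, h⟩ | ⟨k, D, hk, hD, hts, h⟩ | ⟨r, K, hr, hro, hrn, hK, hKa, h⟩ |
    ⟨d, k, e, P, hd, hdk, hn', hT, h⟩ | ⟨F₀, r, P, hr, hc, hrat, h⟩ | ⟨r, R, hr, hR, h⟩ |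
    ⟨d, t, e, P, hd, ht, hn', -⟩ | h
  · exact .inl h
  · exact .inr <| .inl h
  · have h1 := hD.decomp.two_le
    have : t ∈ Nat.divisors 4 := Nat.mem_divisors.2 ⟨⟨m, htm.symm⟩, by norm_num⟩
    rw [show Nat.divisors 4 = {1, 2, 4} by decide] at this
    simp only [Finset.mem_insert, Finset.mem_singleton] at this
    rcases this with rfl | rfl | rfl
    · omega
    · obtain rfl : m = 2 := by omega
      by_cases hq3 : 3 ≤ q
      · exact .inr <| .inr <| .inr <| .inl ⟨hq3, D, hD, h⟩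
      · obtain rfl : q = 2 := by omega
        obtain ⟨E, hE, hEH⟩ := CfsgLib.Geo.Asch.planes_to_lines hF (by norm_num) hD
        exact .inr <| .inr <| .inl ⟨by norm_num, E, hE, CfsgLib.Geo.Asch.eq_inf_of_maximal hH
          (hEH H (hH.1.le.trans inf_le_left) (h.le.trans inf_le_left))
          (CfsgLib.Geo.Asch.not_SU_le_decompositionStabilizer hq hF (by norm_num) hE)⟩
    · obtain rfl : m = 1 := by omega
      by_cases hq3 : q = 3
      · subst hq3
        exact (CfsgLib.Geo.Asch.lines_three_not_maximal hF hD hH h).elim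
      · exact .inr <| .inr <| .inl ⟨hq3, D, hD, h⟩
  · obtain rfl : k = 2 := by omega
    by_cases hq4 : 4 ≤ q
    · exact .inr <| .inr <| .inr <| .inr <| .inl ⟨hq4, D, hD, hts, h⟩
    · obtain ⟨F₀, P, ζ, hc, hz, hz2, h', hsing, hle⟩ := CfsgLib.Geo.Asch.pairs_to_symplectic hF (by omega) hD hts
        hH.1.le (h.le.trans inf_le_left)
      exact .inr <| .inr <| .inr <| .inr <| .inr <| .inr <| .inl ⟨F₀, P, ζ, hc, hz, hz2, h', hsing,
        CfsgLib.Geo.Asch.eq_inf_of_maximal hH hle (CfsgLib.Geo.Asch.not_SU_le_subfieldSubgroup' hq hF (by norm_num)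
          (CfsgLib.Geo.Asch.ne_top_of_index Nat.prime_two hc) P)⟩
  · have h' : r ∈ Nat.divisors 4 := Nat.mem_divisors.2 ⟨hrn, by norm_num⟩
    rw [show Nat.divisors 4 = {1, 2, 4} by decide] at h'
    simp only [Finset.mem_insert, Finset.mem_singleton] at h'
    rcases h' with rfl | rfl | rfl
    · norm_num at hr
    · exact absurd hro (by decide)
    · norm_num at hr
  · exfalso
    nlinarith
  · rcases CfsgLib.Geo.Asch.IsHermRational.cases F hc hrat with ⟨hro, h'⟩ | ⟨hqo, hc2, h'⟩ |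
      ⟨-, hc2, ζ, hz, hz2, h', hsing⟩
    · exact .inr <| .inr <| .inr <| .inr <| .inr <| .inl ⟨F₀, r, P, hr, hro, hc, h', h⟩
    · exact .inr <| .inr <| .inr <| .inr <| .inr <| .inr <| .inr <| .inl ⟨hqo, F₀, P, hc2, h', h⟩
    · exact .inr <| .inr <| .inr <| .inr <| .inr <| .inr <| .inl ⟨F₀, P, ζ, hc2, hz, hz2, h', hsing, h⟩
  · obtain ⟨p, a, k, hp, -, hqa, hrp, hk, hrk, hst, habs, hRU, -, -, hcase⟩ := hR
    rcases hcase with ⟨hro, -⟩ | ⟨rfl, rfl, hp4, hz, hcard⟩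
    · obtain rfl := (Nat.prime_dvd_prime_iff_eq hr Nat.prime_two).1
        (hr.dvd_of_dvd_pow (n := 2) (by rw [show 2 ^ 2 = r ^ k by rw [← hrk]; norm_num]; exact dvd_pow_self r (by omega)))
      exact absurd hro (by decide)
    · obtain rfl : k = 2 := Nat.pow_right_injective (le_refl 2) (show 2 ^ k = 2 ^ 2 by rw [← hrk])
      rw [pow_one] at hqa
      exact .inr <| .inr <| .inr <| .inr <| .inr <| .inr <| .inr <| .inr <| .inl ⟨p, R, hp, hqa, hp4, hst, habs, (fun g hg => ⟨1, fun u v => by rw [Units.val_one, one_mul]; exact hRU hg u v⟩), by rw [hcard]; norm_num, hz, h⟩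
  · exfalso
    have h2 : d ^ 2 ≤ d ^ t := Nat.pow_le_pow_right (by omega) ht
    nlinarith
  · exact .inr <| .inr <| .inr <| .inr <| .inr <| .inr <| .inr <| .inr <| .inr h

end Cfsg.Agent.S5784
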