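import Cfsg.Statements.S5796
import Mathlib
import Cfsg.Agent.Lib.Geo.Asch.UnitMax
import Cfsg.Agent.Lib.Geo.Asch.UnitFiveField

set_option autoImplicit false
open Cfsg

namespace Cfsg.Agent.S5796

/-- Every maximal subgroup of SU_5(q) is of one of the listed geometric types or lies in the residual class. Let F be the field with q² elements (characteristic p), f the standard unitary form Σ u_i v_i^q on F^5, and H a maximal subgroup of SU_5(q) (inside GL_5(F)). Then H is the intersection with SU_5(q) of one of: the stabiliser of a non-zero totally isotropic subspace; the stabiliser of a non-degenerate 1-space or 2-space; the stabiliser of a decomposition into five mutually orthogonal non-degenerate 1-spaces; for q ≥ 3, the normaliser of an adjoint-closed degree-5 subfield of the matrix algebra; a subfield group of odd prime index whose F₀-structure carries f; for q odd, a subfield group of index 2 whose F₀-structure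 carries f; for q = p ≡ 4 mod 5 or q = p² with p ≡ 2, 3 mod 5, the normaliser of an absolutely irreducible 5-group of exponent 5, order 125 and centre of order 5 with all characteristic abelian subgroups cyclic inside the similarity group of f — or else H lies in the residual class of the unitary case. -/
theorem result {F : Type*} [Field F] [Fintype F] (q : ℕ) (hF : Fintype.card F = q ^ 2) (H : Subgroup (Matrix.GeneralLinearGroup (Fin 5) F)) (hH : Cfsg.Geo.IsMaximalIn (Cfsg.GU 5 F q ⊓ Cfsg.Geo.specialLinear (Fin 5) F) H) :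
    (∃ W : Submodule F (Fin 5 → F), W ≠ ⊥ ∧ Cfsg.Geo.IsTotallySingularFor (Cfsg.hermForm 5 F q) W ∧ H = Cfsg.Geo.subspaceStabilizer W ⊓ (Cfsg.GU 5 F q ⊓ Cfsg.Geo.specialLinear (Fin 5) F)) ∨
    (∃ W : Submodule F (Fin 5 → F), W ≠ ⊥ ∧ Cfsg.Geo.IsNondegenerateOn (Cfsg.hermForm 5 F q) W ∧ 2 * Module.finrank F W < 5 ∧ H = Cfsg.Geo.subspaceStabilizer W ⊓ (Cfsg.GU 5 F q ⊓ Cfsg.Geo.specialLinear (Fin 5) F)) ∨
    (∃ D : Fin 5 → Submodule F (Fin 5 → F), Cfsg.Geo.IsNondegenerateMDecomposition (Cfsg.hermForm 5 F q) 1 D ∧ H = Cfsg.Geo.decompositionStabilizer D ⊓ (Cfsg.GU 5 F q ⊓ Cfsg.Geo.specialLinear (Fin 5) F)) ∨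
    (3 ≤ q ∧ ∃ K : Subalgebra F (Matrix (Fin 5) (Fin 5) F), Cfsg.Geo.IsFieldSubalgebra 5 K ∧ Cfsg.Geo.IsAdjointClosedFor (Cfsg.hermForm 5 F q) K ∧ H = Cfsg.Geo.subalgebraNormalizer K ⊓ (Cfsg.GU 5 F q ⊓ Cfsg.Geo.specialLinear (Fin 5) F)) ∨
    (∃ (F₀ : Subfield F) (r : ℕ) (P : Matrix.GeneralLinearGroup (Fin 5) F), r.Prime ∧ Odd r ∧ Fintype.card F = Nat.card F₀ ^ r ∧ Cfsg.Geo.IsFormRationalStructure (Cfsg.hermForm 5 F q) F₀ 1 P ∧ H = Cfsg.Geo.subfieldSubgroup F₀ P ⊓ (Cfsg.GU 5 F q ⊓ Cfsg.Geo.specialLinear (Fin 5) F)) ∨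
    (Odd q ∧ ∃ (F₀ : Subfield F) (P : Matrix.GeneralLinearGroup (Fin 5) F), Fintype.card F = Nat.card F₀ ^ 2 ∧ Cfsg.Geo.IsFormRationalStructure (Cfsg.hermForm 5 F q) F₀ 1 P ∧ H = Cfsg.Geo.subfieldSubgroup F₀ P ⊓ (Cfsg.GU 5 F q ⊓ Cfsg.Geo.specialLinear (Fin 5) F)) ∨
    (∃ (p : ℕ) (R : Subgroup (Matrix.GeneralLinearGroup (Fin 5) F)), p.Prime ∧ CharP F p ∧ ((q = p ∧ p % 5 = 4) ∨ (q = p ^ 2 ∧ (p % 5 = 2 ∨ p % 5 = 3))) ∧ Cfsg.Geo.IsSymplecticTypeGroup 5 R ∧ Cfsg.Geo.ActsAbsolutelyIrreducibly (Cfsg.Geo.matrixSet R) ∧ R ≤ Cfsg.Geo.similarityGroup (Cfsg.hermForm 5 F q) ∧ Nat.card R = 125 ∧ Nat.card (Subgroup.center R) = 5 ∧ H = Cfsg.Geo.subgroupNormalizer R ⊓ (Cfsg.GU 5 F q ⊓ Cfsg.Geo.specialLinear (Fin 5) F)) ∨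
    Cfsg.Geo.InUnitaryResidualClass H := by
  classical
  obtain ⟨σ, hq⟩ := CfsgLib.Geo.Asch.exists_isQPow hF
  have h1q := CfsgLib.Geo.Asch.IsQPow.one_lt hF
  have h5 : Nat.Prime 5 := by norm_num
  rcases CfsgLib.Geo.Asch.unitary_maximal hq hF (by norm_num)
      (fun r R h => CfsgLib.Geo.Asch.not_SU_le_subgroupNormalizer' hq hF (by norm_num) h) hH with
    h | h | ⟨t, m, D, hD, htm, h⟩ | ⟨k, D, hk, hD, hts, h⟩ | ⟨r, K, hr, hro, hrn, hK, hKa, h⟩ |
    ⟨d, k, e, P, hd, hdk, hn', hT, h⟩ | ⟨F₀, r, P, hr, hc, hrat, h⟩ | ⟨r, R, hr, hR, h⟩ |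
    ⟨d, t, e, P, hd, ht, hn', -⟩ | h
  · exact .inl h
  · exact .inr <| .inl h
  · have h1 := hD.decomp.two_le
    rcases (Nat.dvd_prime h5).1 ⟨m, htm.symm⟩ with rfl | rfl
    · omega
    · obtain rfl : m = 1 := by omega
      exact .inr <| .inr <| .inl ⟨D, hD, h⟩
  · omega
  · obtain rfl : r = 5 := (Nat.prime_dvd_prime_iff_eq hr h5).1 hrn
    by_cases hq3 : 3 ≤ q
    · exact .inr <| .inr <| .inr <| .inl ⟨hq3, K, hK, hKa, h⟩
    · obtain rfl : q = 2 := by omega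
      exact (CfsgLib.Geo.Asch.field_two_five_not_maximal hF hK hKa hH h).elim
  · exfalso
    nlinarith
  · rcases CfsgLib.Geo.Asch.IsHermRational.cases F hc hrat with ⟨hro, h'⟩ | ⟨hqo, hc2, h'⟩ | ⟨hev, -⟩
    · exact .inr <| .inr <| .inr <| .inr <| .inl ⟨F₀, r, P, hr, hro, hc, h', h⟩
    · exact .inr <| .inr <| .inr <| .inr <| .inr <| .inl ⟨hqo, F₀, P, hc2, h', h⟩
    · exact absurd hev (by decide)
  · obtain ⟨p, a, k, hp, hchar, hqa, hrp, hk, hrk, hst, habs, hRU, -, ⟨-, -, -, hdvd, hmin⟩, hcase⟩ := hR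
    obtain rfl : r = 5 := (Nat.prime_dvd_prime_iff_eq hr h5).1 (hrk ▸ dvd_pow_self r (by omega))
    obtain rfl : k = 1 := Nat.pow_right_injective (by norm_num : 2 ≤ 5) (show 5 ^ k = 5 ^ 1 by rw [← hrk, pow_one])
    rcases hcase with ⟨-, hz, -, hcard⟩ | ⟨h52, -⟩
    swap
    · omega
    rw [hz] at hdvd hmin
    have ha0 : a ≠ 0 := by
      rintro rfl
      rw [pow_zero] at hqa
      omega
    have hp5 : p % 5 ≠ 0 := fun h0 =>
      hrp ((Nat.prime_dvd_prime_iff_eq h5 hp).1 (Nat.dvd_of_mod_eq_zero h0))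
    have key : ∀ d : ℕ, 5 ∣ p ^ d - 1 ↔ (p % 5) ^ d % 5 = 1 := fun d => by
      rw [← Nat.modEq_iff_dvd' (Nat.one_le_pow _ _ hp.pos), ← Nat.pow_mod, Nat.ModEq]
      omega
    have h4 : 5 ∣ p ^ 4 - 1 := by
      rw [key]
      have := Nat.mod_lt p (show 5 > 0 by norm_num)
      interval_cases hr5 : p % 5 <;> first | omega | rfl
    have ha2 : a ≤ 2 := by
      by_contra ha
      exact hmin 4 (by norm_num) (by omega) h4
    rw [key] at hdvd
    have h1 : ¬ 5 ∣ p ^ 1 - 1 := hmin 1 one_pos (by omega)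
    rw [key, pow_one, Nat.mod_mod] at h1
    have hlt := Nat.mod_lt p (show 5 > 0 by norm_num)
    have hres : ((q = p ∧ p % 5 = 4) ∨ (q = p ^ 2 ∧ (p % 5 = 2 ∨ p % 5 = 3))) := by
      rcases (show a = 1 ∨ a = 2 by omega) with rfl | rfl
      · refine Or.inl ⟨by rw [hqa, pow_one], ?_⟩
        interval_cases hr5 : p % 5 <;> first | omega | (norm_num at hdvd) | (norm_num at h1)
      · have h2 : ¬ 5 ∣ p ^ 2 - 1 := hmin 2 two_pos (by omega)
        rw [key] at h2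
        refine Or.inr ⟨hqa, ?_⟩
        interval_cases hr5 : p % 5 <;> first | omega | (norm_num at hdvd) | (norm_num at h1) | (norm_num at h2)
    exact .inr <| .inr <| .inr <| .inr <| .inr <| .inr <| .inl ⟨p, R, hp, hchar, hres, hst, habs,
      (fun g hg => ⟨1, fun u v => by rw [Units.val_one, one_mul]; exact hRU hg u v⟩), by rw [hcard]; norm_num, hz, h⟩
  · exfalso
    have h2 : d ^ 2 ≤ d ^ t := Nat.pow_le_pow_right (by omega) ht
    nlinarith
  · exact .inr <| .inr <| .inr <| .inr <| .inr <| .inr <| .inr h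

end Cfsg.Agent.S5796
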