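import Cfsg.Statements.S5802
import Mathlib
import Cfsg.Agent.Lib.Geo.Asch.UnitSixField

set_option autoImplicit false
open Cfsg

namespace Cfsg.Agent.S5802

/-- Every maximal subgroup of SU_6(q) is of one of the listed geometric types or lies in the residual class. Let F be the field with q² elements, f the standard unitary form Σ u_i v_i^q on F^6, and H a maximal subgroup of SU_6(q) (inside GL_6(F)). Then H is the intersection with SU_6(q) of one of: the stabiliser of a non-zero totally isotropic subspace; the stabiliser of a non-degenerate 1- or 2-space; for q ≥ 3, the stabiliser of a decomposition into six mutually orthogonal non-degenerate 1-spaces; for q ≥ 3, of a decomposition into three mutually orthogonal non-degenerate 2-spaces; of a decomposition into two orthogonal non-degenerate 3-spaces; of a decomposition into two totally isotropic 3-spaces; for q ≥ 3, the normaliser of an adjoint-closed degree-3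 subfield of the matrix algebra; for q ≥ 3, the stabiliser of a tensor decomposition of f into unitary forms on F^2 and F^3; a subfield group of odd prime index whose F₀-structure carries f; a subfield group of index 2 and symplectic type; for q odd, a subfield group of index 2 and orthogonal type — or else H lies in the residual class of the unitary case. -/
theorem result {F : Type*} [Field F] [Fintype F] (q : ℕ) (hF : Fintype.card F = q ^ 2) (H : Subgroup (Matrix.GeneralLinearGroup (Fin 6) F)) (hH : Cfsg.Geo.IsMaximalIn (Cfsg.GU 6 F q ⊓ Cfsg.Geo.specialLinear (Fin 6) F) H) :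
    (∃ W : Submodule F (Fin 6 → F), W ≠ ⊥ ∧ Cfsg.Geo.IsTotallySingularFor (Cfsg.hermForm 6 F q) W ∧ H = Cfsg.Geo.subspaceStabilizer W ⊓ (Cfsg.GU 6 F q ⊓ Cfsg.Geo.specialLinear (Fin 6) F)) ∨
    (∃ W : Submodule F (Fin 6 → F), W ≠ ⊥ ∧ Cfsg.Geo.IsNondegenerateOn (Cfsg.hermForm 6 F q) W ∧ 2 * Module.finrank F W < 6 ∧ H = Cfsg.Geo.subspaceStabilizer W ⊓ (Cfsg.GU 6 F q ⊓ Cfsg.Geo.specialLinear (Fin 6) F)) ∨
    (3 ≤ q ∧ ∃ D : Fin 6 → Submodule F (Fin 6 → F), Cfsg.Geo.IsNondegenerateMDecomposition (Cfsg.hermForm 6 F q) 1 D ∧ H = Cfsg.Geo.decompositionStabilizer D ⊓ (Cfsg.GU 6 F q ⊓ Cfsg.Geo.specialLinear (Fin 6) F)) ∨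
    (3 ≤ q ∧ ∃ D : Fin 3 → Submodule F (Fin 6 → F), Cfsg.Geo.IsNondegenerateMDecomposition (Cfsg.hermForm 6 F q) 2 D ∧ H = Cfsg.Geo.decompositionStabilizer D ⊓ (Cfsg.GU 6 F q ⊓ Cfsg.Geo.specialLinear (Fin 6) F)) ∨
    (∃ D : Fin 2 → Submodule F (Fin 6 → F), Cfsg.Geo.IsNondegenerateMDecomposition (Cfsg.hermForm 6 F q) 3 D ∧ H = Cfsg.Geo.decompositionStabilizer D ⊓ (Cfsg.GU 6 F q ⊓ Cfsg.Geo.specialLinear (Fin 6) F)) ∨
    (∃ D : Fin 2 → Submodule F (Fin 6 → F), Cfsg.Geo.IsMDecomposition 3 D ∧ (∀ i, Cfsg.Geo.IsTotallySingularFor (Cfsg.hermForm 6 F q) (D i)) ∧ H = Cfsg.Geo.decompositionStabilizer D ⊓ (Cfsg.GU 6 F q ⊓ Cfsg.Geo.specialLinear (Fin 6) F)) ∨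
    (3 ≤ q ∧ ∃ K : Subalgebra F (Matrix (Fin 6) (Fin 6) F), Cfsg.Geo.IsFieldSubalgebra 3 K ∧ Cfsg.Geo.IsAdjointClosedFor (Cfsg.hermForm 6 F q) K ∧ H = Cfsg.Geo.subalgebraNormalizer K ⊓ (Cfsg.GU 6 F q ⊓ Cfsg.Geo.specialLinear (Fin 6) F)) ∨
    (3 ≤ q ∧ ∃ (e : Fin 6 ≃ Fin 2 × Fin 3) (P : Matrix.GeneralLinearGroup (Fin 6) F) (f₁ : (Fin 2 → F) → (Fin 2 → F) → F) (f₂ : (Fin 3 → F) → (Fin 3 → F) → F), Cfsg.Geo.IsUnitaryFormPow q f₁ ∧ Cfsg.Geo.IsUnitaryFormPow q f₂ ∧ Cfsg.Geo.IsTensorFormStructure (fun x : F => x ^ q) (Cfsg.hermForm 6 F q) f₁ f₂ e P ∧ H = Cfsg.Geo.tensorProductSubgroup 2 3 e P ⊓ (Cfsg.GU 6 F q ⊓ Cfsg.Geo.specialLinear (Fin 6) F)) ∨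
    (∃ (F₀ : Subfield F) (r : ℕ) (P : Matrix.GeneralLinearGroup (Fin 6) F), r.Prime ∧ Odd r ∧ Fintype.card F = Nat.card F₀ ^ r ∧ Cfsg.Geo.IsFormRationalStructure (Cfsg.hermForm 6 F q) F₀ 1 P ∧ H = Cfsg.Geo.subfieldSubgroup F₀ P ⊓ (Cfsg.GU 6 F q ⊓ Cfsg.Geo.specialLinear (Fin 6) F)) ∨
    (∃ (F₀ : Subfield F) (P : Matrix.GeneralLinearGroup (Fin 6) F) (ζ : F), Fintype.card F = Nat.card F₀ ^ 2 ∧ ζ ≠ 0 ∧ ζ + ζ ^ q = 0 ∧ Cfsg.Geo.IsFormRationalStructure (Cfsg.hermForm 6 F q) F₀ ζ P ∧ (∀ u : Fin 6 → F, (∀ i, u i ∈ F₀) → (Cfsg.hermForm 6 F q) (Matrix.mulVec (P : Matrix (Fin 6) (Fin 6) F) u) (Matrix.mulVec (P : Matrix (Fin 6) (Fin 6) F) u) = 0) ∧ H = Cfsg.Geo.subfieldSubgroup F₀ P ⊓ (Cfsg.GU 6 F q ⊓ Cfsg.Geo.specialLinear (Fin 6) F)) ∨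
    (Odd q ∧ ∃ (F₀ : Subfield F) (P : Matrix.GeneralLinearGroup (Fin 6) F), Fintype.card F = Nat.card F₀ ^ 2 ∧ Cfsg.Geo.IsFormRationalStructure (Cfsg.hermForm 6 F q) F₀ 1 P ∧ H = Cfsg.Geo.subfieldSubgroup F₀ P ⊓ (Cfsg.GU 6 F q ⊓ Cfsg.Geo.specialLinear (Fin 6) F)) ∨
    Cfsg.Geo.InUnitaryResidualClass H := by
  classical
  obtain ⟨σ, hq⟩ := CfsgLib.Geo.Asch.exists_isQPow hF
  have h1q := CfsgLib.Geo.Asch.IsQPow.one_lt hF
  rcases CfsgLib.Geo.Asch.unitary_maximal hq hF (by norm_num)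
      (fun r R h => CfsgLib.Geo.Asch.not_SU_le_subgroupNormalizer' hq hF (by norm_num) h) hH with
    h | h | ⟨t, m, D, hD, htm, h⟩ | ⟨k, D, hk, hD, hts, h⟩ | ⟨r, K, hr, hro, hrn, hK, hKa, h⟩ |
    ⟨d, k, e, P, hd, hdk, hn', hT, h⟩ | ⟨F₀, r, P, hr, hc, hrat, h⟩ | ⟨r, R, hr, hR, h⟩ |
    ⟨d, t, e, P, hd, ht, hn', -⟩ | h
  · exact .inl h
  · exact .inr <| .inl h
  · have h1 := hD.decomp.two_le
    have : t ∈ Nat.divisors 6 := Nat.mem_divisors.2 ⟨⟨m, htm.symm⟩, by norm_num⟩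
    rw [show Nat.divisors 6 = {1, 2, 3, 6} by decide] at this
    simp only [Finset.mem_insert, Finset.mem_singleton] at this
    rcases this with rfl | rfl | rfl | rfl
    · omega
    · obtain rfl : m = 3 := by omega
      exact .inr <| .inr <| .inr <| .inr <| .inl ⟨D, hD, h⟩
    · obtain rfl : m = 2 := by omega
      by_cases hq3 : 3 ≤ q
      · exact .inr <| .inr <| .inr <| .inl ⟨hq3, D, hD, h⟩
      · obtain rfl : q = 2 := by omega
        obtain ⟨E, hE, hEH⟩ := CfsgLib.Geo.Asch.planes_to_lines hF (by norm_num) hD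
        exact (CfsgLib.Geo.Asch.lines_two_six_not_maximal hF hE hH (CfsgLib.Geo.Asch.eq_inf_of_maximal hH
          (hEH H (hH.1.le.trans inf_le_left) (h.le.trans inf_le_left))
          (CfsgLib.Geo.Asch.not_SU_le_decompositionStabilizer hq hF (by norm_num) hE))).elim
    · obtain rfl : m = 1 := by omega
      by_cases hq3 : 3 ≤ q
      · exact .inr <| .inr <| .inl ⟨hq3, D, hD, h⟩
      · obtain rfl : q = 2 := by omega
        exact (CfsgLib.Geo.Asch.lines_two_six_not_maximal hF hD hH h).elim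
  · obtain rfl : k = 3 := by omega
    exact .inr <| .inr <| .inr <| .inr <| .inr <| .inl ⟨D, hD, hts, h⟩
  · have h6 : r ∣ 2 * 3 := hrn
    rcases hr.dvd_mul.1 h6 with h' | h'
    · obtain rfl := (Nat.prime_dvd_prime_iff_eq hr Nat.prime_two).1 h'
      exact absurd hro (by decide)
    · obtain rfl := (Nat.prime_dvd_prime_iff_eq hr (by norm_num : Nat.Prime 3)).1 h'
      by_cases hq3 : 3 ≤ q
      · exact .inr <| .inr <| .inr <| .inr <| .inr <| .inr <| .inl ⟨hq3, K, hK, hKa, h⟩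
      · obtain rfl : q = 2 := by omega
        obtain ⟨F₀, P, ζ, hc, hz, hz2, h', hsing, hle⟩ := CfsgLib.Geo.Asch.field_two_six_to_symplectic hF hK hKa
          hH.1.le (h.le.trans inf_le_left)
        exact .inr <| .inr <| .inr <| .inr <| .inr <| .inr <| .inr <| .inr <| .inr <| .inl ⟨F₀, P, ζ, hc, hz, hz2, h',
          hsing, CfsgLib.Geo.Asch.eq_inf_of_maximal hH hle (CfsgLib.Geo.Asch.not_SU_le_subfieldSubgroup' hq hF
            (by norm_num) (CfsgLib.Geo.Asch.ne_top_of_index Nat.prime_two hc) P)⟩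
  · have : d ∈ Nat.divisors 6 := Nat.mem_divisors.2 ⟨⟨k, hn'.symm⟩, by norm_num⟩
    rw [show Nat.divisors 6 = {1, 2, 3, 6} by decide] at this
    simp only [Finset.mem_insert, Finset.mem_singleton] at this
    obtain ⟨rfl, rfl⟩ : d = 2 ∧ k = 3 := by rcases this with rfl | rfl | rfl | rfl <;> omega
    by_cases hq3 : 3 ≤ q
    · exact .inr <| .inr <| .inr <| .inr <| .inr <| .inr <| .inr <| .inl ⟨hq3, e, P, _, _,
        CfsgLib.Geo.Asch.isUnitaryFormPow_hermForm hq 2, CfsgLib.Geo.Asch.isUnitaryFormPow_hermForm hq 3, hT, h⟩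
    · obtain rfl : q = 2 := by omega
      obtain ⟨D, hD, hDH⟩ := CfsgLib.Geo.Asch.tensor_two_to_halves hF (by norm_num) e P hT
      exact .inr <| .inr <| .inr <| .inr <| .inl ⟨D, hD, CfsgLib.Geo.Asch.eq_inf_of_maximal hH
        (hDH H (hH.1.le.trans inf_le_left) (h.le.trans inf_le_left))
        (CfsgLib.Geo.Asch.not_SU_le_decompositionStabilizer' hq hF (by norm_num) hD.decomp (by norm_num))⟩
  · rcases CfsgLib.Geo.Asch.IsHermRational.cases F hc hrat with ⟨hro, h'⟩ | ⟨hqo, hc2, h'⟩ |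
      ⟨-, hc2, ζ, hz, hz2, h', hsing⟩
    · exact .inr <| .inr <| .inr <| .inr <| .inr <| .inr <| .inr <| .inr <| .inl ⟨F₀, r, P, hr, hro, hc, h', h⟩
    · exact .inr <| .inr <| .inr <| .inr <| .inr <| .inr <| .inr <| .inr <| .inr <| .inr <| .inl
        ⟨hqo, F₀, P, hc2, h', h⟩
    · exact .inr <| .inr <| .inr <| .inr <| .inr <| .inr <| .inr <| .inr <| .inr <| .inl
        ⟨F₀, P, ζ, hc2, hz, hz2, h', hsing, h⟩
  · exfalso
    obtain ⟨p, a, k, -, -, -, -, hk, hrk, -⟩ := hR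
    have h2 : r ∣ 6 := hrk ▸ dvd_pow_self r (by omega)
    have : r ∈ Nat.divisors 6 := Nat.mem_divisors.2 ⟨h2, by norm_num⟩
    rw [show Nat.divisors 6 = {1, 2, 3, 6} by decide] at this
    simp only [Finset.mem_insert, Finset.mem_singleton] at this
    rcases this with rfl | rfl | rfl | rfl
    · exact Nat.not_prime_one hr
    · have : k < 3 := (Nat.pow_lt_pow_iff_right (by norm_num)).1 (hrk ▸ (by norm_num : 6 < 2 ^ 3))
      interval_cases k <;> simp at hrk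
    · have : k < 2 := (Nat.pow_lt_pow_iff_right (by norm_num)).1 (hrk ▸ (by norm_num : 6 < 3 ^ 2))
      interval_cases k <;> simp at hrk
    · norm_num at hr
  · exfalso
    have h2 : d ^ 2 ≤ d ^ t := Nat.pow_le_pow_right (by omega) ht
    nlinarith
  · exact .inr <| .inr <| .inr <| .inr <| .inr <| .inr <| .inr <| .inr <| .inr <| .inr <| .inr h

end Cfsg.Agent.S5802
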