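import Cfsg.Statements.S5804
import Cfsg.Agent.Lib.Geo.SympMaximal
import Cfsg.Agent.Lib.Geo.SympDecompMaximal
import Cfsg.Agent.Lib.Geo.SympPairMaximal
import Cfsg.Agent.Lib.Geo.FieldExtSympFinal
import Cfsg.Agent.Lib.Geo.SympOverfieldFinal
import Cfsg.Agent.Lib.Geo.SympSubfieldMaximal
import Cfsg.Agent.Lib.Geo.QuadInSymplectic
import Cfsg.Agent.Lib.Geo.MixTensor.Final

set_option autoImplicit false
open Cfsg

namespace Cfsg.Agent.S5804

/-- Maximal subgroups of Sp_6(q) of geometric type (any q). Let F be a finite field with q elements, f the standard alternating form on F^6 (coordinates Fin 3 ⊕ Fin 3) and Sp_6(F) its isometry group inside GL_6(F). Each of the following, intersected with Sp_6(F), is a maximal subgroup of Sp_6(F): (1) the stabiliser of any non-zero totally isotropic subspace (dimensions 1, 2, 3); (2) the stabiliser of any non-degenerate 2-space; (3) for q ≥ 3, the stabiliser of any decomposition of F^6 into three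 mutually orthogonal non-degenerate 2-spaces; (4) for q odd, the stabiliser of any decomposition into two totally isotropic 3-spaces; (5) the normaliser of any degree-3 subfield K of the matrix algebra whose elements are self-adjoint for f with f(k v, v) = 0 (f is the trace of an alternating form over K); (6) for q odd, the normaliser of any degree-2 subfield of the matrix algebra that is closed under adjoints but not self-adjoint (f is the trace of a multiple of a unitary form over K); (7) for q odd with q ≥ 5, the stabiliser of any tensor decomposition of f as (alternating form on F^2) ⊗ (non-degenerate symmetric bilinear form on F^3) up to a scalar; (8) every subfield group for a subfield F₀ with |F| = |F₀|^r, r prime, whose F₀-structure carries a non-zero scalar multiple of f; (9) for q even, the similarity group of any non-degenerate quadratic form whose polar form is f (either Witt type); its intersection with Sp_6(F) is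 the orthogonal group of that form. -/
theorem result {F : Type*} [Field F] [Fintype F] :
    (∀ W : Submodule F (Fin 3 ⊕ Fin 3 → F), W ≠ ⊥ → Cfsg.Geo.IsTotallySingularFor (Cfsg.sympForm 3 F) W → Cfsg.Geo.IsMaximalIn (Cfsg.spGL 3 F) (Cfsg.Geo.subspaceStabilizer W ⊓ Cfsg.spGL 3 F)) ∧
    (∀ W : Submodule F (Fin 3 ⊕ Fin 3 → F), W ≠ ⊥ → Cfsg.Geo.IsNondegenerateOn (Cfsg.sympForm 3 F) W → Module.finrank F W < 3 → Cfsg.Geo.IsMaximalIn (Cfsg.spGL 3 F) (Cfsg.Geo.subspaceStabilizer W ⊓ Cfsg.spGL 3 F)) ∧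
    (3 ≤ Fintype.card F → ∀ D : Fin 3 → Submodule F (Fin 3 ⊕ Fin 3 → F), Cfsg.Geo.IsNondegenerateMDecomposition (Cfsg.sympForm 3 F) 2 D → Cfsg.Geo.IsMaximalIn (Cfsg.spGL 3 F) (Cfsg.Geo.decompositionStabilizer D ⊓ Cfsg.spGL 3 F)) ∧
    (Odd (Fintype.card F) → ∀ D : Fin 2 → Submodule F (Fin 3 ⊕ Fin 3 → F), Cfsg.Geo.IsMDecomposition 3 D → (∀ i, Cfsg.Geo.IsTotallySingularFor (Cfsg.sympForm 3 F) (D i)) → Cfsg.Geo.IsMaximalIn (Cfsg.spGL 3 F) (Cfsg.Geo.decompositionStabilizer D ⊓ Cfsg.spGL 3 F)) ∧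
    (∀ K : Subalgebra F (Matrix (Fin 3 ⊕ Fin 3) (Fin 3 ⊕ Fin 3) F), Cfsg.Geo.IsFieldSubalgebra 3 K → Cfsg.Geo.IsSelfAdjointFor (Cfsg.sympForm 3 F) K → (∀ k ∈ K, ∀ v : (Fin 3 ⊕ Fin 3 → F), (Cfsg.sympForm 3 F) (Matrix.mulVec k v) v = 0) → Cfsg.Geo.IsMaximalIn (Cfsg.spGL 3 F) (Cfsg.Geo.subalgebraNormalizer K ⊓ Cfsg.spGL 3 F)) ∧
    (Odd (Fintype.card F) → ∀ K : Subalgebra F (Matrix (Fin 3 ⊕ Fin 3) (Fin 3 ⊕ Fin 3) F), Cfsg.Geo.IsFieldSubalgebra 2 K → Cfsg.Geo.IsAdjointClosedFor (Cfsg.sympForm 3 F) K → ¬ Cfsg.Geo.IsSelfAdjointFor (Cfsg.sympForm 3 F) K → Cfsg.Geo.IsMaximalIn (Cfsg.spGL 3 F) (Cfsg.Geo.subalgebraNormalizer K ⊓ Cfsg.spGL 3 F)) ∧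
    (Odd (Fintype.card F) → 5 ≤ Fintype.card F → ∀ (e : (Fin 3 ⊕ Fin 3) ≃ Fin 2 × Fin 3) (P : Matrix.GeneralLinearGroup (Fin 3 ⊕ Fin 3) F) (f₁ : (Fin 2 → F) → (Fin 2 → F) → F) (f₂ : (Fin 3 → F) → (Fin 3 → F) → F), Cfsg.Geo.IsSymplecticForm f₁ → Cfsg.Geo.IsSymmetricForm f₂ → Cfsg.Geo.IsTensorFormStructure id (Cfsg.sympForm 3 F) f₁ f₂ e P → Cfsg.Geo.IsMaximalIn (Cfsg.spGL 3 F) (Cfsg.Geo.tensorProductSubgroup 2 3 e P ⊓ Cfsg.spGL 3 F)) ∧
    (∀ (F₀ : Subfield F) (r : ℕ) (P : Matrix.GeneralLinearGroup (Fin 3 ⊕ Fin 3) F) (ζ : F), r.Prime → Fintype.card F = Nat.card F₀ ^ r → ζ ≠ 0 → Cfsg.Geo.IsFormRationalStructure (Cfsg.sympForm 3 F) F₀ ζ P → Cfsg.Geo.IsMaximalIn (Cfsg.spGL 3 F) (Cfsg.Geo.subfieldSubgroup F₀ P ⊓ Cfsg.spGL 3 F)) ∧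
    (¬ Odd (Fintype.card F) → ∀ Q : (Fin 3 ⊕ Fin 3 → F) → F, Cfsg.Geo.IsNondegenerateQuadraticForm Q → (∀ u v : (Fin 3 ⊕ Fin 3 → F), QuadraticMap.polar Q u v = (Cfsg.sympForm 3 F) u v) → Cfsg.Geo.IsMaximalIn (Cfsg.spGL 3 F) (Cfsg.Geo.quadSimilarityGroup Q ⊓ Cfsg.spGL 3 F)) := by
  have htwo : Odd (Fintype.card F) → (2 : F) ≠ 0 := fun hodd h2 => by
    have : ringChar F = 2 := by
      rcases (Nat.dvd_prime Nat.prime_two).1 (ringChar.dvd (show ((2 : ℕ) : F) = 0 by exact_mod_cast h2)) with h | h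
      · exact absurd h (CharP.ringChar_ne_one)
      · exact h
    exact Nat.not_even_iff_odd.2 hodd (Nat.even_iff.2 (FiniteField.even_card_of_char_two this))
  refine ⟨fun W hW0 hW => ?_, fun W hW0 hW hdim => ?_, fun hq D hD => ?_, fun hodd D hD hts => ?_,
    fun K hK hsa halt => ?_, fun hodd K hK hac hnsa => ?_, fun hodd hq e P f₁ f₂ hf₁ hf₂ hT => ?_,
    fun F₀ r P ζ hr hcard hζ hP => ?_, fun heven Q hQ hpol => ?_⟩
  · refine CfsgLib.Geo.SympMax.isMaximalIn_spGL W (CfsgLib.Geo.SympMax.isCoatom_stab_singular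
      (CfsgLib.Classical.Symp.sympBil_isAlt 3 F) (CfsgLib.Classical.Symp.sympBil_nondegenerate 3 F) hW0 ?_)
    exact fun u hu v hv => (CfsgLib.Classical.Symp.sympBil_apply 3 F u v).trans (hW u hu v hv)
  · refine CfsgLib.Geo.SympMax.isMaximalIn_spGL W (CfsgLib.Geo.SympMax.isCoatom_stab_nondeg
      (CfsgLib.Classical.Symp.sympBil_isAlt 3 F) (CfsgLib.Classical.Symp.sympBil_nondegenerate 3 F) hW0 ?_ ?_)
    · intro x hx h
      by_contra hx0
      obtain ⟨-, y, hy, hne⟩ := hW x hx hx0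
      exact hne ((CfsgLib.Classical.Symp.sympBil_apply 3 F x y).symm.trans (h y hy))
    · rw [CfsgLib.Classical.Symp.finrank_sympSpace]
      omega
  · refine CfsgLib.Geo.Roots.isMaximalIn_sympDecomp hD fun _ => ?_
    classical
    by_contra! h
    have h1 : Fintype.card F ≤ ({0, 1} : Finset F).card := Finset.card_le_card fun x _ => by
      by_cases h0 : x = 0
      · simp [h0]
      · simp [h x h0]
    have := Finset.card_le_two (a := (0 : F)) (b := 1)
    omega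
  · exact CfsgLib.Geo.SympPair.isMaximalIn_pair (htwo hodd) (le_refl 3) hD hts
  · exact CfsgLib.Geo.FieldExtSymp.isMaximalIn_sp' (by omega) Nat.prime_three (fun h => absurd h (by omega)) K hK hsa
      halt
  · exact CfsgLib.Geo.SympOverfield.isMaximalIn_sp' (Or.inl rfl) (htwo hodd) K hK hac hnsa
  · exact CfsgLib.Geo.MixTensor.maximal' (by omega) hodd le_rfl (fun _ => Or.inl rfl) (fun h => by omega) e P hf₁ hf₂
      hT
  · exact CfsgLib.Geo.SympSubfield.isMaximalIn_subfield le_rfl F₀ hr hcard P ζ hζ hP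
  · have h2 : ringChar F = 2 := by
      by_contra h
      exact heven (Nat.odd_iff.2 (FiniteField.odd_card_of_char_ne_two h))
    have : CharP F 2 := ringChar.of_eq h2
    exact CfsgLib.Geo.Roots.isMaximalIn_quad le_rfl CharTwo.two_eq_zero h2 hQ hpol

end Cfsg.Agent.S5804
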