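import Cfsg.Statements.S5813
import Cfsg.Agent.Lib.Geo.OrthSingular
import Cfsg.Agent.Lib.Geo.OrthNondeg
import Cfsg.Agent.Lib.Geo.OrthNondegSeven
import Cfsg.Agent.Lib.Geo.OrthBlockMax
import Cfsg.Agent.Lib.Geo.Frame.Main
import Cfsg.Agent.Lib.Geo.OrthExt.Matrix
import Cfsg.Agent.Lib.Geo.OrthSubfieldGL
import Cfsg.Agent.Lib.Classical.Quad.NegOne
import Cfsg.Agent.Lib.Classical.Quad.StandardForms

set_option autoImplicit false
open Cfsg

namespace Cfsg.Agent.S5813

/-- Maximal subgroups of Ω_9(q) of geometric type, q odd. Let F be a finite field of odd order q, Q the standard quadratic form x₀² + Σ x_i y_i on F^9 (coordinates Unit ⊕ (Fin 3 ⊕ Fin 3)), and Ω = Ω_9(q) the commutator subgroup of its isometry group, inside GL_9(F). Each of the following, intersected with Ω, is a maximal subgroup of Ω: (1) the stabiliser of any non-zero subspace on which Q vanishes identically (totally singular 1- to 4-spaces); (2) the stabiliser of any non-zero even-dimensional subspace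 W (dimension 2, 4, 6 or 8) on which the polar form of Q is non-degenerate (equivalently of its odd-dimensional orthogonal complement), except when q = 3 and W is a 2-space containing a non-zero singular vector (a plus-type plane); (3) for q = p prime, the stabiliser of any decomposition of F^9 into nine pairwise orthogonal, pairwise Q-isometric non-degenerate 1-spaces; (4) for q ≥ 5, the stabiliser of any decomposition of F^9 into three pairwise orthogonal, pairwise Q-isometric non-degenerate 3-spaces; (5) the normaliser of any degree-3 subfield K of the matrix algebra whose elements are self-adjoint for the polar form of Q (Q is then the trace of a quadratic form over K); (6) every subfield group for a subfield F₀ with |F| = |F₀|^r, r prime, whose F₀-structure carries Q; (7) for q ≥ 5, the stabiliser of any decomposition of the polar form of Q as the tensor square of a non-degenerate symmetric bilinear form on F^3 up to a scalar (tensor-wreath subgroup). -/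
theorem result {F : Type*} [Field F] [Fintype F] (hodd : Odd (Fintype.card F)) :
    (∀ W : Submodule F (Unit ⊕ (Fin 3 ⊕ Fin 3) → F), W ≠ ⊥ → Cfsg.Geo.IsTotallySingularQuad (Cfsg.quadFormOdd 3 F) W → Cfsg.Geo.IsMaximalIn (Cfsg.Geo.omegaGL (Cfsg.quadFormOdd 3 F)) (Cfsg.Geo.subspaceStabilizer W ⊓ Cfsg.Geo.omegaGL (Cfsg.quadFormOdd 3 F))) ∧
    (∀ W : Submodule F (Unit ⊕ (Fin 3 ⊕ Fin 3) → F), W ≠ ⊥ → Even (Module.finrank F W) → Cfsg.Geo.IsNondegenerateOn (QuadraticMap.polar (Cfsg.quadFormOdd 3 F)) W → ¬ (Fintype.card F = 3 ∧ Module.finrank F W = 2 ∧ Cfsg.Geo.IsPlusTypeOn (Cfsg.quadFormOdd 3 F) W) → Cfsg.Geo.IsMaximalIn (Cfsg.Geo.omegaGL (Cfsg.quadFormOdd 3 F)) (Cfsg.Geo.subspaceStabilizer W ⊓ Cfsg.Geo.omegaGL (Cfsg.quadFormOdd 3 F))) ∧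
    ((Fintype.card F).Prime → ∀ D : Fin 7 → Submodule F (Unit ⊕ (Fin 3 ⊕ Fin 3) → F), Cfsg.Geo.IsOrthogonalMDecomposition (Cfsg.quadFormOdd 3 F) 1 D → Cfsg.Geo.IsMaximalIn (Cfsg.Geo.omegaGL (Cfsg.quadFormOdd 3 F)) (Cfsg.Geo.decompositionStabilizer D ⊓ Cfsg.Geo.omegaGL (Cfsg.quadFormOdd 3 F))) ∧
    (∀ (F₀ : Subfield F) (r : ℕ) (P : Matrix.GeneralLinearGroup (Unit ⊕ (Fin 3 ⊕ Fin 3)) F), r.Prime → Fintype.card F = Nat.card F₀ ^ r → Cfsg.Geo.IsQuadFormRationalStructure (Cfsg.quadFormOdd 3 F) F₀ P → Cfsg.Geo.IsMaximalIn (Cfsg.Geo.omegaGL (Cfsg.quadFormOdd 3 F)) (Cfsg.Geo.subfieldSubgroup F₀ P ⊓ Cfsg.Geo.omegaGL (Cfsg.quadFormOdd 3 F))) := by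
  have h2 : (2 : F) ≠ 0 := CfsgLib.Classical.Quad.two_ne_zero_of_odd rfl hodd
  have hq3 : ¬ 5 ≤ Fintype.card F → Fintype.card F = 3 := fun h => by
    have := Fintype.one_lt_card (α := F)
    obtain ⟨r, hr⟩ := hodd
    omega
  obtain ⟨Q, hQf, hQ⟩ : ∃ Q : QuadraticForm F (Unit ⊕ (Fin 3 ⊕ Fin 3) → F),
      ⇑Q = Cfsg.quadFormOdd 3 F ∧ (QuadraticMap.polarBilin Q).Nondegenerate :=
    ⟨CfsgLib.Classical.Quad.qOdd 3 F, CfsgLib.Classical.Quad.coe_qOdd 3 F,
      CfsgLib.Classical.Quad.qOdd_nondeg h2 3⟩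
  rw [← hQf]
  have hc : Fintype.card (Unit ⊕ (Fin 3 ⊕ Fin 3)) = 7 := by simp
  have hn : Module.finrank F (Unit ⊕ (Fin 3 ⊕ Fin 3) → F) = 7 := by rw [Module.finrank_pi, hc]
  refine ⟨fun W hW0 hW => ?_, fun W hW0 hev hW hex => ?_, fun hp D hD => ?_,
    fun F₀ r P hr hcard hP => ?_⟩
  · exact CfsgLib.Geo.OrthMax.isMaximalIn_omega hQ (by omega) W
      (CfsgLib.Geo.OrthMax.stab_singular_ne hQ (by omega) hW0 hW) fun K hK hKE =>
        CfsgLib.Geo.OrthMax.le_of_stab_singular_lt hQ (by omega) hW (fun h => by omega) hK hKE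
  · have hWn : CfsgLib.Geo.OrthMax.Nondeg Q W := fun x hx hy => by
      by_contra h0
      obtain ⟨-, y, hy', hne⟩ := hW x hx h0
      exact hne (hy y hy')
    have hU := CfsgLib.Geo.OrthMax.finrank_perp hQ W
    have hle := Submodule.finrank_le W
    have hpp := CfsgLib.Geo.OrthMax.perp_perp hQ W
    have hW1 : W ≠ ⊤ := fun e => by
      rw [e, finrank_top, hn] at hev
      obtain ⟨r, hr⟩ := hev
      omega
    have hplane : Module.finrank F W = 2 → (∃ u ∈ W, u ≠ 0 ∧ Q u = 0) → 4 ≤ Nat.card F := by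
      rintro h ⟨u, hu, hu0, hqu⟩
      rw [Nat.card_eq_fintype_card]
      by_contra h4
      refine hex ⟨hq3 (by omega), h, Submodule.span F {u}, by simpa using hu, ?_, ?_⟩
      · intro x hx
        obtain ⟨c, rfl⟩ := Submodule.mem_span_singleton.1 hx
        rw [CfsgLib.Classical.Quad.apply_smul, hqu, mul_zero]
      · rw [finrank_span_singleton hu0, h]
    have hWne : Module.finrank F W ≠ 0 := fun h => hW0 (Submodule.finrank_eq_zero.1 h)
    have hW7 : Module.finrank F W ≠ 7 := fun h => by rw [h] at hev; exact absurd hev (by decide)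
    have hU' := hWn.perp hQ
    have hst : CfsgLib.Geo.OrthMax.stab hQ (CfsgLib.Geo.OrthMax.perp Q W) = CfsgLib.Geo.OrthMax.stab hQ W := by
      rw [CfsgLib.Geo.OrthMax.stab, CfsgLib.Geo.OrthMax.stab, CfsgLib.Geo.OrthMax.oStab_perp hQ]
    have hev' : Module.finrank F W = 2 ∨ Module.finrank F W = 4 ∨ Module.finrank F W = 6 := by
      obtain ⟨r, hr⟩ := hev
      omega
    rcases hev' with h | h | h
    · exact CfsgLib.Geo.OrthMax.isMaximalIn_omega hQ (by omega) W
        (CfsgLib.Geo.OrthMax.stab_nondeg_ne hQ (by omega) hWn hW0 (by omega)) fun K hK hKE =>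
          CfsgLib.Geo.OrthMax.le_of_stab_nondeg_lt hQ hWn (by omega) (by omega) (fun h' => by omega) hplane hK hKE
    all_goals
      refine CfsgLib.Geo.OrthMax.isMaximalIn_omega hQ (by omega) W ?_ fun K hK hKE => ?_
      · rw [← hst]
        exact CfsgLib.Geo.OrthMax.stab_nondeg_ne hQ (by omega) hU'
          (fun e => by rw [e, finrank_bot] at hU; omega) (by rw [hpp]; omega)
      rw [← hst] at hK
    · obtain ⟨g, hgK, hg⟩ := SetLike.exists_of_lt hK
      exact CfsgLib.Geo.OrthMax.le_of_stab_nondeg_lt_four hQ (by omega) hU' hK.le h2 (by rw [hpp]; omega)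
        (by rw [hpp]; omega) (by omega) hgK fun hh => hg ⟨hh, hKE hgK⟩
    · exact CfsgLib.Geo.OrthMax.le_of_stab_nondeg_lt hQ hU' (by rw [hpp]; omega) (by rw [hpp]; omega)
        (fun h' => by omega) (fun h' => by omega) hK hKE
  · exact CfsgLib.Geo.Frame.isMaximalIn_frame hQ hp hodd (by omega) (by omega) hD
  · exact CfsgLib.Geo.OrthSub.isMaximalIn_subfield hQ (by omega) F₀ hr hcard P one_ne_zero fun u hu => by
      simp only [one_mul]
      exact hP u hu

end Cfsg.Agent.S5813
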