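import Cfsg.Statements.S5820
import Mathlib
import Cfsg.Agent.Lib.Geo.Asch.UnitTwo

set_option autoImplicit false
open Cfsg

namespace Cfsg.Agent.S5820

/-- Every maximal subgroup of SU_8(q) is of one of the listed geometric types or lies in the residual class. Let F be the field with q² elements, f the standard unitary form Σ u_i v_i^q on F^8, and H a maximal subgroup of SU_8(q) (inside GL_8(F)). Then H is the intersection with SU_8(q) of one of: the stabiliser of a non-zero totally isotropic subspace; the stabiliser of a non-degenerate 1-, 2- or 3-space; the stabiliser of a decomposition into eight mutually orthogonal non-degenerate 1-spaces; for q ≥ 3, of a decomposition into four mutually orthogonal non-degenerate 2-spaces; of a decomposition into two orthogonal non-degenerate 4-spaces; of a decomposition into two totally isotropic 4-spaces; for q ≥ 3, the stabiliser of a tensor decomposition of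 f into unitary forms on F^2 and F^4; a subfield group of odd prime index whose F₀-structure carries f; a subfield group of index 2 and symplectic type; for q odd, a subfield group of index 2 and orthogonal type; for q = p ≡ 3 mod 4 prime, the normaliser of an absolutely irreducible symplectic-type 2-group of order 2^8 with centre of order 4 inside the similarity group of f — or else H lies in the residual class of the unitary case. -/
theorem result {F : Type*} [Field F] [Fintype F] (q : ℕ) (hF : Fintype.card F = q ^ 2) (H : Subgroup (Matrix.GeneralLinearGroup (Fin 8) F)) (hH : Cfsg.Geo.IsMaximalIn (Cfsg.GU 8 F q ⊓ Cfsg.Geo.specialLinear (Fin 8) F) H) :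
    (∃ W : Submodule F (Fin 8 → F), W ≠ ⊥ ∧ Cfsg.Geo.IsTotallySingularFor (Cfsg.hermForm 8 F q) W ∧ H = Cfsg.Geo.subspaceStabilizer W ⊓ (Cfsg.GU 8 F q ⊓ Cfsg.Geo.specialLinear (Fin 8) F)) ∨
    (∃ W : Submodule F (Fin 8 → F), W ≠ ⊥ ∧ Cfsg.Geo.IsNondegenerateOn (Cfsg.hermForm 8 F q) W ∧ 2 * Module.finrank F W < 8 ∧ H = Cfsg.Geo.subspaceStabilizer W ⊓ (Cfsg.GU 8 F q ⊓ Cfsg.Geo.specialLinear (Fin 8) F)) ∨
    (∃ D : Fin 8 → Submodule F (Fin 8 → F), Cfsg.Geo.IsNondegenerateMDecomposition (Cfsg.hermForm 8 F q) 1 D ∧ H = Cfsg.Geo.decompositionStabilizer D ⊓ (Cfsg.GU 8 F q ⊓ Cfsg.Geo.specialLinear (Fin 8) F)) ∨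
    (3 ≤ q ∧ ∃ D : Fin 4 → Submodule F (Fin 8 → F), Cfsg.Geo.IsNondegenerateMDecomposition (Cfsg.hermForm 8 F q) 2 D ∧ H = Cfsg.Geo.decompositionStabilizer D ⊓ (Cfsg.GU 8 F q ⊓ Cfsg.Geo.specialLinear (Fin 8) F)) ∨
    (∃ D : Fin 2 → Submodule F (Fin 8 → F), Cfsg.Geo.IsNondegenerateMDecomposition (Cfsg.hermForm 8 F q) 4 D ∧ H = Cfsg.Geo.decompositionStabilizer D ⊓ (Cfsg.GU 8 F q ⊓ Cfsg.Geo.specialLinear (Fin 8) F)) ∨
    (∃ D : Fin 2 → Submodule F (Fin 8 → F), Cfsg.Geo.IsMDecomposition 4 D ∧ (∀ i, Cfsg.Geo.IsTotallySingularFor (Cfsg.hermForm 8 F q) (D i)) ∧ H = Cfsg.Geo.decompositionStabilizer D ⊓ (Cfsg.GU 8 F q ⊓ Cfsg.Geo.specialLinear (Fin 8) F)) ∨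
    (3 ≤ q ∧ ∃ (e : Fin 8 ≃ Fin 2 × Fin 4) (P : Matrix.GeneralLinearGroup (Fin 8) F) (f₁ : (Fin 2 → F) → (Fin 2 → F) → F) (f₂ : (Fin 4 → F) → (Fin 4 → F) → F), Cfsg.Geo.IsUnitaryFormPow q f₁ ∧ Cfsg.Geo.IsUnitaryFormPow q f₂ ∧ Cfsg.Geo.IsTensorFormStructure (fun x : F => x ^ q) (Cfsg.hermForm 8 F q) f₁ f₂ e P ∧ H = Cfsg.Geo.tensorProductSubgroup 2 4 e P ⊓ (Cfsg.GU 8 F q ⊓ Cfsg.Geo.specialLinear (Fin 8) F)) ∨
    (∃ (F₀ : Subfield F) (r : ℕ) (P : Matrix.GeneralLinearGroup (Fin 8) F), r.Prime ∧ Odd r ∧ Fintype.card F = Nat.card F₀ ^ r ∧ Cfsg.Geo.IsFormRationalStructure (Cfsg.hermForm 8 F q) F₀ 1 P ∧ H = Cfsg.Geo.subfieldSubgroup F₀ P ⊓ (Cfsg.GU 8 F q ⊓ Cfsg.Geo.specialLinear (Fin 8) F)) ∨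
    (∃ (F₀ : Subfield F) (P : Matrix.GeneralLinearGroup (Fin 8) F) (ζ : F), Fintype.card F = Nat.card F₀ ^ 2 ∧ ζ ≠ 0 ∧ ζ + ζ ^ q = 0 ∧ Cfsg.Geo.IsFormRationalStructure (Cfsg.hermForm 8 F q) F₀ ζ P ∧ (∀ u : Fin 8 → F, (∀ i, u i ∈ F₀) → (Cfsg.hermForm 8 F q) (Matrix.mulVec (P : Matrix (Fin 8) (Fin 8) F) u) (Matrix.mulVec (P : Matrix (Fin 8) (Fin 8) F) u) = 0) ∧ H = Cfsg.Geo.subfieldSubgroup F₀ P ⊓ (Cfsg.GU 8 F q ⊓ Cfsg.Geo.specialLinear (Fin 8) F)) ∨
    (Odd q ∧ ∃ (F₀ : Subfield F) (P : Matrix.GeneralLinearGroup (Fin 8) F), Fintype.card F = Nat.card F₀ ^ 2 ∧ Cfsg.Geo.IsFormRationalStructure (Cfsg.hermForm 8 F q) F₀ 1 P ∧ H = Cfsg.Geo.subfieldSubgroup F₀ P ⊓ (Cfsg.GU 8 F q ⊓ Cfsg.Geo.specialLinear (Fin 8) F)) ∨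
    (∃ (p : ℕ) (R : Subgroup (Matrix.GeneralLinearGroup (Fin 8) F)), p.Prime ∧ q = p ∧ p % 4 = 3 ∧ Cfsg.Geo.IsSymplecticTypeGroup 2 R ∧ Cfsg.Geo.ActsAbsolutelyIrreducibly (Cfsg.Geo.matrixSet R) ∧ R ≤ Cfsg.Geo.similarityGroup (Cfsg.hermForm 8 F q) ∧ Nat.card R = 256 ∧ Nat.card (Subgroup.center R) = 4 ∧ H = Cfsg.Geo.subgroupNormalizer R ⊓ (Cfsg.GU 8 F q ⊓ Cfsg.Geo.specialLinear (Fin 8) F)) ∨
    Cfsg.Geo.InUnitaryResidualClass H := by
  classical
  obtain ⟨σ, hq⟩ := CfsgLib.Geo.Asch.exists_isQPow hF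
  have h1q := CfsgLib.Geo.Asch.IsQPow.one_lt hF
  have hplanes : ∀ D : Fin 4 → Submodule F (Fin 8 → F),
      Cfsg.Geo.IsNondegenerateMDecomposition (Cfsg.hermForm 8 F q) 2 D →
      H ≤ Cfsg.Geo.decompositionStabilizer D → q = 2 →
      ∃ E : Fin 8 → Submodule F (Fin 8 → F), Cfsg.Geo.IsNondegenerateMDecomposition (Cfsg.hermForm 8 F q) 1 E ∧
        H = Cfsg.Geo.decompositionStabilizer E ⊓ (Cfsg.GU 8 F q ⊓ Cfsg.Geo.specialLinear (Fin 8) F) := by
    rintro D hD hle rfl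
    obtain ⟨E, hE, hEH⟩ := CfsgLib.Geo.Asch.planes_to_lines hF (by norm_num) hD
    exact ⟨E, hE, CfsgLib.Geo.Asch.eq_inf_of_maximal hH (hEH H (hH.1.le.trans inf_le_left) hle)
      (CfsgLib.Geo.Asch.not_SU_le_decompositionStabilizer hq hF (by norm_num) hE)⟩
  rcases CfsgLib.Geo.Asch.unitary_maximal hq hF (by norm_num)
      (fun r R h => CfsgLib.Geo.Asch.not_SU_le_subgroupNormalizer' hq hF (by norm_num) h) hH with
    h | h | ⟨t, m, D, hD, htm, h⟩ | ⟨k, D, hk, hD, hts, h⟩ | ⟨r, K, hr, hro, hrn, hK, hKa, h⟩ |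
    ⟨d, k, e, P, hd, hdk, hn', hT, h⟩ | ⟨F₀, r, P, hr, hc, hrat, h⟩ | ⟨r, R, hr, hR, h⟩ |
    ⟨d, t, e, P, hd, ht, hn', -⟩ | h
  · exact .inl h
  · exact .inr <| .inl h
  · have h1 := hD.decomp.two_le
    have : t ∈ Nat.divisors 8 := Nat.mem_divisors.2 ⟨⟨m, htm.symm⟩, by norm_num⟩
    rw [show Nat.divisors 8 = {1, 2, 4, 8} by decide] at this
    simp only [Finset.mem_insert, Finset.mem_singleton] at this
    rcases this with rfl | rfl | rfl | rfl
    · omega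
    · obtain rfl : m = 4 := by omega
      exact .inr <| .inr <| .inr <| .inr <| .inl ⟨D, hD, h⟩
    · obtain rfl : m = 2 := by omega
      by_cases hq3 : 3 ≤ q
      · exact .inr <| .inr <| .inr <| .inl ⟨hq3, D, hD, h⟩
      · exact .inr <| .inr <| .inl (hplanes D hD (h.le.trans inf_le_left) (by omega))
    · obtain rfl : m = 1 := by omega
      exact .inr <| .inr <| .inl ⟨D, hD, h⟩
  · obtain rfl : k = 4 := by omega
    exact .inr <| .inr <| .inr <| .inr <| .inr <| .inl ⟨D, hD, hts, h⟩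
  · have h' : r ∈ Nat.divisors 8 := Nat.mem_divisors.2 ⟨hrn, by norm_num⟩
    rw [show Nat.divisors 8 = {1, 2, 4, 8} by decide] at h'
    simp only [Finset.mem_insert, Finset.mem_singleton] at h'
    rcases h' with rfl | rfl | rfl | rfl
    · norm_num at hr
    · exact absurd hro (by decide)
    · norm_num at hr
    · norm_num at hr
  · have : d ∈ Nat.divisors 8 := Nat.mem_divisors.2 ⟨⟨k, hn'.symm⟩, by norm_num⟩
    rw [show Nat.divisors 8 = {1, 2, 4, 8} by decide] at this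
    simp only [Finset.mem_insert, Finset.mem_singleton] at this
    obtain ⟨rfl, rfl⟩ : (d = 2 ∧ k = 4) := by
      rcases this with rfl | rfl | rfl | rfl <;> omega
    by_cases hq3 : 3 ≤ q
    · exact .inr <| .inr <| .inr <| .inr <| .inr <| .inr <| .inl ⟨hq3, e, P, _, _, CfsgLib.Geo.Asch.isUnitaryFormPow_hermForm hq 2, CfsgLib.Geo.Asch.isUnitaryFormPow_hermForm hq 4, hT, h⟩
    · obtain rfl : q = 2 := by omega
      obtain ⟨D, hD, hDH⟩ := CfsgLib.Geo.Asch.tensor_two_to_halves hF (by norm_num) e P hT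
      exact .inr <| .inr <| .inr <| .inr <| .inl ⟨D, hD, CfsgLib.Geo.Asch.eq_inf_of_maximal hH
        (hDH H (hH.1.le.trans inf_le_left) (h.le.trans inf_le_left))
        (CfsgLib.Geo.Asch.not_SU_le_decompositionStabilizer' hq hF (by norm_num) hD.decomp (by norm_num))⟩
  · rcases CfsgLib.Geo.Asch.IsHermRational.cases F hc hrat with ⟨hro, h'⟩ | ⟨hqo, hc2, h'⟩ |
      ⟨-, hc2, ζ, hz, hz2, h', hsing⟩
    · exact .inr <| .inr <| .inr <| .inr <| .inr <| .inr <| .inr <| .inl ⟨F₀, r, P, hr, hro, hc, h', h⟩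
    · exact .inr <| .inr <| .inr <| .inr <| .inr <| .inr <| .inr <| .inr <| .inr <| .inl ⟨hqo, F₀, P, hc2, h', h⟩
    · exact .inr <| .inr <| .inr <| .inr <| .inr <| .inr <| .inr <| .inr <| .inl ⟨F₀, P, ζ, hc2, hz, hz2, h', hsing, h⟩
  · obtain ⟨p, a, k, hp, -, hqa, hrp, hk, hrk, hst, habs, hRU, -, -, hcase⟩ := hR
    rcases hcase with ⟨hro, -⟩ | ⟨rfl, rfl, hp4, hz, hcard⟩
    · obtain rfl := (Nat.prime_dvd_prime_iff_eq hr Nat.prime_two).1
        (hr.dvd_of_dvd_pow (n := 3) (by rw [show 2 ^ 3 = r ^ k by rw [← hrk]; norm_num]; exact dvd_pow_self r (by omega)))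
      exact absurd hro (by decide)
    · obtain rfl : k = 3 := Nat.pow_right_injective (le_refl 2) (show 2 ^ k = 2 ^ 3 by rw [← hrk])
      rw [pow_one] at hqa
      exact .inr <| .inr <| .inr <| .inr <| .inr <| .inr <| .inr <| .inr <| .inr <| .inr <| .inl ⟨p, R, hp, hqa, hp4, hst, habs, (fun g hg => ⟨1, fun u v => by rw [Units.val_one, one_mul]; exact hRU hg u v⟩), by rw [hcard]; norm_num, hz, h⟩
  · exfalso
    have h2 : d ^ 2 ≤ d ^ t := Nat.pow_le_pow_right (by omega) ht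
    obtain rfl : d = 3 := by nlinarith
    have : t < 3 := (Nat.pow_lt_pow_iff_right (by norm_num)).1 (hn'.symm ▸ (by norm_num : 8 < 3 ^ 3))
    interval_cases t <;> simp at hn'
  · exact .inr <| .inr <| .inr <| .inr <| .inr <| .inr <| .inr <| .inr <| .inr <| .inr <| .inr h

end Cfsg.Agent.S5820
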