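import Cfsg.Statements.S5823
import Cfsg.Agent.Lib.Geo.Asch.SpSmall
import Cfsg.Agent.Lib.Geo.Asch.SpEightMax

set_option autoImplicit false
open Cfsg

namespace Cfsg.Agent.S5823

/-- Every maximal subgroup of Sp_8(q) is of one of the listed geometric types or lies in the residual class. Let F be a finite field with q elements, f the standard alternating form on F^8 (coordinates Fin 4 ⊕ Fin 4), and H a maximal subgroup of Sp_8(F) (inside GL_8(F)). Then H is the intersection with Sp_8(F) of one of: the stabiliser of a non-zero totally isotropic subspace; the stabiliser of a non-degenerate 2-space; for q ≥ 3, the stabiliser of a decomposition into four mutually orthogonal non-degenerate 2-spaces; of a decomposition into two orthogonal non-degenerate 4-spaces; for q odd, of a decomposition into two totally isotropic 4-spaces; the normaliser of a degree-2 subfield K, self-adjoint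 with f(k v, v) = 0; for q odd, the normaliser of a degree-2 subfield closed under adjoints but not self-adjoint; for q odd, the stabiliser of a tensor decomposition of f into an alternating form on F^2 and a minus-type symmetric form on F^4; a subfield group (|F| = |F₀|^r, r prime) whose F₀-structure carries a non-zero multiple of f; for q = p an odd prime, the normaliser of an absolutely irreducible extraspecial group 2_-^(1+6) of exponent 4 inside the similarity group of f; for q odd, q ≥ 5, the stabiliser of a tensor decomposition of f as a third tensor power of an alternating form on F^2; for q even, the similarity group of a non-degenerate quadratic form polarising to f — or else H lies in the residual class of the symplectic case. -/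
theorem result {F : Type*} [Field F] [Fintype F] (H : Subgroup (Matrix.GeneralLinearGroup (Fin 4 ⊕ Fin 4) F)) (hH : Cfsg.Geo.IsMaximalIn (Cfsg.spGL 4 F) H) :
    (∃ W : Submodule F (Fin 4 ⊕ Fin 4 → F), W ≠ ⊥ ∧ Cfsg.Geo.IsTotallySingularFor (Cfsg.sympForm 4 F) W ∧ H = Cfsg.Geo.subspaceStabilizer W ⊓ Cfsg.spGL 4 F) ∨
    (∃ W : Submodule F (Fin 4 ⊕ Fin 4 → F), W ≠ ⊥ ∧ Cfsg.Geo.IsNondegenerateOn (Cfsg.sympForm 4 F) W ∧ Module.finrank F W < 4 ∧ H = Cfsg.Geo.subspaceStabilizer W ⊓ Cfsg.spGL 4 F) ∨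
    (3 ≤ Fintype.card F ∧ ∃ D : Fin 4 → Submodule F (Fin 4 ⊕ Fin 4 → F), Cfsg.Geo.IsNondegenerateMDecomposition (Cfsg.sympForm 4 F) 2 D ∧ H = Cfsg.Geo.decompositionStabilizer D ⊓ Cfsg.spGL 4 F) ∨
    (∃ D : Fin 2 → Submodule F (Fin 4 ⊕ Fin 4 → F), Cfsg.Geo.IsNondegenerateMDecomposition (Cfsg.sympForm 4 F) 4 D ∧ H = Cfsg.Geo.decompositionStabilizer D ⊓ Cfsg.spGL 4 F) ∨
    (Odd (Fintype.card F) ∧ ∃ D : Fin 2 → Submodule F (Fin 4 ⊕ Fin 4 → F), Cfsg.Geo.IsMDecomposition 4 D ∧ (∀ i, Cfsg.Geo.IsTotallySingularFor (Cfsg.sympForm 4 F) (D i)) ∧ H = Cfsg.Geo.decompositionStabilizer D ⊓ Cfsg.spGL 4 F) ∨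
    (∃ K : Subalgebra F (Matrix (Fin 4 ⊕ Fin 4) (Fin 4 ⊕ Fin 4) F), Cfsg.Geo.IsFieldSubalgebra 2 K ∧ Cfsg.Geo.IsSelfAdjointFor (Cfsg.sympForm 4 F) K ∧ (∀ k ∈ K, ∀ v : (Fin 4 ⊕ Fin 4 → F), (Cfsg.sympForm 4 F) (Matrix.mulVec k v) v = 0) ∧ H = Cfsg.Geo.subalgebraNormalizer K ⊓ Cfsg.spGL 4 F) ∨
    (Odd (Fintype.card F) ∧ ∃ K : Subalgebra F (Matrix (Fin 4 ⊕ Fin 4) (Fin 4 ⊕ Fin 4) F), Cfsg.Geo.IsFieldSubalgebra 2 K ∧ Cfsg.Geo.IsAdjointClosedFor (Cfsg.sympForm 4 F) K ∧ ¬ Cfsg.Geo.IsSelfAdjointFor (Cfsg.sympForm 4 F) K ∧ H = Cfsg.Geo.subalgebraNormalizer K ⊓ Cfsg.spGL 4 F) ∨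
    (Odd (Fintype.card F) ∧ ∃ (e : (Fin 4 ⊕ Fin 4) ≃ Fin 2 × Fin 4) (P : Matrix.GeneralLinearGroup (Fin 4 ⊕ Fin 4) F) (f₁ : (Fin 2 → F) → (Fin 2 → F) → F) (f₂ : (Fin 4 → F) → (Fin 4 → F) → F), Cfsg.Geo.IsSymplecticForm f₁ ∧ Cfsg.Geo.IsSymmetricForm f₂ ∧ ¬ Cfsg.Geo.IsPlusTypeOn (fun v : Fin 4 → F => f₂ v v) ⊤ ∧ Cfsg.Geo.IsTensorFormStructure id (Cfsg.sympForm 4 F) f₁ f₂ e P ∧ H = Cfsg.Geo.tensorProductSubgroup 2 4 e P ⊓ Cfsg.spGL 4 F) ∨
    (∃ (F₀ : Subfield F) (r : ℕ) (P : Matrix.GeneralLinearGroup (Fin 4 ⊕ Fin 4) F) (ζ : F), r.Prime ∧ Fintype.card F = Nat.card F₀ ^ r ∧ ζ ≠ 0 ∧ Cfsg.Geo.IsFormRationalStructure (Cfsg.sympForm 4 F) F₀ ζ P ∧ H = Cfsg.Geo.subfieldSubgroup F₀ P ⊓ Cfsg.spGL 4 F) ∨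
    (∃ (p : ℕ) (R : Subgroup (Matrix.GeneralLinearGroup (Fin 4 ⊕ Fin 4) F)), p.Prime ∧ Odd p ∧ Fintype.card F = p ∧ Cfsg.Geo.IsSymplecticTypeGroup 2 R ∧ Cfsg.Geo.ActsAbsolutelyIrreducibly (Cfsg.Geo.matrixSet R) ∧ R ≤ Cfsg.Geo.similarityGroup (Cfsg.sympForm 4 F) ∧ Nat.card R = 128 ∧ Nat.card (Subgroup.center R) = 2 ∧ Cfsg.Geo.IsOfMinusType 3 R ∧ H = Cfsg.Geo.subgroupNormalizer R ⊓ Cfsg.spGL 4 F) ∨
    (Odd (Fintype.card F) ∧ 5 ≤ Fintype.card F ∧ ∃ (e : (Fin 4 ⊕ Fin 4) ≃ (Fin 3 → Fin 2)) (P : Matrix.GeneralLinearGroup (Fin 4 ⊕ Fin 4) F) (f₁ : (Fin 2 → F) → (Fin 2 → F) → F), Cfsg.Geo.IsSymplecticForm f₁ ∧ Cfsg.Geo.IsTensorPowerFormStructure id (Cfsg.sympForm 4 F) f₁ e P ∧ H = Cfsg.Geo.tensorWreathSubgroup 2 3 e P ⊓ Cfsg.spGL 4 F) ∨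
    (¬ Odd (Fintype.card F) ∧ ∃ Q : (Fin 4 ⊕ Fin 4 → F) → F, Cfsg.Geo.IsNondegenerateQuadraticForm Q ∧ (∀ u v : (Fin 4 ⊕ Fin 4 → F), QuadraticMap.polar Q u v = (Cfsg.sympForm 4 F) u v) ∧ H = Cfsg.Geo.quadSimilarityGroup Q ⊓ Cfsg.spGL 4 F) ∨
    Cfsg.Geo.InSymplecticResidualClass H := by
  classical
  rcases CfsgLib.Geo.Asch.symp_maximal (by omega) hH with
    ⟨W, h0, hts, he⟩ | ⟨W, h0, hnd, h2, hev, he⟩ | ⟨t, k, D, hD, htk, hk, ht, hk2, he⟩ | ⟨ho, D, hD, hts, he⟩ |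
    ⟨r, K, hr, hrm, hK, hs, hz, he⟩ | ⟨K, ho, hK, ha, hns, he⟩ |
    ⟨n₁, n₂, e, P, f₁, f₂, ho, hn₁, hev, h3, hn, hf₁, hf₂, hT, he⟩ |
    ⟨F₀, r, P, ζ, hr, hc, hζ, hrat, he⟩ | ⟨R, p, k, hst, habs, hsim, hp, hpo, hF, hcard, hk, hz, hmin, hRS, he⟩ |
    ⟨k, t, e, P, f₁, ho, hto, ht, hk, hke, hn, hex, hf₁, hT, he⟩ | ⟨Q, hev, hQ, hpol, he⟩ | h
  · exact .inl ⟨W, h0, hts, he⟩
  · exact .inr <| .inl ⟨W, h0, hnd, h2, he⟩
  · obtain ⟨j, rfl⟩ := hk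
    obtain ⟨rfl, rfl⟩ | ⟨rfl, rfl⟩ : (t = 4 ∧ j = 1) ∨ (t = 2 ∧ j = 2) := by
      have : j ≤ 4 := by nlinarith
      interval_cases j <;> omega
    · rcases CfsgLib.Geo.Asch.three_le_or_two (F := F) with hq | hq
      · exact .inr <| .inr <| .inl ⟨hq, D, hD, he⟩
      · obtain ⟨Q, hQ⟩ := CfsgLib.Geo.Asch.quad_of_planes_maximal (by omega) hq hH hD he
        exact .inr <| .inr <| .inr <| .inr <| .inr <| .inr <| .inr <| .inr <| .inr <| .inr <| .inr <| .inl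
          ⟨hQ.1, Q, hQ.2⟩
    · exact .inr <| .inr <| .inr <| .inl ⟨D, hD, he⟩
  · exact .inr <| .inr <| .inr <| .inr <| .inl ⟨ho, D, hD, hts, he⟩
  · obtain rfl : r = 2 :=
      (Nat.prime_dvd_prime_iff_eq hr Nat.prime_two).1 (hr.dvd_of_dvd_pow (show r ∣ 2 ^ 2 from hrm))
    exact .inr <| .inr <| .inr <| .inr <| .inr <| .inl ⟨K, hK, hs, hz, he⟩
  · exact .inr <| .inr <| .inr <| .inr <| .inr <| .inr <| .inl ⟨ho, K, hK, ha, hns, he⟩
  · obtain ⟨j, rfl⟩ := hev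
    obtain ⟨rfl, rfl⟩ : j = 1 ∧ n₂ = 4 := by
      have : j ≤ 1 := by nlinarith
      interval_cases j <;> omega
    by_cases hplus : Cfsg.Geo.IsPlusTypeOn (fun v : Fin 4 → F => f₂ v v) ⊤
    · obtain ⟨e', P', γ, hγ, hG, hle⟩ := CfsgLib.Geo.Asch.plus_tensor_le_wreath
        (CfsgLib.Geo.Asch.sp_odd_card_iff.1 ho) hf₁ hf₂ hplus hT
      have hle' := he.le.trans hle
      by_cases hq : Fintype.card F = 3
      · exact absurd hle' (CfsgLib.Geo.Asch.wreath_three_not_maximal hq (by omega) hG hH)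
      · have hS : (CfsgLib.Geo.Asch.symJ F).transpose = -CfsgLib.Geo.Asch.symJ F := by
          ext i k; fin_cases i <;> fin_cases k <;> simp [CfsgLib.Geo.Asch.symJ]
        exact .inr <| .inr <| .inr <| .inr <| .inr <| .inr <| .inr <| .inr <| .inr <| .inr <| .inl
          ⟨ho, CfsgLib.Geo.Asch.five_le_of_odd ho hq, e', P', _,
            CfsgLib.Geo.Asch.isSymplecticForm_formOfGram ⟨CfsgLib.Geo.Asch.quatI F, rfl⟩ hS
              (fun i => by fin_cases i <;> simp [CfsgLib.Geo.Asch.symJ, CfsgLib.Geo.Asch.quatI]),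
            CfsgLib.Geo.Asch.isTensorPowerFormStructure_of_spGram e' P' hγ hG,
            CfsgLib.Geo.Asch.eq_of_maximal_le hH hle'
              (CfsgLib.Geo.Asch.not_spGL_le_tensorWreathSubgroup (by omega) le_rfl le_rfl e' P')⟩
    · exact .inr <| .inr <| .inr <| .inr <| .inr <| .inr <| .inr <| .inl ⟨ho, e, P, f₁, f₂, hf₁, hf₂, hplus, hT, he⟩
  · exact .inr <| .inr <| .inr <| .inr <| .inr <| .inr <| .inr <| .inr <| .inl ⟨F₀, r, P, ζ, hr, hc, hζ, hrat, he⟩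
  · obtain rfl : k = 3 := Nat.pow_right_injective le_rfl (show 2 ^ k = 2 ^ 3 by omega)
    exact .inr <| .inr <| .inr <| .inr <| .inr <| .inr <| .inr <| .inr <| .inr <| .inl
      ⟨p, R, hp, hpo, hF, hst, habs, hsim, hcard, hz, hmin, he⟩
  · have hk2 : k = 2 := by
      by_contra hne
      have h8 : k ^ 3 ≤ k ^ t := Nat.pow_le_pow_right (by omega) ht
      have := Nat.pow_le_pow_left (show 3 ≤ k by omega) 3
      omega
    subst hk2
    obtain rfl : t = 3 := Nat.pow_right_injective le_rfl (show 2 ^ t = 2 ^ 3 by omega)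
    exact .inr <| .inr <| .inr <| .inr <| .inr <| .inr <| .inr <| .inr <| .inr <| .inr <| .inl
      ⟨ho, CfsgLib.Geo.Asch.five_le_of_odd ho (fun h => hex ⟨h, rfl⟩), e, P, f₁, hf₁, hT, he⟩
  · exact .inr <| .inr <| .inr <| .inr <| .inr <| .inr <| .inr <| .inr <| .inr <| .inr <| .inr <| .inl
      ⟨hev, Q, hQ, hpol, he⟩
  · exact .inr <| .inr <| .inr <| .inr <| .inr <| .inr <| .inr <| .inr <| .inr <| .inr <| .inr <| .inr h

end Cfsg.Agent.S5823
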