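import Cfsg.Statements.S5826
import Cfsg.Agent.Lib.Geo.Asch.OrthEven

set_option autoImplicit false
open Cfsg


namespace Cfsg.Agent.S5826

open CfsgLib.Geo.Asch CfsgLib.Classical.Quad CfsgLib.Classical CfsgLib.Geo.OrthMax
open QuadraticMap (polar polarBilin)


/-- Every maximal subgroup of Ω_8^-(q) is of one of the listed geometric types or lies in the residual class. Let F be a finite field with q elements, Q a non-degenerate quadratic form on F^8 of minus type (no totally singular 4-space), Ω the commutator subgroup of its isometry group, and H a maximal subgroup of Ω (inside GL_8(F)). Then H is the intersection with Ω of one of: the stabiliser of a non-zero totally singular subspace; for q odd, the stabiliser of a non-degenerate subspace of odd dimension; the stabiliser of a non-degenerate 2-space of minus type; for q ≥ 4, the stabiliser of a non-degenerate 2-space of plus type; the stabiliser of a non-degenerate 4-space; for q even, the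 stabiliser of the span of a non-singular vector; the normaliser of a degree-2 subfield of the matrix algebra; a subfield group of odd prime index whose F₀-structure carries a non-zero multiple of Q — or else H lies in the residual class of the orthogonal case (modulo scalars H is almost simple, with absolutely irreducible perfect socle preimage realisable over no proper subfield and fixing no non-degenerate unitary form). -/
theorem result {F : Type*} [Field F] [Fintype F] (Q : (Fin 8 → F) → F) (hQ : Cfsg.Geo.IsNondegenerateQuadraticForm Q) (hminus : ¬ Cfsg.Geo.IsPlusTypeOn Q ⊤) (H : Subgroup (Matrix.GeneralLinearGroup (Fin 8) F)) (hH : Cfsg.Geo.IsMaximalIn (Cfsg.Geo.omegaGL Q) H) :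
    (∃ W : Submodule F (Fin 8 → F), W ≠ ⊥ ∧ Cfsg.Geo.IsTotallySingularQuad Q W ∧ H = Cfsg.Geo.subspaceStabilizer W ⊓ Cfsg.Geo.omegaGL Q) ∨
    (Odd (Fintype.card F) ∧ ∃ W : Submodule F (Fin 8 → F), W ≠ ⊥ ∧ W ≠ ⊤ ∧ Odd (Module.finrank F W) ∧ Cfsg.Geo.IsNondegenerateOn (QuadraticMap.polar Q) W ∧ H = Cfsg.Geo.subspaceStabilizer W ⊓ Cfsg.Geo.omegaGL Q) ∨
    (∃ W : Submodule F (Fin 8 → F), Module.finrank F W = 2 ∧ Cfsg.Geo.IsNondegenerateOn (QuadraticMap.polar Q) W ∧ ¬ Cfsg.Geo.IsPlusTypeOn Q W ∧ H = Cfsg.Geo.subspaceStabilizer W ⊓ Cfsg.Geo.omegaGL Q) ∨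
    (4 ≤ Fintype.card F ∧ ∃ W : Submodule F (Fin 8 → F), Module.finrank F W = 2 ∧ Cfsg.Geo.IsNondegenerateOn (QuadraticMap.polar Q) W ∧ Cfsg.Geo.IsPlusTypeOn Q W ∧ H = Cfsg.Geo.subspaceStabilizer W ⊓ Cfsg.Geo.omegaGL Q) ∨
    (∃ W : Submodule F (Fin 8 → F), Module.finrank F W = 4 ∧ Cfsg.Geo.IsNondegenerateOn (QuadraticMap.polar Q) W ∧ H = Cfsg.Geo.subspaceStabilizer W ⊓ Cfsg.Geo.omegaGL Q) ∨
    (¬ Odd (Fintype.card F) ∧ ∃ v : (Fin 8 → F), Q v ≠ 0 ∧ H = Cfsg.Geo.subspaceStabilizer (Submodule.span F {v}) ⊓ Cfsg.Geo.omegaGL Q) ∨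
    (∃ K : Subalgebra F (Matrix (Fin 8) (Fin 8) F), Cfsg.Geo.IsFieldSubalgebra 2 K ∧ H = Cfsg.Geo.subalgebraNormalizer K ⊓ Cfsg.Geo.omegaGL Q) ∨
    (∃ (F₀ : Subfield F) (r : ℕ) (P : Matrix.GeneralLinearGroup (Fin 8) F) (ζ : F), r.Prime ∧ Odd r ∧ Fintype.card F = Nat.card F₀ ^ r ∧ ζ ≠ 0 ∧ Cfsg.Geo.IsQuadFormRationalStructure (fun v : Fin 8 → F => ζ * Q v) F₀ P ∧ H = Cfsg.Geo.subfieldSubgroup F₀ P ⊓ Cfsg.Geo.omegaGL Q) ∨
    Cfsg.Geo.InOrthogonalResidualClass H := by
  classical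
  obtain ⟨Q, rfl, hQn⟩ := CfsgLib.Geo.Asch.exists_quadraticForm hQ
  have hcard : Fintype.card (Fin 8) = 2 * 4 := by simp
  have hc8 : Fintype.card (Fin 8) = 8 := by simp
  have hn5 : 5 ≤ Fintype.card (Fin 8) := by omega
  have hiso := iso_of_le_omega hH.1.le
  have hne : ¬ Odd (Fintype.card (Fin 8)) := by rw [hc8]; decide
  rcases orth_host hQn (by omega) (fun h => absurd h hne) (.inr (by omega)) H hiso with
    ⟨W, h0, hts, hle⟩ | ⟨W, h0, h1, hnd, hle⟩ | ⟨h20, v, hv, hle⟩ | ⟨t, k, D, hD, -, hle⟩ |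
    ⟨k, D, hk, hD, hts, hle⟩ | ⟨r, K, hr, hrn, hK, -, hle⟩ |
    ⟨n₁, n₂, e, P, X, Y, hn₁, hn₁₂, ⟨a₁, ha₁⟩, -, hprod, -, -, -, -, -, -, -, hpure, -⟩ |
    ⟨-, n₁, n₂, e, P, X, Y, h3, hn12, hprod, -⟩ | ⟨F₀, r, P, ζ, hr, hc, hζ, hrat, hle⟩ |
    ⟨-, d, t, e, P, X, c, hd, -, -, hdt, -⟩ | ⟨-, hpl⟩ | hres
  · exact .inl ⟨W, h0, hts, eq_singular hQn hn5 hH h0 hts hle⟩
  · rcases nd_cases hQn hcard (by omega) (by omega) hH h0 h1 hnd hle with
      ⟨ho, W, a, b, c, -, d, e⟩ | h | h | h | h | ⟨W, hd4, hnd4, hle4⟩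
    · exact .inr <| .inl ⟨ho, W, a, b, c, d, e⟩
    · exact .inr <| .inr <| .inl h
    · exact .inr <| .inr <| .inr <| .inl h
    · exact .inr <| .inr <| .inr <| .inr <| .inl h
    · exact .inr <| .inr <| .inr <| .inr <| .inr <| .inl h
    · obtain ⟨hb, ht⟩ := ne_of_finrank hd4 (by omega) (by omega)
      exact .inr <| .inr <| .inr <| .inr <| .inl ⟨W, hd4, hnd4, eq_stabilizer hQn hn5 hH hb ht hle4⟩
  · have hv0 : v ≠ 0 := fun e => hv (by rw [e, QuadraticMap.map_zero])
    obtain ⟨hb, ht⟩ := ne_of_finrank (finrank_span_singleton (K := F) hv0) (by omega) (by omega)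
    exact .inr <| .inr <| .inr <| .inr <| .inr <| .inl
      ⟨fun h => odd_card_iff'.1 h h20, v, hv, eq_stabilizer hQn hn5 hH hb ht hle⟩
  · have htk := card_eq_of_mDecomposition hD.decomp.decomp
    have ht2 := hD.decomp.decomp.two_le
    have hk0 := hD.decomp.decomp.pos
    rw [hc8] at htk
    have ht : Even t := by
      have h1 : t ≤ 8 := htk ▸ Nat.le_mul_of_pos_right t hk0
      interval_cases t <;> first | decide | omega
    exact absurd (plus_of_even_parts hQn hcard (by decide) hD ht) hminus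
  · exact absurd (plus_of_singular_pair hk hD hts) hminus
  · rw [hc8] at hrn
    obtain rfl : r = 2 := (Nat.prime_dvd_prime_iff_eq hr Nat.prime_two).1
      (hr.dvd_of_dvd_pow (show r ∣ 2 ^ 3 from hrn))
    exact .inr <| .inr <| .inr <| .inr <| .inr <| .inr <| .inl ⟨K, hK, eq_field hQn hn5 hH le_rfl hK hle⟩
  · rw [hc8] at hprod
    obtain rfl : n₁ = 2 := by
      have : n₁ ≤ 2 := by nlinarith
      omega
    exact absurd (plus_of_pure hpure) hminus
  · rw [hc8] at hprod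
    nlinarith
  · have hro : Odd r := hr.eq_two_or_odd'.resolve_left fun h => by
      subst h
      exact hminus (plus_of_rational hQn hcard hc hζ hrat)
    exact .inr <| .inr <| .inr <| .inr <| .inr <| .inr <| .inr <| .inl
      ⟨F₀, r, P, ζ, hr, hro, hc, hζ, hrat, eq_subfield hQn hn5 hH hr hc hle⟩
  · exact absurd (hdt ▸ hd.pow) hne
  · exact absurd hpl hminus
  · exact .inr <| .inr <| .inr <| .inr <| .inr <| .inr <| .inr <| .inr hres

end Cfsg.Agent.S5826
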