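import Cfsg.Statements.S5829
import Mathlib
import Cfsg.Agent.Lib.Geo.Asch.LinearCases

set_option autoImplicit false
open Cfsg

namespace Cfsg.Agent.S5829

/-- Every maximal subgroup of SL_9(q) is of one of the listed geometric types or lies in the residual class. Let F be a finite field with q elements (p its characteristic) and H a maximal subgroup of SL_9(F) (inside GL_9(F)). Then H is the intersection with SL_9(F) of one of: the stabiliser of a proper non-zero subspace; for q ≥ 5, the stabiliser of a decomposition into 9 independent 1-spaces; the stabiliser of a decomposition into 3 independent 3-spaces; the normaliser of a degree-3 subfield of the matrix algebra; a subfield group for a subfield F₀ with |F| = |F₀|^r, r prime; for q = p prime with p ≡ 1 mod 3, the normaliser of an absolutely irreducible 3-subgroup R of exponent 3 and order 3^(1+2m) with centre of order 3, all of whose characteristic abelian subgroups are cyclic, F being the smallest field of characteristic p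 containing the cube roots of unity (here R is extraspecial of order 3^5); the stabiliser of a tensor decomposition into 2 factors of dimension 3; for q odd, the similarity group of a non-degenerate quadratic form; the similarity group of a non-degenerate unitary form — or else H lies in the residual class of the linear case (modulo scalars H is almost simple, with absolutely irreducible perfect socle preimage realisable over no proper subfield and fixing no non-degenerate quadratic, symplectic or unitary form). -/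
theorem result {F : Type*} [Field F] [Fintype F] (H : Subgroup (Matrix.GeneralLinearGroup (Fin 9) F)) (hH : Cfsg.Geo.IsMaximalIn (Cfsg.Geo.specialLinear (Fin 9) F) H) :
    (∃ W : Submodule F (Fin 9 → F), W ≠ ⊥ ∧ W ≠ ⊤ ∧ H = Cfsg.Geo.subspaceStabilizer W ⊓ Cfsg.Geo.specialLinear (Fin 9) F) ∨
    (5 ≤ Fintype.card F ∧ ∃ D : Fin 9 → Submodule F (Fin 9 → F), Cfsg.Geo.IsMDecomposition 1 D ∧ H = Cfsg.Geo.decompositionStabilizer D ⊓ Cfsg.Geo.specialLinear (Fin 9) F) ∨
    (∃ D : Fin 3 → Submodule F (Fin 9 → F), Cfsg.Geo.IsMDecomposition 3 D ∧ H = Cfsg.Geo.decompositionStabilizer D ⊓ Cfsg.Geo.specialLinear (Fin 9) F) ∨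
    (∃ K : Subalgebra F (Matrix (Fin 9) (Fin 9) F), Cfsg.Geo.IsFieldSubalgebra 3 K ∧ H = Cfsg.Geo.subalgebraNormalizer K ⊓ Cfsg.Geo.specialLinear (Fin 9) F) ∨
    (∃ (F₀ : Subfield F) (r : ℕ) (P : Matrix.GeneralLinearGroup (Fin 9) F), r.Prime ∧ Fintype.card F = Nat.card F₀ ^ r ∧ H = Cfsg.Geo.subfieldSubgroup F₀ P ⊓ Cfsg.Geo.specialLinear (Fin 9) F) ∨
    ((∃ p : ℕ, p.Prime ∧ Fintype.card F = p ∧ (p % 3 = 1)) ∧ ∃ R : Subgroup (Matrix.GeneralLinearGroup (Fin 9) F), Cfsg.Geo.IsLinearSymplecticTypeData 3 R ∧ H = Cfsg.Geo.subgroupNormalizer R ⊓ Cfsg.Geo.specialLinear (Fin 9) F) ∨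
    (∃ (e : Fin 9 ≃ (Fin 2 → Fin 3)) (P : Matrix.GeneralLinearGroup (Fin 9) F), H = Cfsg.Geo.tensorWreathSubgroup 3 2 e P ⊓ Cfsg.Geo.specialLinear (Fin 9) F) ∨
    (Odd (Fintype.card F) ∧ ∃ Q : (Fin 9 → F) → F, Cfsg.Geo.IsNondegenerateQuadraticForm Q ∧ H = Cfsg.Geo.quadSimilarityGroup Q ⊓ Cfsg.Geo.specialLinear (Fin 9) F) ∨
    (∃ (σ : F ≃+* F) (f : (Fin 9 → F) → (Fin 9 → F) → F), Cfsg.Geo.IsUnitaryForm σ f ∧ H = Cfsg.Geo.similarityGroup f ⊓ Cfsg.Geo.specialLinear (Fin 9) F) ∨
    Cfsg.Geo.InLinearResidualClass H := by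
  open CfsgLib.Geo.Asch in
  rcases linear_maximal (n := 9) (by norm_num) H hH with ⟨W, h0, h1, h⟩ | ⟨t, m, D, hD, htm, h⟩ |
    ⟨r, K, hr, hrn, hK, h⟩ | ⟨d, k, e, P, hd, hk, hdk, h⟩ | ⟨F₀, r, P, hr, hc, h⟩ | ⟨r, m, R, hR, hrm, h⟩ |
    ⟨d, t, e, P, hd, ht, hdt, h⟩ | h | ⟨f, -, hev, -⟩ | h | h
  · exact .inl ⟨W, h0, h1, h⟩
  · have h2 := hD.two_le
    have h3 := hD.pos
    have : m ≤ 9 := by nlinarith
    obtain ⟨rfl, rfl⟩ | ⟨rfl, rfl⟩ : (m = 1 ∧ t = 9) ∨ (m = 3 ∧ t = 3) := by
      interval_cases m <;> omega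
    · by_cases hq : 5 ≤ Fintype.card F
      · exact .inr <| .inl ⟨hq, D, hD, h⟩
      rcases lines_reduce (by norm_num) hH (by omega) hD h with h | h | h
      · exact .inl h
      · exact .inr <| .inr <| .inr <| .inr <| .inr <| .inr <| .inr <| .inl h
      · exact .inr <| .inr <| .inr <| .inr <| .inr <| .inr <| .inr <| .inr <| .inl h
    · exact .inr <| .inr <| .inl ⟨D, hD, h⟩
  · obtain rfl : r = 3 := by
      have := Nat.le_of_dvd (by norm_num) hrn
      interval_cases r <;> first | rfl | (revert hr hrn; norm_num)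
    exact .inr <| .inr <| .inr <| .inl ⟨K, hK, h⟩
  · exfalso
    have : d ≤ 9 := by nlinarith
    interval_cases d <;> omega
  · exact .inr <| .inr <| .inr <| .inr <| .inl ⟨F₀, r, P, hr, hc, h⟩
  · obtain rfl : r = 3 := by
      have hp := hR.symplecticType.prime
      exact (Nat.prime_dvd_prime_iff_eq hp Nat.prime_three).1
        (hp.dvd_of_dvd_pow (show r ∣ 3 ^ 2 by
          rcases Nat.eq_zero_or_pos m with rfl | hm
          · simp at hrm
          · rw [show (3 : ℕ) ^ 2 = 9 by norm_num, hrm]; exact dvd_pow_self r hm.ne'))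
    exact .inr <| .inr <| .inr <| .inr <| .inr <| .inl ⟨symplectic_residue_three hR, R, hR, h⟩
  · obtain ⟨rfl, rfl⟩ : d = 3 ∧ t = 2 := by
      have h1 : d ^ 2 ≤ d ^ t := Nat.pow_le_pow_right (by omega) ht
      obtain rfl : d = 3 := by nlinarith
      refine ⟨rfl, ?_⟩
      have h2 : 3 ^ t = 3 ^ 2 := by omega
      exact Nat.pow_right_injective (by norm_num) h2
    exact .inr <| .inr <| .inr <| .inr <| .inr <| .inr <| .inl ⟨e, P, h⟩
  · exact .inr <| .inr <| .inr <| .inr <| .inr <| .inr <| .inr <| .inl h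
  · exact absurd hev (by decide)
  · exact .inr <| .inr <| .inr <| .inr <| .inr <| .inr <| .inr <| .inr <| .inl h
  · exact .inr <| .inr <| .inr <| .inr <| .inr <| .inr <| .inr <| .inr <| .inr h

end Cfsg.Agent.S5829
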