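import Cfsg.Statements.S5832
import Mathlib
import Cfsg.Agent.Lib.Geo.Asch.UnitMax

set_option autoImplicit false
open Cfsg

namespace Cfsg.Agent.S5832

/-- Every maximal subgroup of SU_9(q) is of one of the listed geometric types or lies in the residual class. Let F be the field with q² elements, f the standard unitary form Σ u_i v_i^q on F^9, and H a maximal subgroup of SU_9(q) (inside GL_9(F)). Then H is the intersection with SU_9(q) of one of: the stabiliser of a non-zero totally isotropic subspace; the stabiliser of a non-degenerate 1-, 2-, 3- or 4-space; the stabiliser of a decomposition into nine mutually orthogonal non-degenerate 1-spaces; of a decomposition into three mutually orthogonal non-degenerate 3-spaces; the normaliser of an adjoint-closed degree-3 subfield of the matrix algebra; a subfield group of odd prime index whose F₀-structure carries f; for q odd, a subfield group of index 2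 whose F₀-structure carries f; for q = p ≡ 2 mod 3 prime, the normaliser of an absolutely irreducible extraspecial group 3_+^(1+4) of exponent 3 inside the similarity group of f; for q ≥ 3, the stabiliser of a tensor decomposition of f as a tensor square of a unitary form on F^3 — or else H lies in the residual class of the unitary case. -/
theorem result {F : Type*} [Field F] [Fintype F] (q : ℕ) (hF : Fintype.card F = q ^ 2) (H : Subgroup (Matrix.GeneralLinearGroup (Fin 9) F)) (hH : Cfsg.Geo.IsMaximalIn (Cfsg.GU 9 F q ⊓ Cfsg.Geo.specialLinear (Fin 9) F) H) :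
    (∃ W : Submodule F (Fin 9 → F), W ≠ ⊥ ∧ Cfsg.Geo.IsTotallySingularFor (Cfsg.hermForm 9 F q) W ∧ H = Cfsg.Geo.subspaceStabilizer W ⊓ (Cfsg.GU 9 F q ⊓ Cfsg.Geo.specialLinear (Fin 9) F)) ∨
    (∃ W : Submodule F (Fin 9 → F), W ≠ ⊥ ∧ Cfsg.Geo.IsNondegenerateOn (Cfsg.hermForm 9 F q) W ∧ 2 * Module.finrank F W < 9 ∧ H = Cfsg.Geo.subspaceStabilizer W ⊓ (Cfsg.GU 9 F q ⊓ Cfsg.Geo.specialLinear (Fin 9) F)) ∨
    (∃ D : Fin 9 → Submodule F (Fin 9 → F), Cfsg.Geo.IsNondegenerateMDecomposition (Cfsg.hermForm 9 F q) 1 D ∧ H = Cfsg.Geo.decompositionStabilizer D ⊓ (Cfsg.GU 9 F q ⊓ Cfsg.Geo.specialLinear (Fin 9) F)) ∨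
    (∃ D : Fin 3 → Submodule F (Fin 9 → F), Cfsg.Geo.IsNondegenerateMDecomposition (Cfsg.hermForm 9 F q) 3 D ∧ H = Cfsg.Geo.decompositionStabilizer D ⊓ (Cfsg.GU 9 F q ⊓ Cfsg.Geo.specialLinear (Fin 9) F)) ∨
    (∃ K : Subalgebra F (Matrix (Fin 9) (Fin 9) F), Cfsg.Geo.IsFieldSubalgebra 3 K ∧ Cfsg.Geo.IsAdjointClosedFor (Cfsg.hermForm 9 F q) K ∧ H = Cfsg.Geo.subalgebraNormalizer K ⊓ (Cfsg.GU 9 F q ⊓ Cfsg.Geo.specialLinear (Fin 9) F)) ∨
    (∃ (F₀ : Subfield F) (r : ℕ) (P : Matrix.GeneralLinearGroup (Fin 9) F), r.Prime ∧ Odd r ∧ Fintype.card F = Nat.card F₀ ^ r ∧ Cfsg.Geo.IsFormRationalStructure (Cfsg.hermForm 9 F q) F₀ 1 P ∧ H = Cfsg.Geo.subfieldSubgroup F₀ P ⊓ (Cfsg.GU 9 F q ⊓ Cfsg.Geo.specialLinear (Fin 9) F)) ∨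
    (Odd q ∧ ∃ (F₀ : Subfield F) (P : Matrix.GeneralLinearGroup (Fin 9) F), Fintype.card F = Nat.card F₀ ^ 2 ∧ Cfsg.Geo.IsFormRationalStructure (Cfsg.hermForm 9 F q) F₀ 1 P ∧ H = Cfsg.Geo.subfieldSubgroup F₀ P ⊓ (Cfsg.GU 9 F q ⊓ Cfsg.Geo.specialLinear (Fin 9) F)) ∨
    (∃ (p : ℕ) (R : Subgroup (Matrix.GeneralLinearGroup (Fin 9) F)), p.Prime ∧ q = p ∧ p % 3 = 2 ∧ Cfsg.Geo.IsSymplecticTypeGroup 3 R ∧ Cfsg.Geo.ActsAbsolutelyIrreducibly (Cfsg.Geo.matrixSet R) ∧ R ≤ Cfsg.Geo.similarityGroup (Cfsg.hermForm 9 F q) ∧ Nat.card R = 243 ∧ Nat.card (Subgroup.center R) = 3 ∧ H = Cfsg.Geo.subgroupNormalizer R ⊓ (Cfsg.GU 9 F q ⊓ Cfsg.Geo.specialLinear (Fin 9) F)) ∨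
    (3 ≤ q ∧ ∃ (e : Fin 9 ≃ (Fin 2 → Fin 3)) (P : Matrix.GeneralLinearGroup (Fin 9) F) (f₁ : (Fin 3 → F) → (Fin 3 → F) → F), Cfsg.Geo.IsUnitaryFormPow q f₁ ∧ Cfsg.Geo.IsTensorPowerFormStructure (fun x : F => x ^ q) (Cfsg.hermForm 9 F q) f₁ e P ∧ H = Cfsg.Geo.tensorWreathSubgroup 3 2 e P ⊓ (Cfsg.GU 9 F q ⊓ Cfsg.Geo.specialLinear (Fin 9) F)) ∨
    Cfsg.Geo.InUnitaryResidualClass H := by
  classical
  obtain ⟨σ, hq⟩ := CfsgLib.Geo.Asch.exists_isQPow hF
  rcases CfsgLib.Geo.Asch.unitary_maximal hq hF (by norm_num)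
      (fun r R h => CfsgLib.Geo.Asch.not_SU_le_subgroupNormalizer' hq hF (by norm_num) h) hH with
    h | h | ⟨t, m, D, hD, htm, h⟩ | ⟨k, D, hk, -⟩ | ⟨r, K, hr, -, hrn, hK, hKa, h⟩ | ⟨d, k, e, P, hd, hdk, hn', -⟩ |
    ⟨F₀, r, P, hr, hc, hrat, h⟩ | ⟨r, R, hr, hR, h⟩ | ⟨d, t, e, P, hd, ht, hn', hex, hT, h⟩ | h
  · exact .inl h
  · exact .inr <| .inl h
  · have h1 := hD.decomp.two_le
    have : t ∈ Nat.divisors 9 := Nat.mem_divisors.2 ⟨⟨m, htm.symm⟩, by norm_num⟩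
    rw [show Nat.divisors 9 = {1, 3, 9} by decide] at this
    simp only [Finset.mem_insert, Finset.mem_singleton] at this
    rcases this with rfl | rfl | rfl
    · omega
    · obtain rfl : m = 3 := by omega
      exact .inr <| .inr <| .inr <| .inl ⟨D, hD, h⟩
    · obtain rfl : m = 1 := by omega
      exact .inr <| .inr <| .inl ⟨D, hD, h⟩
  · omega
  · obtain rfl : r = 3 := (Nat.prime_dvd_prime_iff_eq hr Nat.prime_three).1 (hr.dvd_of_dvd_pow (n := 2) (by simpa using hrn))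
    exact .inr <| .inr <| .inr <| .inr <| .inl ⟨K, hK, hKa, h⟩
  · exfalso
    have : d ∈ Nat.divisors 9 := Nat.mem_divisors.2 ⟨⟨k, hn'.symm⟩, by norm_num⟩
    rw [show Nat.divisors 9 = {1, 3, 9} by decide] at this
    simp only [Finset.mem_insert, Finset.mem_singleton] at this
    rcases this with rfl | rfl | rfl <;> omega
  · rcases CfsgLib.Geo.Asch.IsHermRational.cases F hc hrat with ⟨hro, h'⟩ | ⟨hqo, hc2, h'⟩ | ⟨hev, -⟩
    · exact .inr <| .inr <| .inr <| .inr <| .inr <| .inl ⟨F₀, r, P, hr, hro, hc, h', h⟩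
    · exact .inr <| .inr <| .inr <| .inr <| .inr <| .inr <| .inl ⟨hqo, F₀, P, hc2, h', h⟩
    · exact absurd hev (by decide)
  · obtain ⟨p₀, a₀, k₀, hp₀, -, -, -, hk₀, hrk, -⟩ := id hR
    obtain rfl : r = 3 := (Nat.prime_dvd_prime_iff_eq hr Nat.prime_three).1
      (hr.dvd_of_dvd_pow (n := 2) (by rw [show 3 ^ 2 = r ^ k₀ by rw [← hrk]; norm_num]; exact dvd_pow_self r (by omega)))
    obtain ⟨p, hp, hqp, hp3, hst, habs, hsim, hz, k, hk, hcard⟩ := hR.three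
    obtain rfl : k = 2 := Nat.pow_right_injective (le_refl 2 |>.trans (by norm_num : 2 ≤ 3)) (show 3 ^ k = 3 ^ 2 by rw [← hk])
    exact .inr <| .inr <| .inr <| .inr <| .inr <| .inr <| .inr <| .inl
      ⟨p, R, hp, hqp, hp3, hst, habs, hsim, by rw [hcard]; norm_num, hz, h⟩
  · have h3 : 3 ≤ d := hd
    obtain rfl : d = 3 := by
      have h4 : d ^ 2 ≤ d ^ t := Nat.pow_le_pow_right (by omega) ht
      nlinarith
    obtain rfl : t = 2 := Nat.pow_right_injective (by norm_num : 2 ≤ 3) (show 3 ^ t = 3 ^ 2 by rw [hn'])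
    have := CfsgLib.Geo.Asch.IsQPow.one_lt hF
    exact .inr <| .inr <| .inr <| .inr <| .inr <| .inr <| .inr <| .inr <| .inl
      ⟨by omega, e, P, _, CfsgLib.Geo.Asch.isUnitaryFormPow_hermForm hq 3, hT, h⟩
  · exact .inr <| .inr <| .inr <| .inr <| .inr <| .inr <| .inr <| .inr <| .inr h

end Cfsg.Agent.S5832
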