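import Cfsg.Statements.S5834
import Cfsg.Agent.Lib.Geo.OrthSingular
import Cfsg.Agent.Lib.Geo.OrthNondeg
import Cfsg.Agent.Lib.Geo.OrthBlockMax
import Cfsg.Agent.Lib.Geo.Frame.Main
import Cfsg.Agent.Lib.Geo.OrthExt.Matrix
import Cfsg.Agent.Lib.Geo.OrthSubfieldGL
import Cfsg.Agent.Lib.Geo.OrthTensor.Square.Final
import Cfsg.Agent.Lib.Classical.Quad.NegOne
import Cfsg.Agent.Lib.Classical.Quad.StandardForms

set_option autoImplicit false
open Cfsg

namespace Cfsg.Agent.S5834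

/-- Maximal subgroups of Ω_9(q) of geometric type, q odd. Let F be a finite field of odd order q, Q the standard quadratic form x₀² + Σ x_i y_i on F^9 (coordinates Unit ⊕ (Fin 4 ⊕ Fin 4)), and Ω = Ω_9(q) the commutator subgroup of its isometry group, inside GL_9(F). Each of the following, intersected with Ω, is a maximal subgroup of Ω: (1) the stabiliser of any non-zero subspace on which Q vanishes identically (totally singular 1- to 4-spaces); (2) the stabiliser of any non-zero even-dimensional subspace W (dimension 2, 4, 6 or 8) on which the polar form of Q is non-degenerate (equivalently of its odd-dimensional orthogonal complement), except when q = 3 and W is a 2-space containing a non-zero singular vector (a plus-type plane); (3) for q = p prime, the stabiliser of any decomposition of F^9 into nine pairwise orthogonal, pairwise Q-isometric non-degenerate 1-spaces; (4) for q ≥ 5, the stabiliser of any decomposition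 of F^9 into three pairwise orthogonal, pairwise Q-isometric non-degenerate 3-spaces; (5) the normaliser of any degree-3 subfield K of the matrix algebra whose elements are self-adjoint for the polar form of Q (Q is then the trace of a quadratic form over K); (6) every subfield group for a subfield F₀ with |F| = |F₀|^r, r prime, whose F₀-structure carries Q; (7) for q ≥ 5, the stabiliser of any decomposition of the polar form of Q as the tensor square of a non-degenerate symmetric bilinear form on F^3 up to a scalar (tensor-wreath subgroup). -/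
theorem result {F : Type*} [Field F] [Fintype F] (hodd : Odd (Fintype.card F)) :
    (∀ W : Submodule F (Unit ⊕ (Fin 4 ⊕ Fin 4) → F), W ≠ ⊥ → Cfsg.Geo.IsTotallySingularQuad (Cfsg.quadFormOdd 4 F) W → Cfsg.Geo.IsMaximalIn (Cfsg.Geo.omegaGL (Cfsg.quadFormOdd 4 F)) (Cfsg.Geo.subspaceStabilizer W ⊓ Cfsg.Geo.omegaGL (Cfsg.quadFormOdd 4 F))) ∧
    (∀ W : Submodule F (Unit ⊕ (Fin 4 ⊕ Fin 4) → F), W ≠ ⊥ → Even (Module.finrank F W) → Cfsg.Geo.IsNondegenerateOn (QuadraticMap.polar (Cfsg.quadFormOdd 4 F)) W → ¬ (Fintype.card F = 3 ∧ Module.finrank F W = 2 ∧ Cfsg.Geo.IsPlusTypeOn (Cfsg.quadFormOdd 4 F) W) → Cfsg.Geo.IsMaximalIn (Cfsg.Geo.omegaGL (Cfsg.quadFormOdd 4 F)) (Cfsg.Geo.subspaceStabilizer W ⊓ Cfsg.Geo.omegaGL (Cfsg.quadFormOdd 4 F))) ∧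
    ((Fintype.card F).Prime → ∀ D : Fin 9 → Submodule F (Unit ⊕ (Fin 4 ⊕ Fin 4) → F), Cfsg.Geo.IsOrthogonalMDecomposition (Cfsg.quadFormOdd 4 F) 1 D → Cfsg.Geo.IsMaximalIn (Cfsg.Geo.omegaGL (Cfsg.quadFormOdd 4 F)) (Cfsg.Geo.decompositionStabilizer D ⊓ Cfsg.Geo.omegaGL (Cfsg.quadFormOdd 4 F))) ∧
    (5 ≤ Fintype.card F → ∀ D : Fin 3 → Submodule F (Unit ⊕ (Fin 4 ⊕ Fin 4) → F), Cfsg.Geo.IsOrthogonalMDecomposition (Cfsg.quadFormOdd 4 F) 3 D → Cfsg.Geo.IsMaximalIn (Cfsg.Geo.omegaGL (Cfsg.quadFormOdd 4 F)) (Cfsg.Geo.decompositionStabilizer D ⊓ Cfsg.Geo.omegaGL (Cfsg.quadFormOdd 4 F))) ∧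
    (∀ K : Subalgebra F (Matrix (Unit ⊕ (Fin 4 ⊕ Fin 4)) (Unit ⊕ (Fin 4 ⊕ Fin 4)) F), Cfsg.Geo.IsFieldSubalgebra 3 K → Cfsg.Geo.IsSelfAdjointFor (QuadraticMap.polar (Cfsg.quadFormOdd 4 F)) K → Cfsg.Geo.IsMaximalIn (Cfsg.Geo.omegaGL (Cfsg.quadFormOdd 4 F)) (Cfsg.Geo.subalgebraNormalizer K ⊓ Cfsg.Geo.omegaGL (Cfsg.quadFormOdd 4 F))) ∧
    (∀ (F₀ : Subfield F) (r : ℕ) (P : Matrix.GeneralLinearGroup (Unit ⊕ (Fin 4 ⊕ Fin 4)) F), r.Prime → Fintype.card F = Nat.card F₀ ^ r → Cfsg.Geo.IsQuadFormRationalStructure (Cfsg.quadFormOdd 4 F) F₀ P → Cfsg.Geo.IsMaximalIn (Cfsg.Geo.omegaGL (Cfsg.quadFormOdd 4 F)) (Cfsg.Geo.subfieldSubgroup F₀ P ⊓ Cfsg.Geo.omegaGL (Cfsg.quadFormOdd 4 F))) ∧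
    (5 ≤ Fintype.card F → ∀ (e : (Unit ⊕ (Fin 4 ⊕ Fin 4)) ≃ (Fin 2 → Fin 3)) (P : Matrix.GeneralLinearGroup (Unit ⊕ (Fin 4 ⊕ Fin 4)) F) (f₁ : (Fin 3 → F) → (Fin 3 → F) → F), Cfsg.Geo.IsSymmetricForm f₁ → Cfsg.Geo.IsTensorPowerFormStructure id (QuadraticMap.polar (Cfsg.quadFormOdd 4 F)) f₁ e P → Cfsg.Geo.IsMaximalIn (Cfsg.Geo.omegaGL (Cfsg.quadFormOdd 4 F)) (Cfsg.Geo.tensorWreathSubgroup 3 2 e P ⊓ Cfsg.Geo.omegaGL (Cfsg.quadFormOdd 4 F))) := by
  have h2 : (2 : F) ≠ 0 := CfsgLib.Classical.Quad.two_ne_zero_of_odd rfl hodd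
  have hq3 : ¬ 5 ≤ Fintype.card F → Fintype.card F = 3 := fun h => by
    have := Fintype.one_lt_card (α := F)
    obtain ⟨r, hr⟩ := hodd
    omega
  obtain ⟨Q, hQf, hQ⟩ : ∃ Q : QuadraticForm F (Unit ⊕ (Fin 4 ⊕ Fin 4) → F),
      ⇑Q = Cfsg.quadFormOdd 4 F ∧ (QuadraticMap.polarBilin Q).Nondegenerate :=
    ⟨CfsgLib.Classical.Quad.qOdd 4 F, CfsgLib.Classical.Quad.coe_qOdd 4 F,
      CfsgLib.Classical.Quad.qOdd_nondeg h2 4⟩
  rw [← hQf]
  have hc : Fintype.card (Unit ⊕ (Fin 4 ⊕ Fin 4)) = 9 := by simp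
  have hn : Module.finrank F (Unit ⊕ (Fin 4 ⊕ Fin 4) → F) = 9 := by rw [Module.finrank_pi, hc]
  refine ⟨fun W hW0 hW => ?_, fun W hW0 hev hW hex => ?_, fun hp D hD => ?_, fun h5 D hD => ?_,
    fun K hK hsa => ?_, fun F₀ r P hr hcard hP => ?_, fun h5 e P f₁ hf₁ hT => ?_⟩
  · exact CfsgLib.Geo.OrthMax.isMaximalIn_omega hQ (by omega) W
      (CfsgLib.Geo.OrthMax.stab_singular_ne hQ (by omega) hW0 hW) fun K hK hKE =>
        CfsgLib.Geo.OrthMax.le_of_stab_singular_lt hQ (by omega) hW (fun h => by omega) hK hKE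
  · have hWn : CfsgLib.Geo.OrthMax.Nondeg Q W := fun x hx hy => by
      by_contra h0
      obtain ⟨-, y, hy', hne⟩ := hW x hx h0
      exact hne (hy y hy')
    have hU := CfsgLib.Geo.OrthMax.finrank_perp hQ W
    have hle := Submodule.finrank_le W
    refine CfsgLib.Geo.OrthMax.isMaximalIn_nondeg hQ (by omega) hWn hW0 ?_ ?_
      (fun h => by obtain ⟨r, hr⟩ := hev; rw [hU, hn] at h; omega) (fun h => by omega)
    · intro e
      rw [e, finrank_top, hn] at hev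
      obtain ⟨r, hr⟩ := hev
      omega
    · rintro h ⟨u, hu, hu0, hqu⟩
      rw [Nat.card_eq_fintype_card]
      by_contra h4
      refine hex ⟨hq3 (by omega), h, Submodule.span F {u}, by simpa using hu, ?_, ?_⟩
      · intro x hx
        obtain ⟨c, rfl⟩ := Submodule.mem_span_singleton.1 hx
        rw [CfsgLib.Classical.Quad.apply_smul, hqu, mul_zero]
      · rw [finrank_span_singleton hu0, h]
  · exact CfsgLib.Geo.Frame.isMaximalIn_frame hQ hp hodd (by omega) (by omega) hD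
  · exact CfsgLib.Geo.OrthBlock.isMaximalIn_omega hQ (by omega) hD le_rfl
      (fun _ => ⟨h2, by rw [Nat.card_eq_fintype_card]; omega⟩) (fun h => absurd h (by decide))
  · exact CfsgLib.Geo.OrthExt.isMaximalIn_omega hQ h2 (by omega) Nat.prime_three (by omega) K hK hsa
  · exact CfsgLib.Geo.OrthSub.isMaximalIn_subfield hQ (by omega) F₀ hr hcard P one_ne_zero fun u hu => by
      simp only [one_mul]
      exact hP u hu
  · exact CfsgLib.Geo.OrthTensor.Square.maximal hQ h2 h5 e P hf₁ hT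

end Cfsg.Agent.S5834
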