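import Cfsg.Statements.S5835
import Cfsg.Agent.Lib.Geo.Asch.OrthMax

set_option autoImplicit false
open Cfsg


namespace Cfsg.Agent.S5835

open CfsgLib.Geo.Asch CfsgLib.Classical.Quad CfsgLib.Classical CfsgLib.Geo.OrthMax
open QuadraticMap (polar polarBilin)


/-- Every maximal subgroup of Ω_9(q), q odd, is of one of the listed geometric types or lies in the residual class. Let F be a finite field of odd order q, Q the standard quadratic form x₀² + Σ x_i y_i on F^9 (coordinates Unit ⊕ (Fin 4 ⊕ Fin 4)), Ω the commutator subgroup of its isometry group, and H a maximal subgroup of Ω (inside GL_9(F)). Then H is the intersection with Ω of one of: the stabiliser of a non-zero totally singular subspace; the stabiliser of a non-zero non-degenerate subspace of even dimension (not a plus-type plane when q = 3); for q prime, the stabiliser of a decomposition into nine pairwise orthogonal, pairwise isometric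 non-degenerate 1-spaces; for q ≥ 5, the stabiliser of a decomposition into three pairwise orthogonal, pairwise isometric non-degenerate 3-spaces; the normaliser of a degree-3 subfield of the matrix algebra, self-adjoint for the polar form; a subfield group (|F| = |F₀|^r, r prime) whose F₀-structure carries Q; for q ≥ 5, the stabiliser of a tensor decomposition of the polar form as a tensor square of a symmetric form on F^3 — or else H lies in the residual class of the orthogonal case (modulo scalars H is almost simple, with absolutely irreducible perfect socle preimage realisable over no proper subfield and fixing no non-degenerate unitary form). -/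
theorem result {F : Type*} [Field F] [Fintype F] (hodd : Odd (Fintype.card F)) (H : Subgroup (Matrix.GeneralLinearGroup (Unit ⊕ (Fin 4 ⊕ Fin 4)) F)) (hH : Cfsg.Geo.IsMaximalIn (Cfsg.Geo.omegaGL (Cfsg.quadFormOdd 4 F)) H) :
    (∃ W : Submodule F (Unit ⊕ (Fin 4 ⊕ Fin 4) → F), W ≠ ⊥ ∧ Cfsg.Geo.IsTotallySingularQuad (Cfsg.quadFormOdd 4 F) W ∧ H = Cfsg.Geo.subspaceStabilizer W ⊓ Cfsg.Geo.omegaGL (Cfsg.quadFormOdd 4 F)) ∨
    (∃ W : Submodule F (Unit ⊕ (Fin 4 ⊕ Fin 4) → F), W ≠ ⊥ ∧ Even (Module.finrank F W) ∧ Cfsg.Geo.IsNondegenerateOn (QuadraticMap.polar (Cfsg.quadFormOdd 4 F)) W ∧ ¬ (Fintype.card F = 3 ∧ Module.finrank F W = 2 ∧ Cfsg.Geo.IsPlusTypeOn (Cfsg.quadFormOdd 4 F) W) ∧ H = Cfsg.Geo.subspaceStabilizer W ⊓ Cfsg.Geo.omegaGL (Cfsg.quadFormOdd 4 F)) ∨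
    ((Fintype.card F).Prime ∧ ∃ D : Fin 9 → Submodule F (Unit ⊕ (Fin 4 ⊕ Fin 4) → F), Cfsg.Geo.IsOrthogonalMDecomposition (Cfsg.quadFormOdd 4 F) 1 D ∧ H = Cfsg.Geo.decompositionStabilizer D ⊓ Cfsg.Geo.omegaGL (Cfsg.quadFormOdd 4 F)) ∨
    (5 ≤ Fintype.card F ∧ ∃ D : Fin 3 → Submodule F (Unit ⊕ (Fin 4 ⊕ Fin 4) → F), Cfsg.Geo.IsOrthogonalMDecomposition (Cfsg.quadFormOdd 4 F) 3 D ∧ H = Cfsg.Geo.decompositionStabilizer D ⊓ Cfsg.Geo.omegaGL (Cfsg.quadFormOdd 4 F)) ∨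
    (∃ K : Subalgebra F (Matrix (Unit ⊕ (Fin 4 ⊕ Fin 4)) (Unit ⊕ (Fin 4 ⊕ Fin 4)) F), Cfsg.Geo.IsFieldSubalgebra 3 K ∧ Cfsg.Geo.IsSelfAdjointFor (QuadraticMap.polar (Cfsg.quadFormOdd 4 F)) K ∧ H = Cfsg.Geo.subalgebraNormalizer K ⊓ Cfsg.Geo.omegaGL (Cfsg.quadFormOdd 4 F)) ∨
    (∃ (F₀ : Subfield F) (r : ℕ) (P : Matrix.GeneralLinearGroup (Unit ⊕ (Fin 4 ⊕ Fin 4)) F), r.Prime ∧ Fintype.card F = Nat.card F₀ ^ r ∧ Cfsg.Geo.IsQuadFormRationalStructure (Cfsg.quadFormOdd 4 F) F₀ P ∧ H = Cfsg.Geo.subfieldSubgroup F₀ P ⊓ Cfsg.Geo.omegaGL (Cfsg.quadFormOdd 4 F)) ∨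
    (5 ≤ Fintype.card F ∧ ∃ (e : (Unit ⊕ (Fin 4 ⊕ Fin 4)) ≃ (Fin 2 → Fin 3)) (P : Matrix.GeneralLinearGroup (Unit ⊕ (Fin 4 ⊕ Fin 4)) F) (f₁ : (Fin 3 → F) → (Fin 3 → F) → F), Cfsg.Geo.IsSymmetricForm f₁ ∧ Cfsg.Geo.IsTensorPowerFormStructure id (QuadraticMap.polar (Cfsg.quadFormOdd 4 F)) f₁ e P ∧ H = Cfsg.Geo.tensorWreathSubgroup 3 2 e P ⊓ Cfsg.Geo.omegaGL (Cfsg.quadFormOdd 4 F)) ∨
    Cfsg.Geo.InOrthogonalResidualClass H := by
  classical
  have h2 : (2 : F) ≠ 0 := odd_card_iff'.1 hodd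
  simp only [← coe_qOdd] at hH ⊢
  set Q := qOdd 4 F with hQdef
  have hQ : (polarBilin Q).Nondegenerate := qOdd_nondeg h2 4
  have hcard : Fintype.card (Unit ⊕ (Fin 4 ⊕ Fin 4)) = 9 := by simp
  have hn5 : 5 ≤ Fintype.card (Unit ⊕ (Fin 4 ⊕ Fin 4)) := by omega
  have hn : Odd (Fintype.card (Unit ⊕ (Fin 4 ⊕ Fin 4))) := hcard ▸ by decide
  have hiso := iso_of_le_omega hH.1.le
  have hq : Fintype.card F = 3 ∨ 5 ≤ Fintype.card F := by
    have := Fintype.one_lt_card (α := F); rcases hodd with ⟨j, hj⟩; omega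
  have caseTS : ∀ W : Submodule F (Unit ⊕ (Fin 4 ⊕ Fin 4) → F), W ≠ ⊥ →
      Cfsg.Geo.IsTotallySingularQuad (⇑Q) W → H ≤ Cfsg.Geo.subspaceStabilizer W →
      H = Cfsg.Geo.subspaceStabilizer W ⊓ Cfsg.Geo.omegaGL (⇑Q) := fun W => eq_singular hQ hn5 hH
  have caseND : ∀ W : Submodule F (Unit ⊕ (Fin 4 ⊕ Fin 4) → F), W ≠ ⊥ → W ≠ ⊤ →
      Cfsg.Geo.IsNondegenerateOn (polar Q) W → H ≤ Cfsg.Geo.subspaceStabilizer W →
      ∃ U : Submodule F (Unit ⊕ (Fin 4 ⊕ Fin 4) → F), U ≠ ⊥ ∧ Even (Module.finrank F U) ∧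
        Cfsg.Geo.IsNondegenerateOn (polar Q) U ∧
        ¬ (Fintype.card F = 3 ∧ Module.finrank F U = 2 ∧ Cfsg.Geo.IsPlusTypeOn (⇑Q) U) ∧
        H = Cfsg.Geo.subspaceStabilizer U ⊓ Cfsg.Geo.omegaGL (⇑Q) := by
    intro W h0 h1 hnd hle
    have hWlt := finrank_lt_card h1
    have hWpos := finrank_pos_of_ne_bot h0
    obtain ⟨U, hU0, hU1, hUe, hUnd, hUle⟩ : ∃ U : Submodule F (Unit ⊕ (Fin 4 ⊕ Fin 4) → F), U ≠ ⊥ ∧ U ≠ ⊤ ∧
        Even (Module.finrank F U) ∧ Cfsg.Geo.IsNondegenerateOn (polar Q) U ∧ H ≤ Cfsg.Geo.subspaceStabilizer U := by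
      rcases Nat.even_or_odd (Module.finrank F W) with he | ho
      · exact ⟨W, h0, h1, he, hnd, hle⟩
      · have hd := finrank_perp_eq hQ W
        obtain ⟨j, hj⟩ := ho
        obtain ⟨hb, ht⟩ := ne_of_finrank hd (by omega) (by omega)
        exact ⟨perp Q W, hb, ht, ⟨4 - j, by omega⟩, ndOn_perp hQ hnd, le_stabilizer_perp hiso hle⟩
    by_cases hex : Fintype.card F = 3 ∧ Module.finrank F U = 2 ∧ Cfsg.Geo.IsPlusTypeOn (⇑Q) U
    · obtain ⟨v, hvd, hvnd, hvle⟩ := hyperplane_of_plus_plane hex.1 h2 hQ hH.1.le hUnd hex.2.1 hex.2.2 hUle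
      have hd := finrank_perp_eq hQ (Submodule.span F {v})
      obtain ⟨hb, ht⟩ := ne_of_finrank hd (by omega) (by omega)
      exact ⟨_, hb, ⟨4, by omega⟩, ndOn_perp hQ hvnd, fun h => by omega,
        eq_stabilizer hQ hn5 hH hb ht (le_stabilizer_perp hiso hvle)⟩
    · exact ⟨U, hU0, hUe, hUnd, hex, eq_stabilizer hQ hn5 hH hU0 hU1 hUle⟩
  rcases orth_host hQ (by omega) (fun _ => h2) (.inl hn) H hiso with
    ⟨W, h0, hts, hle⟩ | ⟨W, h0, h1, hnd, hle⟩ | ⟨h20, -⟩ | ⟨t, k, D, hD, hp, hle⟩ | ⟨k, D, hk, -⟩ |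
    ⟨r, K, hr, hrn, hK, hcase, hle⟩ | ⟨n₁, n₂, e, P, X, Y, -, -, he₁, -, hn12, -⟩ |
    ⟨-, n₁, n₂, e, P, X, Y, h3, hn12, hprod, hXu, hYu, hX, hY, hG, hle⟩ | ⟨F₀, r, P, ζ, hr, hc, hζ, hrat, hle⟩ |
    ⟨-, d, t, e, P, X, c, hd, hd3, ht, hdt, hex, hc, hXu, hX, hG, hle⟩ | ⟨h8, -⟩ | hres
  · exact .inl ⟨W, h0, hts, caseTS W h0 hts hle⟩
  · exact .inr <| .inl (caseND W h0 h1 hnd hle)
  · exact absurd h20 h2
  · have htk := card_eq_of_mDecomposition hD.decomp.decomp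
    have ht2 := hD.decomp.decomp.two_le
    have hk0 := hD.decomp.decomp.pos
    rw [hcard] at htk
    obtain ⟨rfl, rfl⟩ | ⟨rfl, rfl⟩ : (t = 9 ∧ k = 1) ∨ (t = 3 ∧ k = 3) := by
      have h1 : t ≤ 9 := htk ▸ Nat.le_mul_of_pos_right t hk0
      interval_cases t <;> omega
    · exact .inr <| .inr <| .inl ⟨hp rfl, D, hD, eq_inf_omega hH hle (not_omega_le_lines h2 hQ (by omega) hD)⟩
    · rcases hq with h3 | h5
      · obtain ⟨E, hE, hleE⟩ := lines_of_solid h3 h2 hQ hiso hD hle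
        exact .inr <| .inr <| .inl ⟨h3 ▸ Nat.prime_three, E, hE,
          eq_inf_omega hH hleE (not_omega_le_lines h2 hQ (by omega) hE)⟩
      · exact .inr <| .inr <| .inr <| .inl ⟨h5, D, hD,
          eq_inf_omega hH hle (not_omega_le_decomposition_of_three hQ hn5 hD.decomp.decomp le_rfl)⟩
  · omega
  · rw [hcard] at hrn
    have hr3 : r = 3 := (Nat.prime_dvd_prime_iff_eq hr Nat.prime_three).1
      (hr.dvd_of_dvd_pow (show r ∣ 3 ^ 2 from hrn))
    subst hr3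
    rcases hcase with ⟨hsa, -, -⟩ | ⟨h, -⟩
    · exact .inr <| .inr <| .inr <| .inr <| .inl ⟨K, hK, hsa, eq_field hQ hn5 hH (by omega) hK hle⟩
    · omega
  · exact absurd (hn12 ▸ he₁.mul_right n₂) (Nat.not_even_iff_odd.2 hn)
  · rw [hcard] at hprod
    obtain ⟨rfl, rfl⟩ : n₁ = 3 ∧ n₂ = 3 := by
      have : n₁ ≤ 3 := by nlinarith
      interval_cases n₁
      omega
    rcases hq with hF | h5
    · by_cases hirr : Cfsg.Geo.ActsIrreducibly (Cfsg.Geo.matrixSet H)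
      · obtain ⟨D, hD, hleD⟩ := blocks_of_three hF h2 (by omega) hiso hle hG hXu hYu hX
        obtain ⟨E, hE, hleE⟩ :=
          lines_of_solid hF h2 hQ hiso (isometric_of_irreducible hiso hirr hD hleD) hleD
        exact .inr <| .inr <| .inl ⟨hF ▸ Nat.prime_three, E, hE,
          eq_inf_omega hH hleE (not_omega_le_lines h2 hQ (by omega) hE)⟩
      · rcases reducible_host h2 hiso hirr with ⟨W, h0, hts, hleW⟩ | ⟨W, h0, h1, hnd, hleW⟩
        · exact .inl ⟨W, h0, hts, caseTS W h0 hts hleW⟩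
        · exact .inr <| .inl (caseND W h0 h1 hnd hleW)
    · obtain ⟨P₁, c, hc, hG₁, hle₁⟩ := square_of_tensor h2 (by decide) hXu hYu hX hY hG hle
      exact .inr <| .inr <| .inr <| .inr <| .inr <| .inr <| .inl ⟨h5, _, P₁, _, isSymmetricForm_formOfGram hXu hX,
        tensorPowerFormStructure_of_orGram hc hG₁,
        eq_inf_omega hH hle₁ (not_omega_le_wreath_two h2 hQ hn5 (le_refl 3) _ P₁)⟩
  · obtain ⟨P', hrat', he⟩ := rational_qOdd h2 4 hζ hrat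
    exact .inr <| .inr <| .inr <| .inr <| .inr <| .inl ⟨F₀, r, P', hr, hc, hrat',
      eq_subfield hQ hn5 hH hr hc (he.symm ▸ hle)⟩
  · rw [hcard] at hdt
    obtain ⟨rfl, rfl⟩ : d = 3 ∧ t = 2 := by
      have h1 : d ^ 2 ≤ 9 := hdt ▸ Nat.pow_le_pow_right (by omega) ht
      have : d ≤ 3 := by nlinarith
      obtain rfl : d = 3 := by omega
      exact ⟨rfl, Nat.pow_right_injective (le_refl 2 |>.trans (by omega)) (hdt.trans (by norm_num : 9 = 3 ^ 2))⟩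
    have h5 : 5 ≤ Fintype.card F := hq.resolve_left fun h => hex ⟨h, rfl⟩
    exact .inr <| .inr <| .inr <| .inr <| .inr <| .inr <| .inl ⟨h5, e, P, _, isSymmetricForm_formOfGram hXu hX,
      tensorPowerFormStructure_of_orGram hc hG,
      eq_inf_omega hH hle (not_omega_le_wreath_two h2 hQ hn5 (le_refl 3) e P)⟩
  · omega
  · exact .inr <| .inr <| .inr <| .inr <| .inr <| .inr <| .inr hres

end Cfsg.Agent.S5835
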