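import Cfsg.Statements.S5837
import Cfsg.Agent.Lib.Geo.SubspaceMaximal
import Cfsg.Agent.Lib.Geo.BlockDecompFinal
import Cfsg.Agent.Lib.Geo.FieldExtFinal
import Cfsg.Agent.Lib.Geo.TensorLinearFinal
import Cfsg.Agent.Lib.Geo.SubfieldMaximal
import Cfsg.Agent.Lib.Geo.QuadSimilitude
import Cfsg.Agent.Lib.Geo.SimilitudeMaximal
import Cfsg.Agent.Lib.Geo.UnitarySimilitude

set_option autoImplicit false
open Cfsg

namespace Cfsg.Agent.S5837

/-- Maximal subgroups of SL_10(q) of geometric type, for a finite field F with q elements (any q); p denotes the characteristic. Each of the following subgroups of GL_10(F), intersected with SL_10(F), is a maximal subgroup of SL_10(F): (1) the stabiliser of any proper non-zero subspace of F^10; (2) for q ≥ 5, the stabiliser of any decomposition of F^10 into 10 independent 1-spaces; (3) for q ≥ 3, the stabiliser of any decomposition of F^10 into 5 independent 2-spaces; (4) the stabiliser of any decomposition of F^10 into 2 independent 5-spaces; (5) the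 normaliser of any degree-5 subfield of the 10 × 10 matrix algebra over F (a commutative subalgebra of dimension 5 in which every non-zero element is invertible); (6) the normaliser of any degree-2 subfield of the 10 × 10 matrix algebra over F (a commutative subalgebra of dimension 2 in which every non-zero element is invertible); (7) for q ≥ 3, the stabiliser of any tensor decomposition F^10 = F^2 ⊗ F^5 (a conjugate of the Kronecker-product subgroup); (8) every subfield group (a conjugate of GL_10(F₀) times the scalars of F) for a subfield F₀ with |F| = |F₀|^r, r prime; (9) for q odd, the group of similarities of any non-degenerate quadratic form on F^10 (either sign); (10) the group of similarities of any non-degenerate symplectic form on F^10; (11) the group of similarities of any non-degenerate unitary form on F^10 (these exist exactly when q is a square). -/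
theorem result {F : Type*} [Field F] [Fintype F] :
    (∀ W : Submodule F (Fin 10 → F), W ≠ ⊥ → W ≠ ⊤ → Cfsg.Geo.IsMaximalIn (Cfsg.Geo.specialLinear (Fin 10) F) (Cfsg.Geo.subspaceStabilizer W ⊓ Cfsg.Geo.specialLinear (Fin 10) F)) ∧
    (5 ≤ Fintype.card F → ∀ D : Fin 10 → Submodule F (Fin 10 → F), Cfsg.Geo.IsMDecomposition 1 D → Cfsg.Geo.IsMaximalIn (Cfsg.Geo.specialLinear (Fin 10) F) (Cfsg.Geo.decompositionStabilizer D ⊓ Cfsg.Geo.specialLinear (Fin 10) F)) ∧
    (3 ≤ Fintype.card F → ∀ D : Fin 5 → Submodule F (Fin 10 → F), Cfsg.Geo.IsMDecomposition 2 D → Cfsg.Geo.IsMaximalIn (Cfsg.Geo.specialLinear (Fin 10) F) (Cfsg.Geo.decompositionStabilizer D ⊓ Cfsg.Geo.specialLinear (Fin 10) F)) ∧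
    (∀ D : Fin 2 → Submodule F (Fin 10 → F), Cfsg.Geo.IsMDecomposition 5 D → Cfsg.Geo.IsMaximalIn (Cfsg.Geo.specialLinear (Fin 10) F) (Cfsg.Geo.decompositionStabilizer D ⊓ Cfsg.Geo.specialLinear (Fin 10) F)) ∧
    (∀ K : Subalgebra F (Matrix (Fin 10) (Fin 10) F), Cfsg.Geo.IsFieldSubalgebra 5 K → Cfsg.Geo.IsMaximalIn (Cfsg.Geo.specialLinear (Fin 10) F) (Cfsg.Geo.subalgebraNormalizer K ⊓ Cfsg.Geo.specialLinear (Fin 10) F)) ∧
    (∀ K : Subalgebra F (Matrix (Fin 10) (Fin 10) F), Cfsg.Geo.IsFieldSubalgebra 2 K → Cfsg.Geo.IsMaximalIn (Cfsg.Geo.specialLinear (Fin 10) F) (Cfsg.Geo.subalgebraNormalizer K ⊓ Cfsg.Geo.specialLinear (Fin 10) F)) ∧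
    (3 ≤ Fintype.card F → ∀ (e : Fin 10 ≃ Fin 2 × Fin 5) (P : Matrix.GeneralLinearGroup (Fin 10) F), Cfsg.Geo.IsMaximalIn (Cfsg.Geo.specialLinear (Fin 10) F) (Cfsg.Geo.tensorProductSubgroup 2 5 e P ⊓ Cfsg.Geo.specialLinear (Fin 10) F)) ∧
    (∀ (F₀ : Subfield F) (r : ℕ) (P : Matrix.GeneralLinearGroup (Fin 10) F), r.Prime → Fintype.card F = Nat.card F₀ ^ r → Cfsg.Geo.IsMaximalIn (Cfsg.Geo.specialLinear (Fin 10) F) (Cfsg.Geo.subfieldSubgroup F₀ P ⊓ Cfsg.Geo.specialLinear (Fin 10) F)) ∧
    (Odd (Fintype.card F) → ∀ Q : (Fin 10 → F) → F, Cfsg.Geo.IsNondegenerateQuadraticForm Q → Cfsg.Geo.IsMaximalIn (Cfsg.Geo.specialLinear (Fin 10) F) (Cfsg.Geo.quadSimilarityGroup Q ⊓ Cfsg.Geo.specialLinear (Fin 10) F)) ∧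
    (∀ f : (Fin 10 → F) → (Fin 10 → F) → F, Cfsg.Geo.IsSymplecticForm f → Cfsg.Geo.IsMaximalIn (Cfsg.Geo.specialLinear (Fin 10) F) (Cfsg.Geo.similarityGroup f ⊓ Cfsg.Geo.specialLinear (Fin 10) F)) ∧
    (∀ (σ : F ≃+* F) (f : (Fin 10 → F) → (Fin 10 → F) → F), Cfsg.Geo.IsUnitaryForm σ f → Cfsg.Geo.IsMaximalIn (Cfsg.Geo.specialLinear (Fin 10) F) (Cfsg.Geo.similarityGroup f ⊓ Cfsg.Geo.specialLinear (Fin 10) F)) := by
  refine ⟨fun W h0 h1 => CfsgLib.Geo.isMaximalIn_subspaceStabilizer W h0 h1,
    fun hq D hD => CfsgLib.Geo.BlockDecomp.maximal (n := 10) (by norm_num) hD (by omega) (by omega),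
    fun hq D hD => CfsgLib.Geo.BlockDecomp.maximal (n := 10) (by norm_num) hD (by omega) (by omega),
    fun D hD => CfsgLib.Geo.BlockDecomp.maximal (n := 10) (by norm_num) hD (by omega) (by omega),
    fun K hK => (CfsgLib.Geo.FieldExt.isCoatom_and_isMaximalIn (by norm_num) (by simp) K hK).2,
    fun K hK => (CfsgLib.Geo.FieldExt.isCoatom_and_isMaximalIn Nat.prime_two (by simp) K hK).2,
    fun hq e P => CfsgLib.Geo.TensorLinear.maximal (n := 10) le_rfl (by norm_num) (by omega) e P,
    fun F₀ r P hr hcard => CfsgLib.Geo.SubfieldMax.isMaximalIn_subfield hr hcard (by norm_num) P,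
    fun hodd Q hQ => ?_,
    fun f hf => CfsgLib.Geo.Roots.isMaximalIn_similitude hf (by simp),
    fun σ f hf => ?_⟩
  · have h2 : (2 : F) ≠ 0 := by
      intro h
      have h1 : ringChar F = 2 := by
        have := CharTwo.of_one_ne_zero_of_two_eq_zero (R := F) one_ne_zero h
        exact ringChar.eq F 2
      have := FiniteField.even_card_iff_char_two.1 h1
      rw [Nat.odd_iff] at hodd
      omega
    obtain ⟨Q', rfl, hQ'⟩ := CfsgLib.Geo.OrthMax.exists_quadraticForm hQ
    exact CfsgLib.Geo.QuadSim.isMaximalIn_similitude hQ' h2 (by simp)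
  · have hr : ∀ v a b, f v (a + b) = f v a + f v b := fun v a b => by
      rw [hf.herm, hf.add_left, map_add, ← hf.herm, ← hf.herm]
    have hs : ∀ (c : F) (v a : Fin 10 → F), f v (c • a) = σ c * f v a := fun c v a => by
      rw [hf.herm, hf.smul_left, map_mul, ← hf.herm]
    let B : (Fin 10 → F) →ₛₗ[(σ : F →+* F)] (Fin 10 → F) →ₗ[F] F :=
      LinearMap.mk₂'ₛₗ (σ : F →+* F) (RingHom.id F) (fun u y => f y u)
        (fun u u' y => hr y u u') (fun c u y => by simpa using hs c y u)
        (fun u y y' => hf.add_left y y' u) (fun c u y => by simpa using hf.smul_left c y u)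
    have h : CfsgLib.Classical.Herm.IsHerm B :=
      { invol := ⟨fun e => hf.ne_refl (RingEquiv.ext fun x => RingHom.congr_fun e x), hf.involutive⟩
        symm := fun x y => (hf.herm x y).symm
        nondeg := fun x hx => by
          by_contra h0
          obtain ⟨y, hy⟩ := (hf.nondegenerate x h0).1
          exact hy (hx y) }
    exact CfsgLib.Geo.UnitarySim.isMaximalIn_unitarySimilitude h (by simp) (fun u y => rfl)


end Cfsg.Agent.S5837
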