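import Cfsg.Statements.S5838
import Mathlib
import Cfsg.Agent.Lib.Geo.Asch.LinearCases

set_option autoImplicit false
open Cfsg

namespace Cfsg.Agent.S5838

/-- Every maximal subgroup of SL_10(q) is of one of the listed geometric types or lies in the residual class. Let F be a finite field with q elements (p its characteristic) and H a maximal subgroup of SL_10(F) (inside GL_10(F)). Then H is the intersection with SL_10(F) of one of: the stabiliser of a proper non-zero subspace; for q ≥ 5, the stabiliser of a decomposition into 10 independent 1-spaces; for q ≥ 3, the stabiliser of a decomposition into 5 independent 2-spaces; the stabiliser of a decomposition into 2 independent 5-spaces; the normaliser of a degree-5 subfield of the matrix algebra; the normaliser of a degree-2 subfield of the matrix algebra; for q ≥ 3, the stabiliser of a tensor decomposition F^2 ⊗ F^5; a subfield group for a subfield F₀ with |F| = |F₀|^r, r prime; for q odd, the similarity group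 of a non-degenerate quadratic form; the similarity group of a non-degenerate symplectic form; the similarity group of a non-degenerate unitary form — or else H lies in the residual class of the linear case (modulo scalars H is almost simple, with absolutely irreducible perfect socle preimage realisable over no proper subfield and fixing no non-degenerate quadratic, symplectic or unitary form). -/
theorem result {F : Type*} [Field F] [Fintype F] (H : Subgroup (Matrix.GeneralLinearGroup (Fin 10) F)) (hH : Cfsg.Geo.IsMaximalIn (Cfsg.Geo.specialLinear (Fin 10) F) H) :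
    (∃ W : Submodule F (Fin 10 → F), W ≠ ⊥ ∧ W ≠ ⊤ ∧ H = Cfsg.Geo.subspaceStabilizer W ⊓ Cfsg.Geo.specialLinear (Fin 10) F) ∨
    (5 ≤ Fintype.card F ∧ ∃ D : Fin 10 → Submodule F (Fin 10 → F), Cfsg.Geo.IsMDecomposition 1 D ∧ H = Cfsg.Geo.decompositionStabilizer D ⊓ Cfsg.Geo.specialLinear (Fin 10) F) ∨
    (3 ≤ Fintype.card F ∧ ∃ D : Fin 5 → Submodule F (Fin 10 → F), Cfsg.Geo.IsMDecomposition 2 D ∧ H = Cfsg.Geo.decompositionStabilizer D ⊓ Cfsg.Geo.specialLinear (Fin 10) F) ∨
    (∃ D : Fin 2 → Submodule F (Fin 10 → F), Cfsg.Geo.IsMDecomposition 5 D ∧ H = Cfsg.Geo.decompositionStabilizer D ⊓ Cfsg.Geo.specialLinear (Fin 10) F) ∨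
    (∃ K : Subalgebra F (Matrix (Fin 10) (Fin 10) F), Cfsg.Geo.IsFieldSubalgebra 5 K ∧ H = Cfsg.Geo.subalgebraNormalizer K ⊓ Cfsg.Geo.specialLinear (Fin 10) F) ∨
    (∃ K : Subalgebra F (Matrix (Fin 10) (Fin 10) F), Cfsg.Geo.IsFieldSubalgebra 2 K ∧ H = Cfsg.Geo.subalgebraNormalizer K ⊓ Cfsg.Geo.specialLinear (Fin 10) F) ∨
    (3 ≤ Fintype.card F ∧ ∃ (e : Fin 10 ≃ Fin 2 × Fin 5) (P : Matrix.GeneralLinearGroup (Fin 10) F), H = Cfsg.Geo.tensorProductSubgroup 2 5 e P ⊓ Cfsg.Geo.specialLinear (Fin 10) F) ∨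
    (∃ (F₀ : Subfield F) (r : ℕ) (P : Matrix.GeneralLinearGroup (Fin 10) F), r.Prime ∧ Fintype.card F = Nat.card F₀ ^ r ∧ H = Cfsg.Geo.subfieldSubgroup F₀ P ⊓ Cfsg.Geo.specialLinear (Fin 10) F) ∨
    (Odd (Fintype.card F) ∧ ∃ Q : (Fin 10 → F) → F, Cfsg.Geo.IsNondegenerateQuadraticForm Q ∧ H = Cfsg.Geo.quadSimilarityGroup Q ⊓ Cfsg.Geo.specialLinear (Fin 10) F) ∨
    (∃ f : (Fin 10 → F) → (Fin 10 → F) → F, Cfsg.Geo.IsSymplecticForm f ∧ H = Cfsg.Geo.similarityGroup f ⊓ Cfsg.Geo.specialLinear (Fin 10) F) ∨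
    (∃ (σ : F ≃+* F) (f : (Fin 10 → F) → (Fin 10 → F) → F), Cfsg.Geo.IsUnitaryForm σ f ∧ H = Cfsg.Geo.similarityGroup f ⊓ Cfsg.Geo.specialLinear (Fin 10) F) ∨
    Cfsg.Geo.InLinearResidualClass H := by
  open CfsgLib.Geo.Asch in
  rcases linear_maximal (n := 10) (by norm_num) H hH with ⟨W, h0, h1, h⟩ | ⟨t, m, D, hD, htm, h⟩ |
    ⟨r, K, hr, hrn, hK, h⟩ | ⟨d, k, e, P, hd, hk, hdk, h⟩ | ⟨F₀, r, P, hr, hc, h⟩ | ⟨r, m, R, hR, hrm, h⟩ |
    ⟨d, t, e, P, hd, ht, hdt, h⟩ | h | ⟨f, hf, -, h⟩ | h | h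
  · exact .inl ⟨W, h0, h1, h⟩
  · have h2 := hD.two_le
    have h3 := hD.pos
    have : m ≤ 10 := by nlinarith
    obtain ⟨rfl, rfl⟩ | ⟨rfl, rfl⟩ | ⟨rfl, rfl⟩ : (m = 1 ∧ t = 10) ∨ (m = 2 ∧ t = 5) ∨ (m = 5 ∧ t = 2) := by
      interval_cases m <;> omega
    · by_cases hq : 5 ≤ Fintype.card F
      · exact .inr <| .inl ⟨hq, D, hD, h⟩
      rcases lines_reduce (by norm_num) hH (by omega) hD h with h | h | h
      · exact .inl h
      · exact .inr <| .inr <| .inr <| .inr <| .inr <| .inr <| .inr <| .inr <| .inl h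
      · exact .inr <| .inr <| .inr <| .inr <| .inr <| .inr <| .inr <| .inr <| .inr <| .inr <| .inl h
    · by_cases hq : 3 ≤ Fintype.card F
      · exact .inr <| .inr <| .inl ⟨hq, D, hD, h⟩
      exact .inr <| .inr <| .inr <| .inr <| .inr <| .inr <| .inr <| .inr <| .inr <| .inl (planes_reduce (by norm_num) hH (by norm_num)
        (Or.inl (by have := Fintype.one_lt_card (α := F); omega)) hD h)
    · exact .inr <| .inr <| .inr <| .inl ⟨D, hD, h⟩
  · obtain rfl | rfl : r = 5 ∨ r = 2 := by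
      have := Nat.le_of_dvd (by norm_num) hrn
      interval_cases r <;> first | omega | (revert hr hrn; norm_num)
    · exact .inr <| .inr <| .inr <| .inr <| .inl ⟨K, hK, h⟩
    · exact .inr <| .inr <| .inr <| .inr <| .inr <| .inl ⟨K, hK, h⟩
  · obtain ⟨rfl, rfl⟩ : (d = 2 ∧ k = 5) := by
      have : d ≤ 10 := by nlinarith
      interval_cases d <;> omega
    by_cases hq : 3 ≤ Fintype.card F
    · exact .inr <| .inr <| .inr <| .inr <| .inr <| .inr <| .inl ⟨hq, e, P, h⟩
    exact .inr <| .inr <| .inr <| .inr <| .inr <| .inl (tensor_reduce (by norm_num) hH (by have := Fintype.one_lt_card (α := F); omega) (by norm_num) h)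
  · exact .inr <| .inr <| .inr <| .inr <| .inr <| .inr <| .inr <| .inl ⟨F₀, r, P, hr, hc, h⟩
  · exfalso
    have hp := hR.symplecticType.prime
    have h1 : r = 2 := ((Nat.prime_dvd_prime_iff_eq (by norm_num) hp).1
      ((by norm_num : Nat.Prime 2).dvd_of_dvd_pow (n := m) (show 2 ∣ r ^ m by rw [← hrm]; norm_num))).symm
    have h2 : r = 5 := ((Nat.prime_dvd_prime_iff_eq (by norm_num) hp).1
      ((by norm_num : Nat.Prime 5).dvd_of_dvd_pow (n := m) (show 5 ∣ r ^ m by rw [← hrm]; norm_num))).symm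
    omega
  · exfalso
    have : d ≤ 10 := hdt ▸ Nat.le_self_pow (by omega) d
    have ht4 : t ≤ 3 := by
      by_contra
      have h1 : 3 ^ 4 ≤ d ^ t := (Nat.pow_le_pow_left hd 4).trans (Nat.pow_le_pow_right (by omega) (by omega))
      omega
    interval_cases t <;> interval_cases d <;> omega
  · exact .inr <| .inr <| .inr <| .inr <| .inr <| .inr <| .inr <| .inr <| .inl h
  · exact .inr <| .inr <| .inr <| .inr <| .inr <| .inr <| .inr <| .inr <| .inr <| .inl ⟨f, hf, h⟩
  · exact .inr <| .inr <| .inr <| .inr <| .inr <| .inr <| .inr <| .inr <| .inr <| .inr <| .inl h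
  · exact .inr <| .inr <| .inr <| .inr <| .inr <| .inr <| .inr <| .inr <| .inr <| .inr <| .inr <| h

end Cfsg.Agent.S5838
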