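import Cfsg.Statements.S5846
import Cfsg.Agent.Lib.Geo.OrthTenTwelve
import Cfsg.Agent.Lib.Geo.OrthSubfieldGL
import Cfsg.Agent.Lib.Geo.Frame.Main
import Cfsg.Agent.Lib.Geo.OrthPlaneMax
import Cfsg.Agent.Lib.Geo.OrthBlockMax
import Cfsg.Agent.Lib.Geo.OrthExt.Matrix

set_option autoImplicit false
open Cfsg

namespace Cfsg.Agent.S5846

/-- Maximal subgroups of Ω_10^+(q) of geometric type (any q). Let F be a finite field with q elements (characteristic p), Q a non-degenerate quadratic form on F^10 (non-degenerate polar form) of plus type (Witt index 5: some totally singular 5-space), and Ω = Ω_10^+(q) the commutator subgroup of the isometry group of Q, inside GL_10(F). Each of the following, intersected with Ω, is a maximal subgroup of Ω: (1) the stabiliser of any non-zero subspace on which Q vanishes identically other than those of dimension 4 (totally singular subspaces, dimensions 1, 2, 3 and 5); (2) for q odd, the stabiliser of any proper subspace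 of odd dimension other than 5 on which the polar form of Q is non-degenerate; (3) the stabiliser of any non-degenerate 2-space of minus type (containing no non-zero singular vector); (4) for q ≥ 4, the stabiliser of any non-degenerate 2-space of plus type (containing a non-zero singular vector); (5) the stabiliser of any non-degenerate 4-space (either type); (6) for q even, the stabiliser of the 1-space spanned by any non-singular vector v (Q(v) ≠ 0); (7) for q = p prime with p ≡ 1 mod 4, the stabiliser of any decomposition of F^10 into 10 pairwise orthogonal, pairwise Q-isometric non-degenerate 1-spaces; (8) for q ≥ 7, the stabiliser of any decomposition of F^10 into 5 pairwise orthogonal, pairwise Q-isometric non-degenerate 2-spaces; (9) for q ≡ 1 mod 4, the stabiliser of any decomposition of F^10 into 2 pairwise orthogonal, pairwise Q-isometric non-degenerate 5-spaces; (10) for q ≡ 3 mod 4, the stabiliser of any decomposition of F^10 into two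 orthogonal non-degenerate 5-spaces that are not Q-isometric; (11) for q odd, the normaliser of any degree-2 subfield K of the matrix algebra whose elements are self-adjoint for the polar form of Q (Q is then the trace of a quadratic form over K); (12) every subfield group for a subfield F₀ with |F| = |F₀|^r, r prime, whose F₀-structure carries a non-zero scalar multiple of Q. -/
theorem result {F : Type*} [Field F] [Fintype F] (Q : (Fin 10 → F) → F) (hQ : Cfsg.Geo.IsNondegenerateQuadraticForm Q) (hplus : Cfsg.Geo.IsPlusTypeOn Q ⊤) :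
    (∀ W : Submodule F (Fin 10 → F), W ≠ ⊥ → Cfsg.Geo.IsTotallySingularQuad Q W → Module.finrank F W ≠ 4 → Cfsg.Geo.IsMaximalIn (Cfsg.Geo.omegaGL Q) (Cfsg.Geo.subspaceStabilizer W ⊓ Cfsg.Geo.omegaGL Q)) ∧
    (Odd (Fintype.card F) → ∀ W : Submodule F (Fin 10 → F), W ≠ ⊥ → W ≠ ⊤ → Odd (Module.finrank F W) → 2 * Module.finrank F W ≠ 10 → Cfsg.Geo.IsNondegenerateOn (QuadraticMap.polar Q) W → Cfsg.Geo.IsMaximalIn (Cfsg.Geo.omegaGL Q) (Cfsg.Geo.subspaceStabilizer W ⊓ Cfsg.Geo.omegaGL Q)) ∧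
    (∀ W : Submodule F (Fin 10 → F), Module.finrank F W = 2 → Cfsg.Geo.IsNondegenerateOn (QuadraticMap.polar Q) W → ¬ Cfsg.Geo.IsPlusTypeOn Q W → Cfsg.Geo.IsMaximalIn (Cfsg.Geo.omegaGL Q) (Cfsg.Geo.subspaceStabilizer W ⊓ Cfsg.Geo.omegaGL Q)) ∧
    (4 ≤ Fintype.card F → ∀ W : Submodule F (Fin 10 → F), Module.finrank F W = 2 → Cfsg.Geo.IsNondegenerateOn (QuadraticMap.polar Q) W → Cfsg.Geo.IsPlusTypeOn Q W → Cfsg.Geo.IsMaximalIn (Cfsg.Geo.omegaGL Q) (Cfsg.Geo.subspaceStabilizer W ⊓ Cfsg.Geo.omegaGL Q)) ∧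
    (∀ W : Submodule F (Fin 10 → F), Module.finrank F W = 4 → Cfsg.Geo.IsNondegenerateOn (QuadraticMap.polar Q) W → Cfsg.Geo.IsMaximalIn (Cfsg.Geo.omegaGL Q) (Cfsg.Geo.subspaceStabilizer W ⊓ Cfsg.Geo.omegaGL Q)) ∧
    (¬ Odd (Fintype.card F) → ∀ v : (Fin 10 → F), Q v ≠ 0 → Cfsg.Geo.IsMaximalIn (Cfsg.Geo.omegaGL Q) (Cfsg.Geo.subspaceStabilizer (Submodule.span F {v}) ⊓ Cfsg.Geo.omegaGL Q)) ∧
    ((∃ p : ℕ, p.Prime ∧ Fintype.card F = p ∧ (p % 4 = 1)) → ∀ D : Fin 10 → Submodule F (Fin 10 → F), Cfsg.Geo.IsOrthogonalMDecomposition Q 1 D → Cfsg.Geo.IsMaximalIn (Cfsg.Geo.omegaGL Q) (Cfsg.Geo.decompositionStabilizer D ⊓ Cfsg.Geo.omegaGL Q)) ∧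
    (7 ≤ Fintype.card F → ∀ D : Fin 5 → Submodule F (Fin 10 → F), Cfsg.Geo.IsOrthogonalMDecomposition Q 2 D → Cfsg.Geo.IsMaximalIn (Cfsg.Geo.omegaGL Q) (Cfsg.Geo.decompositionStabilizer D ⊓ Cfsg.Geo.omegaGL Q)) ∧
    (Fintype.card F % 4 = 1 → ∀ D : Fin 2 → Submodule F (Fin 10 → F), Cfsg.Geo.IsOrthogonalMDecomposition Q 5 D → Cfsg.Geo.IsMaximalIn (Cfsg.Geo.omegaGL Q) (Cfsg.Geo.decompositionStabilizer D ⊓ Cfsg.Geo.omegaGL Q)) ∧
    (Fintype.card F % 4 = 3 → ∀ D : Fin 2 → Submodule F (Fin 10 → F), Cfsg.Geo.IsNondegenerateMDecomposition (QuadraticMap.polar Q) 5 D → ¬ Cfsg.Geo.AreIsometricFor Q (D 0) (D 1) → Cfsg.Geo.IsMaximalIn (Cfsg.Geo.omegaGL Q) (Cfsg.Geo.decompositionStabilizer D ⊓ Cfsg.Geo.omegaGL Q)) ∧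
    (Odd (Fintype.card F) → ∀ K : Subalgebra F (Matrix (Fin 10) (Fin 10) F), Cfsg.Geo.IsFieldSubalgebra 2 K → Cfsg.Geo.IsSelfAdjointFor (QuadraticMap.polar Q) K → Cfsg.Geo.IsMaximalIn (Cfsg.Geo.omegaGL Q) (Cfsg.Geo.subalgebraNormalizer K ⊓ Cfsg.Geo.omegaGL Q)) ∧
    (∀ (F₀ : Subfield F) (r : ℕ) (P : Matrix.GeneralLinearGroup (Fin 10) F) (ζ : F), r.Prime → Fintype.card F = Nat.card F₀ ^ r → ζ ≠ 0 → Cfsg.Geo.IsQuadFormRationalStructure (fun v : Fin 10 → F => ζ * Q v) F₀ P → Cfsg.Geo.IsMaximalIn (Cfsg.Geo.omegaGL Q) (Cfsg.Geo.subfieldSubgroup F₀ P ⊓ Cfsg.Geo.omegaGL Q)) := by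
  obtain ⟨Q', rfl, hQ'⟩ := CfsgLib.Geo.OrthMax.exists_quadraticForm hQ
  have hn' : Module.finrank F (Fin 10 → F) = 10 := Module.finrank_fin_fun F
  have hc : Fintype.card (Fin 10) = 10 := Fintype.card_fin 10
  have : Nonempty (Fin 10) := ⟨0⟩
  have nz : ∀ W : Submodule F (Fin 10 → F), ∀ d, Module.finrank F W = d → 0 < d → W ≠ ⊥ := by
    intro W d hd h0 e
    rw [e, finrank_bot] at hd
    omega
  have lt : ∀ W : Submodule F (Fin 10 → F), W ≠ ⊤ → Module.finrank F W < 10 := fun W h =>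
    lt_of_lt_of_eq (Submodule.finrank_lt h) hn'
  refine ⟨?_, ?_, ?_, ?_, ?_, ?_, ?_, ?_, ?_, ?_, ?_, ?_⟩
  · exact fun W hW0 hW h4 => CfsgLib.Geo.OrthTypes.isMaximalIn_singular hQ' (by omega) hW0 hW fun h => by omega
  · exact fun hq W hW0 hW1 hW5 h2 hW => by
      have := lt W hW1
      obtain ⟨j, hj⟩ := hW5
      exact CfsgLib.Geo.OrthTypes.isMaximalIn_sub hQ' (by omega) hW0 hW (by omega) (by omega) (by omega)
        fun h _ => by omega
  · exact fun W h hW hm => CfsgLib.Geo.OrthTypes.isMaximalIn_sub hQ' (by omega) (nz W 2 h (by omega)) hW (by omega)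
      (by omega) (by omega) fun _ hp => absurd hp hm
  · exact fun h4 W h hW _ => CfsgLib.Geo.OrthTypes.isMaximalIn_sub hQ' (by omega) (nz W 2 h (by omega)) hW (by omega)
      (by omega) (by omega) fun _ _ => by rwa [Nat.card_eq_fintype_card]
  · exact fun W h hW => CfsgLib.Geo.OrthTypes.isMaximalIn_sub hQ' (by omega) (nz W 4 h (by omega)) hW (by omega)
      (by omega) (by omega) fun h' _ => by omega
  · exact fun hq v hv => CfsgLib.Geo.OrthTypes.isMaximalIn_vector hQ' (by omega) hq hv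
  · rintro ⟨p, hp, hcard, hp4⟩ D hD
    exact CfsgLib.Geo.Frame.isMaximalIn_frame hQ' (hcard ▸ hp) (by rw [hcard, Nat.odd_iff]; omega) (by omega)
      (by omega) hD
  · exact fun h7 D hD => CfsgLib.Geo.OrthPlane.isMaximalIn_omega_of_nine hQ' (by omega) hD
      (by rw [Nat.card_eq_fintype_card]; omega) fun _ => by rwa [Nat.card_eq_fintype_card]
  · exact fun _ D hD => CfsgLib.Geo.OrthBlock.isMaximalIn_omega hQ' (by omega) hD (by omega) (fun h => by omega)
      fun h => by omega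
  · exact fun _ D hD hni => CfsgLib.Geo.OrthTypes.isMaximalIn_halves hQ' (by omega) (by omega) hD hni
  · exact fun hq K hK hsa => CfsgLib.Geo.OrthExt.isMaximalIn_omega hQ'
      (CfsgLib.Classical.Quad.two_ne_zero_of_odd rfl hq) (by omega) Nat.prime_two (by omega) K hK hsa
  · exact fun F₀ r P ζ hr hcard hζ hP => CfsgLib.Geo.OrthSub.isMaximalIn_subfield hQ' (by omega) F₀ hr hcard P hζ hP

end Cfsg.Agent.S5846
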