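import Cfsg.Statements.S5847
import Cfsg.Agent.Lib.Geo.Asch.OrthEven

set_option autoImplicit false
open Cfsg

namespace Cfsg.Agent.S5847

open CfsgLib.Geo.Asch CfsgLib.Classical.Quad CfsgLib.Classical CfsgLib.Geo.OrthMax
open QuadraticMap (polar polarBilin)

/-- Every maximal subgroup of Ω_10^+(q) is of one of the listed geometric types or lies in the residual class. Let F be a finite field with q elements (characteristic p), Q a non-degenerate quadratic form on F^10 of plus type (Witt index 5: some totally singular 5-space), Ω the commutator subgroup of its isometry group, and H a maximal subgroup of Ω (inside GL_10(F)). Then H is the intersection with Ω of one of: the stabiliser of a non-zero totally singular subspace of dimension ≠ 4; for q odd, the stabiliser of a non-degenerate subspace of odd dimension ≠ 5; the stabiliser of a non-degenerate 2-space of minus type; for q ≥ 4, the stabiliser of a non-degenerate 2-space of plus type; the stabiliser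 of a non-degenerate 4-space; for q even, the stabiliser of the span of a non-singular vector; for q = p prime with p ≡ 1 mod 4, the stabiliser of a decomposition into 10 pairwise orthogonal, pairwise isometric non-degenerate 1-spaces; for q ≥ 7, the stabiliser of a decomposition into 5 pairwise orthogonal, pairwise isometric non-degenerate 2-spaces; for q ≡ 1 mod 4, the stabiliser of a decomposition into 2 pairwise orthogonal, pairwise isometric non-degenerate 5-spaces; for q ≡ 3 mod 4, the stabiliser of a decomposition into two orthogonal, non-isometric non-degenerate 5-spaces; for q odd, the normaliser of a degree-2 subfield of the matrix algebra, self-adjoint for the polar form; a subfield group (|F| = |F₀|^r, r prime) whose F₀-structure carries a non-zero multiple of Q — or else H lies in the residual class of the orthogonal case (modulo scalars H is almost simple, with absolutely irreducible perfect socle preimage realisable over no proper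 subfield and fixing no non-degenerate unitary form). -/
theorem result {F : Type*} [Field F] [Fintype F] (Q : (Fin 10 → F) → F) (hQ : Cfsg.Geo.IsNondegenerateQuadraticForm Q) (hplus : Cfsg.Geo.IsPlusTypeOn Q ⊤) (H : Subgroup (Matrix.GeneralLinearGroup (Fin 10) F)) (hH : Cfsg.Geo.IsMaximalIn (Cfsg.Geo.omegaGL Q) H) :
    (∃ W : Submodule F (Fin 10 → F), W ≠ ⊥ ∧ Cfsg.Geo.IsTotallySingularQuad Q W ∧ Module.finrank F W ≠ 4 ∧ H = Cfsg.Geo.subspaceStabilizer W ⊓ Cfsg.Geo.omegaGL Q) ∨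
    (Odd (Fintype.card F) ∧ ∃ W : Submodule F (Fin 10 → F), W ≠ ⊥ ∧ W ≠ ⊤ ∧ Odd (Module.finrank F W) ∧ 2 * Module.finrank F W ≠ 10 ∧ Cfsg.Geo.IsNondegenerateOn (QuadraticMap.polar Q) W ∧ H = Cfsg.Geo.subspaceStabilizer W ⊓ Cfsg.Geo.omegaGL Q) ∨
    (∃ W : Submodule F (Fin 10 → F), Module.finrank F W = 2 ∧ Cfsg.Geo.IsNondegenerateOn (QuadraticMap.polar Q) W ∧ ¬ Cfsg.Geo.IsPlusTypeOn Q W ∧ H = Cfsg.Geo.subspaceStabilizer W ⊓ Cfsg.Geo.omegaGL Q) ∨
    (4 ≤ Fintype.card F ∧ ∃ W : Submodule F (Fin 10 → F), Module.finrank F W = 2 ∧ Cfsg.Geo.IsNondegenerateOn (QuadraticMap.polar Q) W ∧ Cfsg.Geo.IsPlusTypeOn Q W ∧ H = Cfsg.Geo.subspaceStabilizer W ⊓ Cfsg.Geo.omegaGL Q) ∨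
    (∃ W : Submodule F (Fin 10 → F), Module.finrank F W = 4 ∧ Cfsg.Geo.IsNondegenerateOn (QuadraticMap.polar Q) W ∧ H = Cfsg.Geo.subspaceStabilizer W ⊓ Cfsg.Geo.omegaGL Q) ∨
    (¬ Odd (Fintype.card F) ∧ ∃ v : (Fin 10 → F), Q v ≠ 0 ∧ H = Cfsg.Geo.subspaceStabilizer (Submodule.span F {v}) ⊓ Cfsg.Geo.omegaGL Q) ∨
    ((∃ p : ℕ, p.Prime ∧ Fintype.card F = p ∧ (p % 4 = 1)) ∧ ∃ D : Fin 10 → Submodule F (Fin 10 → F), Cfsg.Geo.IsOrthogonalMDecomposition Q 1 D ∧ H = Cfsg.Geo.decompositionStabilizer D ⊓ Cfsg.Geo.omegaGL Q) ∨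
    (7 ≤ Fintype.card F ∧ ∃ D : Fin 5 → Submodule F (Fin 10 → F), Cfsg.Geo.IsOrthogonalMDecomposition Q 2 D ∧ H = Cfsg.Geo.decompositionStabilizer D ⊓ Cfsg.Geo.omegaGL Q) ∨
    (Fintype.card F % 4 = 1 ∧ ∃ D : Fin 2 → Submodule F (Fin 10 → F), Cfsg.Geo.IsOrthogonalMDecomposition Q 5 D ∧ H = Cfsg.Geo.decompositionStabilizer D ⊓ Cfsg.Geo.omegaGL Q) ∨
    (Fintype.card F % 4 = 3 ∧ ∃ D : Fin 2 → Submodule F (Fin 10 → F), Cfsg.Geo.IsNondegenerateMDecomposition (QuadraticMap.polar Q) 5 D ∧ ¬ Cfsg.Geo.AreIsometricFor Q (D 0) (D 1) ∧ H = Cfsg.Geo.decompositionStabilizer D ⊓ Cfsg.Geo.omegaGL Q) ∨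
    (Odd (Fintype.card F) ∧ ∃ K : Subalgebra F (Matrix (Fin 10) (Fin 10) F), Cfsg.Geo.IsFieldSubalgebra 2 K ∧ Cfsg.Geo.IsSelfAdjointFor (QuadraticMap.polar Q) K ∧ H = Cfsg.Geo.subalgebraNormalizer K ⊓ Cfsg.Geo.omegaGL Q) ∨
    (∃ (F₀ : Subfield F) (r : ℕ) (P : Matrix.GeneralLinearGroup (Fin 10) F) (ζ : F), r.Prime ∧ Fintype.card F = Nat.card F₀ ^ r ∧ ζ ≠ 0 ∧ Cfsg.Geo.IsQuadFormRationalStructure (fun v : Fin 10 → F => ζ * Q v) F₀ P ∧ H = Cfsg.Geo.subfieldSubgroup F₀ P ⊓ Cfsg.Geo.omegaGL Q) ∨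
    Cfsg.Geo.InOrthogonalResidualClass H := by
  classical
  obtain ⟨Q, rfl, hQn⟩ := CfsgLib.Geo.Asch.exists_quadraticForm hQ
  have hcard : Fintype.card (Fin 10) = 2 * 5 := by simp
  have hc10 : Fintype.card (Fin 10) = 10 := by simp
  have hn5 : 5 ≤ Fintype.card (Fin 10) := by omega
  have hiso := iso_of_le_omega hH.1.le
  have hne : ¬ Odd (Fintype.card (Fin 10)) := by rw [hc10]; decide
  have hfour : ∀ j : ℕ, Odd j → j % 4 = 1 ∨ j % 4 = 3 := fun j hj => by
    obtain ⟨i, rfl⟩ := hj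
    omega
  have lines : ∀ D : Fin 10 → Submodule F (Fin 10 → F), Cfsg.Geo.IsOrthogonalMDecomposition (⇑Q) 1 D →
      (Fintype.card F).Prime → H ≤ Cfsg.Geo.decompositionStabilizer D →
      (∃ p : ℕ, p.Prime ∧ Fintype.card F = p ∧ (p % 4 = 1)) ∧
        ∃ D : Fin 10 → Submodule F (Fin 10 → F), Cfsg.Geo.IsOrthogonalMDecomposition (⇑Q) 1 D ∧
          H = Cfsg.Geo.decompositionStabilizer D ⊓ Cfsg.Geo.omegaGL (⇑Q) := by
    intro D hD hp hle
    have ho := odd_card_of_odd_part (hD.decomp.nondegenerate 0) (by rw [hD.decomp.decomp.finrank_eq]; decide)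
    have h2 := odd_card_iff'.1 ho
    have hs := isSquare_det_of_even hD (by decide)
    exact ⟨⟨_, hp, rfl, (hfour _ ho).resolve_right ((plus_iff_of_square h2 hQn (by decide) hcard hs).1 hplus)⟩, D, hD, eq_inf_omega hH hle (not_omega_le_lines h2 hQn (by omega) hD)⟩
  have pair : ∀ D : Fin 2 → Submodule F (Fin 10 → F),
      Cfsg.Geo.IsNondegenerateMDecomposition (polar Q) 5 D → H ≤ Cfsg.Geo.decompositionStabilizer D →
      (Fintype.card F % 4 = 1 ∧ ∃ D : Fin 2 → Submodule F (Fin 10 → F),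
        Cfsg.Geo.IsOrthogonalMDecomposition (⇑Q) 5 D ∧
        H = Cfsg.Geo.decompositionStabilizer D ⊓ Cfsg.Geo.omegaGL (⇑Q)) ∨
      (Fintype.card F % 4 = 3 ∧ ∃ D : Fin 2 → Submodule F (Fin 10 → F),
        Cfsg.Geo.IsNondegenerateMDecomposition (polar Q) 5 D ∧ ¬ Cfsg.Geo.AreIsometricFor (⇑Q) (D 0) (D 1) ∧
        H = Cfsg.Geo.decompositionStabilizer D ⊓ Cfsg.Geo.omegaGL (⇑Q)) := by
    intro D hD hle
    have ho := odd_card_of_odd_part (hD.nondegenerate 0) (by rw [hD.decomp.finrank_eq]; decide)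
    have h2 := odd_card_iff'.1 ho
    have heq := eq_inf_omega hH hle (not_omega_le_decomposition_of_three hQn hn5 hD.decomp (by omega))
    by_cases hi : Cfsg.Geo.AreIsometricFor (⇑Q) (D 0) (D 1)
    · have hs := (isometric_pair_iff h2 hQn hD).1 hi
      exact .inl ⟨(hfour _ ho).resolve_right ((plus_iff_of_square h2 hQn (by decide) hcard hs).1 hplus), D, orth_of_pair hD hi, heq⟩
    · have hs := mt (isometric_pair_iff h2 hQn hD).2 hi
      exact .inr ⟨(plus_iff_of_not_square h2 hQn (by decide) hcard hs).1 hplus, D, hD, hi, heq⟩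
  rcases orth_host hQn (by omega) (fun h => absurd h hne) (.inr (by omega)) H hiso with
    ⟨W, h0, hts, hle⟩ | ⟨W, h0, h1, hnd, hle⟩ | ⟨h20, v, hv, hle⟩ | ⟨t, k, D, hD, hp, hle⟩ |
    ⟨k, D, hk, hD, hts, hle⟩ | ⟨r, K, hr, hrn, hK, hcase, hle⟩ |
    ⟨n₁, n₂, e, P, X, Y, hn₁, hn₁₂, ⟨a₁, ha₁⟩, ⟨a₂, ha₂⟩, hprod, -⟩ |
    ⟨-, n₁, n₂, e, P, X, Y, h3, hn12, hprod, -⟩ | ⟨F₀, r, P, ζ, hr, hc, hζ, hrat, hle⟩ |
    ⟨-, d, t, e, P, X, c, hd, -, -, hdt, -⟩ | ⟨h8, -⟩ | hres
  · refine .inl ⟨W, h0, hts, fun hd => ?_, eq_singular hQn hn5 hH h0 hts hle⟩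
    exact no_half_minus_one hQn hn5 hplus hH hts (by omega) hle
  · rcases nd_cases hQn hcard (by omega) (by omega) hH h0 h1 hnd hle with
      ⟨ho, W, a, b, c, d, e, f⟩ | h | h | h | h | ⟨W, hd5, hnd5, hle5⟩
    · exact .inr <| .inl ⟨ho, W, a, b, c, d, e, f⟩
    · exact .inr <| .inr <| .inl h
    · exact .inr <| .inr <| .inr <| .inl h
    · exact .inr <| .inr <| .inr <| .inr <| .inl h
    · exact .inr <| .inr <| .inr <| .inr <| .inr <| .inl h
    · obtain ⟨hD, hleD⟩ := pair_decomposition hQn hiso (by omega) hnd5 hd5 hcard hle5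
      rcases pair _ hD hleD with h | h
      · exact .inr <| .inr <| .inr <| .inr <| .inr <| .inr <| .inr <| .inr <| .inl h
      · exact .inr <| .inr <| .inr <| .inr <| .inr <| .inr <| .inr <| .inr <| .inr <| .inl h
  · have hv0 : v ≠ 0 := fun e => hv (by rw [e, QuadraticMap.map_zero])
    obtain ⟨hb, ht⟩ := ne_of_finrank (finrank_span_singleton (K := F) hv0) (by omega) (by omega)
    exact .inr <| .inr <| .inr <| .inr <| .inr <| .inl ⟨fun h => odd_card_iff'.1 h h20, v, hv, eq_stabilizer hQn hn5 hH hb ht hle⟩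
  · have htk := card_eq_of_mDecomposition hD.decomp.decomp
    have ht2 := hD.decomp.decomp.two_le
    have hk0 := hD.decomp.decomp.pos
    rw [hc10] at htk
    obtain ⟨rfl, rfl⟩ | ⟨rfl, rfl⟩ | ⟨rfl, rfl⟩ : (t = 10 ∧ k = 1) ∨ (t = 5 ∧ k = 2) ∨ (t = 2 ∧ k = 5) := by
      have h1 : t ≤ 10 := htk ▸ Nat.le_mul_of_pos_right t hk0
      interval_cases t <;> omega
    · exact .inr <| .inr <| .inr <| .inr <| .inr <| .inr <| .inl (lines D hD (hp rfl) hle)
    · have hp0 : Cfsg.Geo.IsPlusTypeOn (⇑Q) (D 0) :=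
        ((plus_top_parts (k := 1) hD 0).1 hplus).resolve_left (by decide)
      rcases card_cases (F := F) with hq | hq | hq | hq | hq
      · obtain ⟨v, hv0, hv, hlev⟩ := fixed_of_plus_planes hq hiso hD hle 0 hp0
        obtain ⟨hb, ht⟩ := ne_of_finrank (finrank_span_singleton (K := F) hv0) (by omega) (by omega)
        refine .inr <| .inr <| .inr <| .inr <| .inr <| .inl ⟨by rw [hq]; decide, v, ?_, eq_stabilizer hQn hn5 hH hb ht hlev⟩
        rcases eq_zero_or_one_of_card_two hq 2 with h20 | h21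
        · rw [hv, show ((5 : ℕ) : F) = 1 + 2 * 2 by norm_num, h20, mul_zero, add_zero]
          exact one_ne_zero
        · exact absurd (show (1 : F) = 0 by linear_combination h21) one_ne_zero
      · have h2 : (2 : F) ≠ 0 := odd_card_iff'.1 (by rw [hq]; decide)
        obtain ⟨W, hd5, hnd5, hle5⟩ := stable_of_plus_planes hq h2 hiso hD hle 0 hp0
        obtain ⟨hD', hleD⟩ := pair_decomposition hQn hiso (by omega) hnd5 hd5 hcard hle5
        rcases pair _ hD' hleD with h | h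
        · exact .inr <| .inr <| .inr <| .inr <| .inr <| .inr <| .inr <| .inr <| .inl h
        · exact .inr <| .inr <| .inr <| .inr <| .inr <| .inr <| .inr <| .inr <| .inr <| .inl h
      · obtain ⟨F₀, P, hc, hrat, hleP⟩ := subfield_of_plus_planes hq hiso hD hle 0 hp0
        exact .inr <| .inr <| .inr <| .inr <| .inr <| .inr <| .inr <| .inr <| .inr <| .inr <| .inr <| .inl ⟨F₀, 2, P, 1, Nat.prime_two, hc,
          one_ne_zero, by simpa using hrat, eq_subfield hQn hn5 hH Nat.prime_two hc hleP⟩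
      · have h2 : (2 : F) ≠ 0 := odd_card_iff'.1 (by rw [hq]; decide)
        obtain ⟨E, hE, hleE⟩ := lines_of_plus_planes hq h2 hiso hD hle 0 hp0
        exact .inr <| .inr <| .inr <| .inr <| .inr <| .inr <| .inl (lines E hE (by rw [hq]; norm_num) hleE)
      · exact .inr <| .inr <| .inr <| .inr <| .inr <| .inr <| .inr <| .inl ⟨hq, D, hD,
          eq_inf_omega hH hle (not_omega_le_decomposition_planes hQn hn5 (by omega) hD.decomp)⟩
    · rcases pair D hD.decomp hle with h | h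
      · exact .inr <| .inr <| .inr <| .inr <| .inr <| .inr <| .inr <| .inr <| .inl h
      · exact .inr <| .inr <| .inr <| .inr <| .inr <| .inr <| .inr <| .inr <| .inr <| .inl h
  · obtain rfl : k = 5 := by omega
    exact absurd (no_swap hQn hn5 hH hk (by decide) hD hts hle) not_false
  · rcases hcase with ⟨hsa, hr10, hr5⟩ | ⟨rfl, hadj, -, hsim⟩
    · obtain rfl : r = 2 := by
        rw [hc10] at hrn hr10 hr5
        have h1 := Nat.le_of_dvd (by norm_num) hrn
        have h2' := hr.two_le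
        interval_cases r <;> norm_num at *
      refine .inr <| .inr <| .inr <| .inr <| .inr <| .inr <| .inr <| .inr <| .inr <| .inr <| .inl ⟨?_, K, hK, hsa, eq_field hQn hn5 hH le_rfl hK hle⟩
      by_contra ho
      have h4 := four_dvd_of_selfAdjoint (not_not.1 fun h => ho (odd_card_iff'.2 h)) hQn hK hsa
      omega
    · obtain ⟨j, hj, hiff⟩ := plus_iff_of_similitude_field hQn hK hadj hsim
      obtain rfl : j = 5 := by omega
      exact absurd (hiff.1 hplus) (by decide)
  · rw [hc10] at hprod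
    subst ha₁ ha₂
    ring_nf at hprod
    omega
  · rw [hc10] at hprod
    have : n₁ ≤ 3 := by nlinarith
    obtain rfl : n₁ = 3 := by omega
    omega
  · exact .inr <| .inr <| .inr <| .inr <| .inr <| .inr <| .inr <| .inr <| .inr <| .inr <| .inr <| .inl ⟨F₀, r, P, ζ, hr, hc, hζ, hrat, eq_subfield hQn hn5 hH hr hc hle⟩
  · exact absurd (hdt ▸ hd.pow) hne
  · omega
  · exact .inr <| .inr <| .inr <| .inr <| .inr <| .inr <| .inr <| .inr <| .inr <| .inr <| .inr <| .inr hres

end Cfsg.Agent.S5847
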