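import Cfsg.Statements.S5871
import Cfsg.Agent.Lib.Geo.Asch.OrthTwelve

set_option autoImplicit false
open Cfsg

namespace Cfsg.Agent.S5871

open CfsgLib.Geo.Asch CfsgLib.Classical.Quad CfsgLib.Classical CfsgLib.Geo.OrthMax
open QuadraticMap (polar polarBilin)
open scoped Matrix

/-- Every maximal subgroup of Ω_12^+(q) is of one of the listed geometric types or lies in the residual class. Let F be a finite field with q elements (characteristic p), Q a non-degenerate quadratic form on F^12 of plus type (Witt index 6: some totally singular 6-space), Ω the commutator subgroup of its isometry group, and H a maximal subgroup of Ω (inside GL_12(F)). Then H is the intersection with Ω of one of: the stabiliser of a non-zero totally singular subspace of dimension ≠ 5; for q odd, the stabiliser of a non-degenerate subspace of odd dimension; the stabiliser of a non-degenerate 2-space of minus type; for q ≥ 4, the stabiliser of a non-degenerate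 2-space of plus type; the stabiliser of a non-degenerate 4-space; for q even, the stabiliser of the span of a non-singular vector; for q = p an odd prime, the stabiliser of a decomposition into 12 pairwise orthogonal, pairwise isometric non-degenerate 1-spaces; for q ≥ 7, the stabiliser of a decomposition into 6 pairwise orthogonal, pairwise isometric non-degenerate 2-spaces of plus type; for q ≠ 3, the stabiliser of a decomposition into 6 pairwise orthogonal, pairwise isometric non-degenerate 2-spaces of minus type; for q odd with q ≥ 5, the stabiliser of a decomposition into 4 pairwise orthogonal, pairwise isometric non-degenerate 3-spaces; for q ≥ 3, the stabiliser of a decomposition into 3 pairwise orthogonal, pairwise isometric non-degenerate 4-spaces; the stabiliser of a decomposition into 2 pairwise orthogonal, pairwise isometric non-degenerate 6-spaces; of a decomposition into two totally singular 6-spaces; the normaliser of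 a degree-2 subfield of the matrix algebra; the normaliser of a degree-3 subfield of the matrix algebra; the normaliser of a degree-2 subfield K, adjoint-closed but not self-adjoint, acting by similarities of Q; for q ≥ 3, the stabiliser of a tensor decomposition of Q into alternating forms on F^2 and F^6 (Q vanishing on pure tensors); a subfield group (|F| = |F₀|^r, r prime) whose F₀-structure carries a non-zero multiple of Q — or else H lies in the residual class of the orthogonal case (modulo scalars H is almost simple, with absolutely irreducible perfect socle preimage realisable over no proper subfield and fixing no non-degenerate unitary form). -/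
theorem result {F : Type*} [Field F] [Fintype F] (Q : (Fin 12 → F) → F) (hQ : Cfsg.Geo.IsNondegenerateQuadraticForm Q) (hplus : Cfsg.Geo.IsPlusTypeOn Q ⊤) (H : Subgroup (Matrix.GeneralLinearGroup (Fin 12) F)) (hH : Cfsg.Geo.IsMaximalIn (Cfsg.Geo.omegaGL Q) H) :
    (∃ W : Submodule F (Fin 12 → F), W ≠ ⊥ ∧ Cfsg.Geo.IsTotallySingularQuad Q W ∧ Module.finrank F W ≠ 5 ∧ H = Cfsg.Geo.subspaceStabilizer W ⊓ Cfsg.Geo.omegaGL Q) ∨
    (Odd (Fintype.card F) ∧ ∃ W : Submodule F (Fin 12 → F), W ≠ ⊥ ∧ W ≠ ⊤ ∧ Odd (Module.finrank F W) ∧ 2 * Module.finrank F W ≠ 12 ∧ Cfsg.Geo.IsNondegenerateOn (QuadraticMap.polar Q) W ∧ H = Cfsg.Geo.subspaceStabilizer W ⊓ Cfsg.Geo.omegaGL Q) ∨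
    (∃ W : Submodule F (Fin 12 → F), Module.finrank F W = 2 ∧ Cfsg.Geo.IsNondegenerateOn (QuadraticMap.polar Q) W ∧ ¬ Cfsg.Geo.IsPlusTypeOn Q W ∧ H = Cfsg.Geo.subspaceStabilizer W ⊓ Cfsg.Geo.omegaGL Q) ∨
    (4 ≤ Fintype.card F ∧ ∃ W : Submodule F (Fin 12 → F), Module.finrank F W = 2 ∧ Cfsg.Geo.IsNondegenerateOn (QuadraticMap.polar Q) W ∧ Cfsg.Geo.IsPlusTypeOn Q W ∧ H = Cfsg.Geo.subspaceStabilizer W ⊓ Cfsg.Geo.omegaGL Q) ∨
    (∃ W : Submodule F (Fin 12 → F), Module.finrank F W = 4 ∧ Cfsg.Geo.IsNondegenerateOn (QuadraticMap.polar Q) W ∧ H = Cfsg.Geo.subspaceStabilizer W ⊓ Cfsg.Geo.omegaGL Q) ∨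
    (¬ Odd (Fintype.card F) ∧ ∃ v : (Fin 12 → F), Q v ≠ 0 ∧ H = Cfsg.Geo.subspaceStabilizer (Submodule.span F {v}) ⊓ Cfsg.Geo.omegaGL Q) ∨
    ((∃ p : ℕ, p.Prime ∧ Odd p ∧ Fintype.card F = p) ∧ ∃ D : Fin 12 → Submodule F (Fin 12 → F), Cfsg.Geo.IsOrthogonalMDecomposition Q 1 D ∧ H = Cfsg.Geo.decompositionStabilizer D ⊓ Cfsg.Geo.omegaGL Q) ∨
    (7 ≤ Fintype.card F ∧ ∃ D : Fin 6 → Submodule F (Fin 12 → F), Cfsg.Geo.IsOrthogonalMDecomposition Q 2 D ∧ (∀ i, Cfsg.Geo.IsPlusTypeOn Q (D i)) ∧ H = Cfsg.Geo.decompositionStabilizer D ⊓ Cfsg.Geo.omegaGL Q) ∨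
    (Fintype.card F ≠ 3 ∧ ∃ D : Fin 6 → Submodule F (Fin 12 → F), Cfsg.Geo.IsOrthogonalMDecomposition Q 2 D ∧ (∀ i, ¬ Cfsg.Geo.IsPlusTypeOn Q (D i)) ∧ H = Cfsg.Geo.decompositionStabilizer D ⊓ Cfsg.Geo.omegaGL Q) ∨
    (Odd (Fintype.card F) ∧ 5 ≤ Fintype.card F ∧ ∃ D : Fin 4 → Submodule F (Fin 12 → F), Cfsg.Geo.IsOrthogonalMDecomposition Q 3 D ∧ H = Cfsg.Geo.decompositionStabilizer D ⊓ Cfsg.Geo.omegaGL Q) ∨
    (3 ≤ Fintype.card F ∧ ∃ D : Fin 3 → Submodule F (Fin 12 → F), Cfsg.Geo.IsOrthogonalMDecomposition Q 4 D ∧ H = Cfsg.Geo.decompositionStabilizer D ⊓ Cfsg.Geo.omegaGL Q) ∨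
    (∃ D : Fin 2 → Submodule F (Fin 12 → F), Cfsg.Geo.IsOrthogonalMDecomposition Q 6 D ∧ H = Cfsg.Geo.decompositionStabilizer D ⊓ Cfsg.Geo.omegaGL Q) ∨
    (∃ D : Fin 2 → Submodule F (Fin 12 → F), Cfsg.Geo.IsMDecomposition 6 D ∧ (∀ i, Cfsg.Geo.IsTotallySingularQuad Q (D i)) ∧ H = Cfsg.Geo.decompositionStabilizer D ⊓ Cfsg.Geo.omegaGL Q) ∨
    (∃ K : Subalgebra F (Matrix (Fin 12) (Fin 12) F), Cfsg.Geo.IsFieldSubalgebra 2 K ∧ H = Cfsg.Geo.subalgebraNormalizer K ⊓ Cfsg.Geo.omegaGL Q) ∨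
    (∃ K : Subalgebra F (Matrix (Fin 12) (Fin 12) F), Cfsg.Geo.IsFieldSubalgebra 3 K ∧ H = Cfsg.Geo.subalgebraNormalizer K ⊓ Cfsg.Geo.omegaGL Q) ∨
    (∃ K : Subalgebra F (Matrix (Fin 12) (Fin 12) F), Cfsg.Geo.IsFieldSubalgebra 2 K ∧ Cfsg.Geo.IsAdjointClosedFor (QuadraticMap.polar Q) K ∧ ¬ Cfsg.Geo.IsSelfAdjointFor (QuadraticMap.polar Q) K ∧ (∀ k ∈ K, ∃ c : F, ∀ v : (Fin 12 → F), Q (Matrix.mulVec k v) = c * Q v) ∧ H = Cfsg.Geo.subalgebraNormalizer K ⊓ Cfsg.Geo.omegaGL Q) ∨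
    (3 ≤ Fintype.card F ∧ ∃ (e : Fin 12 ≃ Fin 2 × Fin 6) (P : Matrix.GeneralLinearGroup (Fin 12) F) (f₁ : (Fin 2 → F) → (Fin 2 → F) → F) (f₂ : (Fin 6 → F) → (Fin 6 → F) → F), Cfsg.Geo.IsSymplecticForm f₁ ∧ Cfsg.Geo.IsSymplecticForm f₂ ∧ Cfsg.Geo.IsTensorFormStructure id (QuadraticMap.polar Q) f₁ f₂ e P ∧ (∀ (x₁ : Fin 2 → F) (x₂ : Fin 6 → F), Q (Matrix.mulVec (P : Matrix (Fin 12) (Fin 12) F) ((fun a : Fin 2 × Fin 6 => x₁ a.1 * x₂ a.2) ∘ e)) = 0) ∧ H = Cfsg.Geo.tensorProductSubgroup 2 6 e P ⊓ Cfsg.Geo.omegaGL Q) ∨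
    (∃ (F₀ : Subfield F) (r : ℕ) (P : Matrix.GeneralLinearGroup (Fin 12) F) (ζ : F), r.Prime ∧ Fintype.card F = Nat.card F₀ ^ r ∧ ζ ≠ 0 ∧ Cfsg.Geo.IsQuadFormRationalStructure (fun v : Fin 12 → F => ζ * Q v) F₀ P ∧ H = Cfsg.Geo.subfieldSubgroup F₀ P ⊓ Cfsg.Geo.omegaGL Q) ∨
    Cfsg.Geo.InOrthogonalResidualClass H := by
  classical
  obtain ⟨Q, rfl, hQn⟩ := CfsgLib.Geo.Asch.exists_quadraticForm hQ
  have hcard : Fintype.card (Fin 12) = 2 * 6 := by simp
  have hc12 : Fintype.card (Fin 12) = 12 := by simp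
  have hn5 : 5 ≤ Fintype.card (Fin 12) := by omega
  have hiso := iso_of_le_omega hH.1.le
  have hne : ¬ Odd (Fintype.card (Fin 12)) := by rw [hc12]; decide
  have six : ∀ W : Submodule F (Fin 12 → F), Module.finrank F W = 6 →
      Cfsg.Geo.IsNondegenerateOn (polar Q) W → H ≤ Cfsg.Geo.subspaceStabilizer W →
      ∃ D : Fin 2 → Submodule F (Fin 12 → F), Cfsg.Geo.IsOrthogonalMDecomposition (⇑Q) 6 D ∧
        H = Cfsg.Geo.decompositionStabilizer D ⊓ Cfsg.Geo.omegaGL (⇑Q) := by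
    intro W hd6 hnd6 hle6
    obtain ⟨hD, hleD⟩ := pair_decomposition hQn hiso (by omega) hnd6 hd6 hcard hle6
    exact ⟨_, orth_of_pair hD (isometric_perp_of_plus hQn (m := 3) hnd6 hd6 hcard hplus),
      eq_inf_omega hH hleD (not_omega_le_decomposition_of_three hQn hn5 hD.decomp (by omega))⟩
  have lines : ∀ D : Fin 12 → Submodule F (Fin 12 → F), Cfsg.Geo.IsOrthogonalMDecomposition (⇑Q) 1 D →
      (Fintype.card F).Prime → H ≤ Cfsg.Geo.decompositionStabilizer D →
      (∃ p : ℕ, p.Prime ∧ Odd p ∧ Fintype.card F = p) ∧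
        ∃ D : Fin 12 → Submodule F (Fin 12 → F), Cfsg.Geo.IsOrthogonalMDecomposition (⇑Q) 1 D ∧
          H = Cfsg.Geo.decompositionStabilizer D ⊓ Cfsg.Geo.omegaGL (⇑Q) := by
    intro D hD hp hle
    have ho := odd_card_of_odd_part (hD.decomp.nondegenerate 0) (by rw [hD.decomp.decomp.finrank_eq]; decide)
    exact ⟨⟨_, hp, ho, rfl⟩, D, hD,
      eq_inf_omega hH hle (not_omega_le_lines (odd_card_iff'.1 ho) hQn (by omega) hD)⟩
  have minusPlanes : ∀ D : Fin 6 → Submodule F (Fin 12 → F), Cfsg.Geo.IsOrthogonalMDecomposition (⇑Q) 2 D →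
      Fintype.card F ≠ 3 → (∀ i, ¬ Cfsg.Geo.IsPlusTypeOn (⇑Q) (D i)) → H ≤ Cfsg.Geo.decompositionStabilizer D →
      Fintype.card F ≠ 3 ∧ ∃ D : Fin 6 → Submodule F (Fin 12 → F), Cfsg.Geo.IsOrthogonalMDecomposition (⇑Q) 2 D ∧
        (∀ i, ¬ Cfsg.Geo.IsPlusTypeOn (⇑Q) (D i)) ∧
        H = Cfsg.Geo.decompositionStabilizer D ⊓ Cfsg.Geo.omegaGL (⇑Q) :=
    fun D hD hq hm hle => ⟨hq, D, hD, hm,
      eq_inf_omega hH hle (not_omega_le_decomposition_planes hQn hn5 (by omega) hD.decomp)⟩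
  have hq1 := Fintype.one_lt_card (α := F)
  rcases orth_host hQn (by omega) (fun h => absurd h hne) (.inr (by omega)) H hiso with
    ⟨W, h0, hts, hle⟩ | ⟨W, h0, h1, hnd, hle⟩ | ⟨h20, v, hv, hle⟩ | ⟨t, k, D, hD, hp, hle⟩ |
    ⟨k, D, hk, hD, hts, hle⟩ | ⟨r, K, hr, hrn, hK, hcase, hle⟩ |
    ⟨n₁, n₂, e, P, X, Y, hn₁, hn₁₂, ⟨a₁, ha₁⟩, ⟨a₂, ha₂⟩, hprod, hXu, hYu, hX, hY, hXd, hYd, hG, hpure, hle⟩ |
    ⟨h2, n₁, n₂, e, P, X, Y, h3, hn12, hprod, hXu, hYu, hX, hY, hG, hle⟩ | ⟨F₀, r, P, ζ, hr, hc, hζ, hrat, hle⟩ |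
    ⟨-, d, t, e, P, X, c, hd, -, -, hdt, -⟩ | ⟨h8, -⟩ | hres
  · refine .inl ⟨W, h0, hts, fun hd => ?_, eq_singular hQn hn5 hH h0 hts hle⟩
    exact no_half_minus_one hQn hn5 hplus hH hts (by omega) hle
  · rcases nd_cases hQn hcard (by omega) (by omega) hH h0 h1 hnd hle with
      ⟨ho, W, a, b, c, d, e, f⟩ | h | h | h | h | ⟨W, hd6, hnd6, hle6⟩
    · exact .inr <| .inl ⟨ho, W, a, b, c, d, e, f⟩
    · exact .inr <| .inr <| .inl h
    · exact .inr <| .inr <| .inr <| .inl h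
    · exact .inr <| .inr <| .inr <| .inr <| .inl h
    · exact .inr <| .inr <| .inr <| .inr <| .inr <| .inl h
    · exact .inr <| .inr <| .inr <| .inr <| .inr <| .inr <| .inr <| .inr <| .inr <| .inr <| .inr <| .inl (six W hd6 hnd6 hle6)
  · have hv0 : v ≠ 0 := fun e => hv (by rw [e, QuadraticMap.map_zero])
    obtain ⟨hb, ht⟩ := ne_of_finrank (finrank_span_singleton (K := F) hv0) (by omega) (by omega)
    exact .inr <| .inr <| .inr <| .inr <| .inr <| .inl ⟨fun h => odd_card_iff'.1 h h20, v, hv, eq_stabilizer hQn hn5 hH hb ht hle⟩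
  · have htk := card_eq_of_mDecomposition hD.decomp.decomp
    have ht2 := hD.decomp.decomp.two_le
    have hk0 := hD.decomp.decomp.pos
    rw [hc12] at htk
    obtain ⟨rfl, rfl⟩ | ⟨rfl, rfl⟩ | ⟨rfl, rfl⟩ | ⟨rfl, rfl⟩ | ⟨rfl, rfl⟩ :
        (t = 12 ∧ k = 1) ∨ (t = 6 ∧ k = 2) ∨ (t = 4 ∧ k = 3) ∨ (t = 3 ∧ k = 4) ∨ (t = 2 ∧ k = 6) := by
      have h1 : t ≤ 12 := htk ▸ Nat.le_mul_of_pos_right t hk0
      interval_cases t <;> omega
    · exact .inr <| .inr <| .inr <| .inr <| .inr <| .inr <| .inl (lines D hD (hp rfl) hle)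
    · by_cases hp0 : Cfsg.Geo.IsPlusTypeOn (⇑Q) (D 0)
      · rcases card_cases (F := F) with hq | hq | hq | hq | hq
        · obtain ⟨v, hv0, hv, hlev⟩ := fixed_of_plus_planes hq hiso hD hle 0 hp0
          have hd1 := finrank_span_singleton (K := F) hv0
          obtain ⟨hb, ht⟩ := ne_of_finrank hd1 (by omega) (by omega)
          refine .inl ⟨_, hb, fun w hw => ?_, fun h => by omega, eq_stabilizer hQn hn5 hH hb ht hlev⟩
          obtain ⟨c, rfl⟩ := Submodule.mem_span_singleton.1 hw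
          rcases eq_zero_or_one_of_card_two hq 2 with h20 | h21
          · rw [apply_smul, hv, show ((6 : ℕ) : F) = 2 * 3 by norm_num, h20, zero_mul, mul_zero]
          · exact absurd (show (1 : F) = 0 by linear_combination h21) one_ne_zero
        · have h2 : (2 : F) ≠ 0 := odd_card_iff'.1 (by rw [hq]; decide)
          obtain ⟨W, hd6, hnd6, hle6⟩ := stable_of_plus_planes hq h2 hiso hD hle 0 hp0
          exact .inr <| .inr <| .inr <| .inr <| .inr <| .inr <| .inr <| .inr <| .inr <| .inr <| .inr <| .inl (six W hd6 hnd6 hle6)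
        · obtain ⟨F₀, P, hc, hrat, hleP⟩ := subfield_of_plus_planes hq hiso hD hle 0 hp0
          exact .inr <| .inr <| .inr <| .inr <| .inr <| .inr <| .inr <| .inr <| .inr <| .inr <| .inr <| .inr <| .inr <| .inr <| .inr <| .inr <| .inr <| .inl ⟨F₀, 2, P, 1, Nat.prime_two, hc,
            one_ne_zero, by simpa using hrat, eq_subfield hQn hn5 hH Nat.prime_two hc hleP⟩
        · have h2 : (2 : F) ≠ 0 := odd_card_iff'.1 (by rw [hq]; decide)
          obtain ⟨E, hE, hleE⟩ := lines_of_plus_planes hq h2 hiso hD hle 0 hp0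
          exact .inr <| .inr <| .inr <| .inr <| .inr <| .inr <| .inl (lines E hE (by rw [hq]; norm_num) hleE)
        · refine .inr <| .inr <| .inr <| .inr <| .inr <| .inr <| .inr <| .inl ⟨hq, D, hD, fun i => ?_,
            eq_inf_omega hH hle (not_omega_le_decomposition_planes hQn hn5 (by omega) hD.decomp)⟩
          by_contra hi
          exact hi (isometric_plus (hD.isometric 0 i) hp0)
      · have hm : ∀ i, ¬ Cfsg.Geo.IsPlusTypeOn (⇑Q) (D i) := fun i hi => hp0 (isometric_plus (hD.isometric i 0) hi)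
        by_cases hq : Fintype.card F = 3
        · have h2 : (2 : F) ≠ 0 := odd_card_iff'.1 (by rw [hq]; decide)
          obtain ⟨E, hE, hleE⟩ := lines_of_minus_planes hq h2 hiso hD hle 0 hp0
          exact .inr <| .inr <| .inr <| .inr <| .inr <| .inr <| .inl (lines E hE (by rw [hq]; norm_num) hleE)
        · exact .inr <| .inr <| .inr <| .inr <| .inr <| .inr <| .inr <| .inr <| .inl (minusPlanes D hD hq hm hle)
    · have ho := odd_card_of_odd_part (hD.decomp.nondegenerate 0) (by rw [hD.decomp.decomp.finrank_eq]; decide)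
      have h2 := odd_card_iff'.1 ho
      by_cases hq : Fintype.card F = 3
      · obtain ⟨E, hE, hleE⟩ := lines_of_solid hq h2 hQn hiso hD hle
        exact .inr <| .inr <| .inr <| .inr <| .inr <| .inr <| .inl (lines E hE (by rw [hq]; norm_num) hleE)
      · obtain ⟨j, hj⟩ := id ho
        exact .inr <| .inr <| .inr <| .inr <| .inr <| .inr <| .inr <| .inr <| .inr <| .inl ⟨ho, by omega, D, hD,
          eq_inf_omega hH hle (not_omega_le_decomposition_of_three hQn hn5 hD.decomp.decomp le_rfl)⟩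
    · by_cases hq : Fintype.card F = 2
      · have hp0 : Cfsg.Geo.IsPlusTypeOn (⇑Q) (D 0) :=
          ((plus_top_parts (k := 2) hD 0).1 hplus).resolve_left (by decide)
        obtain ⟨E, hE, hm, hleE⟩ := planes_of_plus_fours hq hiso hD hle 0 hp0
        exact .inr <| .inr <| .inr <| .inr <| .inr <| .inr <| .inr <| .inr <| .inl (minusPlanes E hE (by omega) hm hleE)
      · exact .inr <| .inr <| .inr <| .inr <| .inr <| .inr <| .inr <| .inr <| .inr <| .inr <| .inl ⟨by omega, D, hD,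
          eq_inf_omega hH hle (not_omega_le_decomposition_of_three hQn hn5 hD.decomp.decomp (by omega))⟩
    · exact .inr <| .inr <| .inr <| .inr <| .inr <| .inr <| .inr <| .inr <| .inr <| .inr <| .inr <| .inl ⟨D, hD,
        eq_inf_omega hH hle (not_omega_le_decomposition_of_three hQn hn5 hD.decomp.decomp (by omega))⟩
  · obtain rfl : k = 6 := by omega
    exact .inr <| .inr <| .inr <| .inr <| .inr <| .inr <| .inr <| .inr <| .inr <| .inr <| .inr <| .inr <| .inl ⟨D, hD, hts, eq_inf_omega hH hle (not_omega_le_decomposition_of_three hQn hn5 hD (by omega))⟩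
  · have hr23 : r = 2 ∨ r = 3 := by
      rw [hc12] at hrn
      rcases hr.dvd_mul.1 (show r ∣ 4 * 3 from hrn) with h | h
      · exact .inl ((Nat.prime_dvd_prime_iff_eq hr Nat.prime_two).1 (hr.dvd_of_dvd_pow (show r ∣ 2 ^ 2 from h)))
      · exact .inr ((Nat.prime_dvd_prime_iff_eq hr Nat.prime_three).1 h)
    rcases hr23 with rfl | rfl
    · exact .inr <| .inr <| .inr <| .inr <| .inr <| .inr <| .inr <| .inr <| .inr <| .inr <| .inr <| .inr <| .inr <| .inl ⟨K, hK, eq_field hQn hn5 hH le_rfl hK hle⟩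
    · exact .inr <| .inr <| .inr <| .inr <| .inr <| .inr <| .inr <| .inr <| .inr <| .inr <| .inr <| .inr <| .inr <| .inr <| .inl ⟨K, hK, eq_field hQn hn5 hH (by omega) hK hle⟩
  · rw [hc12] at hprod
    obtain ⟨rfl, rfl⟩ : n₁ = 2 ∧ n₂ = 6 := by
      have : n₁ ≤ 3 := by nlinarith
      interval_cases n₁ <;> omega
    by_cases hq : Fintype.card F = 2
    · obtain ⟨K, hK, hleK⟩ := field_two_of_tensor (by omega) (eq_zero_or_one_of_card_two hq) hle
      exact .inr <| .inr <| .inr <| .inr <| .inr <| .inr <| .inr <| .inr <| .inr <| .inr <| .inr <| .inr <| .inr <| .inl ⟨K, hK, eq_field hQn hn5 hH le_rfl hK hleK⟩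
    · exact .inr <| .inr <| .inr <| .inr <| .inr <| .inr <| .inr <| .inr <| .inr <| .inr <| .inr <| .inr <| .inr <| .inr <| .inr <| .inr <| .inl ⟨by omega, e, P, _, _, isSymplecticForm_formOfGram hXu hX hXd,
        isSymplecticForm_formOfGram hYu hY hYd, tensorFormStructure_of_orGram hG, hpure,
        eq_inf_omega hH hle (not_omega_le_tensorProductSubgroup hQn hn5 (by omega) (by omega) e P)⟩
  · rw [hc12] at hprod
    obtain ⟨rfl, rfl⟩ : n₁ = 3 ∧ n₂ = 4 := by
      have : n₁ ≤ 3 := by nlinarith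
      interval_cases n₁ <;> omega
    obtain ⟨e', P', Z, hZu, hZ, hG', hle'⟩ := tensor_three_four h2 hiso
      (fun g hg => (mem_omega_facts (hH.1.le hg)).2) hle hG hXu hYu hX hY
      ((plus_iff_three_four h2 hQn hG hXu hYu).1 hplus)
    have hJu : IsUnit (symJ F) := (Matrix.isUnit_iff_isUnit_det _).2 (by simp [symJ, Matrix.det_fin_two])
    have hJ : (symJ F)ᵀ = -symJ F := by ext i j; fin_cases i <;> fin_cases j <;> simp [symJ]
    have hJd : ∀ i, symJ F i i = 0 := diag_eq_zero_of_skew h2 hJ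
    obtain ⟨j, hj⟩ := odd_card_iff'.2 h2
    exact .inr <| .inr <| .inr <| .inr <| .inr <| .inr <| .inr <| .inr <| .inr <| .inr <| .inr <| .inr <| .inr <| .inr <| .inr <| .inr <| .inl ⟨by omega, e', P', _, _, isSymplecticForm_formOfGram hJu hJ hJd,
      isSymplecticForm_formOfGram hZu hZ (diag_eq_zero_of_skew h2 hZ), tensorFormStructure_of_orGram hG',
      fun x₁ x₂ => by
        rw [← vecIn_apply, apply_vecIn_of_two h2, hG', pure_dot, alternating_of_skew hJ hJd, zero_mul, zero_div],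
      eq_inf_omega hH hle' (not_omega_le_tensorProductSubgroup hQn hn5 (by omega) (by omega) e' P')⟩
  · exact .inr <| .inr <| .inr <| .inr <| .inr <| .inr <| .inr <| .inr <| .inr <| .inr <| .inr <| .inr <| .inr <| .inr <| .inr <| .inr <| .inr <| .inl ⟨F₀, r, P, ζ, hr, hc, hζ, hrat, eq_subfield hQn hn5 hH hr hc hle⟩
  · exact absurd (hdt ▸ hd.pow) hne
  · omega
  · exact .inr <| .inr <| .inr <| .inr <| .inr <| .inr <| .inr <| .inr <| .inr <| .inr <| .inr <| .inr <| .inr <| .inr <| .inr <| .inr <| .inr <| .inr hres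

end Cfsg.Agent.S5871
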