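import Cfsg.Statements.S5873
import Cfsg.Agent.Lib.Geo.OrthSingular
import Cfsg.Agent.Lib.Geo.OrthNondeg
import Cfsg.Agent.Lib.Geo.OrthVector
import Cfsg.Agent.Lib.Geo.OrthBlockMax
import Cfsg.Agent.Lib.Geo.OrthSubfieldGL
import Cfsg.Agent.Lib.Geo.OrthExt.Matrix
import Cfsg.Agent.Lib.Classical.Quad.NegOne
import Cfsg.Agent.Lib.Geo.OrthTensorFour.Final

set_option autoImplicit false
open Cfsg

namespace Cfsg.Agent.S5873

/-- Maximal subgroups of Ω_12^-(q) of geometric type (any q). Let F be a finite field with q elements (characteristic p), Q a non-degenerate quadratic form on F^12 (non-degenerate polar form) of minus type (Witt index 5: no totally singular 6-space), and Ω = Ω_12^-(q) the commutator subgroup of the isometry group of Q, inside GL_12(F). Each of the following, intersected with Ω, is a maximal subgroup of Ω: (1) the stabiliser of any non-zero subspace on which Q vanishes identically (totally singular subspaces, dimensions 1 to 5);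 (2) for q odd, the stabiliser of any subspace of odd dimension on which the polar form of Q is non-degenerate; (3) the stabiliser of any non-degenerate 2-space of minus type (containing no non-zero singular vector); (4) for q ≥ 4, the stabiliser of any non-degenerate 2-space of plus type (containing a non-zero singular vector); (5) the stabiliser of any non-degenerate 4-space (either type); (6) the stabiliser of any non-degenerate 6-space (either type); (7) for q even, the stabiliser of the 1-space spanned by any non-singular vector v (Q(v) ≠ 0); (8) the stabiliser of any decomposition of F^12 into 3 pairwise orthogonal, pairwise Q-isometric non-degenerate 4-spaces of minus type; (9) for q odd, the normaliser of any degree-2 subfield K of the matrix algebra whose elements are self-adjoint for the polar form of Q (Q is then the trace of a quadratic form over K); (10) for q odd, the normaliser of any degree-3 subfield K of the matrix algebra whose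 elements are self-adjoint for the polar form of Q (Q is then the trace of a quadratic form over K); (11) for q odd with q ≥ 5, the stabiliser of any tensor decomposition F^12 = F^3 ⊗ F^4 in which the polar form of Q is the product of non-degenerate symmetric bilinear forms, the second of minus type, up to a scalar; (12) every subfield group for a subfield F₀ with |F| = |F₀|^r, r an odd prime, whose F₀-structure carries a non-zero scalar multiple of Q. -/
theorem result {F : Type*} [Field F] [Fintype F] (Q : (Fin 12 → F) → F) (hQ : Cfsg.Geo.IsNondegenerateQuadraticForm Q) (hminus : ¬ Cfsg.Geo.IsPlusTypeOn Q ⊤) :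
    (∀ W : Submodule F (Fin 12 → F), W ≠ ⊥ → Cfsg.Geo.IsTotallySingularQuad Q W → Cfsg.Geo.IsMaximalIn (Cfsg.Geo.omegaGL Q) (Cfsg.Geo.subspaceStabilizer W ⊓ Cfsg.Geo.omegaGL Q)) ∧
    (Odd (Fintype.card F) → ∀ W : Submodule F (Fin 12 → F), W ≠ ⊥ → W ≠ ⊤ → Odd (Module.finrank F W) → 2 * Module.finrank F W ≠ 12 → Cfsg.Geo.IsNondegenerateOn (QuadraticMap.polar Q) W → Cfsg.Geo.IsMaximalIn (Cfsg.Geo.omegaGL Q) (Cfsg.Geo.subspaceStabilizer W ⊓ Cfsg.Geo.omegaGL Q)) ∧
    (∀ W : Submodule F (Fin 12 → F), Module.finrank F W = 2 → Cfsg.Geo.IsNondegenerateOn (QuadraticMap.polar Q) W → ¬ Cfsg.Geo.IsPlusTypeOn Q W → Cfsg.Geo.IsMaximalIn (Cfsg.Geo.omegaGL Q) (Cfsg.Geo.subspaceStabilizer W ⊓ Cfsg.Geo.omegaGL Q)) ∧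
    (4 ≤ Fintype.card F → ∀ W : Submodule F (Fin 12 → F), Module.finrank F W = 2 → Cfsg.Geo.IsNondegenerateOn (QuadraticMap.polar Q) W → Cfsg.Geo.IsPlusTypeOn Q W → Cfsg.Geo.IsMaximalIn (Cfsg.Geo.omegaGL Q) (Cfsg.Geo.subspaceStabilizer W ⊓ Cfsg.Geo.omegaGL Q)) ∧
    (∀ W : Submodule F (Fin 12 → F), Module.finrank F W = 4 → Cfsg.Geo.IsNondegenerateOn (QuadraticMap.polar Q) W → Cfsg.Geo.IsMaximalIn (Cfsg.Geo.omegaGL Q) (Cfsg.Geo.subspaceStabilizer W ⊓ Cfsg.Geo.omegaGL Q)) ∧
    (∀ W : Submodule F (Fin 12 → F), Module.finrank F W = 6 → Cfsg.Geo.IsNondegenerateOn (QuadraticMap.polar Q) W → Cfsg.Geo.IsMaximalIn (Cfsg.Geo.omegaGL Q) (Cfsg.Geo.subspaceStabilizer W ⊓ Cfsg.Geo.omegaGL Q)) ∧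
    (¬ Odd (Fintype.card F) → ∀ v : (Fin 12 → F), Q v ≠ 0 → Cfsg.Geo.IsMaximalIn (Cfsg.Geo.omegaGL Q) (Cfsg.Geo.subspaceStabilizer (Submodule.span F {v}) ⊓ Cfsg.Geo.omegaGL Q)) ∧
    (∀ D : Fin 3 → Submodule F (Fin 12 → F), Cfsg.Geo.IsOrthogonalMDecomposition Q 4 D → (∀ i, ¬ Cfsg.Geo.IsPlusTypeOn Q (D i)) → Cfsg.Geo.IsMaximalIn (Cfsg.Geo.omegaGL Q) (Cfsg.Geo.decompositionStabilizer D ⊓ Cfsg.Geo.omegaGL Q)) ∧
    (Odd (Fintype.card F) → ∀ K : Subalgebra F (Matrix (Fin 12) (Fin 12) F), Cfsg.Geo.IsFieldSubalgebra 2 K → Cfsg.Geo.IsSelfAdjointFor (QuadraticMap.polar Q) K → Cfsg.Geo.IsMaximalIn (Cfsg.Geo.omegaGL Q) (Cfsg.Geo.subalgebraNormalizer K ⊓ Cfsg.Geo.omegaGL Q)) ∧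
    (Odd (Fintype.card F) → ∀ K : Subalgebra F (Matrix (Fin 12) (Fin 12) F), Cfsg.Geo.IsFieldSubalgebra 3 K → Cfsg.Geo.IsSelfAdjointFor (QuadraticMap.polar Q) K → Cfsg.Geo.IsMaximalIn (Cfsg.Geo.omegaGL Q) (Cfsg.Geo.subalgebraNormalizer K ⊓ Cfsg.Geo.omegaGL Q)) ∧
    (Odd (Fintype.card F) ∧ 5 ≤ Fintype.card F → ∀ (e : Fin 12 ≃ Fin 3 × Fin 4) (P : Matrix.GeneralLinearGroup (Fin 12) F) (f₁ : (Fin 3 → F) → (Fin 3 → F) → F) (f₂ : (Fin 4 → F) → (Fin 4 → F) → F), Cfsg.Geo.IsSymmetricForm f₁ → Cfsg.Geo.IsSymmetricForm f₂ → ¬ Cfsg.Geo.IsPlusTypeOn (fun v : Fin 4 → F => f₂ v v) ⊤ → Cfsg.Geo.IsTensorFormStructure id (QuadraticMap.polar Q) f₁ f₂ e P → Cfsg.Geo.IsMaximalIn (Cfsg.Geo.omegaGL Q) (Cfsg.Geo.tensorProductSubgroup 3 4 e P ⊓ Cfsg.Geo.omegaGL Q)) ∧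
    (∀ (F₀ : Subfield F) (r : ℕ) (P : Matrix.GeneralLinearGroup (Fin 12) F) (ζ : F), r.Prime → Odd r → Fintype.card F = Nat.card F₀ ^ r → ζ ≠ 0 → Cfsg.Geo.IsQuadFormRationalStructure (fun v : Fin 12 → F => ζ * Q v) F₀ P → Cfsg.Geo.IsMaximalIn (Cfsg.Geo.omegaGL Q) (Cfsg.Geo.subfieldSubgroup F₀ P ⊓ Cfsg.Geo.omegaGL Q)) := by
  obtain ⟨Q', rfl, hQ'⟩ := CfsgLib.Geo.OrthMax.exists_quadraticForm hQ
  have hn' : Module.finrank F (Fin 12 → F) = 12 := Module.finrank_fin_fun F
  have hc : 11 ≤ Fintype.card (Fin 12) := by simp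
  have : Nonempty (Fin 12) := ⟨0⟩
  -- the non-degenerate case
  have main : ∀ W : Submodule F (Fin 12 → F), W ≠ ⊥ → W ≠ ⊤ →
      (2 * Module.finrank F W = 12 → Even (Module.finrank F W)) →
      Cfsg.Geo.IsNondegenerateOn (QuadraticMap.polar ⇑Q') W →
      (Module.finrank F W = 2 → Cfsg.Geo.IsPlusTypeOn (⇑Q') W → 4 ≤ Fintype.card F) →
      Module.finrank F W ≠ 10 →
      Cfsg.Geo.IsMaximalIn (Cfsg.Geo.omegaGL ⇑Q') (Cfsg.Geo.subspaceStabilizer W ⊓ Cfsg.Geo.omegaGL ⇑Q') := by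
    intro W hW0 hW1 hev hW hplane h10
    have hWn : CfsgLib.Geo.OrthMax.Nondeg Q' W := fun x hx hy => by
      by_contra h0
      obtain ⟨-, y, hy', hne⟩ := hW x hx h0
      exact hne (hy y hy')
    have hU := CfsgLib.Geo.OrthMax.finrank_perp hQ' W
    have hle := Submodule.finrank_le W
    refine CfsgLib.Geo.OrthMax.isMaximalIn_nondeg hQ' (by simp) hWn hW0 hW1
      (fun h ⟨u, hu, hu0, hqu⟩ => ?_) (fun h _ => by omega) ?_
    · rw [Nat.card_eq_fintype_card]
      refine hplane h ⟨Submodule.span F {u}, by simpa using hu, ?_, ?_⟩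
      · intro x hx
        obtain ⟨c, rfl⟩ := Submodule.mem_span_singleton.1 hx
        rw [CfsgLib.Classical.Quad.apply_smul, hqu, mul_zero]
      · rw [finrank_span_singleton hu0, h]
    · intro h g hg
      rw [Fintype.card_fin] at h
      obtain ⟨S, hS, hS2⟩ := CfsgLib.Geo.OrthMax.exists_singular_half hQ' hWn (hev h) hg
      exact hminus ⟨S, le_top, hS, by rw [finrank_top]; exact hS2⟩
  have nz : ∀ W : Submodule F (Fin 12 → F), ∀ d, Module.finrank F W = d → 0 < d → d < 12 → W ≠ ⊥ ∧ W ≠ ⊤ := by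
    intro W d hd h0 h12
    constructor
    · intro e; rw [e, finrank_bot] at hd; omega
    · intro e; rw [e, finrank_top, hn'] at hd; omega
  refine ⟨fun W hW0 hW => ?_, fun _ W hW0 hW1 hodd h6 hW => ?_, fun W h hW hm => ?_, fun h4 W h hW _ => ?_,
    fun W h hW => ?_, fun W h hW => ?_, fun hq v hv => ?_, fun D hD hm => ?_, fun hq K hK hsa => ?_,
    fun hq K hK hsa => ?_, ?_, fun F₀ r P ζ hr _ hcard hζ hP => ?_⟩
  · exact CfsgLib.Geo.OrthMax.isMaximalIn_omega hQ' (by omega) W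
      (CfsgLib.Geo.OrthMax.stab_singular_ne hQ' (by omega) hW0 hW) fun K hK hKE =>
        CfsgLib.Geo.OrthMax.le_of_stab_singular_lt hQ' (by omega) hW
          (fun _ U hU hf => hminus ⟨U, le_top, hU, by rw [finrank_top]; exact hf⟩) hK hKE
  · obtain ⟨j, hj⟩ := hodd
    exact main W hW0 hW1 (fun h => absurd h h6) hW (fun h => by omega) (by omega)
  · obtain ⟨a, b⟩ := nz W 2 h (by omega) (by omega)
    exact main W a b (fun h' => by omega) hW (fun _ hp => absurd hp hm) (by omega)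
  · obtain ⟨a, b⟩ := nz W 2 h (by omega) (by omega)
    exact main W a b (fun h' => by omega) hW (fun _ _ => h4) (by omega)
  · obtain ⟨a, b⟩ := nz W 4 h (by omega) (by omega)
    exact main W a b (fun h' => by omega) hW (fun h' => by omega) (by omega)
  · obtain ⟨a, b⟩ := nz W 6 h (by omega) (by omega)
    exact main W a b (fun _ => by rw [h]; decide) hW (fun h' => by omega) (by omega)
  · have h2 : (2 : F) = 0 := by
      by_contra h2
      refine hq (Nat.odd_iff.2 (FiniteField.odd_card_of_char_ne_two ?_))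
      intro hc
      have := ringChar.eq_iff.1 hc
      exact h2 CharTwo.two_eq_zero
    exact CfsgLib.Geo.OrthMax.isMaximalIn_omega hQ' (by omega) _
      (CfsgLib.Geo.OrthMax.stab_vector_ne hQ' (by omega) hv) fun K hK hKE =>
        CfsgLib.Geo.OrthMax.le_of_stab_vector_lt hQ' (by omega) h2 hv hK hKE
  · exact CfsgLib.Geo.OrthBlock.isMaximalIn_omega hQ' (by simp) hD (by norm_num) (by omega) (fun _ _ => hm)
  · exact CfsgLib.Geo.OrthExt.isMaximalIn_omega hQ' (CfsgLib.Classical.Quad.two_ne_zero_of_odd rfl hq)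
      (by simp) Nat.prime_two (by simp) K hK hsa
  · exact CfsgLib.Geo.OrthExt.isMaximalIn_omega hQ' (CfsgLib.Classical.Quad.two_ne_zero_of_odd rfl hq)
      (by simp) Nat.prime_three (by simp) K hK hsa
  · rintro ⟨hq, h5⟩ e P f₁ f₂ hf₁ hf₂ hm hT
    exact CfsgLib.Geo.OrthTensorFour.maximal hQ' (Fintype.card_fin 12) hq h5 e P hf₁ hf₂ hm hT
  · exact CfsgLib.Geo.OrthSub.isMaximalIn_subfield hQ' (by simp) F₀ hr hcard P hζ hP

end Cfsg.Agent.S5873
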