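import Cfsg.Statements.S5874
import Cfsg.Agent.Lib.Geo.Asch.OrthTwelve

set_option autoImplicit false
open Cfsg

namespace Cfsg.Agent.S5874

open CfsgLib.Geo.Asch CfsgLib.Classical.Quad CfsgLib.Classical CfsgLib.Geo.OrthMax
open QuadraticMap (polar polarBilin)
open scoped Matrix

/-- Every maximal subgroup of Ω_12^-(q) is of one of the listed geometric types or lies in the residual class. Let F be a finite field with q elements (characteristic p), Q a non-degenerate quadratic form on F^12 of minus type (Witt index 5: no totally singular 6-space), Ω the commutator subgroup of its isometry group, and H a maximal subgroup of Ω (inside GL_12(F)). Then H is the intersection with Ω of one of: the stabiliser of a non-zero totally singular subspace; for q odd, the stabiliser of a non-degenerate subspace of odd dimension; the stabiliser of a non-degenerate 2-space of minus type; for q ≥ 4, the stabiliser of a non-degenerate 2-space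 of plus type; the stabiliser of a non-degenerate 4-space; the stabiliser of a non-degenerate 6-space; for q even, the stabiliser of the span of a non-singular vector; the stabiliser of a decomposition into 3 pairwise orthogonal, pairwise isometric non-degenerate 4-spaces of minus type; the normaliser of a degree-2 subfield of the matrix algebra; the normaliser of a degree-3 subfield of the matrix algebra; for q odd with q ≥ 5, the stabiliser of a tensor decomposition of the polar form into symmetric forms on F^3 and F^4 (minus type); a subfield group (|F| = |F₀|^r, r odd prime) whose F₀-structure carries a non-zero multiple of Q — or else H lies in the residual class of the orthogonal case (modulo scalars H is almost simple, with absolutely irreducible perfect socle preimage realisable over no proper subfield and fixing no non-degenerate unitary form). -/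
theorem result {F : Type*} [Field F] [Fintype F] (Q : (Fin 12 → F) → F) (hQ : Cfsg.Geo.IsNondegenerateQuadraticForm Q) (hminus : ¬ Cfsg.Geo.IsPlusTypeOn Q ⊤) (H : Subgroup (Matrix.GeneralLinearGroup (Fin 12) F)) (hH : Cfsg.Geo.IsMaximalIn (Cfsg.Geo.omegaGL Q) H) :
    (∃ W : Submodule F (Fin 12 → F), W ≠ ⊥ ∧ Cfsg.Geo.IsTotallySingularQuad Q W ∧ H = Cfsg.Geo.subspaceStabilizer W ⊓ Cfsg.Geo.omegaGL Q) ∨
    (Odd (Fintype.card F) ∧ ∃ W : Submodule F (Fin 12 → F), W ≠ ⊥ ∧ W ≠ ⊤ ∧ Odd (Module.finrank F W) ∧ 2 * Module.finrank F W ≠ 12 ∧ Cfsg.Geo.IsNondegenerateOn (QuadraticMap.polar Q) W ∧ H = Cfsg.Geo.subspaceStabilizer W ⊓ Cfsg.Geo.omegaGL Q) ∨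
    (∃ W : Submodule F (Fin 12 → F), Module.finrank F W = 2 ∧ Cfsg.Geo.IsNondegenerateOn (QuadraticMap.polar Q) W ∧ ¬ Cfsg.Geo.IsPlusTypeOn Q W ∧ H = Cfsg.Geo.subspaceStabilizer W ⊓ Cfsg.Geo.omegaGL Q) ∨
    (4 ≤ Fintype.card F ∧ ∃ W : Submodule F (Fin 12 → F), Module.finrank F W = 2 ∧ Cfsg.Geo.IsNondegenerateOn (QuadraticMap.polar Q) W ∧ Cfsg.Geo.IsPlusTypeOn Q W ∧ H = Cfsg.Geo.subspaceStabilizer W ⊓ Cfsg.Geo.omegaGL Q) ∨
    (∃ W : Submodule F (Fin 12 → F), Module.finrank F W = 4 ∧ Cfsg.Geo.IsNondegenerateOn (QuadraticMap.polar Q) W ∧ H = Cfsg.Geo.subspaceStabilizer W ⊓ Cfsg.Geo.omegaGL Q) ∨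
    (∃ W : Submodule F (Fin 12 → F), Module.finrank F W = 6 ∧ Cfsg.Geo.IsNondegenerateOn (QuadraticMap.polar Q) W ∧ H = Cfsg.Geo.subspaceStabilizer W ⊓ Cfsg.Geo.omegaGL Q) ∨
    (¬ Odd (Fintype.card F) ∧ ∃ v : (Fin 12 → F), Q v ≠ 0 ∧ H = Cfsg.Geo.subspaceStabilizer (Submodule.span F {v}) ⊓ Cfsg.Geo.omegaGL Q) ∨
    (∃ D : Fin 3 → Submodule F (Fin 12 → F), Cfsg.Geo.IsOrthogonalMDecomposition Q 4 D ∧ (∀ i, ¬ Cfsg.Geo.IsPlusTypeOn Q (D i)) ∧ H = Cfsg.Geo.decompositionStabilizer D ⊓ Cfsg.Geo.omegaGL Q) ∨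
    (∃ K : Subalgebra F (Matrix (Fin 12) (Fin 12) F), Cfsg.Geo.IsFieldSubalgebra 2 K ∧ H = Cfsg.Geo.subalgebraNormalizer K ⊓ Cfsg.Geo.omegaGL Q) ∨
    (∃ K : Subalgebra F (Matrix (Fin 12) (Fin 12) F), Cfsg.Geo.IsFieldSubalgebra 3 K ∧ H = Cfsg.Geo.subalgebraNormalizer K ⊓ Cfsg.Geo.omegaGL Q) ∨
    (Odd (Fintype.card F) ∧ 5 ≤ Fintype.card F ∧ ∃ (e : Fin 12 ≃ Fin 3 × Fin 4) (P : Matrix.GeneralLinearGroup (Fin 12) F) (f₁ : (Fin 3 → F) → (Fin 3 → F) → F) (f₂ : (Fin 4 → F) → (Fin 4 → F) → F), Cfsg.Geo.IsSymmetricForm f₁ ∧ Cfsg.Geo.IsSymmetricForm f₂ ∧ ¬ Cfsg.Geo.IsPlusTypeOn (fun v : Fin 4 → F => f₂ v v) ⊤ ∧ Cfsg.Geo.IsTensorFormStructure id (QuadraticMap.polar Q) f₁ f₂ e P ∧ H = Cfsg.Geo.tensorProductSubgroup 3 4 e P ⊓ Cfsg.Geo.omegaGL Q) ∨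
    (∃ (F₀ : Subfield F) (r : ℕ) (P : Matrix.GeneralLinearGroup (Fin 12) F) (ζ : F), r.Prime ∧ Odd r ∧ Fintype.card F = Nat.card F₀ ^ r ∧ ζ ≠ 0 ∧ Cfsg.Geo.IsQuadFormRationalStructure (fun v : Fin 12 → F => ζ * Q v) F₀ P ∧ H = Cfsg.Geo.subfieldSubgroup F₀ P ⊓ Cfsg.Geo.omegaGL Q) ∨
    Cfsg.Geo.InOrthogonalResidualClass H := by
  classical
  obtain ⟨Q, rfl, hQn⟩ := CfsgLib.Geo.Asch.exists_quadraticForm hQ
  have hcard : Fintype.card (Fin 12) = 2 * 6 := by simp
  have hc12 : Fintype.card (Fin 12) = 12 := by simp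
  have hn5 : 5 ≤ Fintype.card (Fin 12) := by omega
  have hiso := iso_of_le_omega hH.1.le
  have hne : ¬ Odd (Fintype.card (Fin 12)) := by rw [hc12]; decide
  have redu : ¬ Cfsg.Geo.ActsIrreducibly (Cfsg.Geo.matrixSet H) → (2 : F) ≠ 0 →
      (∃ W : Submodule F (Fin 12 → F), W ≠ ⊥ ∧ Cfsg.Geo.IsTotallySingularQuad (⇑Q) W ∧
        H ≤ Cfsg.Geo.subspaceStabilizer W) ∨
      (∃ W : Submodule F (Fin 12 → F), W ≠ ⊥ ∧ W ≠ ⊤ ∧ Cfsg.Geo.IsNondegenerateOn (polar Q) W ∧
        H ≤ Cfsg.Geo.subspaceStabilizer W) := fun h h2 => reducible_host h2 hiso h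
  have nd : ∀ W : Submodule F (Fin 12 → F), W ≠ ⊥ → W ≠ ⊤ → Cfsg.Geo.IsNondegenerateOn (polar Q) W →
      H ≤ Cfsg.Geo.subspaceStabilizer W → _ := fun W h0 h1 hnd hle =>
    nd_cases hQn hcard (by omega) (by omega) hH h0 h1 hnd hle
  have three : ∀ D : Fin 3 → Submodule F (Fin 12 → F), Cfsg.Geo.IsOrthogonalMDecomposition (⇑Q) 4 D →
      H ≤ Cfsg.Geo.decompositionStabilizer D →
      ∃ D : Fin 3 → Submodule F (Fin 12 → F), Cfsg.Geo.IsOrthogonalMDecomposition (⇑Q) 4 D ∧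
        (∀ i, ¬ Cfsg.Geo.IsPlusTypeOn (⇑Q) (D i)) ∧
        H = Cfsg.Geo.decompositionStabilizer D ⊓ Cfsg.Geo.omegaGL (⇑Q) :=
    fun D hD hle => ⟨D, hD, fun i hi => hminus ((plus_top_parts (k := 2) hD i).2 (.inr hi)),
      eq_inf_omega hH hle (not_omega_le_decomposition_of_three hQn hn5 hD.decomp.decomp (by omega))⟩
  rcases orth_host hQn (by omega) (fun h => absurd h hne) (.inr (by omega)) H hiso with
    ⟨W, h0, hts, hle⟩ | ⟨W, h0, h1, hnd, hle⟩ | ⟨h20, v, hv, hle⟩ | ⟨t, k, D, hD, hp, hle⟩ |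
    ⟨k, D, hk, hD, hts, hle⟩ | ⟨r, K, hr, hrn, hK, hcase, hle⟩ |
    ⟨n₁, n₂, e, P, X, Y, hn₁, hn₁₂, ⟨a₁, ha₁⟩, ⟨a₂, ha₂⟩, hprod, hXu, hYu, hX, hY, hXd, hYd, hG, hpure, hle⟩ |
    ⟨h2, n₁, n₂, e, P, X, Y, h3, hn12, hprod, hXu, hYu, hX, hY, hG, hle⟩ | ⟨F₀, r, P, ζ, hr, hc, hζ, hrat, hle⟩ |
    ⟨-, d, t, e, P, X, c, hd, -, -, hdt, -⟩ | ⟨h8, -⟩ | hres
  · exact .inl ⟨W, h0, hts, eq_singular hQn hn5 hH h0 hts hle⟩
  · rcases nd W h0 h1 hnd hle with
      ⟨ho, W, a, b, c, d, e, f⟩ | h | h | h | h | ⟨W, hd6, hnd6, hle6⟩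
    · exact .inr <| .inl ⟨ho, W, a, b, c, d, e, f⟩
    · exact .inr <| .inr <| .inl h
    · exact .inr <| .inr <| .inr <| .inl h
    · exact .inr <| .inr <| .inr <| .inr <| .inl h
    · exact .inr <| .inr <| .inr <| .inr <| .inr <| .inr <| .inl h
    · obtain ⟨hb, ht⟩ := ne_of_finrank hd6 (by omega) (by omega)
      exact .inr <| .inr <| .inr <| .inr <| .inr <| .inl ⟨W, hd6, hnd6, eq_stabilizer hQn hn5 hH hb ht hle6⟩
  · have hv0 : v ≠ 0 := fun e => hv (by rw [e, QuadraticMap.map_zero])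
    obtain ⟨hb, ht⟩ := ne_of_finrank (finrank_span_singleton (K := F) hv0) (by omega) (by omega)
    exact .inr <| .inr <| .inr <| .inr <| .inr <| .inr <| .inl ⟨fun h => odd_card_iff'.1 h h20, v, hv, eq_stabilizer hQn hn5 hH hb ht hle⟩
  · have htk := card_eq_of_mDecomposition hD.decomp.decomp
    have ht2 := hD.decomp.decomp.two_le
    have hk0 := hD.decomp.decomp.pos
    rw [hc12] at htk
    obtain ⟨rfl, rfl⟩ | ⟨rfl, rfl⟩ | ⟨rfl, rfl⟩ | ⟨rfl, rfl⟩ | ⟨rfl, rfl⟩ :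
        (t = 12 ∧ k = 1) ∨ (t = 6 ∧ k = 2) ∨ (t = 4 ∧ k = 3) ∨ (t = 3 ∧ k = 4) ∨ (t = 2 ∧ k = 6) := by
      have h1 : t ≤ 12 := htk ▸ Nat.le_mul_of_pos_right t hk0
      interval_cases t <;> omega
    · exact absurd (plus_of_even_parts hQn hcard (by decide) hD (by decide)) hminus
    · exact absurd (plus_of_even_parts hQn hcard (by decide) hD (by decide)) hminus
    · exact absurd (plus_of_even_parts hQn hcard (by decide) hD (by decide)) hminus
    · exact .inr <| .inr <| .inr <| .inr <| .inr <| .inr <| .inr <| .inl (three D hD hle)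
    · exact absurd (plus_of_even_parts hQn hcard (by decide) hD (by decide)) hminus
  · exact absurd (plus_of_singular_pair hk hD hts) hminus
  · have hr23 : r = 2 ∨ r = 3 := by
      rw [hc12] at hrn
      rcases hr.dvd_mul.1 (show r ∣ 4 * 3 from hrn) with h | h
      · exact .inl ((Nat.prime_dvd_prime_iff_eq hr Nat.prime_two).1 (hr.dvd_of_dvd_pow (show r ∣ 2 ^ 2 from h)))
      · exact .inr ((Nat.prime_dvd_prime_iff_eq hr Nat.prime_three).1 h)
    rcases hr23 with rfl | rfl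
    · exact .inr <| .inr <| .inr <| .inr <| .inr <| .inr <| .inr <| .inr <| .inl ⟨K, hK, eq_field hQn hn5 hH le_rfl hK hle⟩
    · exact .inr <| .inr <| .inr <| .inr <| .inr <| .inr <| .inr <| .inr <| .inr <| .inl ⟨K, hK, eq_field hQn hn5 hH (by omega) hK hle⟩
  · rw [hc12] at hprod
    obtain ⟨rfl, rfl⟩ : n₁ = 2 ∧ n₂ = 6 := by
      have : n₁ ≤ 3 := by nlinarith
      interval_cases n₁ <;> omega
    exact absurd (plus_of_pure hpure) hminus
  · rw [hc12] at hprod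
    obtain ⟨rfl, rfl⟩ : n₁ = 3 ∧ n₂ = 4 := by
      have : n₁ ≤ 3 := by nlinarith
      interval_cases n₁ <;> omega
    have ho := odd_card_iff'.2 h2
    by_cases hq : Fintype.card F = 3
    · by_cases hirr : Cfsg.Geo.ActsIrreducibly (Cfsg.Geo.matrixSet H)
      · obtain ⟨D, hD, hleD⟩ := blocks_of_three hq h2 (by omega) hiso hle hG hXu hYu hX
        exact .inr <| .inr <| .inr <| .inr <| .inr <| .inr <| .inr <| .inl (three D (isometric_of_irreducible hiso hirr hD hleD) hleD)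
      · rcases redu hirr h2 with ⟨W, h0, hts, hleW⟩ | ⟨W, h0, h1, hnd, hleW⟩
        · exact .inl ⟨W, h0, hts, eq_singular hQn hn5 hH h0 hts hleW⟩
        · rcases nd W h0 h1 hnd hleW with
            ⟨ho, W, a, b, c, d, e, f⟩ | h | h | h | h | ⟨W, hd6, hnd6, hle6⟩
          · exact .inr <| .inl ⟨ho, W, a, b, c, d, e, f⟩
          · exact .inr <| .inr <| .inl h
          · exact .inr <| .inr <| .inr <| .inl h
          · exact .inr <| .inr <| .inr <| .inr <| .inl h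
          · exact .inr <| .inr <| .inr <| .inr <| .inr <| .inr <| .inl h
          · obtain ⟨hb, ht⟩ := ne_of_finrank hd6 (by omega) (by omega)
            exact .inr <| .inr <| .inr <| .inr <| .inr <| .inl ⟨W, hd6, hnd6, eq_stabilizer hQn hn5 hH hb ht hle6⟩
    · obtain ⟨j, hj⟩ := id ho
      have hq1 := Fintype.one_lt_card (α := F)
      exact .inr <| .inr <| .inr <| .inr <| .inr <| .inr <| .inr <| .inr <| .inr <| .inr <| .inl ⟨ho, by omega, e, P, _, _, isSymmetricForm_formOfGram hXu hX,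
        isSymmetricForm_formOfGram hYu hY,
        not_plus_of_nonsquare h2 hYu hY (fun h => hminus ((plus_iff_three_four h2 hQn hG hXu hYu).2 h)),
        tensorFormStructure_of_orGram hG,
        eq_inf_omega hH hle (not_omega_le_tensorProductSubgroup hQn hn5 (by omega) (by omega) e P)⟩
  · have hro : Odd r := hr.eq_two_or_odd'.resolve_left fun h => by
      subst h
      exact hminus (plus_of_rational hQn hcard hc hζ hrat)
    exact .inr <| .inr <| .inr <| .inr <| .inr <| .inr <| .inr <| .inr <| .inr <| .inr <| .inr <| .inl ⟨F₀, r, P, ζ, hr, hro, hc, hζ, hrat, eq_subfield hQn hn5 hH hr hc hle⟩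
  · exact absurd (hdt ▸ hd.pow) hne
  · omega
  · exact .inr <| .inr <| .inr <| .inr <| .inr <| .inr <| .inr <| .inr <| .inr <| .inr <| .inr <| .inr hres

end Cfsg.Agent.S5874
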