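import Cfsg.Statements.S5876
import Cfsg.Agent.Lib.Geo.SolvablePrimitive

set_option autoImplicit false
open Cfsg

namespace Cfsg.Agent.S5876

/-- Fixed-point spaces in primitive soluble linear groups. Let F be a finite field and G a soluble subgroup of GL_n(F) that acts irreducibly on F^n and primitively (G preserves no decomposition of F^n into two or more independent subspaces of equal dimension). Then every non-identity element g of G has fixed-point space {v : g v = v} of dimension at most 3n/4. -/
theorem result {F : Type*} [Field F] [Fintype F] {n : ℕ} (G : Subgroup (Matrix.GeneralLinearGroup (Fin n) F)) (hsol : IsSolvable G) (hirr : Cfsg.Geo.ActsIrreducibly (Cfsg.Geo.matrixSet G)) (hprim : ∀ (m t : ℕ) (D : Fin t → Submodule F (Fin n → F)), 2 ≤ t → Cfsg.Geo.IsMDecomposition m D → ¬ G ≤ Cfsg.Geo.decompositionStabilizer D) (g : Matrix.GeneralLinearGroup (Fin n) F) (hg : g ∈ G) (hg1 : g ≠ 1) :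
    4 * Module.finrank F (Module.End.eigenspace (Matrix.toLin' (g : Matrix (Fin n) (Fin n) F)) 1) ≤ 3 * n := by
  haveI : Finite F := Finite.of_fintype F
  let ρ : G →* Module.End F (Fin n → F) :=
    (Matrix.toLinAlgEquiv' : Matrix (Fin n) (Fin n) F ≃ₐ[F] _).toRingEquiv.toMonoidHom.comp
      ((Units.coeHom _).comp G.subtype)
  have hρ : Function.Injective ρ := fun x y h =>
    Subtype.ext (Units.ext (Matrix.toLinAlgEquiv'.injective h))
  have hi : CfsgLib.Geo.SolvPrim.Irred ρ := fun W hW => hirr W (by
    rintro _ ⟨x, hx, rfl⟩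
    exact Submodule.map_le_iff_le_comap.2 fun v hv => hW ⟨x, hx⟩ v hv)
  have hd : CfsgLib.Geo.SolvPrim.NoDecomposition ρ := by
    intro m t D ht hm hfin hind htop hperm
    refine hprim m t D ht ⟨ht, hm, hfin, hind, htop⟩ fun x hx => ?_
    choose σ hσ using hperm ⟨x, hx⟩
    have hinj : Function.Injective σ := by
      intro i j hij
      have hne : D i ≠ ⊥ := fun h => by
        have := hfin i
        rw [h, finrank_bot] at this
        omega
      refine hind.injOn (Set.mem_setOf.2 hne) (Set.mem_setOf.2 fun h => ?_) ?_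
      · have := hfin j
        rw [h, finrank_bot] at this
        omega
      · exact Submodule.map_injective_of_injective (CfsgLib.Geo.SolvPrim.rho_injective (ρ := ρ) ⟨x, hx⟩)
          (by rw [hσ, hσ, hij])
    exact ⟨Equiv.ofBijective σ hinj.bijective_of_finite, fun i => hσ i⟩
  haveI : Group.IsSolvable G := hsol
  have hne : (⟨g, hg⟩ : G) ≠ 1 := fun h => hg1 (congrArg Subtype.val h)
  have h := CfsgLib.Geo.SolvPrim.four_mul_finrank_fix_le hi hd hρ hne
  rw [Module.finrank_fin_fun] at h
  exact h

end Cfsg.Agent.S5876
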