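import Cfsg.Statements.S5877
import Mathlib
import Cfsg.Agent.Lib.Geo.Asch.ExtraspecialEigen
import Cfsg.Agent.Lib.Geo.Asch.Irred

set_option autoImplicit false
open Cfsg

namespace Cfsg.Agent.S5877

open scoped commutatorElement


/-- Eigenspaces of elements normalising an absolutely irreducible extraspecial group. Let F be a finite field, r a prime, and R ≤ GL_n(F) an absolutely irreducible extraspecial r-group (an r-group whose centre equals its derived subgroup and has order r) of exponent r or 4. Let g ∈ GL_n(F) normalise the product of R with the scalar matrices, have prime order ϖ and not be scalar, and let W be the eigenspace of g for any c ∈ F (W may be the zero subspace). Then dim W ≤ 3n/4 if ϖ = 2, dim W ≤ 2n/3 if ϖ = 3, and dim W ≤ n/2 if ϖ > 3; moreover if ϖ = 3 and 3 does not divide n then dim W ≤ n/2. -/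
theorem result {F : Type*} [Field F] [Fintype F] {n r ϖ : ℕ} (R : Subgroup (Matrix.GeneralLinearGroup (Fin n) F)) (hr : r.Prime) (hR : IsPGroup r R) (hZ : Nat.card (Subgroup.center R) = r) (hext : commutator R = Subgroup.center R) (hexp : Monoid.exponent R = r ∨ Monoid.exponent R = 4) (hirr : Cfsg.Geo.ActsAbsolutelyIrreducibly (Cfsg.Geo.matrixSet R)) (g : Matrix.GeneralLinearGroup (Fin n) F) (hg : g ∈ Cfsg.Geo.subgroupNormalizer (R ⊔ Cfsg.Geo.scalars (Fin n) F)) (hϖ : ϖ.Prime) (hord : orderOf g = ϖ) (hns : g ∉ Cfsg.Geo.scalars (Fin n) F) (c : F) :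
    (ϖ = 2 → 4 * Module.finrank F (Module.End.eigenspace (Matrix.toLin' (g : Matrix (Fin n) (Fin n) F)) c) ≤ 3 * n) ∧
    (ϖ = 3 → 3 * Module.finrank F (Module.End.eigenspace (Matrix.toLin' (g : Matrix (Fin n) (Fin n) F)) c) ≤ 2 * n) ∧
    (3 < ϖ → 2 * Module.finrank F (Module.End.eigenspace (Matrix.toLin' (g : Matrix (Fin n) (Fin n) F)) c) ≤ n) ∧
    (ϖ = 3 → ¬ 3 ∣ n → 2 * Module.finrank F (Module.End.eigenspace (Matrix.toLin' (g : Matrix (Fin n) (Fin n) F)) c) ≤ n) := by
  classical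
  by_cases hn0 : n = 0
  · subst hn0
    exact absurd ((Cfsg.Geo.mem_scalars_iff g).2 ⟨1, by ext i; exact i.elim0⟩) hns
  haveI : Nonempty (Fin n) := ⟨⟨0, Nat.pos_of_ne_zero hn0⟩⟩
  haveI : Finite (Matrix.GeneralLinearGroup (Fin n) F) := inferInstance
  set Sc := Cfsg.Geo.scalars (Fin n) F with hSc
  let A : Matrix.GeneralLinearGroup (Fin n) F →* Module.End F (Fin n → F) :=
    (Matrix.toLinAlgEquiv' : Matrix (Fin n) (Fin n) F ≃ₐ[F] _).toMonoidHom.comp (Units.coeHom _)
  have hA : Function.Injective A := fun x y e => Units.ext (Matrix.toLinAlgEquiv'.injective e)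
  have hS : ∀ s, s ∈ Sc ↔ ∃ μ : F, A s = μ • 1 := by
    intro s
    constructor
    · intro hs
      obtain ⟨μ, hμ⟩ := (Cfsg.Geo.mem_scalars_iff s).1 hs
      refine ⟨μ, ?_⟩
      show Matrix.toLinAlgEquiv' (s : Matrix (Fin n) (Fin n) F) = _
      rw [hμ, map_smul, map_one]
    · rintro ⟨μ, hμ⟩
      refine CfsgLib.Geo.Asch.mem_scalars_of_coe (c := μ) (Matrix.toLinAlgEquiv'.injective ?_)
      rw [map_smul, map_one]
      exact hμ
  have hcen : ∀ s ∈ Sc, ∀ x, s * x = x * s := fun s hs x => CfsgLib.Geo.Asch.scalar_commute hs x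
  haveI hScn : Sc.Normal := ⟨fun s hs x => by rwa [← hcen s hs x, mul_inv_cancel_right]⟩
  have hcomR : ∀ x ∈ R, ∀ y ∈ R, CfsgLib.Geo.ExtraEigen.com x y ∈ Sc ∧ CfsgLib.Geo.ExtraEigen.com x y ^ r = 1 := by
    intro x hx y hy
    have h1 : ⁅(⟨x, hx⟩ : R), ⟨y, hy⟩⁆ ∈ Subgroup.center R := by
      rw [← hext, commutator_def]
      exact Subgroup.commutator_mem_commutator (Subgroup.mem_top _) (Subgroup.mem_top _)
    refine ⟨CfsgLib.Geo.Asch.mem_scalars_of_commute hirr fun z hz => ?_, ?_⟩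
    · exact congrArg Subtype.val (Subgroup.mem_center_iff.1 h1 ⟨z, hz⟩).symm
    · have h2 : (⟨_, h1⟩ : Subgroup.center R) ^ Nat.card (Subgroup.center R) = 1 := pow_card_eq_one'
      rw [hZ] at h2
      exact congrArg (fun z : Subgroup.center R => ((z : R) : Matrix.GeneralLinearGroup (Fin n) F)) h2
  have hmem : ∀ a ∈ R ⊔ Sc, ∃ x ∈ R, x⁻¹ * a ∈ Sc := fun a ha => by
    obtain ⟨x, hx, s, hs, rfl⟩ := Subgroup.mem_sup_of_normal_right.1 ha
    exact ⟨x, hx, by simpa using hs⟩
  have hcomP : ∀ a ∈ R ⊔ Sc, ∀ b ∈ R ⊔ Sc,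
      CfsgLib.Geo.ExtraEigen.com a b ∈ Sc ∧ CfsgLib.Geo.ExtraEigen.com a b ^ r = 1 := by
    intro a ha b hb
    obtain ⟨x, hx, hs⟩ := hmem a ha
    obtain ⟨y, hy, ht⟩ := hmem b hb
    have e : CfsgLib.Geo.ExtraEigen.com a b = CfsgLib.Geo.ExtraEigen.com x y := by
      generalize hs' : x⁻¹ * a = s at hs
      generalize ht' : y⁻¹ * b = t at ht
      rw [show a = x * s by rw [← hs']; group, show b = y * t by rw [← ht']; group]
      simp only [CfsgLib.Geo.ExtraEigen.com, mul_inv_rev]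
      calc x * s * (y * t) * (s⁻¹ * x⁻¹) * (t⁻¹ * y⁻¹)
          = x * (s * (y * t) * s⁻¹) * x⁻¹ * (t⁻¹ * y⁻¹) := by group
        _ = x * y * (t * x⁻¹ * t⁻¹) * y⁻¹ := by rw [hcen s hs (y * t), mul_inv_cancel_right]; group
        _ = _ := by rw [hcen t ht x⁻¹, mul_inv_cancel_right]
    rw [e]
    exact hcomR x hx y hy
  have hdiv : ϖ = 3 → ¬ 3 ∣ Module.finrank F (Fin n → F) → r ≠ 3 := by
    rintro - h3 rfl
    apply h3
    rw [Module.finrank_fin_fun]
    -- a primitive third root of unity permutes three eigenspaces cyclically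
    obtain ⟨x, hx, y, hy, hxy⟩ : ∃ x ∈ R, ∃ y ∈ R, x * y ≠ y * x := by
      by_contra! h
      have h2 : commutator R = ⊥ := by
        rw [commutator_def, Subgroup.commutator_eq_bot_iff_le_centralizer]
        exact fun a _ => Subgroup.mem_centralizer_iff.2 fun b _ => Subtype.ext (h b b.2 a a.2)
      rw [h2] at hext
      rw [← hext, Subgroup.card_bot] at hZ
      omega
    obtain ⟨ht, htr⟩ := hcomR x hx y hy
    obtain ⟨μ, hμ⟩ := (Cfsg.Geo.mem_scalars_iff _).1 ht
    have hdet : (μ : F) ^ n = 1 := by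
      have e := congrArg Matrix.det hμ
      rw [Matrix.det_smul, Matrix.det_one, mul_one, Fintype.card_fin] at e
      rw [← e]
      have : Matrix.GeneralLinearGroup.det (CfsgLib.Geo.ExtraEigen.com x y) = 1 := by
        simp [CfsgLib.Geo.ExtraEigen.com, mul_comm]
      simpa [Units.ext_iff] using this
    have hμ3 : (μ : F) ^ 3 = 1 := by
      have e := congrArg (fun z : Matrix.GeneralLinearGroup (Fin n) F => (z : Matrix (Fin n) (Fin n) F) ⟨0, Nat.pos_of_ne_zero hn0⟩ ⟨0, Nat.pos_of_ne_zero hn0⟩) htr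
      simp only [Units.val_pow_eq_pow_val, hμ, smul_pow, one_pow, Units.val_one, Matrix.smul_apply, Matrix.one_apply_eq,
        smul_eq_mul, mul_one] at e
      exact e
    have hμ1 : (μ : F) ≠ 1 := fun e => hxy (by
      have h1 : CfsgLib.Geo.ExtraEigen.com x y = 1 := Units.ext (by rw [hμ, e, one_smul, Units.val_one])
      rw [CfsgLib.Geo.ExtraEigen.com, mul_inv_eq_one, mul_inv_eq_iff_eq_mul] at h1
      exact h1)
    haveI : Fact (Nat.Prime 3) := ⟨Nat.prime_three⟩
    exact orderOf_eq_prime hμ3 hμ1 ▸ orderOf_dvd_of_pow_eq_one hdet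
  have h := CfsgLib.Geo.ExtraEigen.eigen_bound A hA Sc hS hr hϖ (R ⊔ Sc) le_sup_right hcomP
    (fun a ha => CfsgLib.Geo.Asch.mem_scalars_of_commute hirr fun z hz => ha z (Subgroup.mem_sup_left hz))
    (fun h5 => ⟨R, le_sup_left, fun a ha => by
      rcases hexp with he | he
      · have := Monoid.pow_exponent_eq_one (⟨a, ha⟩ : R)
        rw [he] at this
        exact congrArg Subtype.val this
      · exfalso
        haveI := Fact.mk hr
        obtain ⟨k, hk⟩ := hR.exists_card_eq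
        have h4 : (2 : ℕ) ∣ r ^ k := hk ▸ dvd_trans (by rw [he]; norm_num) Group.exponent_dvd_nat_card
        have := (Nat.prime_dvd_prime_iff_eq Nat.prime_two hr).1 (Nat.prime_two.dvd_of_dvd_pow h4)
        omega, hmem⟩)
    hdiv g (fun a => Subgroup.mem_normalizer_iff.1 hg a) (hord ▸ pow_orderOf_eq_one g) hns c
  rw [Module.finrank_fin_fun] at h
  exact h

end Cfsg.Agent.S5877
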