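import Cfsg.Statements.S5885
-- import your own Cfsg.Agent.* helpers here

set_option autoImplicit false
open Cfsg

namespace Cfsg.Agent.S5885

open MulAction
open scoped Pointwise

theorem realize {G : Type*} [Group G] [Finite G] (n : ℕ)
    (hA : ∀ P : Subgroup (Equiv.Perm (Fin n)), MulAction.IsPreprimitive P (Fin n) → alternatingGroup (Fin n) ≤ P)
    (M : Subgroup G) (hM : IsCoatom M) (hn : M.index = n) [Fintype (G ⧸ M)] [DecidableEq (G ⧸ M)]
    (σ : Equiv.Perm (G ⧸ M)) (hσ : σ ∈ alternatingGroup (G ⧸ M)) :
    ∃ g : G, ∀ u : G ⧸ M, g • u = σ u := by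
  have hc : Fintype.card (G ⧸ M) = n := by rw [← hn, Subgroup.index, Nat.card_eq_fintype_card]
  let e : G ⧸ M ≃ Fin n := Fintype.equivFinOfCardEq hc
  let ψ : G →* Equiv.Perm (Fin n) := (e.permCongrHom.toMonoidHom).comp (MulAction.toPermHom G (G ⧸ M))
  have hnt : Nontrivial (G ⧸ M) := by
    rw [← Fintype.one_lt_card_iff_nontrivial, hc, ← hn]
    exact Subgroup.one_lt_index_of_ne_top hM.1
  have hprim : MulAction.IsPreprimitive G (G ⧸ M) := by
    rw [← MulAction.isCoatom_stabilizer_iff_preprimitive G ((1 : G) : G ⧸ M), MulAction.stabilizer_quotient]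
    exact hM
  let f : (G ⧸ M) →ₑ[ψ.rangeRestrict] Fin n :=
    { toFun := e
      map_smul' := fun g u => by
        show e (g • u) = ψ g (e u)
        simp [ψ, Equiv.permCongr_apply] }
  have hP : MulAction.IsPreprimitive ψ.range (Fin n) :=
    MulAction.IsPreprimitive.of_surjective (f := f) e.surjective
  have h := hA _ hP (show e.permCongrHom σ ∈ alternatingGroup (Fin n) by
    rw [Equiv.Perm.mem_alternatingGroup] at hσ ⊢
    rw [← hσ]
    exact Equiv.Perm.sign_permCongr e σ)
  obtain ⟨g, hg⟩ := h
  refine ⟨g, fun u => ?_⟩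
  have h' : (MulAction.toPermHom G (G ⧸ M) g) = σ := e.permCongrHom.injective hg
  rw [← h']
  rfl

theorem core {G : Type*} [Group G] [Finite G] (n : ℕ) (hodd : Odd n)
    (hA : ∀ P : Subgroup (Equiv.Perm (Fin n)), MulAction.IsPreprimitive P (Fin n) → alternatingGroup (Fin n) ≤ P)
    (M : Subgroup G) (hM : IsCoatom M) (hn : M.index = n) (H K L : Subgroup G)
    (hK : IsCoatom K) (hH : M ⊓ K = H) (hT : ∀ T : Subgroup G, H ≤ T → T ≤ M → T = H ∨ T = M)
    (hHL : H < L) (hLK : L ≤ K) : K ≤ L := by
  by_cases hN : M.normalCore ≤ K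
  · classical
    have : Fintype (G ⧸ M) := Fintype.ofFinite _
    have hc : Fintype.card (G ⧸ M) = n := by rw [← hn, Subgroup.index, Nat.card_eq_fintype_card]
    let a : G ⧸ M := ((1 : G) : G ⧸ M)
    have hstab : ∀ g : G, g • a = a ↔ g ∈ M := fun g => by
      rw [← MulAction.mem_stabilizer_iff]
      show g ∈ MulAction.stabilizer G ((1 : G) : G ⧸ M) ↔ g ∈ M
      rw [MulAction.stabilizer_quotient]
    have key : ∀ g₁ g₂ : G, g₁ ∈ K → g₂ ∈ K → g₁ • a = g₂ • a → g₁⁻¹ * g₂ ∈ L := by
      intro g₁ g₂ h₁ h₂ h
      apply hHL.le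
      rw [← hH]
      refine ⟨(hstab _).1 ?_, K.mul_mem (K.inv_mem h₁) h₂⟩
      rw [mul_smul, ← h, inv_smul_smul]
    have real := realize n hA M hM hn
    have three : ∀ u v w : G ⧸ M, u ≠ v → u ≠ w → v ≠ w → ∃ g : G, g • u = v ∧ g • v = w ∧ g • w = u ∧
        ∀ t, t ≠ u → t ≠ v → t ≠ w → g • t = t := by
      intro u v w huv huw hvw
      obtain ⟨g, hg⟩ := real (Equiv.swap u w * Equiv.swap u v) (by
        rw [Equiv.Perm.mem_alternatingGroup, map_mul, Equiv.Perm.sign_swap huw, Equiv.Perm.sign_swap huv]; rfl)
      refine ⟨g, ?_, ?_, ?_, fun t h1 h2 h3 => ?_⟩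
      · simp [hg, Equiv.swap_apply_of_ne_of_ne, huv.symm, hvw]
      · simp [hg]
      · simp [hg, Equiv.swap_apply_of_ne_of_ne, huw.symm, hvw.symm]
      · simp [hg, Equiv.swap_apply_of_ne_of_ne, h1, h2, h3]
    obtain ⟨l, hlL, hlH⟩ := SetLike.exists_of_lt hHL
    have hlM : l ∉ M := fun h => hlH (hH ▸ ⟨h, hLK hlL⟩)
    have hxa : l • a ≠ a := fun h => hlM ((hstab l).1 h)
    by_contra hne
    obtain ⟨k, hkK, hkL⟩ := SetLike.not_le_iff_exists.1 hne
    have hy : ∀ l' ∈ L, k • a ≠ l' • a := fun l' hl' h => hkL (by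
      have h' := L.mul_mem hl' (key l' k (hLK hl') hkK h.symm)
      rwa [mul_inv_cancel_left] at h')
    set x := l • a with hx
    set y := k • a with hy'
    have hya : y ≠ a := fun h => hy 1 L.one_mem (by rw [one_smul]; exact h)
    have hyx : y ≠ x := hy l hlL
    -- elements fixing `a` and mapping x to y cannot lie in K
    have noK : ∀ g ∈ M, g • x = y → g ∉ K := by
      intro g hgM hgx hgK
      have hgL : g ∈ L := hHL.le (hH ▸ ⟨hgM, hgK⟩)
      refine hy (g * l) (L.mul_mem hgL hlL) ?_
      rw [mul_smul]; exact hgx.symm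
    by_cases hO : ∀ u : G ⧸ M, ∃ k' ∈ K, k' • a = u
    · -- transitive case
      set w := (k * l) • a with hw
      have hwy : w ≠ y := by
        rw [hw, hy', mul_smul]
        exact fun h => hxa (MulAction.injective k h)
      have hwB : ∀ l' ∈ L, w ≠ l' • a := fun l' hl' h => hkL (by
        have h' := L.mul_mem (L.mul_mem hl' (key l' (k * l) (hLK hl') (K.mul_mem hkK (hLK hlL)) h.symm))
          (L.inv_mem hlL)
        rwa [mul_inv_cancel_left, mul_inv_cancel_right] at h')
      have hwa : w ≠ a := fun h => hwB 1 L.one_mem (by rw [one_smul]; exact h)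
      have hwx : w ≠ x := hwB l hlL
      let B : Set (G ⧸ M) := {u | ∃ l' ∈ L, l' • a = u}
      let T : Subgroup G := M ⊓ MulAction.stabilizer G B
      have hHT : H ≤ T := fun h hh => by
        refine ⟨(hH.ge hh).1, ?_⟩
        show h ∈ MulAction.stabilizer G B
        rw [MulAction.mem_stabilizer_iff]
        ext u
        rw [Set.mem_smul_set_iff_inv_smul_mem]
        constructor
        · rintro ⟨l', hl', e⟩
          exact ⟨h * l', L.mul_mem (hHL.le hh) hl', by rw [mul_smul, e, smul_inv_smul]⟩
        · rintro ⟨l', hl', e⟩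
          exact ⟨h⁻¹ * l', L.mul_mem (L.inv_mem (hHL.le hh)) hl', by rw [mul_smul, e]⟩
      rcases hT T hHT inf_le_left with hTH | hTM
      · -- third block
        have hex : ∃ z : G ⧸ M, (∀ l' ∈ L, z ≠ l' • a) ∧ (∀ l' ∈ L, z ≠ (k * l') • a) := by
          by_contra! hall
          let C : Finset (G ⧸ M) := Finset.univ.filter (fun u => ∃ l' ∈ L, l' • a = u)
          have hu : (Finset.univ : Finset (G ⧸ M)) = C ∪ C.image (fun u => k • u) := by
            symm
            rw [Finset.eq_univ_iff_forall]
            intro z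
            rw [Finset.mem_union]
            by_cases hz : ∀ l' ∈ L, z ≠ l' • a
            · obtain ⟨l', hl', e⟩ := hall z hz
              exact Or.inr (Finset.mem_image.2 ⟨l' • a, by simpa [C] using ⟨l', hl', rfl⟩, by rw [e, mul_smul]⟩)
            · push Not at hz
              obtain ⟨l', hl', e⟩ := hz
              exact Or.inl (by simpa [C] using ⟨l', hl', e.symm⟩)
          have hd : Disjoint C (C.image (fun u => k • u)) := by
            rw [Finset.disjoint_left]
            intro z hz hz'
            simp [C] at hz hz'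
            obtain ⟨l₁, hl₁, e₁⟩ := hz
            obtain ⟨l₂, hl₂, e₂⟩ := hz'
            apply hkL
            have h' := L.mul_mem (L.mul_mem hl₁ (key l₁ (k * l₂) (hLK hl₁) (K.mul_mem hkK (hLK hl₂))
              (by rw [e₁, mul_smul, e₂]))) (L.inv_mem hl₂)
            rwa [mul_inv_cancel_left, mul_inv_cancel_right] at h'
          have hcard := congrArg Finset.card hu
          rw [Finset.card_univ, hc, Finset.card_union_of_disjoint hd,
            Finset.card_image_of_injective _ (MulAction.injective k)] at hcard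
          obtain ⟨r, hr⟩ := hodd
          omega
        obtain ⟨z, hz1, hz2⟩ := hex
        have hzy : z ≠ y := by simpa [hy'] using hz2 1 L.one_mem
        have hzw : z ≠ w := hz2 l hlL
        obtain ⟨g, g1, g2, -, g4⟩ := three y w z hwy.symm hzy.symm hzw.symm
        have gfix : ∀ l' ∈ L, g • l' • a = l' • a := fun l' hl' =>
          g4 _ (hy l' hl').symm (hwB l' hl').symm (hz1 l' hl').symm
        have hgT : g ∈ T := by
          refine ⟨(hstab g).1 (by simpa using gfix 1 L.one_mem), ?_⟩
          show g ∈ MulAction.stabilizer G B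
          rw [MulAction.mem_stabilizer_iff]
          ext u
          rw [Set.mem_smul_set_iff_inv_smul_mem]
          constructor
          · rintro ⟨l', hl', e⟩
            exact ⟨l', hl', by rw [← gfix l' hl', e, smul_inv_smul]⟩
          · rintro ⟨l', hl', e⟩
            exact ⟨l', hl', by rw [← e, eq_inv_smul_iff, gfix l' hl']⟩
        have hgK : g ∈ K := (hH.ge (hTH.le hgT)).2
        have hkey := key (k * l) (g * k) (K.mul_mem hkK (hLK hlL)) (K.mul_mem hgK hkK)
          (by rw [mul_smul g k, ← hy', g1])
        have h2 : l * ((k * l)⁻¹ * (g * k)) * l ∈ L := L.mul_mem (L.mul_mem hlL hkey) hlL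
        apply hz2 _ h2
        rw [← g2, hw, ← mul_smul]
        congr 1
        group
      · -- M would stabilise B
        obtain ⟨g, g1, -, -, g4⟩ := three x y w hyx.symm hwx.symm hwy.symm
        have hgM : g ∈ M := (hstab g).1 (g4 a hxa.symm hya.symm hwa.symm)
        have hgB : g • B = B := MulAction.mem_stabilizer_iff.1 (hTM.ge hgM).2
        obtain ⟨l'', hl'', e⟩ : g • x ∈ B := hgB.le (Set.smul_mem_smul_set ⟨l, hlL, rfl⟩)
        exact hy l'' hl'' (by rw [e]; exact g1.symm)
    · -- intransitive case: K is the stabiliser of the orbit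
      push Not at hO
      obtain ⟨z, hz⟩ := hO
      let O : Set (G ⧸ M) := {u | ∃ k' ∈ K, k' • a = u}
      have haO : a ∈ O := ⟨1, K.one_mem, one_smul _ _⟩
      have hxO : x ∈ O := ⟨l, hLK hlL, rfl⟩
      have hyO : y ∈ O := ⟨k, hkK, rfl⟩
      have hzO : z ∉ O := fun ⟨k', hk', e⟩ => hz k' hk' e
      have hKO : K ≤ MulAction.stabilizer G O := fun h hh => by
        rw [MulAction.mem_stabilizer_iff]
        ext u
        rw [Set.mem_smul_set_iff_inv_smul_mem]
        constructor
        · rintro ⟨l', hl', e⟩
          exact ⟨h * l', K.mul_mem hh hl', by rw [mul_smul, e, smul_inv_smul]⟩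
        · rintro ⟨l', hl', e⟩
          exact ⟨h⁻¹ * l', K.mul_mem (K.inv_mem hh) hl', by rw [mul_smul, e]⟩
      have hSK : MulAction.stabilizer G O = K := by
        rcases hK.le_iff.1 hKO with h | h
        · exfalso
          obtain ⟨g, hg⟩ := MulAction.exists_smul_eq G a z
          have hgS : g • O = O := MulAction.mem_stabilizer_iff.1 (h.symm ▸ Subgroup.mem_top g)
          exact hzO (hg ▸ hgS.le (Set.smul_mem_smul_set haO))
        · exact h
      have finish : ∀ g : G, g • a = a → g • x = y → (∀ u, g • u ∈ O ↔ u ∈ O) → False := by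
        intro g h1 h2 h3
        refine noK g ((hstab g).1 h1) h2 (hSK.le ?_)
        rw [MulAction.mem_stabilizer_iff]
        ext u
        rw [Set.mem_smul_set_iff_inv_smul_mem, ← h3, smul_inv_smul]
      by_cases hw : ∃ w ∈ O, w ≠ a ∧ w ≠ x ∧ w ≠ y
      · obtain ⟨w, hwO, hwa, hwx, hwy⟩ := hw
        obtain ⟨g, g1, g2, g3, g4⟩ := three x y w hyx.symm hwx.symm hwy.symm
        refine finish g (g4 a hxa.symm hya.symm hwa.symm) g1 (fun u => ?_)
        rcases eq_or_ne u x with rfl | u1
        · simp [g1, hxO, hyO]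
        rcases eq_or_ne u y with rfl | u2
        · simp [g2, hwO, hyO]
        rcases eq_or_ne u w with rfl | u3
        · simp [g3, hwO, hxO]
        rw [g4 u u1 u2 u3]
      · push Not at hw
        have hz' : ∃ z' : G ⧸ M, z' ∉ O ∧ z' ≠ z := by
          by_contra! hall
          have hu : (Finset.univ : Finset (G ⧸ M)) = {a, x, y, z} := by
            symm
            rw [Finset.eq_univ_iff_forall]
            intro u
            simp only [Finset.mem_insert, Finset.mem_singleton]
            by_cases huO : u ∈ O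
            · by_cases h1 : u = a
              · exact Or.inl h1
              · by_cases h2 : u = x
                · exact Or.inr (Or.inl h2)
                · exact Or.inr (Or.inr (Or.inl (hw u huO h1 h2)))
            · exact Or.inr (Or.inr (Or.inr (hall u huO)))
          have h4 : ({a, x, y, z} : Finset (G ⧸ M)).card = 4 := by
            have h1 : a ≠ z := fun h => hzO (h ▸ haO)
            have h2 : x ≠ z := fun h => hzO (h ▸ hxO)
            have h3 : y ≠ z := fun h => hzO (h ▸ hyO)
            simp [hxa.symm, hya.symm, hyx.symm, h1, h2, h3]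
          rw [← hu, Finset.card_univ, hc] at h4
          obtain ⟨r, hr⟩ := hodd
          omega
        obtain ⟨z', hz'O, hzz⟩ := hz'
        obtain ⟨g, hg⟩ := real (Equiv.swap x y * Equiv.swap z z') (by
          rw [Equiv.Perm.mem_alternatingGroup, map_mul, Equiv.Perm.sign_swap hyx.symm,
            Equiv.Perm.sign_swap hzz.symm]; rfl)
        refine finish g ?_ ?_ (fun u => ?_)
        · rw [hg, Equiv.Perm.mul_apply,
            Equiv.swap_apply_of_ne_of_ne (ne_of_mem_of_not_mem haO hzO) (ne_of_mem_of_not_mem haO hz'O),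
            Equiv.swap_apply_of_ne_of_ne hxa.symm hya.symm]
        · rw [hg, Equiv.Perm.mul_apply,
            Equiv.swap_apply_of_ne_of_ne (ne_of_mem_of_not_mem hxO hzO) (ne_of_mem_of_not_mem hxO hz'O),
            Equiv.swap_apply_left]
        · rw [hg, Equiv.Perm.mul_apply]
          rcases eq_or_ne u z with rfl | u1
          · rw [Equiv.swap_apply_left, Equiv.swap_apply_of_ne_of_ne (ne_of_mem_of_not_mem hxO hz'O).symm
              (ne_of_mem_of_not_mem hyO hz'O).symm]
            simp [hzO, hz'O]
          rcases eq_or_ne u z' with rfl | u2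
          · rw [Equiv.swap_apply_right, Equiv.swap_apply_of_ne_of_ne (ne_of_mem_of_not_mem hxO hzO).symm
              (ne_of_mem_of_not_mem hyO hzO).symm]
            simp [hzO, hz'O]
          rw [Equiv.swap_apply_of_ne_of_ne u1 u2]
          rcases eq_or_ne u x with rfl | u3
          · simp [hxO, hyO]
          rcases eq_or_ne u y with rfl | u4
          · simp [hxO, hyO]
          rw [Equiv.swap_apply_of_ne_of_ne u3 u4]
  · -- K does not contain the core
    have htop : M.normalCore ⊔ K = ⊤ :=
      hK.2 _ (lt_of_le_of_ne le_sup_right (fun h => hN (h ▸ le_sup_left)))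
    have hMH : M ≤ M.normalCore ⊔ L := by
      intro m hm
      obtain ⟨c, hc, k, hk, rfl⟩ := Subgroup.mem_sup_of_normal_left.1 (htop.symm ▸ Subgroup.mem_top m :
        m ∈ M.normalCore ⊔ K)
      have hkM : k ∈ M := by
        have := M.mul_mem (M.inv_mem (M.normalCore_le hc)) hm
        rwa [inv_mul_cancel_left] at this
      exact Subgroup.mul_mem_sup hc (hHL.le (hH ▸ ⟨hkM, hk⟩))
    have hLtop : M.normalCore ⊔ L = ⊤ := by
      rcases hM.le_iff.1 hMH with h | h
      · exact h
      · exfalso
        apply hHL.not_ge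
        rw [← hH]
        exact le_inf (le_sup_right.trans h.le) hLK
    intro k hk
    obtain ⟨c, hc, l, hl, rfl⟩ := Subgroup.mem_sup_of_normal_left.1 (hLtop.symm ▸ Subgroup.mem_top k :
      k ∈ M.normalCore ⊔ L)
    have hcK : c ∈ K := by
      have := K.mul_mem hk (K.inv_mem (hLK hl))
      rwa [mul_inv_cancel_right] at this
    exact L.mul_mem (hHL.le (hH ▸ ⟨M.normalCore_le hc, hcK⟩)) hl

/-- Let n be an odd positive integer such that every primitive permutation group of degree n contains the alternating group (so the symmetric and alternating groups are the only primitive groups of degree n). Let G be a finite group, M a maximal subgroup of G of index n, and H a maximal subgroup of M. Then H is a second maximal subgroup of G: H is maximal in every maximal subgroup K of G containing H. -/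
theorem result {G : Type*} [Group G]
    [Finite G] (n : ℕ) (hodd : Odd n)
    (hA : ∀ P : Subgroup (Equiv.Perm (Fin n)), MulAction.IsPreprimitive P (Fin n) → alternatingGroup (Fin n) ≤ P)
    (M : Subgroup G) (hM : IsCoatom M) (hn : M.index = n) (H : Subgroup G) (hHM : H ≤ M)
    (hmax : IsCoatom (H.subgroupOf M)) (K : Subgroup G) (hK : IsCoatom K) (hHK : H ≤ K) :
    IsCoatom (H.subgroupOf K) := by
  have hT : ∀ T : Subgroup G, H ≤ T → T ≤ M → T = H ∨ T = M := by
    intro T h1 h2
    rcases hmax.le_iff.1 (Subgroup.comap_mono h1 : H.subgroupOf M ≤ T.subgroupOf M) with h | h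
    · exact Or.inr (le_antisymm h2 (Subgroup.subgroupOf_eq_top.1 h))
    · refine Or.inl ?_
      have := Subgroup.subgroupOf_inj.1 h
      rwa [inf_eq_left.2 h2, inf_eq_left.2 hHM] at this
  by_cases hMK : M ≤ K
  · have hKM : K = M := by
      rcases hM.le_iff.1 hMK with h | h
      · exact absurd h hK.1
      · exact h
    subst hKM
    exact hmax
  have hH : M ⊓ K = H := by
    rcases hT (M ⊓ K) (le_inf hHM hHK) inf_le_left with h | h
    · exact h
    · exact absurd (inf_eq_left.1 h) hMK
  refine ⟨fun h => ?_, fun L hL => ?_⟩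
  · rw [Subgroup.subgroupOf_eq_top] at h
    rcases hK.le_iff.1 (h.trans hHM) with h' | h'
    · exact hM.1 h'
    · exact hMK h'.le
  · have h1 : H < L.map K.subtype := by
      have := (Subgroup.map_lt_map_iff_of_injective K.subtype_injective).2 hL
      rwa [Subgroup.subgroupOf_map_subtype, inf_eq_left.2 hHK] at this
    have h2 := core n hodd hA M hM hn H K (L.map K.subtype) hK hH hT h1 (Subgroup.map_subtype_le L)
    rw [eq_top_iff]
    intro k _
    obtain ⟨y, hy, e⟩ := h2 k.2
    rwa [← Subtype.ext e]

end Cfsg.Agent.S5885
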