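import Cfsg.Statements.S5894
import Cfsg.Agent.Lib.Geo.PartitionStabilizer

set_option autoImplicit false
open Cfsg

namespace Cfsg.Agent.S5894

open Pointwise

/-- For every m ≥ 2 the symmetric group on 2m letters has a maximal subgroup M of index 2m together with a maximal subgroup H of M that is not second maximal: some maximal subgroup K of the symmetric group contains H without H being maximal in K. (One may take M the stabiliser of a letter, H ≅ S_m × S_{m−1} inside it, and K ≅ S_m ≀ S₂ the stabiliser of a partition into two m-sets, with H < S_m × S_m < K.) So the prime-index hypothesis in the second-maximality criterion cannot be relaxed to any even index ≥ 4. -/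
theorem result (m : ℕ) (hm : 2 ≤ m) :
    ∃ M H K : Subgroup (Equiv.Perm (Fin (2 * m))), IsCoatom M ∧ M.index = 2 * m ∧ H ≤ M ∧ IsCoatom (H.subgroupOf M) ∧
      IsCoatom K ∧ H ≤ K ∧ ¬ IsCoatom (H.subgroupOf K) := by
  classical
  let a : (Fin (2 * m)) := ⟨0, by omega⟩
  let f : (Fin (2 * m)) → Fin 2 := fun x => if x.1 < m then 0 else 1
  let s : Set (Fin (2 * m)) := {x | x.1 < m}
  have hfs : ∀ x : (Fin (2 * m)), f x = 0 ↔ x ∈ s := fun x => by
    simp only [f, s, Set.mem_setOf_eq]
    split_ifs with h <;> simp [h]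
  let half : {x : (Fin (2 * m)) // f x = 0} ≃ Fin m :=
    { toFun := fun x => ⟨x.1.1, (hfs x.1).1 x.2⟩
      invFun := fun i => ⟨⟨i.1, by omega⟩, (hfs _).2 i.2⟩
      left_inv := fun _ => rfl
      right_inv := fun _ => rfl }
  have hf : ∀ i : Fin 2, Nat.card {x : (Fin (2 * m)) // f x = i} = m := by
    intro i
    have h0 : Nat.card {x : (Fin (2 * m)) // f x = 0} = m := by rw [Nat.card_congr half, Nat.card_fin]
    fin_cases i
    · exact h0
    · rw [Nat.card_eq_fintype_card] at h0
      rw [Nat.card_eq_fintype_card]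
      have h : Fintype.card {x : (Fin (2 * m)) // ¬ f x = 0} = 2 * m - m := by
        rw [Fintype.card_subtype_compl, h0, Fintype.card_fin]
      refine (Fintype.card_congr (Equiv.subtypeEquivRight fun x => ?_)).trans (h.trans (by omega))
      show f x = 1 ↔ ¬ f x = 0
      simp only [f]
      split_ifs <;> simp
  let K := CfsgLib.Geo.partStab f
  let M := MulAction.stabilizer (Equiv.Perm (Fin (2 * m))) a
  let S := MulAction.stabilizer (Equiv.Perm (Fin (2 * m))) s
  have hS : ∀ g, g ∈ S ↔ ∀ x, g x ∈ s ↔ x ∈ s := fun g => MulAction.mem_stabilizer_set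
  have hM : ∀ g : Equiv.Perm (Fin (2 * m)), g ∈ M ↔ g a = a := fun g => Iff.rfl
  have hSK : S ≤ K := by
    intro g hg x y
    have key : ∀ z, f (g z) = f z := fun z => by
      simp only [f]
      have := (hS g).1 hg z
      simp only [s, Set.mem_setOf_eq] at this
      simp [this]
    rw [key, key]
  refine ⟨M, M ⊓ S, K, ?_, ?_, inf_le_left, ?_, CfsgLib.Geo.isCoatom_partStab f hm le_rfl hf,
    inf_le_right.trans hSK, ?_⟩
  · have h := Equiv.Perm.isCoatom_stabilizer (s := {a}) (Set.singleton_nonempty a)
      ⟨⟨1, by omega⟩, by simp [a, Fin.ext_iff]⟩ (by rw [Set.ncard_singleton, Nat.card_fin]; omega)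
    rwa [MulAction.stabilizer_singleton] at h
  · rw [MulAction.index_stabilizer_of_transitive, Nat.card_fin]
  · let φ : Equiv.Perm {x : (Fin (2 * m)) // x ≠ a} →* M :=
      (Equiv.Perm.ofSubtype).codRestrict M fun g => (hM _).2
        (Equiv.Perm.ofSubtype_apply_of_not_mem g (fun h => h rfl))
    have hφ : Function.Bijective φ := by
      refine ⟨fun u v h => Equiv.Perm.ofSubtype_injective (Subtype.ext_iff.1 h), fun g => ?_⟩
      have h1 : ∀ x, g.1 x ≠ a ↔ x ≠ a := fun x => by
        constructor
        · rintro h rfl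
          exact h g.2
        · intro h h'
          exact h (g.1.injective (h'.trans g.2.symm))
      exact ⟨g.1.subtypePerm h1, Subtype.ext (Equiv.Perm.ofSubtype_subtypePerm h1 fun x hx hxa => hx (hxa ▸ g.2))⟩
    let ε : Equiv.Perm {x : (Fin (2 * m)) // x ≠ a} ≃* M := MulEquiv.ofBijective φ hφ
    let t : Set {x : (Fin (2 * m)) // x ≠ a} := {x | x.1 ∈ s}
    have ht : IsCoatom (MulAction.stabilizer (Equiv.Perm {x : (Fin (2 * m)) // x ≠ a}) t) := by
      refine Equiv.Perm.isCoatom_stabilizer ⟨⟨⟨1, by omega⟩, by simp [a, Fin.ext_iff]⟩, ?_⟩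
        ⟨⟨⟨m, by omega⟩, by simp [a, Fin.ext_iff]; omega⟩, ?_⟩ ?_
      · show (1 : ℕ) < m
        omega
      · show ¬ m < m
        omega
      · rw [Nat.card_eq_fintype_card, Fintype.card_subtype_compl, Fintype.card_subtype_eq, Fintype.card_fin]
        omega
    have hmap : (MulAction.stabilizer (Equiv.Perm {x : (Fin (2 * m)) // x ≠ a}) t).map ε.toMonoidHom = (M ⊓ S).subgroupOf M := by
      ext g
      obtain ⟨u, rfl⟩ := ε.surjective g
      rw [Subgroup.mem_map_equiv, MulEquiv.symm_apply_apply, Subgroup.mem_subgroupOf, Subgroup.mem_inf,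
        and_iff_right (ε u).2, hS, MulAction.mem_stabilizer_set]
      constructor
      · intro h x
        rcases eq_or_ne x a with rfl | hx
        · rw [show ((ε u : M) : Equiv.Perm (Fin (2 * m))) a = a from (ε u).2]
        · have := h ⟨x, hx⟩
          simp only [t, Set.mem_setOf_eq, Equiv.Perm.smul_def] at this
          rw [show ((ε u : M) : Equiv.Perm (Fin (2 * m))) x = (u ⟨x, hx⟩).1 from Equiv.Perm.ofSubtype_apply_of_mem u hx]
          exact this
      · intro h x
        have h' := h x.1
        rw [show ((ε u : M) : Equiv.Perm (Fin (2 * m))) x.1 = (u x).1 from Equiv.Perm.ofSubtype_apply_coe u x] at h'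
        exact h'
    rw [← hmap]
    exact (OrderIso.isCoatom_iff ε.mapSubgroup _).2 ht
  · intro hco
    have hlt : (M ⊓ S).subgroupOf K < S.subgroupOf K := by
      refine lt_of_le_of_ne (fun g hg => hg.2) fun heq => ?_
      have h01 : Equiv.swap a ⟨1, by omega⟩ ∈ S := by
        rw [hS]
        intro x
        rw [Equiv.swap_apply_def]
        split_ifs with h1 h2
        · subst h1
          simp [s, a]
          omega
        · subst h2
          simp [s, a]
          omega
        · rfl
      have h1 : (⟨_, hSK h01⟩ : K) ∈ (M ⊓ S).subgroupOf K := by rw [heq]; exact h01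
      have h2 := (hM _).1 h1.1
      simp [a, Fin.ext_iff] at h2
    obtain ⟨g, hg, hgf, -⟩ := CfsgLib.Geo.exists_perm_blocks f hf (Equiv.swap (0 : Fin 2) 1)
    have htop := hco.2 _ hlt
    have hgS : (⟨g, hg⟩ : K) ∈ S.subgroupOf K := htop ▸ Subgroup.mem_top _
    have h2 := ((hS g).1 hgS a).2 (show (0 : ℕ) < m by omega)
    rw [← hfs, hgf, (hfs a).2 (show (0 : ℕ) < m by omega)] at h2
    simp at h2

end Cfsg.Agent.S5894
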