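import Cfsg.Statements.S5895
import Mathlib

set_option autoImplicit false
open Cfsg

namespace Cfsg.Agent.S5895

section
variable {F V : Type*} [Field F] [AddCommGroup V] [Module F V]

/-- An automorphism fixing w and moving u to u', both outside the line of w. -/
theorem exists_equiv (w u u' : V) (hu : u ∉ Submodule.span F {w}) (hu' : u' ∉ Submodule.span F {w}) :
    ∃ T : V ≃ₗ[F] V, T w = w ∧ T u = u' := by
  obtain ⟨φ, hw, ha, hb⟩ : ∃ φ : V →ₗ[F] F, φ w = 0 ∧ φ u ≠ 0 ∧ φ u' ≠ 0 := by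
    obtain ⟨f, hf, hfw⟩ := Submodule.exists_dual_map_eq_bot_of_notMem hu inferInstance
    obtain ⟨g, hg, hgw⟩ := Submodule.exists_dual_map_eq_bot_of_notMem hu' inferInstance
    have hfw' : f w = 0 := by
      rw [← Submodule.mem_bot F, ← hfw]; exact ⟨w, Submodule.mem_span_singleton_self w, rfl⟩
    have hgw' : g w = 0 := by
      rw [← Submodule.mem_bot F, ← hgw]; exact ⟨w, Submodule.mem_span_singleton_self w, rfl⟩
    by_cases h1 : f u' = 0
    · by_cases h2 : g u = 0
      · exact ⟨f + g, by simp [hfw', hgw'], by simp [h2, hf], by simp [h1, hg]⟩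
      · exact ⟨g, hgw', h2, hg⟩
    · exact ⟨f, hfw', hf, h1⟩
  refine ⟨LinearEquiv.ofLinear (LinearMap.id + φ.smulRight ((φ u)⁻¹ • (u' - u)))
    (LinearMap.id + φ.smulRight ((φ u')⁻¹ • (u - u'))) ?_ ?_, by show w + φ w • _ = w; rw [hw, zero_smul, add_zero], ?_⟩
  · refine LinearMap.ext fun x => ?_
    simp only [LinearMap.comp_apply, LinearMap.add_apply, LinearMap.id_apply, LinearMap.smulRight_apply, map_add,
      map_smul, map_sub, smul_eq_mul, smul_sub, smul_smul]
    match_scalars <;> field_simp <;> ring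
  · refine LinearMap.ext fun x => ?_
    simp only [LinearMap.comp_apply, LinearMap.add_apply, LinearMap.id_apply, LinearMap.smulRight_apply, map_add,
      map_smul, map_sub, smul_eq_mul, smul_sub, smul_smul]
    match_scalars <;> field_simp <;> ring
  · show u + φ u • (φ u)⁻¹ • (u' - u) = u'
    rw [smul_smul, mul_inv_cancel₀ ha, one_smul, add_sub_cancel]

/-- The stabilizer of the line of w. -/
def lineStab (w : V) : Subgroup (V ≃ₗ[F] V) where
  carrier := {e | ∃ c : F, c ≠ 0 ∧ e w = c • w}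
  mul_mem' := by
    rintro e e' ⟨c, hc, h⟩ ⟨c', hc', h'⟩
    exact ⟨c' * c, mul_ne_zero hc' hc, by rw [LinearEquiv.mul_apply, h', map_smul, h, smul_smul]⟩
  one_mem' := ⟨1, one_ne_zero, by simp⟩
  inv_mem' := by
    rintro e ⟨c, hc, h⟩
    refine ⟨c⁻¹, inv_ne_zero hc, ?_⟩
    apply e.injective
    rw [map_smul, h, smul_smul, inv_mul_cancel₀ hc, one_smul]
    exact e.apply_symm_apply w

theorem lineStab_max (w : V) (hw : w ≠ 0) (S : Subgroup (V ≃ₗ[F] V)) (hS : lineStab w ≤ S) (g : V ≃ₗ[F] V)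
    (hgS : g ∈ S) (hg : g ∉ lineStab w) : S = ⊤ := by
  have hout : ∀ e : V ≃ₗ[F] V, e ∉ lineStab w → e w ∉ Submodule.span F {w} := by
    intro e he hmem
    obtain ⟨c, hc⟩ := Submodule.mem_span_singleton.1 hmem
    refine he ⟨c, fun h => ?_, hc.symm⟩
    rw [h, zero_smul, eq_comm, LinearEquiv.map_eq_zero_iff] at hc
    exact hw hc
  refine eq_top_iff.2 fun h _ => ?_
  by_cases hh : h ∈ lineStab w
  · exact hS hh
  obtain ⟨T, hTw, hT⟩ := exists_equiv w _ _ (hout g hg) (hout h hh)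
  have hmem : (T * g)⁻¹ * h ∈ lineStab w := by
    refine ⟨1, one_ne_zero, ?_⟩
    rw [one_smul, LinearEquiv.mul_apply, ← hT]
    exact (T * g).symm_apply_apply w
  have := S.mul_mem (S.mul_mem (hS ⟨1, one_ne_zero, by rw [one_smul, hTw]⟩) hgS) (hS hmem)
  rwa [mul_inv_cancel_left] at this

end

/-- For every prime p and every d ≥ 2 there is a finite group G with a maximal subgroup M of index p^d and a maximal subgroup H of M that is not second maximal in G: some maximal subgroup K of G contains H without H being maximal in K. (One may take G the affine group V ⋊ GL(V) of V = 𝔽_p^d, M = GL(V), H the stabiliser in M of a line W of V, and K = V ⋊ H, with H < W ⋊ H < K.) So the prime-index hypothesis in the second-maximality criterion cannot be relaxed to prime-power index. -/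
theorem result (p d : ℕ) (hp : p.Prime)
    (hd : 2 ≤ d) :
    ∃ (G : Type) (_ : Group G) (_ : Finite G) (M H K : Subgroup G), IsCoatom M ∧ M.index = p ^ d ∧ H ≤ M ∧
      IsCoatom (H.subgroupOf M) ∧ IsCoatom K ∧ H ≤ K ∧ ¬ IsCoatom (H.subgroupOf K) := by
  haveI := Fact.mk hp
  haveI : Finite ((Fin d → ZMod p) ≃ᵃ[(ZMod p)] (Fin d → ZMod p)) := Finite.of_injective (fun g => (g : (Fin d → ZMod p) → (Fin d → ZMod p))) DFunLike.coe_injective
  letI act : MulAction ((Fin d → ZMod p) ≃ᵃ[(ZMod p)] (Fin d → ZMod p)) (Fin d → ZMod p) :=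
    { smul := fun g x => g x
      mul_smul := fun _ _ _ => rfl
      one_smul := fun _ => rfl }
  let w : (Fin d → ZMod p) := Pi.single ⟨0, by omega⟩ 1
  let u : (Fin d → ZMod p) := Pi.single ⟨1, by omega⟩ 1
  have hw : w ≠ 0 := by simp [w]
  have hu : ∀ c : (ZMod p), u ≠ c • w := fun c h => by
    have := congrFun h ⟨1, by omega⟩
    simp [u, w, Fin.ext_iff] at this
  let lin : ((Fin d → ZMod p) ≃ᵃ[(ZMod p)] (Fin d → ZMod p)) →* ((Fin d → ZMod p) ≃ₗ[(ZMod p)] (Fin d → ZMod p)) := AffineEquiv.linearHom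
  have happ : ∀ (g : (Fin d → ZMod p) ≃ᵃ[(ZMod p)] (Fin d → ZMod p)) (x : (Fin d → ZMod p)), g x = lin g x + g 0 := fun g x => by
    have := g.map_vadd 0 x
    rw [vadd_eq_add, vadd_eq_add, add_zero] at this
    exact this
  let M := MulAction.stabilizer ((Fin d → ZMod p) ≃ᵃ[(ZMod p)] (Fin d → ZMod p)) (0 : (Fin d → ZMod p))
  have hM : ∀ g, g ∈ M ↔ g 0 = 0 := fun g => Iff.rfl
  let K := (lineStab (F := ZMod p) w).comap lin
  let T : (Fin d → ZMod p) → ((Fin d → ZMod p) ≃ᵃ[(ZMod p)] (Fin d → ZMod p)) := fun v => AffineEquiv.constVAdd (ZMod p) (Fin d → ZMod p) v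
  have hT : ∀ v x : (Fin d → ZMod p), T v x = v + x := fun _ _ => rfl
  have hTlin : ∀ v, lin (T v) = 1 := fun v => rfl
  have hTK : ∀ v, T v ∈ K := fun v => by
    rw [Subgroup.mem_comap, hTlin]
    exact one_mem _
  let emb : ((Fin d → ZMod p) ≃ₗ[(ZMod p)] (Fin d → ZMod p)) → ((Fin d → ZMod p) ≃ᵃ[(ZMod p)] (Fin d → ZMod p)) := fun e => e.toAffineEquiv
  have hembM : ∀ e, emb e ∈ M := fun e => map_zero e
  have hemb : ∀ e, lin (emb e) = e := fun e => rfl
  have hdec : ∀ g : (Fin d → ZMod p) ≃ᵃ[(ZMod p)] (Fin d → ZMod p), g = T (g 0) * emb (lin g) := fun g => AffineEquiv.ext fun x => by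
    rw [happ g x, add_comm]
    rfl
  haveI : MulAction.IsPretransitive ((Fin d → ZMod p) ≃ᵃ[(ZMod p)] (Fin d → ZMod p)) (Fin d → ZMod p) := ⟨fun x y => ⟨T (y - x), sub_add_cancel y x⟩⟩
  refine ⟨(Fin d → ZMod p) ≃ᵃ[(ZMod p)] (Fin d → ZMod p), inferInstance, inferInstance, M, M ⊓ K, K, ⟨?_, fun L hL => ?_⟩, ?_, inf_le_left,
    ⟨?_, fun L hL => ?_⟩, ⟨?_, fun L hL => ?_⟩, inf_le_right, ?_⟩
  · intro h
    have := (hM _).1 (h ▸ Subgroup.mem_top (T w))
    rw [hT, add_zero] at this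
    exact hw this
  · obtain ⟨g, hgL, hg⟩ := SetLike.exists_of_lt hL
    have hv : T (g 0) ∈ L := by
      have h2 : T (g 0) = g * (emb (lin g))⁻¹ := eq_mul_inv_iff_mul_eq.2 (hdec g).symm
      rw [h2]
      exact L.mul_mem hgL (L.inv_mem (hL.le (hembM (lin g))))
    refine eq_top_iff.2 fun h _ => ?_
    rw [hdec h]
    refine L.mul_mem ?_ (hL.le (hembM _))
    rcases eq_or_ne (h 0) 0 with h0 | h0
    · rw [h0]
      exact hL.le ((hM _).2 (by rw [hT, add_zero]))
    · obtain ⟨e, -, he⟩ := exists_equiv (F := ZMod p) (0 : (Fin d → ZMod p)) (g 0) (h 0) (by simpa using (fun h' => hg ((hM _).2 h')))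
        (by simpa using h0)
      have : T (h 0) = emb e * T (g 0) * (emb e)⁻¹ := by
        rw [eq_mul_inv_iff_mul_eq]
        refine AffineEquiv.ext fun x => ?_
        show h 0 + e x = e (g 0 + x)
        rw [map_add, he]
      rw [this]
      exact L.mul_mem (L.mul_mem (hL.le (hembM e)) hv) (L.inv_mem (hL.le (hembM e)))
  · rw [MulAction.index_stabilizer_of_transitive, Nat.card_fun, Nat.card_fin, Nat.card_zmod]
  · intro h
    obtain ⟨e, -, he⟩ := exists_equiv (F := ZMod p) (0 : (Fin d → ZMod p)) w u (by simpa using hw)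
      (by simpa using (fun h0 : u = 0 => hu 0 (by rw [h0, zero_smul])))
    have h1 : (⟨emb e, hembM e⟩ : M) ∈ (M ⊓ K).subgroupOf M := h ▸ Subgroup.mem_top _
    obtain ⟨c, -, hc⟩ := h1.2
    exact hu c (he.symm.trans hc)
  · obtain ⟨g, hgL, hg⟩ := SetLike.exists_of_lt hL
    have hS : lineStab w ≤ L.map (lin.comp M.subtype) := fun e he =>
      ⟨⟨emb e, hembM e⟩, hL.le ⟨hembM e, he⟩, rfl⟩
    have htop := lineStab_max w hw _ hS (lin g) ⟨g, hgL, rfl⟩ (fun h => hg ⟨g.2, h⟩)
    refine eq_top_iff.2 fun h _ => ?_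
    obtain ⟨l, hl, hl'⟩ : lin h ∈ L.map (lin.comp M.subtype) := htop ▸ Subgroup.mem_top _
    have : l = h := by
      refine Subtype.ext ?_
      rw [hdec l, hdec h, (hM _).1 l.2, (hM _).1 h.2]
      exact congrArg (fun e => T 0 * emb e) hl'
    exact this ▸ hl
  · intro h
    obtain ⟨e, -, he⟩ := exists_equiv (F := ZMod p) (0 : (Fin d → ZMod p)) w u (by simpa using hw)
      (by simpa using (fun h0 : u = 0 => hu 0 (by rw [h0, zero_smul])))
    obtain ⟨c, -, hc⟩ : emb e ∈ K := h ▸ Subgroup.mem_top _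
    rw [hemb, he] at hc
    exact hu c hc
  · obtain ⟨g, hgL, hg⟩ := SetLike.exists_of_lt hL
    have hS : lineStab w ≤ L.map lin := fun e he => ⟨emb e, hL.le he, rfl⟩
    have htop := lineStab_max w hw _ hS (lin g) ⟨g, hgL, rfl⟩ hg
    refine eq_top_iff.2 fun h _ => ?_
    obtain ⟨l, hl, hl'⟩ : lin h ∈ L.map lin := htop ▸ Subgroup.mem_top _
    have : h = T (h 0) * (T (l 0))⁻¹ * l := by
      rw [mul_assoc]
      conv_rhs => arg 2; arg 2; rw [hdec l, hl']
      rw [inv_mul_cancel_left, ← hdec]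
    rw [this]
    exact L.mul_mem (L.mul_mem (hL.le (hTK _)) (L.inv_mem (hL.le (hTK _)))) hl
  · intro hco
    let J : Subgroup ((Fin d → ZMod p) ≃ᵃ[(ZMod p)] (Fin d → ZMod p)) :=
      { carrier := {g | g ∈ K ∧ g 0 ∈ Submodule.span (ZMod p) {w}}
        one_mem' := ⟨one_mem _, Submodule.zero_mem _⟩
        mul_mem' := fun {a b} ha hb => ⟨mul_mem ha.1 hb.1, by
          show a (b 0) ∈ _
          rw [happ]
          obtain ⟨c, hc⟩ := Submodule.mem_span_singleton.1 hb.2
          obtain ⟨c', -, hc'⟩ := ha.1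
          rw [← hc, map_smul, hc', smul_smul]
          exact Submodule.add_mem _ (Submodule.smul_mem _ _ (Submodule.mem_span_singleton_self w)) ha.2⟩
        inv_mem' := fun {a} ha => ⟨inv_mem ha.1, by
          obtain ⟨c, hc⟩ := Submodule.mem_span_singleton.1 ha.2
          obtain ⟨c', hc0, hc'⟩ := ha.1
          refine Submodule.mem_span_singleton.2 ⟨-(c / c'), ?_⟩
          apply a.injective
          show a (-(c / c') • w) = a (a.symm 0)
          rw [a.apply_symm_apply, happ, map_smul, hc', smul_smul, ← hc, ← add_smul, neg_mul,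
            div_mul_cancel₀ c hc0, neg_add_cancel, zero_smul]⟩ }
    have hlt : (M ⊓ K).subgroupOf K < J.subgroupOf K := by
      refine lt_of_le_of_ne (fun g hg => ⟨g.2, by rw [(hM _).1 hg.1]; exact Submodule.zero_mem _⟩) fun heq => ?_
      have h1 : (⟨T w, hTK w⟩ : K) ∈ (M ⊓ K).subgroupOf K := by
        rw [heq]
        exact ⟨hTK w, show T w 0 ∈ _ by rw [hT, add_zero]; exact Submodule.mem_span_singleton_self w⟩
      have h2 : T w 0 = 0 := (hM _).1 h1.1
      rw [hT, add_zero] at h2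
      exact hw h2
    have h1 : (⟨T u, hTK u⟩ : K) ∈ J.subgroupOf K := hco.2 _ hlt ▸ Subgroup.mem_top _
    obtain ⟨c, hc⟩ := Submodule.mem_span_singleton.1 h1.2
    replace hc : c • w = T u 0 := hc
    rw [hT, add_zero] at hc
    exact hu c hc.symm

end Cfsg.Agent.S5895
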