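import Cfsg.Statements.S5902
import Cfsg.Agent.Lib.Geo.Complement

set_option autoImplicit false
open Cfsg

namespace Cfsg.Agent.S5902

/-- Let G be a finite group, X a subgroup whose own subgroup lattice is complemented, and suppose X lies in exactly one maximal subgroup M of G. Then every subgroup H of G not contained in the normal core of M has a complement in the subgroup lattice of G (some C with H ⊔ C = G and H ⊓ C = 1); in particular the subgroup lattice of G modulo the normal core of M is complemented. -/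
theorem result {G : Type*} [Group G] [Finite G] (X M : Subgroup G)
    (hK : ComplementedLattice (Subgroup X))
    (hM : IsCoatom M) (hXM : X ≤ M) (huniq : ∀ M' : Subgroup G, IsCoatom M' → X ≤ M' → M' = M) :
    (∀ H : Subgroup G, ¬ H ≤ M.normalCore → ∃ C : Subgroup G, H ⊔ C = ⊤ ∧ H ⊓ C = ⊥) ∧
    ComplementedLattice (Subgroup (G ⧸ M.normalCore)) := by
  have hint : ∀ Y : Subgroup G, ⊥ ≤ Y → Y ≤ X → ∃ C : Subgroup G, ⊥ ≤ C ∧ C ≤ X ∧ Y ⊔ C = X ∧ Y ⊓ C = ⊥ := by
    intro Y _ hYX
    obtain ⟨D, hD⟩ := hK.exists_isCompl (Y.subgroupOf X)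
    refine ⟨D.map X.subtype, bot_le, Subgroup.map_subtype_le D, ?_, ?_⟩
    · have h := congrArg (Subgroup.map X.subtype) hD.sup_eq_top
      rwa [Subgroup.map_sup, Subgroup.subgroupOf_map_subtype, inf_eq_left.2 hYX, ← MonoidHom.range_eq_map,
        Subgroup.range_subtype] at h
    · have h := congrArg (Subgroup.map X.subtype) hD.inf_eq_bot
      rwa [Subgroup.map_inf _ _ _ X.subtype_injective, Subgroup.subgroupOf_map_subtype, inf_eq_left.2 hYX,
        Subgroup.map_bot] at h
  have main : ∀ H : Subgroup G, ¬ H ≤ M.normalCore → ∃ C : Subgroup G, H ⊔ C = ⊤ ∧ H ⊓ C = ⊥ := by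
    intro H hH
    obtain ⟨x, hx, hxN⟩ := SetLike.not_le_iff_exists.1 hH
    have hxN' : ¬ ∀ b : G, b * x * b⁻¹ ∈ M := hxN
    push Not at hxN'
    obtain ⟨g, hg⟩ := hxN'
    refine CfsgLib.Geo.exists_complement_of_conj H g
      (CfsgLib.Geo.exists_complement_of_interval ⊥ X M bot_le hint huniq _ (fun h => hg ?_) (inf_bot_eq _))
    exact h ⟨x, hx, rfl⟩
  refine ⟨main, ⟨fun A => ?_⟩⟩
  let π := QuotientGroup.mk' M.normalCore
  have hsurj : Function.Surjective π := QuotientGroup.mk'_surjective _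
  by_cases hA : A.comap π ≤ M.normalCore
  · refine ⟨⊤, ?_⟩
    have : A = ⊥ := by
      rw [← Subgroup.map_comap_eq_self_of_surjective hsurj A]
      rw [Subgroup.map_eq_bot_iff, QuotientGroup.ker_mk']
      exact hA
    rw [this]
    exact isCompl_bot_top
  · obtain ⟨C, h1, h2⟩ := main _ hA
    refine ⟨C.map π, IsCompl.of_eq ?_ ?_⟩
    · rw [Subgroup.eq_bot_iff_forall]
      rintro q ⟨hq1, c, hc, rfl⟩
      have : c ∈ A.comap π ⊓ C := ⟨hq1, hc⟩
      rw [h2, Subgroup.mem_bot] at this
      rw [this, map_one]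
    · rw [← Subgroup.map_comap_eq_self_of_surjective hsurj A, ← Subgroup.map_sup, h1,
        Subgroup.map_top_of_surjective _ hsurj]

end Cfsg.Agent.S5902
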