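import Cfsg.Statements.S5903
import Cfsg.Agent.Lib.Geo.Complement

set_option autoImplicit false
open Cfsg

namespace Cfsg.Agent.S5903

/-- Let G be a finite simple group, X a subgroup lying in exactly one maximal subgroup M of G, and N a subgroup of prime order with N ≤ X that is central in M. If the subgroup lattice of X/N is complemented, then the subgroup lattice of G is complemented. -/
theorem result {G : Type*} [Group G] [Finite G] [IsSimpleGroup G] (X M N : Subgroup G)
    (hM : IsCoatom M) (hXM : X ≤ M) (huniq : ∀ M' : Subgroup G, IsCoatom M' → X ≤ M' → M' = M)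
    (hNX : N ≤ X) (hN : (Nat.card N).Prime) (hcen : ∀ n ∈ N, ∀ m ∈ M, m * n = n * m)
    [(N.subgroupOf X).Normal] (hK : ComplementedLattice (Subgroup (X ⧸ N.subgroupOf X))) :
    ComplementedLattice (Subgroup G) := by
  classical
  have hN1 : N ≠ ⊥ := fun h => by rw [h, Subgroup.card_bot] at hN; exact Nat.not_prime_one hN
  refine ⟨fun H => ?_⟩
  rcases eq_or_ne H ⊥ with rfl | hH0
  · exact ⟨⊤, isCompl_bot_top⟩
  rcases eq_or_ne H ⊤ with rfl | hH1
  · exact ⟨⊥, isCompl_top_bot⟩
  suffices hg : ∃ g : G, ¬ H.map (MulAut.conj g).toMonoidHom ≤ M ∧ ¬ N ≤ H.map (MulAut.conj g).toMonoidHom by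
    obtain ⟨g, hg1, hg2⟩ := hg
    obtain ⟨C, h1, h2⟩ := CfsgLib.Geo.exists_complement_of_conj H g
      (CfsgLib.Geo.exists_complement_of_interval N X M hNX (CfsgLib.Geo.interval_of_quotient N X hNX hK) huniq _ hg1 (by
        haveI : Fact (Nat.card N).Prime := ⟨hN⟩
        rcases ((H.map (MulAut.conj g).toMonoidHom).subgroupOf N).eq_bot_or_eq_top_of_prime_card with h | h
        · exact disjoint_iff.1 (Subgroup.subgroupOf_eq_bot.1 h)
        · exact absurd (Subgroup.subgroupOf_eq_top.1 h) hg2))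
    exact ⟨C, IsCompl.of_eq h2 h1⟩
  by_contra! hall
  let A : Subgroup G := Subgroup.closure {y | ∃ g : G, ∃ n ∈ N, y = g⁻¹ * n * g ∧ N ≤ H.map (MulAut.conj g).toMonoidHom}
  have hAH : A ≤ H := by
    rw [Subgroup.closure_le]
    rintro y ⟨g, n, hn, rfl, hg⟩
    obtain ⟨h, hh, e⟩ := hg hn
    have : g⁻¹ * n * g = h := by rw [← e]; simp [mul_assoc]
    rw [SetLike.mem_coe, this]
    exact hh
  have hcomm : ∀ g : G, ∀ n ∈ N, (g⁻¹ * n * g) ∈ A ∨ ∀ a ∈ A, a * (g⁻¹ * n * g) = (g⁻¹ * n * g) * a := by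
    intro g n hn
    by_cases hg : N ≤ H.map (MulAut.conj g).toMonoidHom
    · exact Or.inl (Subgroup.subset_closure ⟨g, n, hn, rfl, hg⟩)
    · refine Or.inr fun a ha => ?_
      have hgM : H.map (MulAut.conj g).toMonoidHom ≤ M := by
        by_contra h
        exact hg (hall g h)
      have := hcen n hn _ (hgM ⟨a, hAH ha, rfl⟩)
      simp only [MulEquiv.coe_toMonoidHom, MulAut.conj_apply] at this
      have e := congrArg (fun t => g⁻¹ * t * g) this
      simpa [mul_assoc] using e
  have hnc : Subgroup.normalClosure (N : Set G) = ⊤ := by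
    rcases (Subgroup.normalClosure_normal (s := (N : Set G))).eq_bot_or_eq_top with h | h
    · exact absurd (le_bot_iff.1 (Subgroup.le_normalClosure.trans h.le)) hN1
    · exact h
  have htop : A ⊔ Subgroup.centralizer (A : Set G) = ⊤ := by
    rw [eq_top_iff, ← hnc, Subgroup.normalClosure, Subgroup.closure_le]
    intro y hy
    obtain ⟨n, hn, hy⟩ := Group.mem_conjugatesOfSet_iff.1 hy
    obtain ⟨c, rfl⟩ := isConj_iff.1 hy
    have hc := hcomm c⁻¹ n hn
    rw [inv_inv] at hc
    rcases hc with h | h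
    · exact Subgroup.mem_sup_left h
    · exact Subgroup.mem_sup_right (Subgroup.mem_centralizer_iff.2 fun a ha => h a ha)
  have hAn : A.Normal := by
    rw [← Subgroup.normalizer_eq_top_iff, eq_top_iff, ← htop]
    exact sup_le Subgroup.le_normalizer (Subgroup.centralizer_le_normalizer _)
  rcases hAn.eq_bot_or_eq_top with hA | hA
  · -- every conjugate of H lies in M, so M contains the normal closure of H
    have hall' : ∀ g : G, H.map (MulAut.conj g).toMonoidHom ≤ M := by
      intro g
      by_contra h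
      obtain ⟨⟨n, hn⟩, hn'⟩ := Subgroup.ne_bot_iff_exists_ne_one.1 hN1
      have hn1 : n ≠ 1 := fun e => hn' (Subtype.ext e)
      have : g⁻¹ * n * g ∈ A := Subgroup.subset_closure ⟨g, n, hn, rfl, hall g h⟩
      rw [hA, Subgroup.mem_bot] at this
      exact hn1 (by simpa [mul_assoc] using congrArg (fun t => g * t * g⁻¹) this)
    have hH' : H ≤ M.normalCore := fun h hh b => hall' b ⟨h, hh, rfl⟩
    rcases M.normalCore_normal.eq_bot_or_eq_top with hc | hc
    · exact hH0 (le_bot_iff.1 (hc ▸ hH'))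
    · exact hM.1 (eq_top_iff.2 (hc ▸ M.normalCore_le))
  · exact hH1 (eq_top_iff.2 (hA ▸ hAH))

end Cfsg.Agent.S5903
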