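import Cfsg.Statements.S5904


set_option autoImplicit false
open scoped Pointwise
open Cfsg

namespace Cfsg.Agent.S5904

open scoped Pointwise

/-- The stabiliser of the unordered pair consisting of a set and its complement. -/
def pairStab {Ω : Type*} (O : Set Ω) : Subgroup (Equiv.Perm Ω) where
  carrier := {g | g • O = O ∨ g • O = Oᶜ}
  one_mem' := Or.inl (one_smul _ _)
  mul_mem' := by
    intro g h hg hh
    have hc : ∀ (g : Equiv.Perm Ω) (S : Set Ω), g • Sᶜ = (g • S)ᶜ := fun g S => Set.smul_set_compl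
    rcases hg with hg | hg <;> rcases hh with hh | hh <;>
      simp [mul_smul, hg, hh, hc]
  inv_mem' := by
    intro g hg
    have hc : ∀ (g : Equiv.Perm Ω) (S : Set Ω), g • Sᶜ = (g • S)ᶜ := fun g S => Set.smul_set_compl
    rcases hg with hg | hg
    · exact Or.inl (inv_smul_eq_iff.2 hg.symm)
    · refine Or.inr (inv_smul_eq_iff.2 ?_)
      rw [hc, hg, compl_compl]

/-- Let Ω be a finite set with more than two elements and O ⊆ Ω a subset with exactly as many elements as its complement. Then the setwise stabilizer of O in the symmetric group on Ω is not a maximal subgroup (it is properly contained in the stabilizer of the partition {O, Ω ∖ O}, which is proper). -/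
theorem result {Ω : Type*} [Fintype Ω] [DecidableEq Ω] (hΩ : 2 < Fintype.card Ω)
    (O : Set Ω) (hO : Nat.card O = Nat.card ↥Oᶜ) :
    ¬ IsCoatom (MulAction.stabilizer (Equiv.Perm Ω) O) := by
  classical
  intro hmax
  have hcard : Nat.card O + Nat.card ↥Oᶜ = Fintype.card Ω := by
    rw [← Nat.card_eq_fintype_card, ← Nat.card_sum]
    exact Nat.card_congr (Equiv.Set.sumCompl O)
  have hO2 : 2 ≤ Nat.card O := by omega
  obtain ⟨e⟩ : Nonempty (↥O ≃ ↥Oᶜ) := ⟨(Nat.equivFinOfCardPos (by omega)).trans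
    ((finCongr hO).trans (Nat.equivFinOfCardPos (by omega)).symm)⟩
  let t : Equiv.Perm Ω := (Equiv.Set.sumCompl O).symm.trans (((Equiv.sumCongr e e.symm).trans (Equiv.sumComm _ _)).trans
    (Equiv.Set.sumCompl O))
  have ht : t • O = Oᶜ := by
    ext x
    rw [Set.mem_smul_set]
    constructor
    · rintro ⟨y, hy, rfl⟩
      show t y ∈ Oᶜ
      simp only [t, Equiv.trans_apply, Equiv.Set.sumCompl_symm_apply_of_mem hy]
      simp [(e ⟨y, hy⟩).2]
    · intro hx
      refine ⟨(e.symm ⟨x, hx⟩ : O), (e.symm ⟨x, hx⟩).2, ?_⟩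
      show t _ = x
      simp only [t, Equiv.trans_apply, Equiv.Set.sumCompl_symm_apply_of_mem (e.symm ⟨x, hx⟩).2]
      simp
  have h1 : MulAction.stabilizer (Equiv.Perm Ω) O ≤ pairStab O := fun g hg => Or.inl hg
  rcases hmax.le_iff.1 h1 with h | h
  · -- the pair stabiliser is proper
    have hne : O.Nonempty := by
      rw [← Set.nonempty_coe_sort]
      exact (Nat.card_pos_iff.1 (by omega : 0 < Nat.card O)).1
    obtain ⟨a, ha⟩ := hne
    obtain ⟨b, hb⟩ : (Oᶜ).Nonempty := ⟨_, (e ⟨a, ha⟩).2⟩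
    obtain ⟨⟨c, hc⟩, hca⟩ : ∃ c : O, c ≠ ⟨a, ha⟩ := by
      haveI : Nontrivial O := Finite.one_lt_card_iff_nontrivial.1 (by omega)
      exact exists_ne _
    have hca' : c ≠ a := fun hh => hca (Subtype.ext hh)
    have hs := h.ge (Subgroup.mem_top (Equiv.swap a b))
    have hmemb : b ∈ Equiv.swap a b • O := ⟨a, ha, Equiv.swap_apply_left a b⟩
    have hmemc : c ∈ Equiv.swap a b • O :=
      ⟨c, hc, Equiv.swap_apply_of_ne_of_ne hca' (ne_of_mem_of_not_mem hc hb)⟩
    rcases hs with hs | hs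
    · exact hb (hs ▸ hmemb)
    · exact (hs ▸ hmemc : c ∈ Oᶜ) hc
  · have h2 : t • O = O := MulAction.mem_stabilizer_iff.1 (h.le (Or.inr ht : t ∈ pairStab O))
    rw [ht] at h2
    obtain ⟨x, hx⟩ : O.Nonempty := by
      rw [← Set.nonempty_coe_sort]
      exact (Nat.card_pos_iff.1 (by omega : 0 < Nat.card O)).1
    exact (h2.ge hx : x ∈ Oᶜ) hx

end Cfsg.Agent.S5904
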