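import Cfsg.Statements.S5908
import Cfsg.Agent.Lib.Classical.Unitary.ThreeTwo

set_option autoImplicit false
open Cfsg

namespace Cfsg.Agent.S5908

/-- The subgroup lattice of PSU₃(2) (the solvable group of order 72, realised over the field with 4 elements) is not complemented: some subgroup H has no subgroup X with H ⊔ X = ⊤ and H ⊓ X = ⊥. -/
theorem result {F : Type*} [Field F] [Fintype F] (hF : Fintype.card F = 4) :
    ¬ ComplementedLattice (Subgroup (Cfsg.PSU 3 F 2)) := by
  obtain ⟨hcard, N, hN, hcN, -, ⟨e⟩⟩ := CfsgLib.Classical.Herm.psu_three_two hF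
  set G := Cfsg.PSU 3 F 2
  have : Finite G := Nat.finite_of_card_ne_zero (by rw [hcard]; norm_num)
  let φ : G →* QuaternionGroup 2 := e.toMonoidHom.comp (QuotientGroup.mk' N)
  have hφ : Function.Surjective φ := e.surjective.comp (QuotientGroup.mk'_surjective N)
  let H : Subgroup G := (Subgroup.zpowers (QuaternionGroup.a 2 : QuaternionGroup 2)).comap φ
  intro hc
  obtain ⟨X, hX⟩ := hc.exists_isCompl H
  have hXbot : X = ⊥ := by
    by_contra hne
    obtain ⟨p, hp, hpX⟩ := Nat.exists_prime_and_dvd (fun h => hne (Subgroup.card_eq_one.1 h) : Nat.card X ≠ 1)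
    haveI := Fact.mk hp
    obtain ⟨x, hx⟩ := exists_prime_orderOf_dvd_card' p hpX
    have hxH : (x : G) ∈ H := by
      have hp72 : p ∣ 72 := hcard ▸ hpX.trans (Subgroup.card_subgroup_dvd_card X)
      have h23 : p = 2 ∨ p = 3 := by
        rcases (Nat.Prime.dvd_mul hp).1 (show p ∣ 2 ^ 3 * 3 ^ 2 from hp72) with h | h
        · exact Or.inl ((Nat.prime_dvd_prime_iff_eq hp Nat.prime_two).1 (hp.dvd_of_dvd_pow h))
        · exact Or.inr ((Nat.prime_dvd_prime_iff_eq hp Nat.prime_three).1 (hp.dvd_of_dvd_pow h))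
      have h1 : φ (x : G) ^ p = 1 := by
        rw [← map_pow, ← SubgroupClass.coe_pow, ← hx, pow_orderOf_eq_one, OneMemClass.coe_one, map_one]
      have key2 : ∀ g : QuaternionGroup 2, g ^ 2 = 1 → g = 1 ∨ g = .a 2 := by decide
      have key3 : ∀ g : QuaternionGroup 2, g ^ 3 = 1 → g = 1 := by decide
      show φ (x : G) ∈ Subgroup.zpowers _
      rcases h23 with rfl | rfl
      · rcases key2 _ h1 with h | h <;> rw [h]
        · exact one_mem _
        · exact Subgroup.mem_zpowers _
      · rw [key3 _ h1]; exact one_mem _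
    have : (x : G) ∈ H ⊓ X := ⟨hxH, x.2⟩
    rw [hX.inf_eq_bot, Subgroup.mem_bot, OneMemClass.coe_eq_one] at this
    rw [this, orderOf_one] at hx
    exact hp.ne_one hx.symm
  have htop := hX.sup_eq_top
  rw [hXbot, sup_bot_eq] at htop
  obtain ⟨g, hg⟩ := hφ (.a 1)
  have : φ g ∈ Subgroup.zpowers (QuaternionGroup.a 2 : QuaternionGroup 2) :=
    show g ∈ H from htop ▸ Subgroup.mem_top g
  rw [hg] at this
  obtain ⟨k, hk⟩ := Subgroup.mem_zpowers_iff.1 this
  have h2 : (QuaternionGroup.a 2 : QuaternionGroup 2) ^ (2 : ℤ) = 1 := by decide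
  have h3 : ((QuaternionGroup.a 2 : QuaternionGroup 2) ^ k) ^ (2 : ℤ) = 1 := by
    rw [← zpow_mul, Int.mul_comm k 2, zpow_mul, h2, one_zpow]
  rw [hk] at h3
  exact absurd h3 (by decide)

end Cfsg.Agent.S5908
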