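import Cfsg.Statements.S5914
import Mathlib

set_option autoImplicit false
open Cfsg

namespace Cfsg.Agent.S5914

/-- A non-trivial characteristic subgroup of a power of a simple group is everything. -/
theorem char_pow_eq_top {S : Type*} [Group S] [IsSimpleGroup S] {n : ℕ} (H : Subgroup (Fin n → S))
    (hH : H.Characteristic) (h0 : H ≠ ⊥) : H = ⊤ := by
  classical
  have hchar : ∀ (φ : (Fin n → S) ≃* (Fin n → S)) (x : Fin n → S), x ∈ H → φ x ∈ H := by
    intro φ x hx
    have h1 := Subgroup.characteristic_iff_map_eq.1 hH φ
    rw [← h1]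
    exact ⟨x, hx, rfl⟩
  have hnormal : H.Normal := inferInstance
  obtain ⟨x, hx, hx1⟩ : ∃ x ∈ H, x ≠ 1 := (Subgroup.bot_or_exists_ne_one H).resolve_left h0
  obtain ⟨i, hi⟩ : ∃ i, x i ≠ 1 := by
    by_contra! h
    exact hx1 (funext h)
  obtain ⟨s, hs, hs1⟩ : ∃ s : S, Pi.mulSingle i s ∈ H ∧ s ≠ 1 := by
    by_cases hc : ∃ y : S, x i * y ≠ y * x i
    · obtain ⟨y, hy⟩ := hc
      refine ⟨x i * y * (x i)⁻¹ * y⁻¹, ?_, fun h => hy ?_⟩
      · have h1 : x * (Pi.mulSingle i y * x⁻¹ * (Pi.mulSingle i y)⁻¹) ∈ H :=
          H.mul_mem hx (hnormal.conj_mem _ (H.inv_mem hx) _)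
        convert h1 using 1
        funext j
        rcases eq_or_ne j i with rfl | hji
        · simp [mul_assoc]
        · simp [hji]
      · rw [mul_inv_eq_one, mul_inv_eq_iff_eq_mul] at h
        exact h
    · push Not at hc
      have hZ : Subgroup.center S = ⊤ := by
        refine (IsSimpleGroup.eq_bot_or_eq_top_of_normal _ inferInstance).resolve_left fun h => hi ?_
        rw [← Subgroup.mem_bot, ← h, Subgroup.mem_center_iff]
        exact fun y => (hc y).symm
      have hcomm : ∀ a b : S, a * b = b * a := fun a b => by
        have hb : b ∈ Subgroup.center S := hZ ▸ Subgroup.mem_top b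
        exact Subgroup.mem_center_iff.1 hb a
      letI : CommGroup S := { ‹Group S› with mul_comm := hcomm }
      have hz : ∀ a : S, a ∈ Subgroup.zpowers (x i) := fun a => by
        have htop : Subgroup.zpowers (x i) = ⊤ :=
          (IsSimpleGroup.eq_bot_or_eq_top_of_normal _ inferInstance).resolve_left
            (fun h => hi (Subgroup.zpowers_eq_bot.1 h))
        exact htop ▸ Subgroup.mem_top a
      have hdvd : ∀ a : S, orderOf a ∣ orderOf (x i) := fun a => by
        rw [orderOf_eq_card_of_forall_mem_zpowers hz]
        exact orderOf_dvd_natCard a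
      let f : Fin n → S →* S := fun j =>
        if j = i then 1 else monoidHomOfForallMemZpowers hz (hdvd (x j)⁻¹)
      have hfi : f i = 1 := if_pos rfl
      let φ : (Fin n → S) ≃* (Fin n → S) :=
        { toFun := fun z j => z j * f j (z i)
          invFun := fun z j => z j * (f j (z i))⁻¹
          left_inv := fun z => funext fun j => by simp [hfi]
          right_inv := fun z => funext fun j => by simp [hfi]
          map_mul' := fun z w => funext fun j => by
            simp only [Pi.mul_apply, map_mul]
            exact mul_mul_mul_comm _ _ _ _ }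
      refine ⟨x i, ?_, hi⟩
      convert hchar φ x hx using 1
      funext j
      rcases eq_or_ne j i with rfl | hji
      · simp [φ, hfi]
      · simp [φ, f, hji, monoidHomOfForallMemZpowers_apply_gen]
  let T : Subgroup S := H.comap (MonoidHom.mulSingle (fun _ : Fin n => S) i)
  have hT : T = ⊤ := (IsSimpleGroup.eq_bot_or_eq_top_of_normal T inferInstance).resolve_left fun h => hs1 (by
    rw [← Subgroup.mem_bot, ← h]
    exact hs)
  have hall : ∀ (j : Fin n) (a : S), Pi.mulSingle j a ∈ H := by
    intro j a
    have ha : Pi.mulSingle i a ∈ H := (hT.ge (Subgroup.mem_top a) : a ∈ T)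
    let φ : (Fin n → S) ≃* (Fin n → S) :=
      { toEquiv := Equiv.arrowCongr (Equiv.swap i j) (Equiv.refl S)
        map_mul' := fun z w => rfl }
    convert hchar φ _ ha using 1
    funext k
    show _ = Pi.mulSingle (M := fun _ => S) i a ((Equiv.swap i j).symm k)
    rw [Equiv.symm_swap]
    rcases eq_or_ne k j with rfl | hk
    · simp
    · rw [Pi.mulSingle_eq_of_ne hk, Pi.mulSingle_eq_of_ne]
      intro h
      exact hk (by rw [Equiv.swap_apply_eq_iff, Equiv.swap_apply_left] at h; exact h)
  rw [eq_top_iff]
  intro z _
  exact Subgroup.pi_mem_of_mulSingle_mem z fun j => hall j (z j)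

/-- A non-trivial finite group G is characteristically simple (its only characteristic subgroups are 1 and G) if and only if G is isomorphic to a direct power S^n (n ≥ 1) of some simple group S (possibly cyclic of prime order). -/
theorem result {G : Type*} [Group G] [Finite G] [Nontrivial G] :
    (∀ H : Subgroup G, H.Characteristic → H = ⊥ ∨ H = ⊤) ↔
    ∃ (S : Type) (_ : Group S) (_ : IsSimpleGroup S) (n : ℕ), 1 ≤ n ∧ Nonempty (G ≃* (Fin n → S)) := by
  constructor
  · intro h
    classical
    obtain ⟨N, ⟨hNn, hN0⟩, hmin⟩ := Set.exists_min_image {N : Subgroup G | N.Normal ∧ N ≠ ⊥}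
      (fun N => Nat.card N) (Set.toFinite _) ⟨⊤, inferInstance, top_ne_bot⟩
    have hminimal : ∀ M : Subgroup G, M.Normal → M ≤ N → M = ⊥ ∨ M = N := fun M hM hle => by
      rcases eq_or_ne M ⊥ with h0 | h0
      · exact Or.inl h0
      · exact Or.inr (Subgroup.eq_of_le_of_card_ge hle (hmin M ⟨hM, h0⟩))
    haveI : Nontrivial N := N.nontrivial_iff_ne_bot.2 hN0
    let P : ℕ → Prop := fun k => ∃ f : (Fin k → N) →* G, Function.Injective f ∧ f.range.Normal
    have hbound : ∀ k, P k → k ≤ Nat.card G := by
      rintro k ⟨f, hf, -⟩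
      have h1 := Nat.card_le_card_of_injective f hf
      rw [Nat.card_fun, Nat.card_fin] at h1
      exact (Nat.lt_pow_self Finite.one_lt_card).le.trans h1
    have hP0 : P 0 := ⟨1, fun a b _ => Subsingleton.elim a b, by
      rw [MonoidHom.range_one]
      infer_instance⟩
    have hP : P (Nat.findGreatest P (Nat.card G)) := Nat.findGreatest_spec (Nat.zero_le _) hP0
    set k := Nat.findGreatest P (Nat.card G) with hk
    obtain ⟨f, hf, hfn⟩ := hP
    have hall : ∀ φ : G ≃* G, N.map φ.toMonoidHom ≤ f.range := by
      intro φ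
      by_contra hle
      have hN'n : (N.map φ.toMonoidHom).Normal := hNn.map _ φ.surjective
      have hdisj : Disjoint f.range (N.map φ.toMonoidHom) := by
        rw [disjoint_iff]
        by_contra h0
        apply hle
        have hcard := hmin _ ⟨inferInstance, h0⟩
        rw [Nat.card_congr (Subgroup.equivMapOfInjective N φ.toMonoidHom φ.injective).toEquiv] at hcard
        exact le_of_eq_of_le (Subgroup.eq_of_le_of_card_ge inf_le_right hcard).symm inf_le_left
      let g : N →* G := φ.toMonoidHom.comp N.subtype
      have hg : g.range = N.map φ.toMonoidHom := by rw [MonoidHom.range_comp, Subgroup.range_subtype]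
      have hcomm : ∀ a b, Commute (f a) (g b) := fun a b =>
        Subgroup.commute_of_normal_of_disjoint _ _ hfn hN'n hdisj _ _ ⟨a, rfl⟩ (hg ▸ ⟨b, rfl⟩)
      let π : (Fin (k + 1) → N) →* (Fin k → N) × N :=
        { toFun := fun z => (fun j => z j.castSucc, z (Fin.last k))
          map_one' := rfl
          map_mul' := fun _ _ => rfl }
      let f' : (Fin (k + 1) → N) →* G := (f.noncommCoprod g hcomm).comp π
      have hπ : Function.Injective π := fun z w hzw => by
        obtain ⟨h1, h2⟩ := Prod.ext_iff.1 hzw
        funext j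
        exact Fin.lastCases h2 (fun j => congrFun h1 j) j
      have hπs : Function.Surjective π := fun z =>
        ⟨Fin.snoc z.1 z.2, Prod.ext (funext fun j => Fin.snoc_castSucc (α := fun _ => N) ..)
          (Fin.snoc_last (α := fun _ => N) ..)⟩
      have hPk : P (k + 1) := by
        refine ⟨f', ?_, ?_⟩
        · have h1 : Function.Injective (f.noncommCoprod g hcomm) := by
            rw [MonoidHom.noncommCoprod_injective]
            exact ⟨hf, φ.injective.comp Subtype.val_injective, hg ▸ hdisj⟩
          exact h1.comp hπ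
        · rw [MonoidHom.range_comp, MonoidHom.range_eq_top.2 hπs, ← MonoidHom.range_eq_map,
            MonoidHom.noncommCoprod_range, hg]
          infer_instance
      have := Nat.le_findGreatest (hbound _ hPk) hPk
      omega
    have htop : f.range = ⊤ := by
      let C := ⨆ φ : G ≃* G, N.map φ.toMonoidHom
      have hC : C.Characteristic := Subgroup.characteristic_iff_map_le.2 fun ψ => by
        rw [Subgroup.map_iSup]
        refine iSup_le fun φ => ?_
        rw [Subgroup.map_map]
        exact le_iSup (fun φ : G ≃* G => N.map φ.toMonoidHom) (φ.trans ψ)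
      have hC1 : N ≤ C := le_trans (by simp) (le_iSup (fun φ : G ≃* G => N.map φ.toMonoidHom) (MulEquiv.refl G))
      rcases h C hC with h1 | h1
      · exact absurd (le_bot_iff.1 (h1 ▸ hC1)) hN0
      · exact top_le_iff.1 (h1 ▸ iSup_le hall)
    let e : G ≃* (Fin k → N) := (MulEquiv.ofBijective f ⟨hf, MonoidHom.range_eq_top.1 htop⟩).symm
    have hk1 : 1 ≤ k := by
      rcases Nat.eq_zero_or_pos k with h0 | h0
      · haveI : IsEmpty (Fin k) := by rw [h0]; infer_instance
        exact absurd (e.toEquiv.subsingleton_congr.2 inferInstance) (not_subsingleton G)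
      · exact h0
    haveI : IsSimpleGroup N := by
      refine ⟨fun L hL => ?_⟩
      rcases eq_or_ne L ⊥ with h0 | h0
      · exact Or.inl h0
      · right
        let i : Fin k := ⟨0, hk1⟩
        let L' : Subgroup (Fin k → N) := L.map (MonoidHom.mulSingle (fun _ : Fin k => N) i)
        have hL' : L'.Normal := by
          refine ⟨fun z hz y => ?_⟩
          obtain ⟨l, hl, rfl⟩ := hz
          refine ⟨y i * l * (y i)⁻¹, hL.conj_mem l hl _, ?_⟩
          funext j
          rcases eq_or_ne j i with rfl | hji
          · simp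
          · simp [hji]
        have hcard : Nat.card (L'.map e.symm.toMonoidHom) = Nat.card L := by
          rw [← Nat.card_congr (Subgroup.equivMapOfInjective L' e.symm.toMonoidHom e.symm.injective).toEquiv,
            ← Nat.card_congr (Subgroup.equivMapOfInjective L _ (Pi.mulSingle_injective (M := fun _ : Fin k => N) i)).toEquiv]
        have hL'0 : L'.map e.symm.toMonoidHom ≠ ⊥ := by
          intro h1
          rw [h1, Subgroup.card_bot] at hcard
          exact h0 (Subgroup.card_eq_one.1 hcard.symm)
        have h2 := hmin _ ⟨hL'.map _ e.symm.surjective, hL'0⟩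
        exact Subgroup.eq_top_of_card_eq L (le_antisymm (Subgroup.card_le_card_group L) (h2.trans hcard.le))
    let eN : N ≃ {_i : Fin (Nat.card N) // True} :=
      (Finite.equivFin N).trans (Equiv.subtypeUnivEquiv fun _ => trivial).symm
    letI : Group {_i : Fin (Nat.card N) // True} := eN.symm.group
    let eS : N ≃* {_i : Fin (Nat.card N) // True} := (Equiv.mulEquiv eN.symm).symm
    exact ⟨{_i : Fin (Nat.card N) // True}, inferInstance, MulEquiv.isSimpleGroup eS.symm, k, hk1,
      ⟨e.trans (MulEquiv.arrowCongr (Equiv.refl _) eS)⟩⟩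
  · rintro ⟨S, _, _, n, -, ⟨e⟩⟩ H hH
    rcases eq_or_ne H ⊥ with h0 | h0
    · exact Or.inl h0
    · right
      have hc : (H.map e.toMonoidHom).Characteristic := by
        refine Subgroup.characteristic_iff_map_le.2 fun φ => ?_
        rintro _ ⟨_, ⟨x, hx, rfl⟩, rfl⟩
        refine ⟨(e.trans (φ.trans e.symm)) x, ?_, by simp⟩
        rw [← Subgroup.characteristic_iff_map_eq.1 hH (e.trans (φ.trans e.symm))]
        exact ⟨x, hx, rfl⟩
      have h1 := char_pow_eq_top (H.map e.toMonoidHom) hc
        (fun h => h0 ((Subgroup.map_eq_bot_iff_of_injective H e.injective).1 h))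
      rw [← Subgroup.map_top_of_surjective e.toMonoidHom e.surjective] at h1
      exact Subgroup.map_injective e.injective h1

end Cfsg.Agent.S5914
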