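import Cfsg.Statements.S5943
import Cfsg.Agent.Lib.Classical.Dickson.MaxExistFields

set_option autoImplicit false
open Cfsg

namespace Cfsg.Agent.S5943

/-- Let K and F be finite fields of characteristic 2 with #K = q > 2 and #F = q^r for a prime r. Then PSL_2(F) has a maximal subgroup isomorphic to PSL_2(K) (which equals PGL_2(K) in characteristic 2). -/
theorem result {F K : Type*} [Field F] [Fintype F] [Field K] [Fintype K] (q r : ℕ) (hK : Fintype.card K = q) (hF : Fintype.card F = q ^ r) (hq : Even q) (hq2 : q ≠ 2) (hr : r.Prime) : ∃ H : Subgroup (Matrix.ProjectiveSpecialLinearGroup (Fin 2) F), IsCoatom H ∧ Nonempty (H ≃* Matrix.ProjectiveSpecialLinearGroup (Fin 2) K) := by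
  refine CfsgLib.Classical.Dickson.psl_subfield_maximal hK hF ?_ hr (Or.inr ?_)
  · have := Fintype.one_lt_card (α := K)
    obtain ⟨t, ht⟩ := hq
    omega
  · have h2 : ringChar K = 2 := FiniteField.even_card_iff_char_two.2 (by rw [hK]; exact Nat.even_iff.1 hq)
    have : CharP K 2 := ringChar.eq_iff.1 h2
    exact_mod_cast CharP.cast_eq_zero K 2

end Cfsg.Agent.S5943
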