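import Cfsg.Statements.S5944


set_option autoImplicit false
open Cfsg

namespace Cfsg.Agent.S5944

/-- For n ≠ 4, every proper subgroup of the symmetric group S_n other than the alternating group A_n has index at least n. -/
theorem result (n : ℕ) (hn : n ≠ 4) (H : Subgroup (Equiv.Perm (Fin n))) (hH : H ≠ ⊤) (hA : H ≠ alternatingGroup (Fin n)) : n ≤ H.index := by
  by_contra hlt
  push Not at hlt
  have hk0 : H.index ≠ 0 := Subgroup.index_ne_zero_of_finite
  have hk1 : H.index ≠ 1 := fun h => hH (Subgroup.index_eq_one.1 h)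
  have hn3 : 3 ≤ n := by omega
  rcases eq_or_lt_of_le hn3 with rfl | hn5
  · exact hA (Equiv.Perm.eq_alternatingGroup_of_index_eq_two (by omega))
  have h5 : 5 ≤ Nat.card (Fin n) := by rw [Nat.card_fin]; omega
  have hne : Nontrivial H.normalCore := by
    rw [Subgroup.nontrivial_iff_ne_bot]
    intro hbot
    have hinj : Function.Injective (MulAction.toPermHom (Equiv.Perm (Fin n)) (Equiv.Perm (Fin n) ⧸ H)) := by
      rw [← MonoidHom.ker_eq_bot_iff, ← Subgroup.normalCore_eq_ker, hbot]
    have h := Nat.card_le_card_of_injective _ hinj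
    rw [Nat.card_perm, Nat.card_perm, Nat.card_fin] at h
    exact absurd h (not_le.2 ((Nat.factorial_lt (Nat.pos_of_ne_zero hk0)).2 hlt))
  have hle : alternatingGroup (Fin n) ≤ H :=
    (Equiv.Perm.alternatingGroup_le_of_normal h5 hne).trans H.normalCore_le
  haveI : Nontrivial (Fin n) := Fin.nontrivial_iff_two_le.2 (by omega)
  have h2 := Subgroup.index_dvd_of_le hle
  rw [alternatingGroup.index_eq_two] at h2
  rcases (Nat.dvd_prime Nat.prime_two).1 h2 with h | h
  · exact hk1 h
  · exact hA (Equiv.Perm.eq_alternatingGroup_of_index_eq_two h)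

end Cfsg.Agent.S5944
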