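import Cfsg.Statements.S5952
import Mathlib

set_option autoImplicit false
open Cfsg

namespace Cfsg.Agent.S5952

/-- Which dimensions of invariant subspaces a semisimple linear map has. Let `V` be a finite-dimensional vector space over a field `F` and `f` an invertible semisimple linear map of `V`. Suppose `V` is the internal direct sum of the fixed space `C_V(f)` (the eigenspace for 1) and subspaces `U_1, …, U_s`, each `f`-invariant of dimension `a ≥ 1` on which `f` acts irreducibly (no `f`-invariant subspaces other than 0 and `U_j`). Let `0 < m < dim V` and `ℓ = m mod a`. Then `f` leaves some `m`-dimensional subspace invariant if and only if `dim C_V(f) ≥ m`, or `a ≤ m` and `dim C_V(f) ≥ ℓ`. -/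
theorem result {F V : Type*} [Field F] [AddCommGroup V] [Module F V]
    [FiniteDimensional F V] (f : V →ₗ[F] V) (hf : Function.Bijective f) (hss : Module.End.IsSemisimple f)
    {s a : ℕ} (ha : 1 ≤ a) (U : Fin s → Submodule F V)
    (hUinv : ∀ j, (U j).map f ≤ U j) (hUdim : ∀ j, Module.finrank F ↥(U j) = a)
    (hUirr : ∀ j, ∀ W : Submodule F V, W ≤ U j → W.map f ≤ W → W = ⊥ ∨ W = U j)
    (hdec : DirectSum.IsInternal (fun o : Option (Fin s) => o.elim (Module.End.eigenspace f 1) U))
    (m : ℕ) (hm : 0 < m) (hmV : m < Module.finrank F V) :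
    (∃ W : Submodule F V, Module.finrank F ↥W = m ∧ W.map f ≤ W) ↔
    (m ≤ Module.finrank F ↥(Module.End.eigenspace f 1) ∨
      (a ≤ m ∧ m % a ≤ Module.finrank F ↥(Module.End.eigenspace f 1))) := by
  classical
  set A : Option (Fin s) → Submodule F V := fun o => o.elim (Module.End.eigenspace f 1) U with hA
  set C := Module.End.eigenspace f 1 with hC
  have hCinv : C.map f ≤ C := by
    rintro _ ⟨x, hx, rfl⟩
    have hfx : f x = x := by simpa [hC, Module.End.mem_eigenspace_iff] using hx
    rwa [hfx]
  have hindep : iSupIndep A := hdec.submodule_iSupIndep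
  have hdisj : ∀ (S : Finset (Fin s)) (j : Fin s), j ∉ S → Disjoint (C ⊔ S.sup U) (U j) := by
    intro S j hj
    refine (Disjoint.mono_right ?_ (hindep (some j))).symm
    refine sup_le (le_iSup₂_of_le none (by simp) le_rfl) (Finset.sup_le fun i hi => ?_)
    exact le_iSup₂_of_le (some i) (fun h => hj (Option.some.inj h ▸ hi)) le_rfl
  have hsupinv : ∀ S : Finset (Fin s), (C ⊔ S.sup U).map f ≤ C ⊔ S.sup U := by
    intro S
    rw [Submodule.map_sup]
    refine sup_le (hCinv.trans le_sup_left) ?_
    induction S using Finset.induction_on with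
    | empty => simp
    | @insert i S _ ih =>
      rw [Finset.sup_insert, Submodule.map_sup]
      exact sup_le ((hUinv i).trans (le_sup_left.trans le_sup_right))
        (ih.trans (sup_le le_sup_left (le_sup_right.trans le_sup_right)))
  constructor
  · rintro ⟨W, hWm, hWf⟩
    have key : ∀ (S : Finset (Fin s)) (X : Submodule F V), X.map f ≤ X → X ≤ C ⊔ S.sup U →
        ∃ k, Module.finrank F X = Module.finrank F ↥(X ⊓ C) + k * a := by
      intro S
      induction S using Finset.induction_on with
      | empty =>
        intro X _ hX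
        refine ⟨0, ?_⟩
        rw [Finset.sup_empty, sup_bot_eq] at hX
        rw [inf_eq_left.2 hX, zero_mul, add_zero]
      | @insert j S hj ih =>
        intro X hXf hX
        set Y := C ⊔ S.sup U with hY
        obtain ⟨k, hk⟩ := ih (X ⊓ Y) ((Submodule.map_inf_le f).trans (inf_le_inf hXf (hsupinv S))) inf_le_right
        rw [inf_assoc, inf_eq_right.2 (le_sup_left : C ≤ Y)] at hk
        have hXY : X ⊔ Y = Y ⊔ (X ⊔ Y) ⊓ U j := by
          refine le_antisymm ?_ (sup_le le_sup_right inf_le_left)
          intro z hz
          have hle : X ⊔ Y ≤ Y ⊔ U j := by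
            refine sup_le (hX.trans ?_) le_sup_left
            rw [Finset.sup_insert, hY, sup_comm (U j), ← sup_assoc]
          obtain ⟨y, hy, u, hu, rfl⟩ := Submodule.mem_sup.1 (hle hz)
          have hu' : u ∈ X ⊔ Y := by
            simpa using Submodule.sub_mem _ hz (Submodule.mem_sup_right hy)
          exact Submodule.add_mem_sup hy ⟨hu', hu⟩
        have hinv : ((X ⊔ Y) ⊓ U j).map f ≤ (X ⊔ Y) ⊓ U j :=
          (Submodule.map_inf_le f).trans (inf_le_inf (by rw [Submodule.map_sup]; exact sup_le_sup hXf (hsupinv S)) (hUinv j))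
        have hsum := Submodule.finrank_sup_add_finrank_inf_eq X Y
        rcases hUirr j _ inf_le_right hinv with h | h
        · rw [h, sup_bot_eq] at hXY
          rw [hXY] at hsum
          exact ⟨k, by omega⟩
        · rw [h] at hXY
          have h2 := Submodule.finrank_sup_add_finrank_inf_eq Y (U j)
          rw [disjoint_iff.1 (hdisj S j hj), finrank_bot, ← hXY, hUdim] at h2
          exact ⟨k + 1, by rw [Nat.succ_mul]; omega⟩
    have htop : (⊤ : Submodule F V) = C ⊔ (Finset.univ : Finset (Fin s)).sup U := by
      rw [← hdec.submodule_iSup_eq_top, Finset.sup_univ_eq_iSup, iSup_option]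
      rfl
    obtain ⟨k, hk⟩ := key Finset.univ W hWf (htop ▸ le_top)
    rw [hWm] at hk
    have hle := Submodule.finrank_mono (inf_le_right : W ⊓ C ≤ C)
    rcases Nat.eq_zero_or_pos k with rfl | hk0
    · left; omega
    · right
      refine ⟨?_, ?_⟩
      · rw [hk]
        exact le_trans (Nat.le_mul_of_pos_left a hk0) (Nat.le_add_left _ _)
      · rw [hk, Nat.add_mul_mod_self_right]
        exact le_trans (Nat.mod_le _ _) hle
  · have hfin : ∀ S : Finset (Fin s), Module.finrank F ↥(S.sup U) = S.card * a ∧ ∀ W' ≤ C, Disjoint W' (S.sup U) := by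
      intro S
      induction S using Finset.induction_on with
      | empty => exact ⟨by simp, fun W' _ => by simp⟩
      | @insert j S hj ih =>
        have h2 := Submodule.finrank_sup_add_finrank_inf_eq (S.sup U) (U j)
        rw [disjoint_iff.1 ((hdisj S j hj).mono_left le_sup_right), finrank_bot, hUdim, ih.1] at h2
        refine ⟨?_, fun W' hW' => ?_⟩
        · rw [Finset.sup_insert, sup_comm, Finset.card_insert_of_notMem hj, Nat.succ_mul]
          omega
        · rw [Finset.sup_insert, sup_comm]
          exact Disjoint.disjoint_sup_right_of_disjoint_sup_left (ih.2 W' hW')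
            ((hdisj S j hj).mono_left (sup_le_sup_right hW' _))
    have hsub : ∀ d, d ≤ Module.finrank F C → ∀ S : Finset (Fin s),
        ∃ W : Submodule F V, Module.finrank F W = d + S.card * a ∧ W.map f ≤ W := by
      intro d hd S
      obtain ⟨W', hW'C, hW'd⟩ : ∃ W' ≤ C, Module.finrank F W' = d := by
        obtain ⟨W', hW'd⟩ : ∃ W' : Submodule F C, Module.finrank F W' = d := by
          obtain ⟨b⟩ : Nonempty (Module.Basis (Fin (Module.finrank F C)) F C) := ⟨Module.finBasis F C⟩
          refine ⟨Submodule.span F (Set.range fun i : Fin d => b (Fin.castLE hd i)), ?_⟩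
          exact (finrank_span_eq_card (b.linearIndependent.comp _ (Fin.castLE_injective hd))).trans (Fintype.card_fin d)
        exact ⟨W'.map C.subtype, Submodule.map_subtype_le _ _,
          (Submodule.equivMapOfInjective _ C.injective_subtype W').finrank_eq.symm.trans hW'd⟩
      refine ⟨W' ⊔ S.sup U, ?_, ?_⟩
      · have h2 := Submodule.finrank_sup_add_finrank_inf_eq W' (S.sup U)
        rw [disjoint_iff.1 ((hfin S).2 W' hW'C), finrank_bot, (hfin S).1, hW'd] at h2
        omega
      · rw [Submodule.map_sup]
        refine sup_le ?_ ?_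
        · rintro _ ⟨x, hx, rfl⟩
          have hfx : f x = x := by simpa [hC, Module.End.mem_eigenspace_iff] using hW'C hx
          rw [hfx]
          exact Submodule.mem_sup_left hx
        · refine le_trans ?_ le_sup_right
          rw [Submodule.map_le_iff_le_comap]
          exact Finset.sup_le fun i hi x hx => Finset.le_sup (f := U) hi (hUinv i ⟨x, hx, rfl⟩)
    rintro (h | ⟨hma, hmod⟩)
    · obtain ⟨W, hW, hWf⟩ := hsub m h ∅
      exact ⟨W, by simpa using hW, hWf⟩
    · have hV : Module.finrank F V = Module.finrank F C + s * a := by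
        have htop : (⊤ : Submodule F V) = C ⊔ (Finset.univ : Finset (Fin s)).sup U := by
          rw [← hdec.submodule_iSup_eq_top, Finset.sup_univ_eq_iSup, iSup_option]
          rfl
        have h2 := Submodule.finrank_sup_add_finrank_inf_eq C ((Finset.univ : Finset (Fin s)).sup U)
        rw [← htop, disjoint_iff.1 ((hfin Finset.univ).2 C le_rfl), finrank_bot, finrank_top, (hfin Finset.univ).1,
          Finset.card_univ, Fintype.card_fin] at h2
        omega
      have hm' := Nat.div_add_mod m a
      rw [mul_comm] at hm'
      by_cases hq : m / a ≤ s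
      · obtain ⟨S, -, hS⟩ := Finset.exists_subset_card_eq (s := (Finset.univ : Finset (Fin s)))
          (n := m / a) (by simpa using hq)
        obtain ⟨W, hW, hWf⟩ := hsub (m % a) hmod S
        rw [hS] at hW
        exact ⟨W, by omega, hWf⟩
      · have hsa : s * a ≤ m / a * a := Nat.mul_le_mul_right a (by omega)
        obtain ⟨W, hW, hWf⟩ := hsub (m - s * a) (by omega) Finset.univ
        rw [Finset.card_univ, Fintype.card_fin] at hW
        exact ⟨W, by omega, hWf⟩

end Cfsg.Agent.S5952
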