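import Cfsg.Statements.S5953
import Cfsg.Agent.Lib.Geo.Refl.UnitFinal

set_option autoImplicit false
open scoped MatrixGroups
open Cfsg

namespace Cfsg.Agent.S5953

open CfsgLib.Classical CfsgLib.Classical.Herm CfsgLib.Geo.Refl

/-- Elements of prime order of PSU_n(q) with no fixed totally isotropic `m`-space. Here `T = PSU_n(q)` (`n ≥ 3`, `(n, q) ≠ (3, 2)`), realised through the matrices of determinant 1 over the field `F` with `q²` elements preserving the Hermitian form `h(u, v) = Σ u_i v_i^q`; an element of `T` of prime order `r` is such a matrix `x` with `x^r` scalar and `x` not scalar. For `r ≠ p` let `i` be the multiplicative order of `q` modulo `r`, `b = i/2` for `i` even and `b = i` for `i` odd, `c = i, i/2, 2i` according as `i ≡ 0, 2 (mod 4)` or `i` odd, and write `k = n mod c`, `ℓ = m mod b`, `ℓ' = m mod c`, `n' = ⌊n/b⌋`, `m' = ⌊m/b⌋`, `s = (r−1)/b`; `(a)_r` is the `r`-part of `a`. Let `1 ≤ m ≤ n/2` and let `r` be a prime dividing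 the number of totally isotropic `m`-spaces. Then every element of `T` of order `r` fixes a totally isotropic `m`-space if and only if either (i) `r = 2`, `p ≠ 2`, and (`m < n/2` or `(q+1)_2 ≤ (n)_2`); or (ii) `r ≠ p`, `r > 2`, `b ≤ m`, `k ≥ 2ℓ`, and either `i ≢ 2 (mod 4)`, or `i ≡ 2 (mod 4)`, `n' − 2m' ≥ s` and (`i > 2`, or `i = 2` and (`r ∣ m` or `(q+1)_r ≥ (n)_r`)). -/
theorem result {F : Type*} [Field F] [Fintype F] {p : ℕ} [Fact p.Prime] [CharP F p] {q : ℕ} (hq : Fintype.card F = q ^ 2)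
    (n m : ℕ) (hn : 3 ≤ n) (hT : (n, q) ≠ (3, 2)) (hm : 1 ≤ m) (hmn : 2 * m ≤ n)
    (r : ℕ) [Fact r.Prime]
    (hrΩ : r ∣ Nat.card {W : Submodule F (Fin n → F) // Module.finrank F ↥W = m ∧ (∀ u ∈ W, ∀ v ∈ W, Cfsg.hermForm n F q u v = 0)})
    (i b c : ℕ) (hi : i = orderOf (q : ZMod r)) (hb : b = if Even i then i / 2 else i)
    (hc : c = if i % 4 = 0 then i else if i % 4 = 2 then i / 2 else 2 * i) :
    (∀ x : Matrix.SpecialLinearGroup (Fin n) F, x ∈ Cfsg.SU n F q →
      (∃ z : F, ((x ^ r : Matrix.SpecialLinearGroup (Fin n) F) : Matrix (Fin n) (Fin n) F) = z • (1 : Matrix (Fin n) (Fin n) F)) →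
      (∀ z : F, (x : Matrix (Fin n) (Fin n) F) ≠ z • (1 : Matrix (Fin n) (Fin n) F)) →
      ∃ W : Submodule F (Fin n → F), Module.finrank F ↥W = m ∧ (∀ u ∈ W, ∀ v ∈ W, Cfsg.hermForm n F q u v = 0) ∧
        W.map (Matrix.toLin' (x : Matrix (Fin n) (Fin n) F)) ≤ W) ↔
    ((r = 2 ∧ p ≠ 2 ∧ (2 * m < n ∨ padicValNat 2 (q + 1) ≤ padicValNat 2 n)) ∨
     (r ≠ p ∧ 2 < r ∧ b ≤ m ∧ 2 * (m % b) ≤ n % c ∧
       (i % 4 ≠ 2 ∨ (i % 4 = 2 ∧ (r - 1) / b + 2 * (m / b) ≤ n / b ∧
         (2 < i ∨ (i = 2 ∧ (r ∣ m ∨ padicValNat r n ≤ padicValNat r (q + 1)))))))) := by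
  classical
  have hrp : r.Prime := Fact.out
  have hn0 : 0 < n := by omega
  have hP := unit_member_ti_iff (n := n) hq m
  rw [Nat.card_congr (Equiv.subtypeEquivRight hP)] at hrΩ
  have hrne : r ≠ p := by
    rintro rfl
    exact not_dvd_card_ti (unit_isRefl hq) (by rw [finrank_std]; exact hmn) hrΩ
  rw [suFix_iff hq (nd := false) _ hP]
  by_cases hr2 : r = 2
  · subst hr2
    have h2 : (2 : F) ≠ 0 := by
      intro h0
      have h0' : ((2 : ℕ) : F) = 0 := by exact_mod_cast h0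
      rw [CharP.cast_eq_zero_iff F p, Nat.prime_dvd_prime_iff_eq Fact.out Nat.prime_two] at h0'
      exact hrne h0'.symm
    rw [unit_two_ti hq h2 hm hmn]
    exact ⟨fun h => Or.inl ⟨rfl, hrne.symm, h⟩, by rintro (⟨-, -, h⟩ | ⟨-, h, -⟩) <;> first | exact h | omega⟩
  · have hrF : (r : F) ≠ 0 := CfsgLib.Classical.ClassTheory.natCast_prime_ne_zero (p := p) hrp hrne
    have hr0 := unit_cast_ne_zero (r := r) hq hrne
    have hr3 : 2 < r := lt_of_le_of_ne hrp.two_le (Ne.symm hr2)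
    have hb' : orderOf (Nat.card F : ZMod r) = b := by rw [unit_ordq hq hr0 hi, hb]
    obtain ⟨hb0, -, hcard⟩ := ord_facts (F := F) (r := r) hrF
    rw [hb'] at hb0 hcard
    have hs : (r - 1) / b = (CfsgLib.Classical.ClassTheory.cycFactors F r).card := by
      rw [← hcard, Nat.mul_div_cancel _ hb0]
    by_cases hi2 : i = 2
    · have hdiv : r ∣ q + 1 := (unit_two_iff_dvd hr2).1 (hi ▸ hi2)
      have hb1 : b = 1 := by rw [hb, hi2]; simp
      have hc1 : c = 1 := by rw [hc, hi2]; simp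
      rw [unit_torus_ti hq hr2 hdiv hm hmn hrΩ, hb1, hc1]
      simp only [Nat.div_one, Nat.mod_one, mul_zero, le_refl, true_and]
      constructor
      · exact fun ⟨h1, h2⟩ => Or.inr ⟨hrne, hr3, hm, Or.inr ⟨by omega, h1, Or.inr ⟨hi2, h2⟩⟩⟩
      · rintro (⟨h, -⟩ | ⟨-, -, -, h | ⟨-, h1, h | ⟨-, h2⟩⟩⟩)
        · exact absurd h hr2
        · omega
        · omega
        · exact ⟨h1, h2⟩
    · have hcop : Nat.Coprime r (q + 1) :=
        hrp.coprime_iff_not_dvd.2 fun h => hi2 (hi.trans ((unit_two_iff_dvd hr2).2 h))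
      rw [suFix_iff_allFix hq hn0 hcop]
      by_cases h4 : i % 4 = 2
      · have hib : b = i / 2 := by rw [hb, if_pos (Nat.even_iff.2 (by omega))]
        have hcb : c = b := by rw [hc, if_neg (by omega), if_pos h4, hib]
        rw [crit_ti_selfDual (unit_isRefl hq) hr2 hrF (unit_sdReg_of hq hr0 hi h4) (unit_par hq _)
          (by rw [finrank_std]; exact hmn) hrΩ, hb', finrank_std, ← hs, hcb]
        constructor
        · exact fun ⟨h1, h2, h3⟩ => Or.inr ⟨hrne, hr3, h1, h2, Or.inr ⟨h4, h3, Or.inl (by omega)⟩⟩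
        · rintro (⟨h, -⟩ | ⟨-, -, h1, h2, h | ⟨-, h3, -⟩⟩)
          · exact absurd h hr2
          · exact absurd h4 h
          · exact ⟨h1, h2, h3⟩
      · have hcb : c = 2 * b := by
          rw [hc, hb]
          split_ifs with h1 h2 <;> first | omega | (rw [Nat.even_iff] at *; omega)
        rw [crit_ti_gap (unit_isRefl hq) hr2 hrF (unit_gapReg hq hr0 hi hr2 h4)
          (by rw [finrank_std]; exact hmn) hrΩ, hb', finrank_std, hcb]
        constructor
        · exact fun ⟨h1, h2⟩ => Or.inr ⟨hrne, hr3, h1, h2, Or.inl h4⟩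
        · rintro (⟨h, -⟩ | ⟨-, -, h1, h2, -⟩)
          · exact absurd h hr2
          · exact ⟨h1, h2⟩

end Cfsg.Agent.S5953
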