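import Cfsg.Statements.S5954
import Cfsg.Agent.Lib.Geo.Refl.UnitFinal

set_option autoImplicit false
open scoped MatrixGroups
open Cfsg

namespace Cfsg.Agent.S5954

open CfsgLib.Classical CfsgLib.Classical.Herm CfsgLib.Geo.Refl

/-- Elements of prime order of PSU_n(q) with no fixed nondegenerate `m`-space. Here `T = PSU_n(q)` (`n ≥ 3`, `(n, q) ≠ (3, 2)`), realised through the matrices of determinant 1 over the field `F` with `q²` elements preserving the Hermitian form `h(u, v) = Σ u_i v_i^q`; an element of `T` of prime order `r` is such a matrix `x` with `x^r` scalar and `x` not scalar. For `r ≠ p` let `i` be the multiplicative order of `q` modulo `r`, `b = i/2` for `i` even and `b = i` for `i` odd, `c = i, i/2, 2i` according as `i ≡ 0, 2 (mod 4)` or `i` odd, and write `k = n mod c`, `ℓ = m mod b`, `ℓ' = m mod c`, `n' = ⌊n/b⌋`, `m' = ⌊m/b⌋`, `s = (r−1)/b`; `(a)_r` is the `r`-part of `a`. Let `1 ≤ m < n/2` and let `r` be a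 prime dividing the number of nondegenerate `m`-spaces. Then every element of `T` of order `r` fixes a nondegenerate `m`-space if and only if one of: (i) `r = p > 2` and every partition of `n` into parts of size at most `p` contains (as a sub-multiset) a partition of `m`; (ii) `r = p = 2` and (`n` is odd or `m` is even); (iii) `r = 2 ≠ p` and (`n` is odd, or `m` is even, or `(q+1)_2 ≥ (n)_2` and `q ≡ 3 (mod 4)`); (iv) `r ≠ p`, `r > 2`, and either `i ≠ 2`, `c ≤ m` and `k ≥ ℓ'`, or `i = 2` and (`r ∣ m` or `(q+1)_r ≥ (n)_r`). -/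
theorem result {F : Type*} [Field F] [Fintype F] {p : ℕ} [Fact p.Prime] [CharP F p] {q : ℕ} (hq : Fintype.card F = q ^ 2)
    (n m : ℕ) (hn : 3 ≤ n) (hT : (n, q) ≠ (3, 2)) (hm : 1 ≤ m) (hmn : 2 * m < n)
    (r : ℕ) [Fact r.Prime]
    (hrΩ : r ∣ Nat.card {W : Submodule F (Fin n → F) // Module.finrank F ↥W = m ∧ (∀ u ∈ W, u ≠ 0 → ∃ v ∈ W, Cfsg.hermForm n F q u v ≠ 0)})
    (i b c : ℕ) (hi : i = orderOf (q : ZMod r)) (hb : b = if Even i then i / 2 else i)
    (hc : c = if i % 4 = 0 then i else if i % 4 = 2 then i / 2 else 2 * i) :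
    (∀ x : Matrix.SpecialLinearGroup (Fin n) F, x ∈ Cfsg.SU n F q →
      (∃ z : F, ((x ^ r : Matrix.SpecialLinearGroup (Fin n) F) : Matrix (Fin n) (Fin n) F) = z • (1 : Matrix (Fin n) (Fin n) F)) →
      (∀ z : F, (x : Matrix (Fin n) (Fin n) F) ≠ z • (1 : Matrix (Fin n) (Fin n) F)) →
      ∃ W : Submodule F (Fin n → F), Module.finrank F ↥W = m ∧ (∀ u ∈ W, u ≠ 0 → ∃ v ∈ W, Cfsg.hermForm n F q u v ≠ 0) ∧
        W.map (Matrix.toLin' (x : Matrix (Fin n) (Fin n) F)) ≤ W) ↔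
    ((r = p ∧ 2 < p ∧ (∀ μ : Multiset ℕ, (∀ a ∈ μ, 0 < a ∧ a ≤ p) → μ.sum = n → ∃ ν : Multiset ℕ, ν ≤ μ ∧ ν.sum = m)) ∨
     (r = p ∧ p = 2 ∧ (Odd n ∨ Even m)) ∨
     (r = 2 ∧ p ≠ 2 ∧ (Odd n ∨ Even m ∨ (padicValNat 2 n ≤ padicValNat 2 (q + 1) ∧ q % 4 = 3))) ∨
     (r ≠ p ∧ 2 < r ∧ ((i ≠ 2 ∧ c ≤ m ∧ m % c ≤ n % c) ∨ (i = 2 ∧ (r ∣ m ∨ padicValNat r n ≤ padicValNat r (q + 1)))))) := by
  classical
  have hrp : r.Prime := Fact.out
  have hn0 : 0 < n := by omega
  have hP := unit_member_nd_iff (n := n) hq m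
  rw [Nat.card_congr (Equiv.subtypeEquivRight hP)] at hrΩ
  rw [suFix_iff hq (nd := true) _ hP]
  by_cases hrne : r = p
  · subst hrne
    rw [suFix_iff_allFix hq hn0 (unit_coprime_char hq), unit_allFix_unip hq r hn0 (by omega), partCrit_unit]
    by_cases hr2 : r = 2
    · subst hr2
      rw [parts_two (by omega)]
      simp
    · have hr3 : 2 < r := lt_of_le_of_ne hrp.two_le (Ne.symm hr2)
      simp [hr2, hr3]
  by_cases hr2 : r = 2
  · subst hr2
    have h2 : (2 : F) ≠ 0 := by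
      intro h0
      have h0' : ((2 : ℕ) : F) = 0 := by exact_mod_cast h0
      rw [CharP.cast_eq_zero_iff F p, Nat.prime_dvd_prime_iff_eq Fact.out Nat.prime_two] at h0'
      exact hrne h0'.symm
    rw [unit_two_nd hq h2 hm (by omega)]
    constructor
    · exact fun h => Or.inr (Or.inr (Or.inl ⟨rfl, Ne.symm hrne, h⟩))
    · rintro (⟨h, -⟩ | ⟨h, -⟩ | ⟨-, -, h⟩ | ⟨-, h, -⟩)
      · exact absurd h hrne
      · exact absurd h hrne
      · exact h
      · omega
  · have hrF : (r : F) ≠ 0 := CfsgLib.Classical.ClassTheory.natCast_prime_ne_zero (p := p) hrp hrne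
    have hr0 := unit_cast_ne_zero (r := r) hq hrne
    have hr3 : 2 < r := lt_of_le_of_ne hrp.two_le (Ne.symm hr2)
    have hb' : orderOf (Nat.card F : ZMod r) = b := by rw [unit_ordq hq hr0 hi, hb]
    have side : ∀ P : Prop,
        (r = p ∧ 2 < p ∧ (∀ μ : Multiset ℕ, (∀ a ∈ μ, 0 < a ∧ a ≤ p) → μ.sum = n → ∃ ν : Multiset ℕ, ν ≤ μ ∧ ν.sum = m)) ∨
        (r = p ∧ p = 2 ∧ (Odd n ∨ Even m)) ∨
        (r = 2 ∧ p ≠ 2 ∧ (Odd n ∨ Even m ∨ (padicValNat 2 n ≤ padicValNat 2 (q + 1) ∧ q % 4 = 3))) ∨ P ↔ P :=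
      fun P => by simp [hrne, hr2]
    rw [side]
    by_cases hi2 : i = 2
    · have hdiv : r ∣ q + 1 := (unit_two_iff_dvd hr2).1 (hi ▸ hi2)
      rw [unit_torus_nd hq hr2 hdiv hm (by omega) hrΩ]
      simp [hrne, hr3, hi2]
    · have hcop : Nat.Coprime r (q + 1) :=
        hrp.coprime_iff_not_dvd.2 fun h => hi2 (hi.trans ((unit_two_iff_dvd hr2).2 h))
      have hstep : Step (powHom hq) r (orderOf (Nat.card F : ZMod r)) c := by
        by_cases h4 : i % 4 = 2
        · refine Or.inl ⟨unit_sdReg_of hq hr0 hi h4, unit_par hq _, ?_⟩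
          rw [hb', hb, hc, if_neg (by omega), if_pos h4, if_pos (Nat.even_iff.2 (by omega))]
        · refine Or.inr ⟨unit_gapReg hq hr0 hi hr2 h4, ?_⟩
          rw [hb', hc, hb]
          split_ifs with h1 h2 <;> first | omega | (rw [Nat.even_iff] at *; omega)
      rw [suFix_iff_allFix hq hn0 hcop, crit_nd (unit_isRefl hq) hr2 hrF hstep (unit_par hq m)
        (by rw [finrank_std]; omega) hrΩ, finrank_std]
      simp [hrne, hr3, hi2]

end Cfsg.Agent.S5954
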