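import Cfsg.Statements.S5955
import Cfsg.Agent.Lib.Geo.Refl.SympTwo
import Cfsg.Agent.Lib.Geo.Refl.CharCount

set_option autoImplicit false
open scoped MatrixGroups
open Cfsg

namespace Cfsg.Agent.S5955

open CfsgLib.Classical CfsgLib.Classical.Symp CfsgLib.Geo.Refl

/-- Elements of prime order of PSp_n(q) with no fixed totally isotropic `m`-space. Here `T = PSp_n(q)` with `n = 2d ≥ 4`, `(n, q) ≠ (4, 2)`, realised through the symplectic matrices over the field `F` with `q` elements (preserving the standard alternating form); an element of `T` of prime order `r` is such a matrix `x` with `x^r` scalar and `x` not scalar. For `r ≠ p` let `i` be the multiplicative order of `q` modulo `r`, `c = i` for `i` even and `c = 2i` for `i` odd, and write `k = n mod c`, `ℓ = m mod i`, `ℓ' = m mod c`, `n' = ⌊n/i⌋`, `m' = ⌊m/i⌋`, `t = (r−1)/i`. Let `1 ≤ m ≤ n/2` and let `r` be a prime dividing the number of totally isotropic `m`-spaces. Then every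 element of `T` of order `r` fixes a totally isotropic `m`-space if and only if either (i) `r = 2 ≠ p` and (`m` is even or `q ≡ 1 (mod 4)`); or (ii) `r ≠ p`, `r > 2`, `i ≤ m`, `k ≥ 2ℓ`, and (`i` is odd or `n' − 2m' ≥ t`). -/
theorem result {F : Type*} [Field F] [Fintype F] {p : ℕ} [Fact p.Prime] [CharP F p] {q : ℕ} (hq : Fintype.card F = q)
    (d m : ℕ) (hd : 2 ≤ d) (hT : (d, q) ≠ (2, 2)) (hm : 1 ≤ m) (hmd : m ≤ d)
    (r : ℕ) [Fact r.Prime]
    (hrΩ : r ∣ Nat.card {W : Submodule F (Fin d ⊕ Fin d → F) // Module.finrank F ↥W = m ∧ (∀ u ∈ W, ∀ v ∈ W, Cfsg.sympForm d F u v = 0)})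
    (i c : ℕ) (hi : i = orderOf (q : ZMod r)) (hc : c = if Even i then i else 2 * i) :
    (∀ x : ↥(Matrix.symplecticGroup (Fin d) F),
      (∃ z : F, ((x ^ r : ↥(Matrix.symplecticGroup (Fin d) F)) : Matrix (Fin d ⊕ Fin d) (Fin d ⊕ Fin d) F) = z • (1 : Matrix (Fin d ⊕ Fin d) (Fin d ⊕ Fin d) F)) →
      (∀ z : F, (x : Matrix (Fin d ⊕ Fin d) (Fin d ⊕ Fin d) F) ≠ z • (1 : Matrix (Fin d ⊕ Fin d) (Fin d ⊕ Fin d) F)) →
      ∃ W : Submodule F (Fin d ⊕ Fin d → F), Module.finrank F ↥W = m ∧ (∀ u ∈ W, ∀ v ∈ W, Cfsg.sympForm d F u v = 0) ∧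
        W.map (Matrix.toLin' (x : Matrix (Fin d ⊕ Fin d) (Fin d ⊕ Fin d) F)) ≤ W) ↔
    ((r = 2 ∧ p ≠ 2 ∧ (Even m ∨ q % 4 = 1)) ∨
     (r ≠ p ∧ 2 < r ∧ i ≤ m ∧ 2 * (m % i) ≤ (2 * d) % c ∧ (Odd i ∨ (r - 1) / i + 2 * (m / i) ≤ (2 * d) / i))) := by
  classical
  have hrp : r.Prime := Fact.out
  have hdim : Module.finrank F (Fin d ⊕ Fin d → F) = 2 * d := finrank_sympSpace d F
  rw [symp_member_ti_eq] at hrΩ
  have hrne : r ≠ p := by
    rintro rfl
    exact not_dvd_card_ti (symp_isRefl (F := F) (d := d)) (by rw [hdim]; omega) hrΩ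
  have hP := symp_member_ti_iff (F := F) (d := d) m
  by_cases hr2 : r = 2
  · subst hr2
    have h2 : (2 : F) ≠ 0 := by
      intro h0
      have h0' : ((2 : ℕ) : F) = 0 := by exact_mod_cast h0
      rw [CharP.cast_eq_zero_iff F p, Nat.prime_dvd_prime_iff_eq Fact.out Nat.prime_two] at h0'
      exact hrne h0'.symm
    have hqodd : q % 2 = 1 := by
      rw [← hq]
      exact FiniteField.odd_card_of_char_ne_two (fun hc => h2 (by
        haveI := ringChar.of_eq hc
        exact_mod_cast CharP.cast_eq_zero F 2))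
    have hsq : IsSquare (-1 : F) ↔ q % 4 = 1 := by
      rw [FiniteField.isSquare_neg_one_iff, hq]
      omega
    refine ⟨fun hall => Or.inl ⟨rfl, hrne.symm, ?_⟩, ?_⟩
    · by_contra hcon
      push Not at hcon
      obtain ⟨x, hz, hns, hev⟩ := exists_no_odd (F := F) (d := d) h2 (by omega) (hsq.not.2 hcon.2)
      obtain ⟨W, hW, -, hWi⟩ := hall x hz hns
      exact hcon.1 (hW ▸ hev W hWi)
    · rintro (⟨-, -, hC⟩ | ⟨-, h, -⟩)
      · intro x hz hns
        obtain ⟨z, hz⟩ := hz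
        obtain ⟨W, hW, hWi⟩ := (symp_two h2 (by omega) x hz (m := m)).2 (hC.imp_right hsq.2) hmd
        refine ⟨W, ((hP W).2 hW).1, ((hP W).2 hW).2, ?_⟩
        rintro _ ⟨v, hv, rfl⟩
        exact hWi v hv
      · omega
  · have hrF : (r : F) ≠ 0 := CfsgLib.Classical.ClassTheory.natCast_prime_ne_zero (p := p) hrp hrne
    have hi' : i = orderOf (Nat.card F : ZMod r) := by rw [hi, Nat.card_eq_fintype_card, hq]
    obtain ⟨hi0, -, hcard⟩ := ord_facts (F := F) (r := r) hrF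
    rw [← hi'] at hi0 hcard
    have hs : (r - 1) / i = (CfsgLib.Classical.ClassTheory.cycFactors F r).card := by
      rw [← hcard, Nat.mul_div_cancel _ hi0]
    rw [symp_allFix_iff (by omega) (Or.inl hr2) (nd := false) (fun W => ∀ u ∈ W, ∀ v ∈ W, Cfsg.sympForm d F u v = 0) hP]
    rcases Nat.even_or_odd i with hev | hodd
    · rw [crit_ti_selfDual symp_isRefl hr2 hrF (symp_sdReg hr2 hi' hi0 hev) (by rw [← hi']; exact fun _ => hev)
        (by rw [hdim]; omega) hrΩ, ← hi', hdim, hc, if_pos hev, hs]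
      constructor
      · exact fun ⟨a, b, c'⟩ => Or.inr ⟨hrne, lt_of_le_of_ne hrp.two_le (Ne.symm hr2), a, b, Or.inr c'⟩
      · rintro (⟨h, -, -⟩ | ⟨-, -, a, b, c' | c'⟩)
        · exact absurd h hr2
        · exact absurd hev (Nat.not_even_iff_odd.2 c')
        · exact ⟨a, b, c'⟩
    · rw [crit_ti_gap symp_isRefl hr2 hrF (Or.inl ⟨rfl, hi' ▸ hodd⟩) (by rw [hdim]; omega) hrΩ, ← hi', hdim, hc,
        if_neg (Nat.not_even_iff_odd.2 hodd)]
      constructor
      · exact fun ⟨a, b⟩ => Or.inr ⟨hrne, lt_of_le_of_ne hrp.two_le (Ne.symm hr2), a, b, Or.inl hodd⟩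
      · rintro (⟨h, -, -⟩ | ⟨-, -, a, b, -⟩)
        · exact absurd h hr2
        · exact ⟨a, b⟩


end Cfsg.Agent.S5955
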