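import Cfsg.Statements.S5956
import Cfsg.Agent.Lib.Geo.Refl.SympTwo
import Cfsg.Agent.Lib.Geo.Refl.UnipotentCrit

set_option autoImplicit false
open scoped MatrixGroups
open Cfsg

namespace Cfsg.Agent.S5956

open CfsgLib.Classical CfsgLib.Classical.Symp CfsgLib.Geo.Refl

/-- Elements of prime order of PSp_n(q) with no fixed nondegenerate `m`-space. Here `T = PSp_n(q)` with `n = 2d ≥ 4`, `(n, q) ≠ (4, 2)`, realised through the symplectic matrices over the field `F` with `q` elements (preserving the standard alternating form); an element of `T` of prime order `r` is such a matrix `x` with `x^r` scalar and `x` not scalar. For `r ≠ p` let `i` be the multiplicative order of `q` modulo `r`, `c = i` for `i` even and `c = 2i` for `i` odd, and write `k = n mod c`, `ℓ = m mod i`, `ℓ' = m mod c`, `n' = ⌊n/i⌋`, `m' = ⌊m/i⌋`, `t = (r−1)/i`. Let `m` be even with `2 ≤ m < n/2` and let `r` be a prime dividing the number of nondegenerate `m`-spaces. Then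 every element of `T` of order `r` fixes a nondegenerate `m`-space if and only if one of: (i) `r = p > 2` and every partition of `n` into parts of size at most `p` in which every odd part has even multiplicity contains (as a sub-multiset) a partition of `m` in which every odd part has even multiplicity; (ii) `r = p = 2` and (`n ≡ 2 (mod 4)` or `m ≡ 0 (mod 4)`); (iii) `r = 2 ≠ p`; (iv) `r ≠ p`, `r > 2`, `c ≤ m` and `k ≥ ℓ'`. -/
theorem result {F : Type*} [Field F] [Fintype F] {p : ℕ} [Fact p.Prime] [CharP F p] {q : ℕ} (hq : Fintype.card F = q)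
    (d m : ℕ) (hd : 2 ≤ d) (hT : (d, q) ≠ (2, 2)) (hm : 2 ≤ m) (hme : Even m) (hmd : m < d)
    (r : ℕ) [Fact r.Prime]
    (hrΩ : r ∣ Nat.card {W : Submodule F (Fin d ⊕ Fin d → F) // Module.finrank F ↥W = m ∧ (∀ u ∈ W, u ≠ 0 → ∃ v ∈ W, Cfsg.sympForm d F u v ≠ 0)})
    (i c : ℕ) (hi : i = orderOf (q : ZMod r)) (hc : c = if Even i then i else 2 * i) :
    (∀ x : ↥(Matrix.symplecticGroup (Fin d) F),
      (∃ z : F, ((x ^ r : ↥(Matrix.symplecticGroup (Fin d) F)) : Matrix (Fin d ⊕ Fin d) (Fin d ⊕ Fin d) F) = z • (1 : Matrix (Fin d ⊕ Fin d) (Fin d ⊕ Fin d) F)) →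
      (∀ z : F, (x : Matrix (Fin d ⊕ Fin d) (Fin d ⊕ Fin d) F) ≠ z • (1 : Matrix (Fin d ⊕ Fin d) (Fin d ⊕ Fin d) F)) →
      ∃ W : Submodule F (Fin d ⊕ Fin d → F), Module.finrank F ↥W = m ∧ (∀ u ∈ W, u ≠ 0 → ∃ v ∈ W, Cfsg.sympForm d F u v ≠ 0) ∧
        W.map (Matrix.toLin' (x : Matrix (Fin d ⊕ Fin d) (Fin d ⊕ Fin d) F)) ≤ W) ↔
    ((r = p ∧ 2 < p ∧ (∀ μ : Multiset ℕ, (∀ a ∈ μ, 0 < a ∧ a ≤ p) → (∀ a : ℕ, Odd a → Even (μ.count a)) → μ.sum = 2 * d →
        ∃ ν : Multiset ℕ, ν ≤ μ ∧ ν.sum = m ∧ ∀ a : ℕ, Odd a → Even (ν.count a))) ∨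
     (r = p ∧ p = 2 ∧ ((2 * d) % 4 = 2 ∨ m % 4 = 0)) ∨
     (r = 2 ∧ p ≠ 2) ∨
     (r ≠ p ∧ 2 < r ∧ c ≤ m ∧ m % c ≤ (2 * d) % c)) := by
  classical
  have hrp : r.Prime := Fact.out
  have hdim : Module.finrank F (Fin d ⊕ Fin d → F) = 2 * d := finrank_sympSpace d F
  rw [symp_member_nd_eq] at hrΩ
  have hP := symp_member_nd_iff (F := F) (d := d) m
  have h := symp_isRefl (F := F) (d := d)
  obtain ⟨W₀, -, hW₀, hW₀d⟩ := h.exists_nd_sub m h.nd_top (fun _ => hme) (by rw [finrank_top, hdim]; omega)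
  by_cases hre : r = p
  · subst hre
    have hsub : ∀ g : Module.End F (Fin d ⊕ Fin d → F), (g - 1) ^ r = g ^ r - 1 := fun g => by
      haveI : Nonempty (Fin d) := ⟨⟨0, by omega⟩⟩
      haveI : CharP (Module.End F (Fin d ⊕ Fin d → F)) r := charP_of_injective_algebraMap'
        (R := F) (A := Module.End F (Fin d ⊕ Fin d → F)) r
      rw [sub_pow_char_of_commute r (Commute.one_right g), one_pow]
    have hiff : AllFix (sympBil d F) r true m ↔ UnipFix (sympBil d F) r m := by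
      constructor
      · intro hall g hg hgp
        by_cases h1 : g = 1
        · exact ⟨W₀, ⟨hW₀d, hW₀⟩, fun v hv => by rw [h1]; exact hv⟩
        · exact hall g hg (sub_eq_zero.1 ((hsub g).symm.trans hgp)) h1
      · exact fun hall g hg hgr _ => hall g hg (by rw [hsub, hgr, sub_self])
    rw [symp_allFix_iff (by omega) (by
        by_cases h2 : r = 2
        · subst h2; exact Or.inr (by exact_mod_cast CharP.cast_eq_zero F 2)
        · exact Or.inl h2) (nd := true) (fun W => ∀ u ∈ W, u ≠ 0 → ∃ v ∈ W, Cfsg.sympForm d F u v ≠ 0) hP, hiff]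
    by_cases h2 : r = 2
    · subst h2
      have h20 : (2 : F) = 0 := by exact_mod_cast CharP.cast_eq_zero F 2
      rw [unipFix_two h rfl h20 hme (by rw [hdim]; omega), hdim]
      constructor
      · exact fun hh => Or.inr (Or.inl ⟨rfl, rfl, hh⟩)
      · rintro (⟨-, hlt, -⟩ | ⟨-, -, hh⟩ | ⟨-, hne⟩ | ⟨hne, -⟩)
        · exact absurd hlt (lt_irrefl 2)
        · exact hh
        · exact absurd rfl hne
        · exact absurd rfl hne
    · have h20 : (2 : F) ≠ 0 := fun h0 => by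
        have h0' : ((2 : ℕ) : F) = 0 := by exact_mod_cast h0
        rw [CharP.cast_eq_zero_iff F r, Nat.prime_dvd_prime_iff_eq hrp Nat.prime_two] at h0'
        exact h2 h0'
      rw [unipFix_iff h (Or.inr h20), hdim]
      unfold PartCrit Paired
      simp only [true_and]
      constructor
      · exact fun hh => Or.inl ⟨lt_of_le_of_ne hrp.two_le (Ne.symm h2), hh⟩
      · rintro (⟨-, hh⟩ | ⟨hr, -⟩ | ⟨hr, -⟩ | ⟨hne, -⟩)
        · exact hh
        · exact absurd hr h2
        · exact absurd hr h2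
        · exact absurd rfl hne
  have hrF : (r : F) ≠ 0 := CfsgLib.Classical.ClassTheory.natCast_prime_ne_zero (p := p) hrp hre
  by_cases hr2 : r = 2
  · subst hr2
    have h2 : (2 : F) ≠ 0 := by exact_mod_cast hrF
    refine ⟨fun _ => Or.inr (Or.inr (Or.inl ⟨rfl, Ne.symm hre⟩)), fun _ x ⟨z, hz⟩ _ => ?_⟩
    obtain ⟨W, hW, hWi⟩ := (symp_two h2 (by omega) x hz (m := m)).1 hme (by omega)
    refine ⟨W, ((hP W).2 hW).1, ((hP W).2 hW).2, ?_⟩
    rintro _ ⟨v, hv, rfl⟩
    exact hWi v hv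
  · have hi' : i = orderOf (Nat.card F : ZMod r) := by rw [hi, Nat.card_eq_fintype_card, hq]
    obtain ⟨hi0, -, -⟩ := ord_facts (F := F) (r := r) hrF
    rw [← hi'] at hi0
    have hstep : Step (RingHom.id F) r (orderOf (Nat.card F : ZMod r)) c := by
      rw [← hi', hc]
      rcases Nat.even_or_odd i with hev | hodd
      · exact Or.inl ⟨symp_sdReg hr2 hi' hi0 hev, fun _ => hev, if_pos hev⟩
      · exact Or.inr ⟨Or.inl ⟨rfl, hodd⟩, if_neg (Nat.not_even_iff_odd.2 hodd)⟩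
    rw [symp_allFix_iff (by omega) (Or.inl hr2) (nd := true)
      (fun W => ∀ u ∈ W, u ≠ 0 → ∃ v ∈ W, Cfsg.sympForm d F u v ≠ 0) hP,
      crit_nd h hr2 hrF hstep (fun _ => hme) (by rw [hdim]; omega) hrΩ, hdim]
    constructor
    · exact fun hh => Or.inr (Or.inr (Or.inr ⟨hre, lt_of_le_of_ne hrp.two_le (Ne.symm hr2), hh⟩))
    · rintro (⟨hh, -⟩ | ⟨hh, -⟩ | ⟨hh, -⟩ | ⟨-, -, hh⟩)
      · exact absurd hh hre
      · exact absurd hh hre
      · exact absurd hh hr2
      · exact hh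


end Cfsg.Agent.S5956
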