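import Cfsg.Statements.S5958
import Cfsg.Agent.Lib.Geo.ImprimPrime.Linear

set_option autoImplicit false
open scoped MatrixGroups
open Cfsg

namespace Cfsg.Agent.S5958

/-- Elements of odd prime order of PSL_n(q) and imprimitive subgroups. Here `T = PSL_n(F)` for a field `F` with `q = p^f` elements (`n ≥ 2`, `(n, q) ≠ (2, 2), (2, 3)`), `n = a·t` with `t ≥ 2`, and Ω is the set of direct-sum decompositions of `F^n` into `t` subspaces of dimension `a` (unordered; their number is the number of ordered ones divided by `t!`), whose stabilizers are the imprimitive subgroups of type GL_a(q) ≀ S_t (maximal except in some small cases; maximality is not assumed); an element of `T` of prime order `r` (a matrix `x` of determinant 1 with `x^r` scalar, `x` not scalar) fixes a point of Ω when it permutes the summands of some such decomposition. Let `r ≠ p` be an odd prime dividing the number of such decompositions, let `c` be the multiplicative order of `q` modulo `r`, and write `k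 = n mod c`, `ℓ = a mod c`. Then every element of `T` of order `r` stabilizes such a decomposition if and only if either `a = 1`, `c = r − 1 > 1` and `n ≤ k·r`, or `c ≤ a` and `k = t·ℓ`. -/
theorem result {F : Type*} [Field F] [Fintype F] {p : ℕ} [Fact p.Prime] [CharP F p] {q : ℕ} (hq : Fintype.card F = q)
    (n a t : ℕ) (hn : 2 ≤ n) (hT : (n, q) ≠ (2, 2) ∧ (n, q) ≠ (2, 3)) (hat : n = a * t) (ha : 1 ≤ a) (ht : 2 ≤ t)
    (r : ℕ) [Fact r.Prime] (hr2 : r ≠ 2) (hrp : r ≠ p) (hΩ : r ∣ Nat.card {D : Fin t → Submodule F (Fin n → F) // Cfsg.Geo.IsMDecomposition a D} / Nat.factorial t)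
    (c : ℕ) (hc : c = orderOf (q : ZMod r)) :
    (∀ x : Matrix.SpecialLinearGroup (Fin n) F,
      (∃ z : F, ((x ^ r : Matrix.SpecialLinearGroup (Fin n) F) : Matrix (Fin n) (Fin n) F) = z • (1 : Matrix (Fin n) (Fin n) F)) →
      (∀ z : F, (x : Matrix (Fin n) (Fin n) F) ≠ z • (1 : Matrix (Fin n) (Fin n) F)) →
      ∃ D : Fin t → Submodule F (Fin n → F), Cfsg.Geo.IsMDecomposition a D ∧
        ∃ σ : Equiv.Perm (Fin t), ∀ j, (D j).map (Matrix.toLin' (x : Matrix (Fin n) (Fin n) F)) = D (σ j)) ↔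
    ((a = 1 ∧ 1 < c ∧ c = r - 1 ∧ n ≤ (n % c) * r) ∨ (c ≤ a ∧ n % c = t * (a % c))) := by
  subst hq hc
  rw [← Nat.card_eq_fintype_card]
  have hrF : (r : F) ≠ 0 := CfsgLib.Geo.PrimeAct.natCast_ne_zero_of_ringChar (p := p) Fact.out hrp
  obtain ⟨hc0, hcr⟩ := CfsgLib.Geo.ImprimPrime.ord_pos_le (F := F) hrp
  have hcn := CfsgLib.Geo.ImprimPrime.linear_ord_le hrF hat ha ht hΩ
  refine ⟨CfsgLib.Geo.ImprimPrime.linear_criterion hrF hat ha ht hc0 hcr hcn, fun hcrit x hx _ => ?_⟩
  obtain ⟨z, hz⟩ := hx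
  set T := Matrix.toLin' (x : Matrix (Fin n) (Fin n) F) with hTdef
  have hinj : Function.Injective T := fun u v h => by
    have h1 := congrArg (Matrix.toLin' ((x⁻¹ : Matrix.SpecialLinearGroup (Fin n) F) : Matrix (Fin n) (Fin n) F)) h
    rw [hTdef, ← LinearMap.comp_apply, ← LinearMap.comp_apply, ← Matrix.toLin'_mul,
      ← Matrix.SpecialLinearGroup.coe_mul, inv_mul_cancel, Matrix.SpecialLinearGroup.coe_one, Matrix.toLin'_one] at h1
    exact h1
  have hT : T ^ r = z • (1 : (Fin n → F) →ₗ[F] (Fin n → F)) := by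
    show (Matrix.toLinAlgEquiv' (x : Matrix (Fin n) (Fin n) F)) ^ r = _
    rw [← map_pow, ← Matrix.SpecialLinearGroup.coe_pow, hz, map_smul, map_one]
  have hz0 : z ≠ 0 := by
    intro h0
    have h1 := congrArg Matrix.det hz
    rw [(x ^ r).2, Matrix.det_smul, Matrix.det_one, h0, mul_one, Fintype.card_fin, zero_pow (by omega)] at h1
    exact one_ne_zero h1
  have hcrit' : (a = 1 ∧ orderOf (Nat.card F : ZMod r) + 1 = r ∧ n ≤ (n % orderOf (Nat.card F : ZMod r)) * r) ∨
      (orderOf (Nat.card F : ZMod r) ≤ a ∧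
        n % orderOf (Nat.card F : ZMod r) = t * (a % orderOf (Nat.card F : ZMod r))) :=
    hcrit.imp_left fun ⟨h1, h2, h3, h4⟩ => ⟨h1, by omega, h4⟩
  obtain ⟨D, h1, h2, h3, σ, h4⟩ :=
    (CfsgLib.Geo.ImprimPrime.linear_positive hat ha ht hrF hcrit' hc0 T hinj hz0 hT).exists_family hinj
  exact ⟨D, ⟨ht, by omega, h1, h2, h3⟩, σ, h4⟩

end Cfsg.Agent.S5958
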