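import Cfsg.Statements.S5961
import Cfsg.Agent.Lib.Geo.ImprimPrime.Symp

set_option autoImplicit false
open scoped MatrixGroups
open Cfsg

namespace Cfsg.Agent.S5961

/-- Elements of odd prime order of PSp_n(q) and imprimitive subgroups. Here `T = PSp_n(q)`, `n = 2d ≥ 4`, `(n, q) ≠ (4, 2)`, realised through the symplectic matrices over the field `F` with `q` elements and the standard alternating form; `n = a·t` with `a` even and `t ≥ 2`, and Ω is the (nonempty) set of orthogonal decompositions of `F^n` into `t` nondegenerate subspaces of dimension `a` (unordered; counted as ordered ones divided by `t!`), whose stabilizers are the imprimitive subgroups of type Sp_a(q) ≀ S_t (maximality is not assumed); an element of `T` of prime order `r` (a symplectic matrix `x` with `x^r` scalar, `x` not scalar) fixes a point of Ω when it permutes the summands of some such decomposition. Let `r ≠ p` be an odd prime dividing the number of such decompositions,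 let `i` be the multiplicative order of `q` modulo `r`, `c = i` if `i` is even and `c = 2i` if `i` is odd, and write `k = n mod c`, `ℓ = a mod c`. Then every element of `T` of order `r` stabilizes such a decomposition if and only if `c ≤ a` and `k = t·ℓ`. -/
theorem result {F : Type*} [Field F] [Fintype F] {p : ℕ} [Fact p.Prime] [CharP F p] {q : ℕ} (hq : Fintype.card F = q)
    (d : ℕ) (hd : 2 ≤ d) (hT : (d, q) ≠ (2, 2))
    (a t : ℕ) (hat : 2 * d = a * t) (ha : 2 ≤ a) (hae : Even a) (ht : 2 ≤ t)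
    (r : ℕ) [Fact r.Prime] (hr2 : r ≠ 2) (hrp : r ≠ p) (hΩ : r ∣ Nat.card {D : Fin t → Submodule F (Fin d ⊕ Fin d → F) // (Cfsg.Geo.IsMDecomposition a D ∧ (∀ j, ∀ u ∈ D j, u ≠ 0 → ∃ v ∈ D j, Cfsg.sympForm d F u v ≠ 0) ∧
          (∀ j j', j ≠ j' → ∀ u ∈ D j, ∀ v ∈ D j', Cfsg.sympForm d F u v = 0))} / Nat.factorial t)
    (i c : ℕ) (hi : i = orderOf (q : ZMod r)) (hc : c = if Even i then i else 2 * i) :
    (∀ x : ↥(Matrix.symplecticGroup (Fin d) F),
      (∃ z : F, ((x ^ r : ↥(Matrix.symplecticGroup (Fin d) F)) : Matrix (Fin d ⊕ Fin d) (Fin d ⊕ Fin d) F) = z • (1 : Matrix (Fin d ⊕ Fin d) (Fin d ⊕ Fin d) F)) →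
      (∀ z : F, (x : Matrix (Fin d ⊕ Fin d) (Fin d ⊕ Fin d) F) ≠ z • (1 : Matrix (Fin d ⊕ Fin d) (Fin d ⊕ Fin d) F)) →
      ∃ D : Fin t → Submodule F (Fin d ⊕ Fin d → F), (Cfsg.Geo.IsMDecomposition a D ∧ (∀ j, ∀ u ∈ D j, u ≠ 0 → ∃ v ∈ D j, Cfsg.sympForm d F u v ≠ 0) ∧
          (∀ j j', j ≠ j' → ∀ u ∈ D j, ∀ v ∈ D j', Cfsg.sympForm d F u v = 0)) ∧
        ∃ σ : Equiv.Perm (Fin t), ∀ j, (D j).map (Matrix.toLin' (x : Matrix (Fin d ⊕ Fin d) (Fin d ⊕ Fin d) F)) = D (σ j)) ↔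
    (c ≤ a ∧ (2 * d) % c = t * (a % c)) := by
  subst hq hi
  have hrF : (r : F) ≠ 0 := CfsgLib.Geo.PrimeAct.natCast_ne_zero_of_ringChar (p := p) Fact.out hrp
  obtain ⟨hi0, -⟩ := CfsgLib.Geo.ImprimPrime.ord_pos_le (F := F) hrp
  have hc' : c = Nat.lcm 2 (orderOf (Nat.card F : ZMod r)) := by
    rw [hc, Nat.card_eq_fintype_card]
    split_ifs with he
    · rw [Nat.lcm_eq_right he.two_dvd]
    · rw [(Nat.coprime_two_left.2 (Nat.not_even_iff_odd.1 he)).lcm_eq_mul]
  subst hc'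
  have hir : orderOf (Nat.card F : ZMod r) ∣ r - 1 := by
    refine ZMod.orderOf_dvd_card_sub_one fun h => ?_
    have := hi0
    rw [h, orderOf_zero] at this
    exact lt_irrefl 0 this
  have hcd := CfsgLib.Geo.ImprimPrime.symp_ord_le hrF hr2 hi0 hat hae ha ht hΩ
  refine ⟨CfsgLib.Geo.ImprimPrime.symp_criterion hrF hr2 hi0 hir hat ha (by omega) hcd, fun hcrit x hx _ => ?_⟩
  obtain ⟨z, hz⟩ := hx
  set T := Matrix.toLin' (x : Matrix (Fin d ⊕ Fin d) (Fin d ⊕ Fin d) F) with hTdef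
  have hT : ∀ (y : ↥(Matrix.symplecticGroup (Fin d) F)) (u v : Fin d ⊕ Fin d → F),
      CfsgLib.Classical.Symp.sympBil d F (Matrix.toLin' (y : Matrix (Fin d ⊕ Fin d) (Fin d ⊕ Fin d) F) u)
        (Matrix.toLin' (y : Matrix (Fin d ⊕ Fin d) (Fin d ⊕ Fin d) F) v) = CfsgLib.Classical.Symp.sympBil d F u v :=
    fun y u v => by
      rw [CfsgLib.Classical.Symp.sympBil_apply, CfsgLib.Classical.Symp.sympBil_apply, Matrix.toLin'_apply,
        Matrix.toLin'_apply]
      exact CfsgLib.Classical.Symp.mem_symplecticGroup_iff_form.1 y.2 u v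
  have hz2 : z * z = 1 := by
    obtain ⟨u, hu⟩ : ∃ u : Fin d ⊕ Fin d → F, u ≠ 0 := ⟨Pi.single (Sum.inl ⟨0, by omega⟩) 1, by simp⟩
    obtain ⟨w, -, huw⟩ := CfsgLib.Classical.Symp.exists_partner
      (CfsgLib.Classical.Symp.nondeg_top (CfsgLib.Classical.Symp.sympBil_nondegenerate d F))
      (Submodule.mem_top (x := u)) hu
    have h := hT (x ^ r) u w
    rw [hz, Matrix.toLin'_apply, Matrix.toLin'_apply, Matrix.smul_mulVec, Matrix.smul_mulVec, Matrix.one_mulVec,
      Matrix.one_mulVec, map_smul, map_smul, LinearMap.smul_apply, smul_eq_mul, smul_eq_mul, huw, mul_one] at h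
    exact h
  have hTr : T ^ r = z • (1 : (Fin d ⊕ Fin d → F) →ₗ[F] (Fin d ⊕ Fin d → F)) := by
    show (Matrix.toLinAlgEquiv' (x : Matrix (Fin d ⊕ Fin d) (Fin d ⊕ Fin d) F)) ^ r = _
    rw [← map_pow, ← SubmonoidClass.coe_pow, hz, map_smul, map_one]
  exact CfsgLib.Geo.ImprimPrime.symp_positive hrF hr2 hi0 hat hae ha ht hcrit T (hT x) hz2 hTr

end Cfsg.Agent.S5961
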