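import Cfsg.Statements.S5965
import Cfsg.Agent.Lib.Geo.SubfieldPrime.Cases

set_option autoImplicit false
open scoped MatrixGroups
open Cfsg

namespace Cfsg.Agent.S5965

/-- Elements of odd prime order r ≠ p of PSL_n(q) and subfield subgroups. Here `T = PSL_n(F)` for a field `F` with `q = p^f` elements (`n ≥ 2`, `(n, q) ≠ (2, 2), (2, 3)`), `F₀` is the subfield with `q₀` elements where `q = q₀^k` for a prime `k`, and `H` is the subgroup of matrices of determinant 1 lying in the subfield group of `F₀` (invertible matrices over `F₀` times scalars) — a maximal subgroup of type GL_n(q₀) (the case `n = 2`, `q₀ = 2` is excluded); Ω is the set of `T`-conjugates of `H` (cosets of `H`), so an element of `T` of prime order `r` (a matrix `x` of determinant 1 with `x^r` scalar, `x` not scalar) fixes a point of Ω when some conjugate of `x` by a matrix of determinant 1 lies in `H`. Let `r ≠ p` be an odd prime dividing the index of `H`, with `(n, r) ≠ (6,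 3)` and, when `r = k` divides `q₀ − 1`, with `(n)_r ≤ (q − 1)_r`. Then every element of `T` of order `r` is conjugate in `T` into `H` if and only if `r = k`, or `k = 2`, `r = n ∈ {3, 5}` and `(q₀ + 1)_r = r`. The two excluded cases, `(n, r) = (6, 3)` and `r = k ∣ q₀ − 1` with `(n)_r > (q − 1)_r`, are ones where this criterion can fail, so they are left out. -/
theorem result {F : Type*} [Field F] [Fintype F] {p : ℕ} [Fact p.Prime] [CharP F p] {q : ℕ} (hq : Fintype.card F = q)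
    (n : ℕ) (hn : 2 ≤ n) (hT : (n, q) ≠ (2, 2) ∧ (n, q) ≠ (2, 3))
    (F₀ : Subfield F) (k q₀ : ℕ) (hk : k.Prime) (hF₀ : Nat.card ↥F₀ = q₀) (hqk : q = q₀ ^ k) (hC5 : ¬ (n = 2 ∧ q₀ = 2)) (r : ℕ) [Fact r.Prime] (hr2 : r ≠ 2) (hrp : r ≠ p) (hgap : ¬ (n = 6 ∧ r = 3)) (hgapk : r = k → r ∣ q₀ - 1 → padicValNat r n ≤ padicValNat r (q - 1)) (hΩ : r ∣ ((Cfsg.Geo.subfieldSubgroup F₀ 1).comap (Matrix.SpecialLinearGroup.toGL : Matrix.SpecialLinearGroup (Fin n) F →* GL (Fin n) F)).index) :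
    (∀ x : Matrix.SpecialLinearGroup (Fin n) F,
      (∃ z : F, ((x ^ r : Matrix.SpecialLinearGroup (Fin n) F) : Matrix (Fin n) (Fin n) F) = z • (1 : Matrix (Fin n) (Fin n) F)) →
      (∀ z : F, (x : Matrix (Fin n) (Fin n) F) ≠ z • (1 : Matrix (Fin n) (Fin n) F)) →
      ∃ P : Matrix.SpecialLinearGroup (Fin n) F, P⁻¹ * x * P ∈ ((Cfsg.Geo.subfieldSubgroup F₀ 1).comap (Matrix.SpecialLinearGroup.toGL : Matrix.SpecialLinearGroup (Fin n) F →* GL (Fin n) F))) ↔
    (r = k ∨ (k = 2 ∧ r = n ∧ (n = 3 ∨ n = 5) ∧ padicValNat r (q₀ + 1) = 1)) := by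
  subst hq
  haveI : Fintype F₀ := Fintype.ofFinite _
  haveI : CharP F₀ p := (F₀.subtype).charP Subtype.val_injective p
  have hq0ne : (q₀ : ZMod r) ≠ 0 := by
    obtain ⟨e, -, he⟩ := FiniteField.card F₀ p
    rw [← hF₀, Nat.card_eq_fintype_card, he, Nat.cast_pow]
    exact pow_ne_zero _ fun h => hrp ((Nat.prime_dvd_prime_iff_eq Fact.out Fact.out).1 ((ZMod.natCast_eq_zero_iff p r).1 h))
  have hQ : (Nat.card F : ZMod r) = (q₀ : ZMod r) ^ k := by
    rw [Nat.card_eq_fintype_card, hqk, Nat.cast_pow]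
  constructor
  · intro hall
    by_cases hrk : r = k
    · exact Or.inl hrk
    refine Or.inr ?_
    by_contra hexc
    obtain ⟨j, hj2, hjn, h1, h2⟩ := CfsgLib.Geo.SubfieldPrime.exists_exponent F₀ hk hF₀ hqk hrk
      (fun h => hq0ne ((ZMod.natCast_eq_zero_iff _ _).2 h)) hn hΩ
    obtain ⟨-, hi0, hord, hin⟩ := CfsgLib.Geo.SubfieldPrime.order_data hk hj2 hjn h1 h2
    rw [← hQ] at hi0 hord hin
    rcases Nat.lt_or_ge (orderOf (Nat.card F : ZMod r)) 2 with hi | hi
    · rw [show orderOf (Nat.card F : ZMod r) = 1 by omega, mul_one] at hord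
      have hn2 : ¬ (n = 2 ∧ k = 2) := by
        rintro ⟨rfl, rfl⟩
        obtain rfl : j = 2 := by omega
        exact h2 (by rw [← hord]; exact pow_orderOf_eq_one _)
      obtain ⟨x, hx, hns, hno⟩ := CfsgLib.Geo.SubfieldPrime.exists_derangement_split (n := n) F₀ hrp hr2 hk hF₀ hqk
        hord hn hn2 hgap hexc
      obtain ⟨P, hP⟩ := hall x hx hns
      exact hno P hP
    · obtain ⟨x, hx, hns, hno⟩ := CfsgLib.Geo.SubfieldPrime.exists_derangement_block (n := n) F₀ hrp hk.one_lt hF₀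
        hord hi hin
      obtain ⟨P, hP⟩ := hall x hx hns
      exact hno P hP
  · rintro (hrk | ⟨rfl, hrn, h35, hv⟩) x ⟨z, hz⟩ -
    · subst hrk
      obtain ⟨hi0, -⟩ := CfsgLib.Geo.ImprimPrime.ord_pos_le (F := F) hrp
      refine CfsgLib.Geo.SubfieldPrime.conj_of_degree_eq hrp hr2 (by omega) F₀
        (by rw [hF₀, hQ, ZMod.pow_card]) hi0 (fun hr1 => hgapk rfl ?_) x hz
      have h1q : 1 ≤ q₀ := hF₀ ▸ Nat.card_pos
      rw [← ZMod.natCast_eq_zero_iff, hqk, Nat.cast_sub (Nat.one_le_pow _ _ h1q), Nat.cast_pow, ZMod.pow_card,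
        Nat.cast_one] at hr1
      rw [← ZMod.natCast_eq_zero_iff, Nat.cast_sub h1q, Nat.cast_one]
      exact hr1
    · exact CfsgLib.Geo.SubfieldPrime.conj_of_dim_eq hrp hrn h35 F₀ hF₀ hqk hv x hz

end Cfsg.Agent.S5965
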