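import Cfsg.Statements.S5968
import Cfsg.Agent.Lib.Geo.DerangeAlternating

set_option autoImplicit false
open scoped MatrixGroups
open Cfsg

namespace Cfsg.Agent.S5968

/-- Derangements of odd prime order of PSL_n(q) on the cosets of a symplectic-type subgroup. Here `T = PSL_n(F)` for a field `F` with `q` elements, `n ≥ 4` even, `f` is a nondegenerate alternating form on `F^n`, and `H` is the subgroup of matrices of determinant 1 preserving `f` up to a scalar — a maximal subgroup of type Sp_n(q); Ω is the set of `T`-conjugates of `H` (cosets of `H`), so an element of `T` of prime order `r` (a matrix `x` of determinant 1 with `x^r` scalar, `x` not scalar) fixes a point of Ω when some conjugate of `x` by a matrix of determinant 1 preserves `f` up to a scalar. For every odd prime `r` dividing the index of `H`, with `(n, r) ≠ (6, 3)`, there is an element of `T` of order `r` with no conjugate in `H`. (For `n = 6`, `r = 3` this can fail: when `(q − 1)_3 = 3` every element of order 3 is conjugate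 into `H`.) -/
theorem result {F : Type*} [Field F] [Fintype F] {p : ℕ} [Fact p.Prime] [CharP F p] {q : ℕ} (hq : Fintype.card F = q)
    (n : ℕ) (hn : 4 ≤ n) (he : Even n) (f : (Fin n → F) → (Fin n → F) → F) (hf : Cfsg.Geo.IsSymplecticForm f)
    (r : ℕ) [Fact r.Prime] (hr2 : r ≠ 2) (hgap : ¬ (n = 6 ∧ r = 3)) (hΩ : r ∣ ((Cfsg.Geo.similarityGroup f).comap (Matrix.SpecialLinearGroup.toGL : Matrix.SpecialLinearGroup (Fin n) F →* GL (Fin n) F)).index) :
    ∃ x : Matrix.SpecialLinearGroup (Fin n) F,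
      (∃ z : F, ((x ^ r : Matrix.SpecialLinearGroup (Fin n) F) : Matrix (Fin n) (Fin n) F) = z • (1 : Matrix (Fin n) (Fin n) F)) ∧
      (∀ z : F, (x : Matrix (Fin n) (Fin n) F) ≠ z • (1 : Matrix (Fin n) (Fin n) F)) ∧
      ∀ P : Matrix.SpecialLinearGroup (Fin n) F, P⁻¹ * x * P ∉ ((Cfsg.Geo.similarityGroup f).comap (Matrix.SpecialLinearGroup.toGL : Matrix.SpecialLinearGroup (Fin n) F →* GL (Fin n) F)) := by
  classical
  have hrp : r.Prime := Fact.out
  suffices h : ∃ x : Matrix.SpecialLinearGroup (Fin n) F, x ^ r = 1 ∧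
      (∀ z : F, (x : Matrix (Fin n) (Fin n) F) ≠ z • (1 : Matrix (Fin n) (Fin n) F)) ∧
      ∀ P : GL (Fin n) F, P⁻¹ * Matrix.SpecialLinearGroup.toGL x * P ∉ Cfsg.Geo.similarityGroup f by
    obtain ⟨x, hx1, hx2, hx3⟩ := h
    refine ⟨x, ⟨1, by rw [hx1, one_smul, Matrix.SpecialLinearGroup.coe_one]⟩, hx2, fun P hP => ?_⟩
    rw [Subgroup.mem_comap, map_mul, map_mul, map_inv] at hP
    exact hx3 _ hP
  by_cases hrp' : r = p
  · subst hrp'
    exact CfsgLib.Geo.DerangeAlt.exists_unipotent_derangement hr2 hn hf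
  · have hrF : (r : F) ≠ 0 := by
      intro h
      exact hrp' ((Nat.prime_dvd_prime_iff_eq Fact.out hrp).1 ((CharP.cast_eq_zero_iff F p r).1 h)).symm
    have hrq : ¬ r ∣ Fintype.card F := by
      intro h
      obtain ⟨k, hk, hk'⟩ := FiniteField.card F p
      rw [hk'] at h
      exact hrp' ((Nat.prime_dvd_prime_iff_eq hrp Fact.out).1 (hrp.dvd_of_dvd_pow h))
    obtain ⟨j, hjo, hjn, hrj⟩ := CfsgLib.Geo.DerangeAlt.exists_odd_dvd (by omega) hrp hrq hf hΩ
    have hi : orderOf (Nat.card F : ZMod r) ∣ j := by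
      rw [orderOf_dvd_iff_pow_eq_one, Nat.card_eq_fintype_card, ← Nat.cast_pow, ← Nat.cast_one,
        ZMod.natCast_eq_natCast_iff]
      exact ((Nat.modEq_iff_dvd' (Nat.one_le_pow _ _ Fintype.card_pos)).2 hrj).symm
    have hio : Odd (orderOf (Nat.card F : ZMod r)) := hjo.of_dvd_nat hi
    have hin : orderOf (Nat.card F : ZMod r) ≤ n := (Nat.le_of_dvd hjo.pos hi).trans hjn
    by_cases hi1 : orderOf (Nat.card F : ZMod r) = 1
    · refine CfsgLib.Geo.DerangeAlt.exists_diag_derangement hr2 hn he hgap ?_ hf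
      rw [orderOf_eq_one_iff, ← Nat.cast_one, ZMod.natCast_eq_natCast_iff, Nat.card_eq_fintype_card] at hi1
      exact (Nat.modEq_iff_dvd' Fintype.card_pos).1 hi1.symm
    · exact CfsgLib.Geo.DerangeAlt.exists_block_derangement hrF (by have := hio.pos; omega) hio hin hf

end Cfsg.Agent.S5968
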