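import Cfsg.Statements.S5969
import Cfsg.Agent.Lib.Geo.InvolutionFieldExt

set_option autoImplicit false
open scoped MatrixGroups
open Cfsg

namespace Cfsg.Agent.S5969

/-- Involutions of PSL_n(q) and extension-field subgroups of degree 2. Here `T = PSL_n(F)` for a field `F` with `q = p^f` elements (`n ≥ 2`, `(n, q) ≠ (2, 2), (2, 3)`), `k` is a prime dividing `n`, `K` is a subalgebra of the `n × n` matrices that is a field of degree `k` over `F` (an extension-field structure F_{q^k} on `F^n`), and `H` is the subgroup of matrices of determinant 1 normalizing `K` — a subgroup of type GL_{n/k}(q^k) (maximal except in some small cases; maximality is not assumed); Ω is the set of cosets of `H` in `T`, so an element of `T` of prime order `r` (a matrix `x` of determinant 1 with `x^r` scalar, `x` not scalar) fixes a point of Ω when some conjugate of `x` by a matrix of determinant 1 normalizes `K`. Take `k = 2` and suppose the index of `H` is even. Then every involution of `T` is conjugate in `T`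 into `H` if and only if `n = 2`, or `q` is odd and `(q − 1)_2 ≤ (n)_2`. -/
theorem result {F : Type*} [Field F] [Fintype F] {p : ℕ} [Fact p.Prime] [CharP F p] {q : ℕ} (hq : Fintype.card F = q)
    (n : ℕ) (hn : 2 ≤ n) (hT : (n, q) ≠ (2, 2) ∧ (n, q) ≠ (2, 3))
    (k : ℕ) (hk : k.Prime) (hkn : k ∣ n) (K : Subalgebra F (Matrix (Fin n) (Fin n) F)) (hK : Cfsg.Geo.IsFieldSubalgebra k K) (hk2 : k = 2) (hΩ : 2 ∣ ((Cfsg.Geo.subalgebraNormalizer K).comap (Matrix.SpecialLinearGroup.toGL : Matrix.SpecialLinearGroup (Fin n) F →* GL (Fin n) F)).index) :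
    (∀ x : Matrix.SpecialLinearGroup (Fin n) F,
      (∃ z : F, ((x ^ 2 : Matrix.SpecialLinearGroup (Fin n) F) : Matrix (Fin n) (Fin n) F) = z • (1 : Matrix (Fin n) (Fin n) F)) →
      (∀ z : F, (x : Matrix (Fin n) (Fin n) F) ≠ z • (1 : Matrix (Fin n) (Fin n) F)) →
      ∃ P : Matrix.SpecialLinearGroup (Fin n) F, P⁻¹ * x * P ∈ ((Cfsg.Geo.subalgebraNormalizer K).comap (Matrix.SpecialLinearGroup.toGL : Matrix.SpecialLinearGroup (Fin n) F →* GL (Fin n) F))) ↔
    (n = 2 ∨ (Odd q ∧ padicValNat 2 (q - 1) ≤ padicValNat 2 n)) := by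
  subst hq hk2
  have he : Even n := even_iff_two_dvd.2 hkn
  constructor
  · intro hall
    by_contra hc
    rw [not_or, ← CfsgLib.Geo.InvClass.two_ne_zero_iff_odd_card] at hc
    have hn4 : 4 ≤ n := by
      obtain ⟨m, hm⟩ := he
      omega
    obtain ⟨x, z, c, i0, hx, hns, hfix⟩ := CfsgLib.Geo.InvClass.exists_near_scalar (F := F) hn4
      (fun h2 => Nat.lt_of_not_le fun h => hc.2 ⟨h2, h⟩)
    obtain ⟨P, hP⟩ := hall x ⟨z, hx⟩ hns
    rw [Subgroup.mem_comap, CfsgLib.Geo.InvClass.toGL_conj] at hP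
    exact CfsgLib.Geo.InvClass.not_normalizes hn4 he K hK x c i0 hfix hns _ hP
  · intro hc x hx hns
    obtain ⟨z, hx⟩ := hx
    rw [← CfsgLib.Geo.InvClass.two_ne_zero_iff_odd_card] at hc
    obtain ⟨P, hP⟩ := CfsgLib.Geo.InvClass.involution_normalizes (by omega) he K hK x hx hns hc
    exact CfsgLib.Geo.InvClass.exists_sl_conj (by omega) x hx _ P hP

end Cfsg.Agent.S5969
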