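import Cfsg.Statements.S5972
import Cfsg.Agent.Lib.Geo.Elusive.SingularArith
import Cfsg.Agent.Lib.Geo.Elusive.SingularTwo
import Cfsg.Agent.Lib.Geo.Elusive.SingularCount
import Cfsg.Agent.Lib.Geo.Elusive.NDFinal


set_option autoImplicit false
set_option maxHeartbeats 800000
open scoped MatrixGroups
open Cfsg

namespace Cfsg.Agent.S5972

/-- Elements of prime order of Ω_n(q), n = 2d+1 ≥ 7, q odd, with no fixed totally singular `m`-space. Here `T = Ω_n(q)` is realised as the commutator subgroup of the isometry group of the quadratic form `x₀² + Σ xᵢyᵢ` over the field `F` with `q` elements (it has trivial centre, so its elements of prime order `r` are used directly); let `1 ≤ m ≤ d` and let `r` be a prime dividing the number of totally singular `m`-spaces. For `r ≠ p` let `i` be the multiplicative order of `q` modulo `r`, `c = i` for `i` even and `c = 2i` for `i` odd, and write `k = n mod c`, `ℓ = m mod i`, `n' = ⌊n/i⌋`, `m' = ⌊m/i⌋`, `t =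 (r−1)/i`. Then every element of `T` of order `r` fixes some totally singular `m`-space if and only if either (i) `r = 2` and (`m < (n−1)/2` or `q ≡ 1 (mod 4)`); or (ii) `r ≠ p` is odd, `i ≤ m`, `k > 2ℓ`, and (`i` is odd or `n' − 2m' ≥ t`). -/
theorem result {F : Type*} [Field F] [Fintype F] {p : ℕ} [Fact p.Prime] [CharP F p] {q : ℕ} (hq : Fintype.card F = q) (hqodd : Odd q)
    (d m : ℕ) (hd : 3 ≤ d) (hm : 1 ≤ m) (hmd : m ≤ d)
    (r : ℕ) [Fact r.Prime]
    (hrΩ : r ∣ Nat.card {W : Submodule F (Unit ⊕ (Fin d ⊕ Fin d) → F) // Module.finrank F ↥W = m ∧ (∀ w ∈ W, Cfsg.quadFormOdd d F w = 0)})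
    (i c : ℕ) (hi : i = orderOf (q : ZMod r)) (hc : c = if Even i then i else 2 * i) :
    (∀ x : GL (Unit ⊕ (Fin d ⊕ Fin d)) F, x ∈ Cfsg.Geo.omegaGL (Cfsg.quadFormOdd d F) → orderOf x = r →
      ∃ W : Submodule F (Unit ⊕ (Fin d ⊕ Fin d) → F), Module.finrank F ↥W = m ∧ (∀ w ∈ W, Cfsg.quadFormOdd d F w = 0) ∧
        W.map (Matrix.toLin' (x : Matrix (Unit ⊕ (Fin d ⊕ Fin d)) (Unit ⊕ (Fin d ⊕ Fin d)) F)) ≤ W) ↔
    ((r = 2 ∧ (m < d ∨ q % 4 = 1)) ∨
     (r ≠ p ∧ 2 < r ∧ i ≤ m ∧ 2 * (m % i) < (2 * d + 1) % c ∧ (Odd i ∨ (r - 1) / i + 2 * (m / i) ≤ (2 * d + 1) / i))) := by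
  have hQ := CfsgLib.Classical.Quad.qOdd_nondeg (F := F) (CfsgLib.Classical.Quad.two_ne_zero_of_odd hq hqodd) d
  set Q := CfsgLib.Classical.Quad.qOdd d F with hQdef
  have hco : ⇑Q = Cfsg.quadFormOdd d F := CfsgLib.Classical.Quad.coe_qOdd d F
  rw [← hco] at hrΩ ⊢
  have hn : Module.finrank F (Unit ⊕ (Fin d ⊕ Fin d) → F) = 2 * d + 1 := by
    rw [Module.finrank_pi]; simp only [Fintype.card_sum, Fintype.card_fin, Fintype.card_unit]; omega
  have hT : ¬ CfsgLib.Geo.Elusive.Plus Q (⊤ : Submodule F (Unit ⊕ (Fin d ⊕ Fin d) → F)) := fun h => by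
    obtain ⟨j, hj⟩ := CfsgLib.Geo.Elusive.plus_nondeg_even h
    rw [finrank_top, hn] at hj
    omega
  obtain ⟨W₀, -, hW₀, hW₀m⟩ := (CfsgLib.Geo.Elusive.tsIn_iff (CfsgLib.Geo.Elusive.nondeg_top hQ) m).2
    (Or.inl (by rw [finrank_top, hn]; omega))
  have hP : ∀ W : Submodule F (Unit ⊕ (Fin d ⊕ Fin d) → F),
      (Module.finrank F W = m ∧ (∀ w ∈ W, Q w = 0)) ↔ CfsgLib.Geo.Elusive.Iso Q W W₀ := fun W => by
    rw [CfsgLib.Geo.Elusive.iso_singular hW₀, hW₀m]
  simp only [← and_assoc, hP] at hrΩ ⊢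
  have hcard : 5 ≤ Fintype.card (Unit ⊕ (Fin d ⊕ Fin d)) := by
    simp only [Fintype.card_sum, Fintype.card_fin, Fintype.card_unit]; omega
  by_cases hrp : r = p
  · subst hrp
    refine absurd hrΩ ?_
    simp only [← hP]
    exact CfsgLib.Geo.Elusive.not_dvd_card_singular (p := r) hQ (by rw [hn]; omega)
  have hrF : (r : F) ≠ 0 := CfsgLib.Geo.PrimeAct.natCast_ne_zero_of_ringChar (Fact.out : r.Prime) hrp
  by_cases hr2 : r = 2
  · subst hr2
    have hp2 : p ≠ 2 := fun h => hrp h.symm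
    have h2 : (2 : F) ≠ 0 := by exact_mod_cast hrF
    have hq2 : q % 2 = 1 := by
      have h := FiniteField.odd_card_of_char_ne_two (F := F) (by rw [ringChar.eq F p]; exact hp2)
      rwa [hq] at h
    rw [CfsgLib.Geo.Elusive.two_iff_ts_odd h2 hQ (d := d)
      (by simp only [Fintype.card_sum, Fintype.card_fin, Fintype.card_unit]; omega) (by omega) hmd hW₀ hW₀m]
    simp only [CfsgLib.Geo.Elusive.isSquare_neg_one_iff_mod hq, lt_irrefl, false_and, and_false, or_false, true_and]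
    omega
  have hq' : Nat.card F = q := by rw [Nat.card_eq_fintype_card, hq]
  have hi' : orderOf (Nat.card F : ZMod r) = i := by rw [hq', hi]
  have hcs : CfsgLib.Geo.Elusive.cstep i = c := by rw [hc]; rfl
  have hi0 : 0 < i := hi' ▸ CfsgLib.Geo.Elusive.ord_pos hrF
  have ht : (r - 1) / i = (CfsgLib.Classical.ClassTheory.cycFactors F r).card := by
    have h := (CfsgLib.Geo.Elusive.cyc_facts (F := F) (r := r) hrF).2
    rw [hi'] at h
    rw [← h, Nat.mul_div_cancel _ hi0]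
  have hr3 : 2 < r := lt_of_le_of_ne (Fact.out : r.Prime).two_le (Ne.symm hr2)
  rw [CfsgLib.Geo.Elusive.allFix_order_iff _ hQ hcard hr2]
  have key := fun him => CfsgLib.Geo.Elusive.ts_iff (F := F) (r := r) hr2 hrF (c := c) (i := i) (n := 2 * d + 1) (m := m)
    (T := CfsgLib.Geo.Elusive.Plus Q (⊤ : Submodule F (Unit ⊕ (Fin d ⊕ Fin d) → F)))
    hcs.symm hi'.symm rfl (by omega) (fun h => absurd h (by omega)) him
  refine (CfsgLib.Geo.Elusive.main_ts hr2 hrF hQ hW₀ hW₀m hrΩ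
    (Crit := CfsgLib.Geo.Elusive.TSCrit c i ((r - 1) / i) (2 * d + 1) m
      (CfsgLib.Geo.Elusive.Plus Q (⊤ : Submodule F (Unit ⊕ (Fin d ⊕ Fin d) → F)))) ?_ ?_).trans ?_
  · rw [hi', hcs, hn, ht]; exact fun h => (key h.1).2 h
  · rw [hi', hcs, hn, ht]; exact fun him h => (key him).1 h
  simp only [CfsgLib.Geo.Elusive.TSCrit, hT, hr2, hr3, hrp, ne_eq, not_false_eq_true, false_and, false_or, true_and,
    and_false, or_false, false_iff, true_iff, not_true_eq_false, not_not]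
  have hk : (2 * d + 1) % c % 2 = 1 := by
    rw [Nat.mod_mod_of_dvd _ (even_iff_two_dvd.1 (hcs ▸ CfsgLib.Geo.Elusive.cstep_even i))]
    omega
  rcases Nat.even_or_odd i with hie | hio
  · obtain rfl : c = i := by rw [hc, if_pos hie]
    simp only [hie, Nat.not_odd_iff_even.2 hie, false_and, false_or, true_and, or_false]
    rw [Nat.even_iff]
    omega
  · simp only [hio, Nat.not_even_iff_odd.2 hio, false_and, false_or, true_and, or_false, true_or, and_true]
    omega

end Cfsg.Agent.S5972
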