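import Cfsg.Statements.S5975
import Cfsg.Agent.Lib.Geo.SympFieldExtDerange
import Cfsg.Agent.Lib.Geo.SympFieldInvolution
import Cfsg.Agent.Lib.Geo.InvolutionFieldExt

set_option autoImplicit false
open scoped MatrixGroups
open scoped Matrix
open Cfsg

namespace Cfsg.Agent.S5975

/-- Elements of prime order of PSp_n(q) and the field-extension subgroups of type Sp_{n/k}(q^k). Here `T = PSp_{2d}(F)` for a field `F` with `q` elements (`d ≥ 2`, `(d, q) ≠ (2, 2)`), realised through the matrices preserving the standard alternating form `f`; `k` is a prime and `K` is a subalgebra of the `2d × 2d` matrices that is a field of degree `k` over `F` whose elements are self-adjoint for `f` and satisfy `f(a v, v) = 0` (so `F^{2d}` becomes a vector space over `K ≅ F_{q^k}` on which `f` is the trace of a `K`-bilinear alternating form); `H` is the subgroup of `T` normalizing `K` — the symplectic maps that are `K`-linear or `K`-semilinear, a subgroup of type Sp_{2d/k}(q^k) (maximality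 is not assumed). Ω is the set of cosets of `H` in `T`, so an element of `T` of prime order `r` (`x ∈ T` with `x^r` scalar, `x` not scalar) fixes a point of Ω exactly when some `T`-conjugate of `x` normalizes `K`. Let `r` be a prime dividing the index of `H`. Then every element of `T` of order `r` fixes a point of Ω if and only if `r = 2`, `d = 2`, `k = 2` and `q` is odd. -/
theorem result {F : Type*} [Field F] [Fintype F] {p : ℕ} [Fact p.Prime] [CharP F p] {q : ℕ} (hq : Fintype.card F = q)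
    (d : ℕ) (hd : 2 ≤ d) (hT : (d, q) ≠ (2, 2)) (k : ℕ) (hk : k.Prime)
    (K : Subalgebra F (Matrix (Fin d ⊕ Fin d) (Fin d ⊕ Fin d) F)) (hK : Cfsg.Geo.IsFieldSubalgebra k K)
    (hKf : Cfsg.Geo.IsSelfAdjointFor (Cfsg.sympForm d F) K) (hKalt : ∀ a ∈ K, ∀ v : Fin d ⊕ Fin d → F, Cfsg.sympForm d F (a *ᵥ v) v = 0)
    (r : ℕ) [Fact r.Prime]
    (hΩ : r ∣ (Cfsg.Geo.subalgebraNormalizer K).relIndex (Cfsg.spGL d F)) :
    (∀ x ∈ Cfsg.spGL d F, (∃ z : F, ((x ^ r : GL (Fin d ⊕ Fin d) F) : Matrix (Fin d ⊕ Fin d) (Fin d ⊕ Fin d) F) = z • (1 : Matrix (Fin d ⊕ Fin d) (Fin d ⊕ Fin d) F)) →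
      (∀ z : F, (x : Matrix (Fin d ⊕ Fin d) (Fin d ⊕ Fin d) F) ≠ z • (1 : Matrix (Fin d ⊕ Fin d) (Fin d ⊕ Fin d) F)) →
      ∃ g ∈ Cfsg.spGL d F, g⁻¹ * x * g ∈ Cfsg.Geo.subalgebraNormalizer K) ↔
    (r = 2 ∧ d = 2 ∧ k = 2 ∧ Odd q) := by
  subst hq
  constructor
  · intro hall
    by_contra hc
    have hexc : r = p ∨ ¬ (r = 2 ∧ d = 2 ∧ k = 2) := by
      by_contra h
      rw [not_or, not_not] at h
      obtain ⟨hrp, hr2, hd2, hk2⟩ := h
      refine hc ⟨hr2, hd2, hk2, ?_⟩
      by_contra hodd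
      rw [Nat.not_odd_iff_even, even_iff_two_dvd] at hodd
      obtain ⟨n, -, hn⟩ := FiniteField.card F p
      rw [hn] at hodd
      exact hrp (hr2.trans ((Nat.prime_dvd_prime_iff_eq Nat.prime_two Fact.out).1 (Nat.prime_two.dvd_of_dvd_pow hodd)))
    obtain ⟨x, hx, hxr, hns, hno⟩ :=
      CfsgLib.Geo.SympFieldDer.exists_derangement (p := p) hd hk K hK hKf hKalt hΩ hexc
    obtain ⟨g, hg, hgm⟩ := hall x hx ⟨1, by rw [hxr, Units.val_one, one_smul]⟩ hns
    exact hno g hg hgm
  · rintro ⟨rfl, rfl, rfl, hodd⟩ x hx ⟨z, hz⟩ hns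
    exact CfsgLib.Geo.SympFieldInv.involution_normalises rfl (CfsgLib.Geo.InvClass.two_ne_zero_iff_odd_card.2 hodd)
      K hK hKf hx hz hns

end Cfsg.Agent.S5975
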