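import Cfsg.Statements.S5981
import Cfsg.Agent.Lib.Geo.OrthFormPositive

set_option autoImplicit false
open scoped MatrixGroups
open Cfsg

namespace Cfsg.Agent.S5981

/-- Elements of prime order of PSL_n(q), q odd, and the subgroups of orthogonal type. Here `T = PSL_n(F)` for a field `F` with `q` elements, `q` odd, `n ≥ 3`; `Q` is a non-degenerate quadratic form on `F^n` (of either type when `n` is even) and `H` is the subgroup of matrices of determinant 1 that preserve `Q` up to a scalar — a subgroup of type O^ε_n(q) (maximality is not assumed); Ω is the set of cosets of `H` in `T`, so an element of `T` of prime order `r` (a matrix `x` of determinant 1 with `x^r` scalar, `x` not scalar) fixes a point of Ω exactly when some conjugate of `x` by a matrix of determinant 1 preserves `Q` up to a scalar. Let `r` be a prime dividing the index of `H`, with `(n, r) ≠ (6, 3)`. Then every element of `T` of order `r` fixes a point of Ω if and only if `r = 2`, or `r ∈ {3, 5}`, `n = r`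 and `(q − 1)_r = r` (the `r`-part of `q − 1` is exactly `r`). The case `(n, r) = (6, 3)` is not covered by this statement. -/
theorem result {F : Type*} [Field F] [Fintype F] {p : ℕ} [Fact p.Prime] [CharP F p] {q : ℕ} (hq : Fintype.card F = q)
    (hodd : Odd q) (n : ℕ) (hn : 3 ≤ n) (Q : (Fin n → F) → F) (hQ : Cfsg.Geo.IsNondegenerateQuadraticForm Q)
    (r : ℕ) [Fact r.Prime] (hgap : ¬ (n = 6 ∧ r = 3))
    (hΩ : r ∣ (Cfsg.Geo.quadSimilarityGroup Q).relIndex (Cfsg.Geo.specialLinear (Fin n) F)) :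
    (∀ x ∈ Cfsg.Geo.specialLinear (Fin n) F, (∃ z : F, ((x ^ r : GL (Fin n) F) : Matrix (Fin n) (Fin n) F) = z • (1 : Matrix (Fin n) (Fin n) F)) →
      (∀ z : F, (x : Matrix (Fin n) (Fin n) F) ≠ z • (1 : Matrix (Fin n) (Fin n) F)) →
      ∃ g ∈ Cfsg.Geo.specialLinear (Fin n) F, g⁻¹ * x * g ∈ Cfsg.Geo.quadSimilarityGroup Q) ↔
    (r = 2 ∨ ((r = 3 ∨ r = 5) ∧ n = r ∧ padicValNat r (q - 1) = 1)) := by
  classical
  subst hq
  have hrp : r.Prime := Fact.out
  obtain ⟨k, -, hk⟩ := FiniteField.card F p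
  have h2 : (2 : F) ≠ 0 := fun h => by
    have h' := (Nat.prime_dvd_prime_iff_eq (Fact.out : p.Prime) Nat.prime_two).1
      ((CharP.cast_eq_zero_iff F p 2).1 (by exact_mod_cast h))
    rw [hk, h'] at hodd
    exact Nat.not_even_iff_odd.2 hodd ((Nat.even_pow' k.pos.ne').2 even_two)
  obtain ⟨Qf, hQf, hQn⟩ := CfsgLib.Geo.OrthFormDer.exists_quad hQ
  have hnot1 : r ∣ Fintype.card F - 1 → (r : F) ≠ 0 := fun h hF => by
    have h' := (Nat.prime_dvd_prime_iff_eq (Fact.out : p.Prime) hrp).1 ((CharP.cast_eq_zero_iff F p r).1 hF)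
    have hpq : r ∣ Fintype.card F := by rw [hk, h']; exact dvd_pow_self r k.pos.ne'
    have := (Nat.dvd_sub hpq h)
    rw [Nat.sub_sub_self Fintype.card_pos, Nat.dvd_one] at this
    exact hrp.ne_one this
  constructor
  · intro hall
    by_contra hR
    simp only [not_or, not_and] at hR
    obtain ⟨hr2, hsmall⟩ := hR
    obtain ⟨x, hx, z, hz, hns, hder⟩ : ∃ x ∈ Cfsg.Geo.specialLinear (Fin n) F, ∃ z : F,
        ((x ^ r : GL (Fin n) F) : Matrix (Fin n) (Fin n) F) = z • (1 : Matrix (Fin n) (Fin n) F) ∧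
        (∀ z : F, (x : Matrix (Fin n) (Fin n) F) ≠ z • 1) ∧
        ∀ g : GL (Fin n) F, g⁻¹ * x * g ∉ Cfsg.Geo.quadSimilarityGroup Q := by
      have hone : ∀ x : GL (Fin n) F, x ^ r = 1 →
          ((x ^ r : GL (Fin n) F) : Matrix (Fin n) (Fin n) F) = (1 : F) • (1 : Matrix (Fin n) (Fin n) F) :=
        fun x h => by rw [h, Units.val_one, one_smul]
      by_cases hrp' : r = p
      · obtain ⟨x, hx, hxp, hns, hder⟩ := CfsgLib.Geo.OrthFormDer.transvection_derangement Qf h2 hn hQf hQn (p := p)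
        exact ⟨x, hx, 1, hone x (hrp' ▸ hxp), hns, hder⟩
      have hrF : (r : F) ≠ 0 := fun h => hrp' ((Nat.prime_dvd_prime_iff_eq (Fact.out : p.Prime) hrp).1
        ((CharP.cast_eq_zero_iff F p r).1 h)).symm
      rcases CfsgLib.Geo.OrthFormDer.index_cases Qf h2 hn hr2 hrp' hQf hQn hΩ with ⟨j, hj, hjn, hrj⟩ | ⟨h1, h3, h4, h5⟩
      swap
      · obtain ⟨x, hx, hxr, hns, hder⟩ :=
          CfsgLib.Geo.OrthFormDer.zeros_derangement Qf hrF hQf hQn (by omega) h1 h3 h4 h5
        exact ⟨x, hx, 1, hone x hxr, hns, hder⟩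
      by_cases hr1 : r ∣ Fintype.card F - 1
      swap
      · have hpow : (Nat.card F : ZMod r) ^ j = 1 := by
          have := (ZMod.natCast_eq_zero_iff _ r).2 hrj
          rwa [Nat.cast_sub (Nat.one_le_pow _ _ Fintype.card_pos), Nat.cast_pow, Nat.cast_one, sub_eq_zero,
            ← Nat.card_eq_fintype_card] at this
        have hdvd := orderOf_dvd_of_pow_eq_one hpow
        obtain ⟨x, hx, hxr, hns, hder⟩ := CfsgLib.Geo.OrthFormDer.odd_block_derangement Qf h2
          (hrp.odd_of_ne_two hr2) hrF hQf hQn hr1 (hj.of_dvd_nat hdvd) ((Nat.le_of_dvd hj.pos hdvd).trans hjn)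
        exact ⟨x, hx, 1, hone x hxr, hns, hder⟩
      have mk : ∀ (d : Fin n → F) (z : F), (∀ i, d i ≠ 0) → (∏ i, d i = 1) → (∀ i, d i ^ r = z) →
          (∀ z, ∃ i, d i ≠ z) → ¬ CfsgLib.Geo.FormDer.Symmetric' d →
          ∃ x ∈ Cfsg.Geo.specialLinear (Fin n) F, ∃ z : F,
            ((x ^ r : GL (Fin n) F) : Matrix (Fin n) (Fin n) F) = z • (1 : Matrix (Fin n) (Fin n) F) ∧
            (∀ z : F, (x : Matrix (Fin n) (Fin n) F) ≠ z • 1) ∧
            ∀ g : GL (Fin n) F, g⁻¹ * x * g ∉ Cfsg.Geo.quadSimilarityGroup Q := fun d z hd hprod hdr hns hsym => by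
        let x : GL (Fin n) F := Matrix.GeneralLinearGroup.mkOfDetNeZero (Matrix.diagonal d)
          (by rw [Matrix.det_diagonal, hprod]; exact one_ne_zero)
        refine ⟨x, CfsgLib.Geo.FormDer.mem_SL_iff.2 (by
          show (Matrix.diagonal d).det = 1
          rw [Matrix.det_diagonal, hprod]), z, ?_, fun w hw => ?_,
          CfsgLib.Geo.OrthFormDer.diag_derangement Qf hQf hQn hd hsym rfl⟩
        · rw [Units.val_pow_eq_pow_val, show (x : Matrix (Fin n) (Fin n) F) = Matrix.diagonal d from rfl,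
            Matrix.diagonal_pow, ← Matrix.diagonal_one, ← Matrix.diagonal_smul]
          exact congrArg Matrix.diagonal (funext fun i => by simp [hdr])
        · obtain ⟨i, hi⟩ := hns w
          have := congrFun (congrFun hw i) i
          exact hi (by simpa [x, Matrix.GeneralLinearGroup.mkOfDetNeZero] using this)
      by_cases hsp : (r = 3 ∨ r = 5) ∧ n = r
      · obtain ⟨h35, rfl⟩ := hsp
        have hsq : n ^ 2 ∣ Fintype.card F - 1 := by
          have h1 := one_le_padicValNat_of_dvd (p := n) (by have := Fintype.one_lt_card (α := F); omega) hr1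
          have := hsmall h35 rfl
          exact (padicValNat_dvd_iff_le (by have := Fintype.one_lt_card (α := F); omega)).2 (by omega)
        obtain ⟨d, z, hd, hprod, hdr, -, hns, hsym⟩ := CfsgLib.Geo.FormDer.exists_bad_square hr2 hsq
        exact mk d z hd hprod hdr hns hsym
      · obtain ⟨d, hd, hprod, hdr, hns, hsym⟩ := CfsgLib.Geo.FormDer.exists_bad hr2 hn hgap hsp hr1
        exact mk d 1 hd hprod hdr hns hsym
    obtain ⟨g, -, hg⟩ := hall x hx ⟨z, hz⟩ hns
    exact hder g hg
  · rintro (rfl | ⟨h35, rfl, hv⟩) x hx ⟨z, hz⟩ -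
    · exact CfsgLib.Geo.OrthFormDer.involution_sim Qf h2 (by omega) hQf hQn hx hz
    · have hne : Fintype.card F - 1 ≠ 0 := by have := Fintype.one_lt_card (α := F); omega
      have hr1 : n ∣ Fintype.card F - 1 := dvd_of_one_le_padicValNat hv.ge
      exact CfsgLib.Geo.OrthFormDer.small_order_sim h2 Qf hQf hQn h35 (hnot1 hr1) hr1
        (fun h => by have := (padicValNat_dvd_iff_le hne).1 h; omega) hx hz

end Cfsg.Agent.S5981
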