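import Cfsg.Statements.S5982
import Cfsg.Agent.Lib.Geo.UnitFormPositive

set_option autoImplicit false
open scoped MatrixGroups
open Cfsg

namespace Cfsg.Agent.S5982

/-- Elements of prime order of PSL_n(q), q = q₀², and the subgroups of unitary type. Here `T = PSL_n(F)` for a field `F` with `q = q₀²` elements (`n ≥ 3`), `f` is a non-degenerate unitary form on `F^n` for the involutory automorphism `x ↦ x^{q₀}`, and `H` is the subgroup of matrices of determinant 1 that preserve `f` up to a scalar — a subgroup of type GU_n(q₀) (maximality is not assumed); Ω is the set of cosets of `H` in `T`, so an element of `T` of prime order `r` (a matrix `x` of determinant 1 with `x^r` scalar, `x` not scalar) fixes a point of Ω exactly when some conjugate of `x` by a matrix of determinant 1 preserves `f` up to a scalar. Let `r` be a prime dividing the index of `H`, with `r = 2` or `r` different from the characteristic `p`, and with `(n, r) ≠ (6, 3)`. Then every element of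 `T` of order `r` fixes a point of Ω if and only if either `r = 2` and (`p = 2` or `(n)_2 ≤ (q − 1)_2`), or `r ∈ {3, 5}`, `n = r` and `(q₀ − 1)_r = r`. (Odd `r = p` and the case `(n, r) = (6, 3)` are not covered by this statement.) -/
theorem result {F : Type*} [Field F] [Fintype F] {p : ℕ} [Fact p.Prime] [CharP F p] {q : ℕ} (hq : Fintype.card F = q)
    (q₀ : ℕ) (hq₀ : q = q₀ ^ 2) (n : ℕ) (hn : 3 ≤ n) (f : (Fin n → F) → (Fin n → F) → F) (hf : Cfsg.Geo.IsUnitaryFormPow q₀ f)
    (r : ℕ) [Fact r.Prime] (hr : r = 2 ∨ r ≠ p) (hgap : ¬ (n = 6 ∧ r = 3))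
    (hΩ : r ∣ (Cfsg.Geo.similarityGroup f).relIndex (Cfsg.Geo.specialLinear (Fin n) F)) :
    (∀ x ∈ Cfsg.Geo.specialLinear (Fin n) F, (∃ z : F, ((x ^ r : GL (Fin n) F) : Matrix (Fin n) (Fin n) F) = z • (1 : Matrix (Fin n) (Fin n) F)) →
      (∀ z : F, (x : Matrix (Fin n) (Fin n) F) ≠ z • (1 : Matrix (Fin n) (Fin n) F)) →
      ∃ g ∈ Cfsg.Geo.specialLinear (Fin n) F, g⁻¹ * x * g ∈ Cfsg.Geo.similarityGroup f) ↔
    ((r = 2 ∧ (p = 2 ∨ padicValNat 2 n ≤ padicValNat 2 (q - 1))) ∨ ((r = 3 ∨ r = 5) ∧ n = r ∧ padicValNat r (q₀ - 1) = 1)) := by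
  classical
  subst hq
  have hrp : r.Prime := Fact.out
  obtain ⟨k, -, hk⟩ := FiniteField.card F p
  obtain ⟨B, hB', hBf⟩ := CfsgLib.Geo.UnitFormDer.exists_herm hq₀ hf
  have hfix := CfsgLib.Classical.Herm.card_fixed_powHom hq₀
  have hq2 : 2 ≤ q₀ := CfsgLib.Classical.two_le_of_card_sq hq₀
  have hq1 : Fintype.card F - 1 = (q₀ + 1) * (q₀ - 1) := by rw [hq₀, ← Nat.sq_sub_sq, one_pow]
  have h2 : p ≠ 2 → (2 : F) ≠ 0 := fun hp h => hp ((Nat.prime_dvd_prime_iff_eq (Fact.out : p.Prime) Nat.prime_two).1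
    ((CharP.cast_eq_zero_iff F p 2).1 (by exact_mod_cast h)))
  have hsplit : r ≠ 2 → r ∣ q₀ - 1 → ∀ m, r ^ m ∣ Fintype.card F - 1 → r ^ m ∣ q₀ - 1 := fun hr2 h m hm => by
    rw [hq1] at hm
    refine (Nat.Coprime.pow_left m ((hrp.coprime_iff_not_dvd).2 fun h' => hr2 ?_)).dvd_of_dvd_mul_left hm
    have h3 := Nat.dvd_sub h' h
    rw [show q₀ + 1 - (q₀ - 1) = 2 by omega] at h3
    exact (Nat.prime_dvd_prime_iff_eq hrp Nat.prime_two).1 h3
  constructor
  · intro hall
    by_contra hR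
    simp only [not_or, not_and] at hR
    obtain ⟨hR2, hsmall⟩ := hR
    obtain ⟨x, hx, z, hz, hns, hder⟩ : ∃ x ∈ Cfsg.Geo.specialLinear (Fin n) F, ∃ z : F,
        ((x ^ r : GL (Fin n) F) : Matrix (Fin n) (Fin n) F) = z • (1 : Matrix (Fin n) (Fin n) F) ∧
        (∀ z : F, (x : Matrix (Fin n) (Fin n) F) ≠ z • 1) ∧
        ∀ g : GL (Fin n) F, g⁻¹ * x * g ∉ Cfsg.Geo.similarityGroup f := by
      by_cases hr2 : r = 2
      · subst hr2
        obtain ⟨hp2, hv⟩ := hR2 rfl
        obtain ⟨x, hx, ⟨z, hz⟩, hns, hder⟩ :=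
          CfsgLib.Geo.UnitFormDer.square_derangement hB' (h2 hp2) (by omega) hBf (by omega)
        exact ⟨x, hx, z, hz, hns, hder⟩
      have hrp' : r ≠ p := hr.resolve_left hr2
      have hrF : (r : F) ≠ 0 := fun h => hrp' ((Nat.prime_dvd_prime_iff_eq (Fact.out : p.Prime) hrp).1
        ((CharP.cast_eq_zero_iff F p r).1 h)).symm
      have hrq : ¬ r ∣ q₀ := fun h => hrp' ((Nat.prime_dvd_prime_iff_eq hrp Fact.out).1
        (hrp.dvd_of_dvd_pow (hk ▸ hq₀.symm ▸ dvd_pow h two_ne_zero)))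
      rcases CfsgLib.Geo.UnitFormDer.index_cases hB' hn hBf hr2 hfix hrq hΩ with hr0 | ⟨h1, h3, h4, h5, h6⟩
      swap
      · obtain ⟨x, hx, hxr, hns, hder⟩ := CfsgLib.Geo.UnitFormDer.block_derangement hB' (by omega) hBf hrF h1 h3 h4
          (by rw [hfix]; exact h5) (by rw [hfix]; exact h6)
        exact ⟨x, hx, 1, by rw [hxr, Units.val_one, one_smul], hns, hder⟩
      have hr1 : r ∣ Fintype.card F - 1 := by rw [hq1]; exact hr0.trans (Dvd.intro_left _ rfl)
      have mk : ∀ (d : Fin n → F) (z : F), (∀ i, d i ≠ 0) → (∏ i, d i = 1) → (∀ i, d i ^ r = z) →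
          (∀ i, (d i) ^ (q₀ - 1) = 1) → (∀ z, ∃ i, d i ≠ z) → ¬ CfsgLib.Geo.FormDer.Symmetric' d →
          ∃ x ∈ Cfsg.Geo.specialLinear (Fin n) F, ∃ z : F,
            ((x ^ r : GL (Fin n) F) : Matrix (Fin n) (Fin n) F) = z • (1 : Matrix (Fin n) (Fin n) F) ∧
            (∀ z : F, (x : Matrix (Fin n) (Fin n) F) ≠ z • 1) ∧
            ∀ g : GL (Fin n) F, g⁻¹ * x * g ∉ Cfsg.Geo.similarityGroup f := fun d z hd hprod hdr hdq hns hsym => by
        let x : GL (Fin n) F := Matrix.GeneralLinearGroup.mkOfDetNeZero (Matrix.diagonal d)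
          (by rw [Matrix.det_diagonal, hprod]; exact one_ne_zero)
        have hdσ : ∀ i, (CfsgLib.Classical.Herm.powHom hq₀) (d i) = d i := fun i => by
          rw [CfsgLib.Classical.Herm.powHom_apply, show q₀ = q₀ - 1 + 1 by omega, pow_succ, hdq, one_mul]
        refine ⟨x, CfsgLib.Geo.FormDer.mem_SL_iff.2 (by
          show (Matrix.diagonal d).det = 1
          rw [Matrix.det_diagonal, hprod]), z, ?_, fun w hw => ?_,
          CfsgLib.Geo.UnitFormDer.diag_derangement hB' (by omega) hBf hd hdσ hsym rfl⟩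
        · rw [Units.val_pow_eq_pow_val, show (x : Matrix (Fin n) (Fin n) F) = Matrix.diagonal d from rfl,
            Matrix.diagonal_pow, ← Matrix.diagonal_one, ← Matrix.diagonal_smul]
          exact congrArg Matrix.diagonal (funext fun i => by simp [hdr])
        · obtain ⟨i, hi⟩ := hns w
          have := congrFun (congrFun hw i) i
          exact hi (by simpa [x, Matrix.GeneralLinearGroup.mkOfDetNeZero] using this)
      by_cases hsp : (r = 3 ∨ r = 5) ∧ n = r
      · obtain ⟨h35, rfl⟩ := hsp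
        have hne : q₀ - 1 ≠ 0 := by omega
        have hsq : n ^ 2 ∣ q₀ - 1 := by
          have h1 := one_le_padicValNat_of_dvd (p := n) hne hr0
          have := hsmall h35 rfl
          exact (padicValNat_dvd_iff_le hne).2 (by omega)
        obtain ⟨d, z, hd, hprod, hdr, hzr, hns, hsym⟩ := CfsgLib.Geo.FormDer.exists_bad_square hr2
          (hq1 ▸ hsq.trans (Dvd.intro_left _ rfl))
        obtain ⟨t, ht⟩ := hsq
        exact mk d z hd hprod hdr (fun i => by rw [ht, pow_two, mul_assoc, pow_mul, hdr, pow_mul, hzr, one_pow])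
          hns hsym
      · obtain ⟨d, hd, hprod, hdr, hns, hsym⟩ := CfsgLib.Geo.FormDer.exists_bad hr2 hn hgap hsp hr1
        obtain ⟨t, ht⟩ := hr0
        exact mk d 1 hd hprod hdr (fun i => by rw [ht, pow_mul, hdr, one_pow]) hns hsym
    obtain ⟨g, -, hg⟩ := hall x hx ⟨z, hz⟩ hns
    exact hder g hg
  · rintro (⟨rfl, hcond⟩ | ⟨h35, rfl, hv⟩) x hx ⟨z, hz⟩ -
    · refine CfsgLib.Geo.UnitFormDer.involution_sim hB' (by omega) hBf hz ?_
      rcases hcond with hp2 | hv
      · subst hp2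
        exact FiniteField.isSquare_of_char_two (ringChar.eq F 2) z
      · by_cases hp2 : p = 2
        · subst hp2
          exact FiniteField.isSquare_of_char_two (ringChar.eq F 2) z
        · exact CfsgLib.Geo.UnitFormDer.isSquare_of_det (by omega) hx hz
            (CfsgLib.Geo.UnitFormDer.isSquare_of_fixed hB' (h2 hp2) (by rw [map_neg, map_one])) hv
    · have hne : q₀ - 1 ≠ 0 := by omega
      have hr0 : n ∣ q₀ - 1 := dvd_of_one_le_padicValNat hv.ge
      have hn2 : n ≠ 2 := by omega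
      have hrF : (n : F) ≠ 0 := fun h => by
        have h' := (Nat.prime_dvd_prime_iff_eq (Fact.out : p.Prime) hrp).1 ((CharP.cast_eq_zero_iff F p n).1 h)
        exact hr.resolve_left hn2 h'.symm
      refine CfsgLib.Geo.UnitFormDer.small_order_sim hB' hBf h35 hrF (hfix.symm ▸ hr0) (fun h => ?_) hx hz
      have := (padicValNat_dvd_iff_le hne).1 (hsplit hn2 hr0 2 h)
      omega

end Cfsg.Agent.S5982
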