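import Cfsg.Statements.S5983
import Cfsg.Agent.Lib.Geo.QuadPolarWitness

set_option autoImplicit false
open scoped MatrixGroups
open Cfsg

namespace Cfsg.Agent.S5983

open Matrix in
theorem scalar_one {F : Type*} [Field F] [CharP F 2] {d : ℕ} (hd : 1 ≤ d) (z : F)
    (h : ∀ u v : Fin d ⊕ Fin d → F, Cfsg.sympForm d F (z • u) (z • v) = Cfsg.sympForm d F u v) : z = 1 := by
  have h1 := h (Pi.single (Sum.inr ⟨0, hd⟩) 1) (Pi.single (Sum.inl ⟨0, hd⟩) 1)
  simp only [CfsgLib.Geo.QuadPolar.sympForm_eq, Pi.smul_apply, smul_eq_mul] at h1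
  simp [Pi.single_apply] at h1
  have hz : (z - 1) * (z - 1) = 0 := by linear_combination h1 + (1 - z) * (CharTwo.two_eq_zero (R := F))
  exact sub_eq_zero.1 (mul_self_eq_zero.1 hz)

/-- Elements of prime order of PSp_n(q), q even, and the subgroups of orthogonal type. Here `T = Sp_{2d}(F)` for a field `F` of characteristic 2 with `q` elements (`d ≥ 2`, `(d, q) ≠ (2, 2)`), realised as the invertible matrices preserving the standard alternating form; `Q` is a non-degenerate quadratic form on `F^{2d}` whose polar form is that alternating form, and `H` is the subgroup of `T` preserving `Q` up to a scalar (equivalently preserving `Q`) — a subgroup of type O^±_{2d}(q) (maximality is not assumed); `Q` is of plus type when `F^{2d}` contains a `d`-dimensional subspace on which `Q` vanishes, of minus type otherwise. Ω is the set of cosets of `H` in `T`, so an element of `T` of prime order `r` (`x ∈ T` with `x^r` scalar, `x` not scalar) fixes a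 point of Ω exactly when some `T`-conjugate of `x` preserves `Q`. Let `r` be a prime dividing the index of `H`. Then every element of `T` of order `r` fixes a point of Ω if and only if `r = 2` and either `Q` is of plus type or `d` is odd. -/
theorem result {F : Type*} [Field F] [Fintype F] {p : ℕ} [Fact p.Prime] [CharP F p] {q : ℕ} (hq : Fintype.card F = q)
    (hp : p = 2) (d : ℕ) (hd : 2 ≤ d) (hT : (d, q) ≠ (2, 2)) (Q : (Fin d ⊕ Fin d → F) → F) (hQ : Cfsg.Geo.IsNondegenerateQuadraticForm Q)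
    (hQf : ∀ u v, QuadraticMap.polar Q u v = Cfsg.sympForm d F u v)
    (r : ℕ) [Fact r.Prime]
    (hΩ : r ∣ (Cfsg.Geo.quadSimilarityGroup Q).relIndex (Cfsg.spGL d F)) :
    (∀ x ∈ Cfsg.spGL d F, (∃ z : F, ((x ^ r : GL (Fin d ⊕ Fin d) F) : Matrix (Fin d ⊕ Fin d) (Fin d ⊕ Fin d) F) = z • (1 : Matrix (Fin d ⊕ Fin d) (Fin d ⊕ Fin d) F)) →
      (∀ z : F, (x : Matrix (Fin d ⊕ Fin d) (Fin d ⊕ Fin d) F) ≠ z • (1 : Matrix (Fin d ⊕ Fin d) (Fin d ⊕ Fin d) F)) →
      ∃ g ∈ Cfsg.spGL d F, g⁻¹ * x * g ∈ Cfsg.Geo.quadSimilarityGroup Q) ↔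
    (r = 2 ∧ (Cfsg.Geo.IsPlusTypeOn Q ⊤ ∨ Odd d)) := by
  classical
  subst hp hq
  obtain ⟨QF, hQF, hnd⟩ := CfsgLib.Geo.QuadPolar.exists_bundle hQ
  subst hQF
  have hd1 : 1 ≤ d := by omega
  have hrp : r.Prime := Fact.out
  have hidx := CfsgLib.Geo.QuadPolar.two_mul_relIndex hnd hQf hd1
  obtain ⟨s, hs, hsS, hsplus⟩ : ∃ s : ℤ, (s = 1 ∨ s = -1) ∧
      CfsgLib.Classical.CharTwo.signSum ⇑QF = s * (Fintype.card F : ℤ) ^ d ∧
      (s = 1 ↔ Cfsg.Geo.IsPlusTypeOn (⇑QF) ⊤) := by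
    by_cases h : Cfsg.Geo.IsPlusTypeOn (⇑QF) ⊤
    · exact ⟨1, Or.inl rfl, by rw [one_mul, CfsgLib.Geo.QuadPolar.sign_plus hnd h], iff_of_true rfl h⟩
    · exact ⟨-1, Or.inr rfl, by rw [neg_one_mul, CfsgLib.Geo.QuadPolar.sign_minus hnd hd1 h],
        iff_of_false (by norm_num) h⟩
  have hqpos : (Fintype.card F : ℤ) ^ d ≠ 0 := pow_ne_zero _ (by exact_mod_cast Fintype.card_ne_zero)
  constructor
  · intro hall
    have hwit : ∀ f : (Fin d ⊕ Fin d → F) →ₗ[F] (Fin d ⊕ Fin d → F), f ^ r = 1 → f ≠ 1 →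
        (∀ u v, Cfsg.sympForm d F (f u) (f v) = Cfsg.sympForm d F u v) →
        ∃ a, CfsgLib.Classical.CharTwo.psi (QF a) = 1 ∧
          ∀ v, CfsgLib.Geo.QuadPolar.shiftQ QF a (f v) = CfsgLib.Geo.QuadPolar.shiftQ QF a v := by
      intro f hf hne hform
      obtain ⟨x, hx, hxr, hxv⟩ := CfsgLib.Geo.QuadPolar.exists_gl hrp.ne_zero f hf hform
      have h := hall x hx ⟨1, by rw [hxr, one_smul, Units.val_one]⟩ fun z hz => hne (LinearMap.ext fun v => by
        have hv : ∀ w, f w = z • w := fun w => by rw [← hxv, hz, Matrix.smul_mulVec, Matrix.one_mulVec]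
        rw [hv, scalar_one hd1 z (fun u w => by rw [← hv, ← hv, hform]), one_smul]
        rfl)
      obtain ⟨a, ha, ha'⟩ := (CfsgLib.Geo.QuadPolar.fixes_iff hnd hQf hd1 hx).1 h
      exact ⟨a, ha, fun v => by rw [← hxv]; exact ha' v⟩
    have hr : r = 2 := by
      by_contra hr2
      have hrF : (r : F) ≠ 0 := fun h => hr2 ((Nat.prime_dvd_prime_iff_eq Nat.prime_two hrp).1
        ((CharP.cast_eq_zero_iff F 2 r).1 h)).symm
      have hrq : ¬ (r : ℤ) ∣ (Fintype.card F : ℤ) ^ d := by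
        intro h
        obtain ⟨k, hk, hk'⟩ := FiniteField.card F 2
        rw [hk', ← Nat.cast_pow, Int.natCast_dvd_natCast, ← pow_mul] at h
        exact hr2 ((Nat.prime_dvd_prime_iff_eq hrp Nat.prime_two).1 (hrp.dvd_of_dvd_pow h))
      have h1 : (r : ℤ) ∣ (Fintype.card F : ℤ) ^ d + s := by
        have h2 : (r : ℤ) ∣ (Fintype.card F : ℤ) ^ d * ((Fintype.card F : ℤ) ^ d + s) := by
          rw [mul_add, ← pow_add, ← two_mul d, mul_comm _ s, ← hsS, ← hidx]
          exact (Int.natCast_dvd_natCast.2 hΩ).mul_left 2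
        exact ((Nat.prime_iff_prime_int.1 hrp).dvd_or_dvd h2).resolve_left hrq
      have h2d : r ∣ Fintype.card F ^ (2 * d) - 1 := by
        rw [← Int.natCast_dvd_natCast, Nat.cast_sub (Nat.one_le_pow _ _ Fintype.card_pos)]
        push_cast
        have := h1.mul_right ((Fintype.card F : ℤ) ^ d - s)
        refine this.trans (dvd_of_eq ?_)
        rcases hs with rfl | rfl <;> ring
      obtain ⟨f, hfr, hfree, hform⟩ : ∃ f : (Fin d ⊕ Fin d → F) →ₗ[F] (Fin d ⊕ Fin d → F), f ^ r = 1 ∧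
          (∀ v, f v = v → v = 0) ∧ ∀ u v, Cfsg.sympForm d F (f u) (f v) = Cfsg.sympForm d F u v := by
        by_cases hA : r ∣ Fintype.card F ^ d - 1
        · exact CfsgLib.Geo.QuadPolar.exists_free_split hrF hd1 hA
        · exact CfsgLib.Geo.QuadPolar.exists_free_twisted hrF hd1 hA h2d
      have hne : f ≠ 1 := fun h => by
        have := hfree (fun _ => 1) (by rw [h]; rfl)
        exact one_ne_zero (congrFun this (Sum.inl ⟨0, hd1⟩))
      obtain ⟨a, ha, hfix⟩ := hwit f hfr hne hform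
      have h3 := CfsgLib.Geo.QuadPolar.signSum_mod (CfsgLib.Geo.QuadPolar.shiftQ QF a)
        (by simp [CfsgLib.Geo.QuadPolar.shiftQ]) f hfr hfree hfix
      rw [CfsgLib.Geo.QuadPolar.signSum_shiftQ, ha, one_mul, hsS] at h3
      have h4 : (r : ℤ) ∣ 2 := by
        rcases hs with rfl | rfl
        · exact (dvd_sub h1 h3).trans (dvd_of_eq (by ring))
        · exact (dvd_neg.2 (dvd_add h1 h3)).trans (dvd_of_eq (by ring))
      exact hr2 ((Nat.prime_dvd_prime_iff_eq hrp Nat.prime_two).1 (Int.natCast_dvd_natCast.1 h4))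
    refine ⟨hr, ?_⟩
    by_contra hcon
    push Not at hcon
    obtain ⟨hminus, hodd⟩ := hcon
    subst hr
    obtain ⟨f, hf2, hne, hform, U, hU, hUw⟩ :=
      CfsgLib.Geo.QuadPolar.exists_plus_involution (F := F) hd1 (Nat.not_odd_iff_even.1 hodd)
    obtain ⟨a, ha, hfix⟩ := hwit f hf2 hne hform
    have hU0 : ∀ u ∈ U, CfsgLib.Geo.QuadPolar.shiftQ QF a u = 0 := by
      intro u hu
      obtain ⟨w, hw, hw0⟩ := hUw u hu
      have := hfix w
      rw [hw, CfsgLib.Geo.QuadPolar.shiftQ_add, hQf, hw0, add_zero, add_eq_left] at this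
      exact this
    have h1 := CfsgLib.Geo.QuadPolar.signSum_of_singular hnd _ (CfsgLib.Geo.QuadPolar.shiftQ_add a) U hU0
      CfsgLib.Geo.QuadPolar.finrank_carrier hU
    rw [CfsgLib.Geo.QuadPolar.signSum_shiftQ, ha, one_mul, hsS] at h1
    exact hminus (hsplus.1 ((mul_eq_right₀ hqpos).1 h1))
  · rintro ⟨rfl, htype⟩ x hx ⟨z, hz⟩ -
    rw [CfsgLib.Geo.QuadPolar.fixes_iff hnd hQf hd1 hx]
    have hxf := CfsgLib.Geo.QuadPolar.mem_spGL.1 hx
    have hxx : ∀ v, (x : Matrix (Fin d ⊕ Fin d) (Fin d ⊕ Fin d) F).mulVec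
        ((x : Matrix (Fin d ⊕ Fin d) (Fin d ⊕ Fin d) F).mulVec v) = z • v := fun v => by
      rw [Matrix.mulVec_mulVec, ← Units.val_mul, ← pow_two, hz, Matrix.smul_mulVec, Matrix.one_mulVec]
    have hz1 : z = 1 := scalar_one hd1 z fun u v => by rw [← hxx, ← hxx, hxf, hxf]
    obtain ⟨a, hfix, ha | ⟨ha, hde⟩⟩ := CfsgLib.Geo.QuadPolar.involution_fixed hnd
      CfsgLib.Geo.QuadPolar.finrank_carrier (Matrix.toLin' (x : Matrix (Fin d ⊕ Fin d) (Fin d ⊕ Fin d) F))
      (fun v => by rw [Matrix.toLin'_apply, Matrix.toLin'_apply, hxx, hz1, one_smul])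
      (fun u v => by rw [Matrix.toLin'_apply, Matrix.toLin'_apply, hQf, hQf, hxf])
    · exact ⟨a, ha, fun v => by simpa [Matrix.toLin'_apply] using hfix v⟩
    · refine ⟨a, ?_, fun v => by simpa [Matrix.toLin'_apply] using hfix v⟩
      have hp' := htype.resolve_right (Nat.not_odd_iff_even.2 hde)
      rw [CfsgLib.Geo.QuadPolar.signSum_shiftQ, hsS, hsplus.2 hp', one_mul] at ha
      exact (mul_eq_right₀ hqpos).1 ha

end Cfsg.Agent.S5983
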