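import Cfsg.Statements.S5984
import Cfsg.Agent.Lib.Geo.UnitPairInvolution

set_option autoImplicit false
open scoped MatrixGroups
open Cfsg

namespace Cfsg.Agent.S5984

/-- Elements of prime order of PSU_n(q) and the stabilizers of pairs of complementary totally singular subspaces. Here `T = PSU_n(q)` is realised through `SU_n(q)`, the matrices of determinant 1 over the field `F` with `q²` elements preserving the hermitian form `Σ uᵢ vᵢ^q`, with `n ≥ 4` even; `D` is a pair of complementary subspaces of dimension `n/2` on each of which the form vanishes identically, and `H` is the subgroup of `SU_n(q)` fixing or interchanging the two members — a subgroup of type GL_{n/2}(q²).2 (maximality is not assumed). Ω is the set of cosets of `H`, so an element of `T` of prime order `r` (`x ∈ SU_n(q)` with `x^r` scalar, `x` not scalar) fixes a point of Ω exactly when some `SU_n(q)`-conjugate of `x` lies in `H`. Let `r` be a prime dividing the index of `H`. Then every element of `T`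 of order `r` fixes a point of Ω if and only if `r = 2`, `q` is odd and `(q + 1)_2 ≤ (n)_2` (2-parts). -/
theorem result {F : Type*} [Field F] [Fintype F] {p : ℕ} [Fact p.Prime] [CharP F p] {q : ℕ} (hq : Fintype.card F = q ^ 2)
    (n : ℕ) (hn : 4 ≤ n) (he : Even n) (D : Fin 2 → Submodule F (Fin n → F)) (hD : Cfsg.Geo.IsMDecomposition (n / 2) D)
    (hDs : ∀ i, Cfsg.Geo.IsTotallySingularFor (Cfsg.hermForm n F q) (D i))
    (r : ℕ) [Fact r.Prime]
    (hΩ : r ∣ (Cfsg.Geo.decompositionStabilizer D).relIndex (Cfsg.GU n F q ⊓ Cfsg.Geo.specialLinear (Fin n) F)) :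
    (∀ x ∈ Cfsg.GU n F q ⊓ Cfsg.Geo.specialLinear (Fin n) F, (∃ z : F, ((x ^ r : GL (Fin n) F) : Matrix (Fin n) (Fin n) F) = z • (1 : Matrix (Fin n) (Fin n) F)) →
      (∀ z : F, (x : Matrix (Fin n) (Fin n) F) ≠ z • (1 : Matrix (Fin n) (Fin n) F)) →
      ∃ g ∈ Cfsg.GU n F q ⊓ Cfsg.Geo.specialLinear (Fin n) F, g⁻¹ * x * g ∈ Cfsg.Geo.decompositionStabilizer D) ↔
    (r = 2 ∧ Odd q ∧ padicValNat 2 (q + 1) ≤ padicValNat 2 n) := by
  classical
  have hrp : r.Prime := Fact.out
  obtain ⟨k, hk⟩ := he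
  have hnk : n / 2 = k := by omega
  rw [hnk] at hD
  have hk0 : 0 < k := by omega
  obtain ⟨t₀, -, ht₀⟩ := FiniteField.card F p
  have hq2 := CfsgLib.Classical.two_le_of_card_sq hq
  have hherm := CfsgLib.Classical.Herm.hermStd_isHerm (n := n) hq
  have hp := CfsgLib.Geo.UnitPairDer.isPair_of_decomp hq hD hDs
  have hpq : p ∣ q := Nat.Prime.dvd_of_dvd_pow Fact.out (hq ▸ ht₀.symm ▸ dvd_pow_self p t₀.pos.ne' : p ∣ q ^ 2)
  have hdvdq : ∀ s : ℕ, s.Prime → s ∣ q → s = p := fun s hs h =>
    (Nat.prime_dvd_prime_iff_eq hs Fact.out).1 (hs.dvd_of_dvd_pow (ht₀ ▸ hq ▸ dvd_pow h two_ne_zero : s ∣ p ^ (t₀ : ℕ)))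
  have hN1 : Fintype.card F - 1 = (q + 1) * (q - 1) := by rw [hq, ← Nat.sq_sub_sq, one_pow]
  have hD0 : D 0 ≠ ⊥ := fun e => by
    have h := hD.finrank_eq 0
    rw [e, finrank_bot] at h
    omega
  constructor
  · intro hall
    by_contra hR
    simp only [not_and, not_le] at hR
    obtain ⟨x, hx, z, hz, hns, hder⟩ : ∃ x ∈ Cfsg.GU n F q ⊓ Cfsg.Geo.specialLinear (Fin n) F, ∃ z : F,
        ((x ^ r : GL (Fin n) F) : Matrix (Fin n) (Fin n) F) = z • (1 : Matrix (Fin n) (Fin n) F) ∧
        (∀ z : F, (x : Matrix (Fin n) (Fin n) F) ≠ z • 1) ∧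
        ∀ g ∈ Cfsg.GU n F q ⊓ Cfsg.Geo.specialLinear (Fin n) F,
          g⁻¹ * x * g ∉ Cfsg.Geo.decompositionStabilizer D := by
      by_cases hrp' : r = p
      · subst hrp'
        obtain ⟨x, hx, hxp, hns, hder⟩ :=
          CfsgLib.Geo.UnitPairDer.transvection_derangement hq (p := r) hp (by omega : 2 ≤ k)
        exact ⟨x, hx, 1, by rw [hxp, Units.val_one, one_smul], hns, fun g hg hy => hder g hg
          ((CfsgLib.Geo.UnitPairDer.stab_cases hy).imp id And.left)⟩
      have hrF : (r : F) ≠ 0 := fun h => hrp' ((Nat.prime_dvd_prime_iff_eq (Fact.out : p.Prime) hrp).1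
        ((CharP.cast_eq_zero_iff F p r).1 h)).symm
      have hfix : ∀ {x : GL (Fin n) F}, Odd r → x ^ r = 1 → ∀ g : GL (Fin n) F,
          g⁻¹ * x * g ∈ Cfsg.Geo.decompositionStabilizer D →
          ((CfsgLib.Geo.PrimeSp.toEnd (g⁻¹ * x * g)) ^ r = 1) ∧
          (∀ a ∈ D 0, CfsgLib.Geo.PrimeSp.toEnd (g⁻¹ * x * g) a ∈ D 0) ∧
            ∀ a ∈ D 1, CfsgLib.Geo.PrimeSp.toEnd (g⁻¹ * x * g) a ∈ D 1 := fun {x} hr hxr g hy => by
        have h1 : CfsgLib.Geo.PrimeSp.toEnd (g⁻¹ * x * g) ^ r = 1 := by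
          rw [← CfsgLib.Geo.PrimeSp.toEnd_pow, show g⁻¹ * x * g = g⁻¹ * x * (g⁻¹)⁻¹ by rw [inv_inv], conj_pow, hxr,
            mul_one, mul_inv_cancel, CfsgLib.Geo.PrimeSp.toEnd_one]
        exact ⟨h1, CfsgLib.Geo.UnitPairDer.stab_fix hp.compl.disjoint hD0 hy hr one_ne_zero
          fun v => by rw [h1, one_smul]; rfl⟩
      have diag : ∀ (d : Fin n → F) (i₀ : Fin n) (z : F), (∀ i, d i ^ (q + 1) = 1) → (∏ i, d i = 1) →
          (∀ i, d i = d i₀ → i = i₀) → (∀ i, d i ^ r = z) →
          (∀ y : GL (Fin n) F, (∀ u, (CfsgLib.Geo.PrimeSp.toEnd y ^ r) u = z • u) →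
            y ∈ Cfsg.Geo.decompositionStabilizer D → ∀ v : Fin n → F,
            (∀ a, CfsgLib.Geo.PrimeSp.toEnd y a = d i₀ • a → ∃ s : F, s • v = a) →
            (∀ a ∈ D 0, CfsgLib.Geo.PrimeSp.toEnd y a ∈ D 0) ∧ ∀ a ∈ D 1, CfsgLib.Geo.PrimeSp.toEnd y a ∈ D 1) →
          ∃ x ∈ Cfsg.GU n F q ⊓ Cfsg.Geo.specialLinear (Fin n) F, ∃ z : F,
            ((x ^ r : GL (Fin n) F) : Matrix (Fin n) (Fin n) F) = z • (1 : Matrix (Fin n) (Fin n) F) ∧
            (∀ z : F, (x : Matrix (Fin n) (Fin n) F) ≠ z • 1) ∧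
            ∀ g ∈ Cfsg.GU n F q ⊓ Cfsg.Geo.specialLinear (Fin n) F,
              g⁻¹ * x * g ∉ Cfsg.Geo.decompositionStabilizer D := fun d i₀ z hN hd huniq hdr hboth => by
        obtain ⟨x, hx, hxd, hline⟩ := CfsgLib.Geo.UnitPairDer.exists_diag_elem hq d hN hd i₀ huniq
        have hxz : ((x ^ r : GL (Fin n) F) : Matrix (Fin n) (Fin n) F) = z • (1 : Matrix (Fin n) (Fin n) F) := by
          rw [Units.val_pow_eq_pow_val, hxd, Matrix.diagonal_pow, ← Matrix.diagonal_one, ← Matrix.diagonal_smul]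
          exact congrArg Matrix.diagonal (funext fun i => by simp [hdr])
        refine ⟨x, hx, z, hxz, fun w hw => ?_, fun g hg hy => ?_⟩
        · obtain ⟨i, hi⟩ := Fintype.exists_ne_of_one_lt_card (by rw [Fintype.card_fin]; omega) i₀
          refine hi (huniq i ?_)
          have e1 := congrFun (congrFun hw i) i
          have e2 := congrFun (congrFun hw i₀) i₀
          simp only [hxd, Matrix.diagonal_apply_eq, Matrix.smul_apply, Matrix.one_apply_eq] at e1 e2
          exact e1.trans e2.symm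
        · obtain ⟨v, hv, hyv, hu⟩ := hline g hg
          have hpow : ∀ u, (CfsgLib.Geo.PrimeSp.toEnd (g⁻¹ * x * g) ^ r) u = z • u := fun u => by
            rw [← CfsgLib.Geo.PrimeSp.toEnd_pow, show g⁻¹ * x * g = g⁻¹ * x * (g⁻¹)⁻¹ by rw [inv_inv], conj_pow,
              show g⁻¹ * x ^ r * (g⁻¹)⁻¹ = g⁻¹ * x ^ r * g by rw [inv_inv], CfsgLib.Geo.PrimeSp.toEnd_conj,
              CfsgLib.Geo.PrimeSp.toEnd_apply (x ^ r), hxz, Matrix.smul_mulVec, Matrix.one_mulVec, map_smul,
              (CfsgLib.Geo.UnitPairDer.gg g u).2]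
          obtain ⟨h0, h1⟩ := hboth _ hpow hy v hu
          exact CfsgLib.Geo.UnitPairDer.no_line hherm hp h0 h1 hyv hv hu
      by_cases hr2 : r = 2
      · subst hr2
        have hqodd : Odd q := by
          by_contra h
          exact hrp' (hdvdq 2 Nat.prime_two (even_iff_two_dvd.1 (Nat.not_odd_iff_even.1 h)))
        have hv := hR rfl hqodd
        set s := padicValNat 2 n
        obtain ⟨o, ho⟩ := pow_padicValNat_dvd (p := 2) (n := n)
        have hodd : Odd o := by
          by_contra h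
          obtain ⟨o', rfl⟩ := even_iff_two_dvd.1 (Nat.not_odd_iff_even.1 h)
          exact pow_succ_padicValNat_not_dvd (p := 2) (n := n) (by omega) ⟨o', by rw [pow_succ, mul_assoc]; exact ho⟩
        obtain ⟨c, hc⟩ : 2 ^ (s + 1) ∣ q + 1 := (pow_dvd_pow 2 hv).trans pow_padicValNat_dvd
        obtain ⟨gen, hgen⟩ := IsCyclic.exists_generator (α := Fˣ)
        have hord : orderOf gen = 2 ^ (s + 1) * (c * (q - 1)) := by
          rw [orderOf_eq_card_of_forall_mem_zpowers hgen, Nat.card_eq_fintype_card, Fintype.card_units, hN1, hc,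
            mul_assoc]
        have hc0 : 0 < c * (q - 1) := Nat.mul_pos (Nat.pos_of_ne_zero fun h => by rw [h] at hc; omega) (by omega)
        set w : Fˣ := gen ^ (c * (q - 1))
        have how : orderOf w = 2 ^ (s + 1) := by
          rw [orderOf_pow' _ hc0.ne', hord, Nat.gcd_mul_left_left, Nat.mul_div_cancel _ hc0]
        have hws : (w : F) ^ 2 ^ (s + 1) = 1 := by
          rw [← Units.val_pow_eq_pow_val, ← how, pow_orderOf_eq_one, Units.val_one]
        have hwh : (w : F) ^ 2 ^ s = -1 := by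
          have h1 : ((w : F) ^ 2 ^ s) ^ 2 = 1 := by rw [← pow_mul, ← pow_succ, hws]
          refine (sq_eq_one_iff.1 h1).resolve_left fun h => ?_
          have := Nat.le_of_dvd (Nat.two_pow_pos _) (orderOf_dvd_of_pow_eq_one (Units.ext (by simpa using h) : w ^ 2 ^ s = 1))
          rw [how, pow_succ] at this
          have := Nat.two_pow_pos s
          omega
        have hwn : (w : F) ^ n = -1 := by rw [ho, pow_mul, hwh, hodd.neg_one_pow]
        have h2 : (2 : F) ≠ 0 := CfsgLib.Geo.InvClass.two_ne_zero_iff_odd_card.2 (hq.symm ▸ hqodd.pow)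
        have hne : (w : F) ≠ -(w : F) := fun h => mul_ne_zero h2 w.ne_zero (by linear_combination h)
        let i₀ : Fin n := ⟨0, by omega⟩
        refine diag (fun i => if i = i₀ then -(w : F) else w) i₀ ((w : F) * w) (fun i => ?_) ?_ (fun i hi => ?_)
          (fun i => ?_) (fun y hy hys v hu => ?_)
        · have hwN : (w : F) ^ (q + 1) = 1 := by rw [hc, pow_mul, hws, one_pow]
          split_ifs
          · rw [(hqodd.add_one).neg_pow, hwN]
          · exact hwN
        · rw [Finset.prod_ite, Finset.prod_const, Finset.prod_const, Finset.filter_eq' Finset.univ i₀,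
            if_pos (Finset.mem_univ _), Finset.card_singleton, pow_one, Finset.filter_ne' Finset.univ i₀,
            Finset.card_erase_of_mem (Finset.mem_univ _), Finset.card_univ, Fintype.card_fin, neg_mul, ← pow_succ',
            Nat.sub_add_cancel (by omega), hwn, neg_neg]
        · simp only [if_true] at hi
          by_contra h
          rw [if_neg h] at hi
          exact hne hi
        · split_ifs <;> ring
        · rw [if_pos rfl] at hu
          rcases CfsgLib.Geo.UnitPairDer.stab_cases hys with h | ⟨h01, -⟩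
          · exact h
          · exact (CfsgLib.Geo.UnitPairDer.no_swap hp (by omega : 2 ≤ k) h01 (neg_ne_zero.2 w.ne_zero) (fun u => by
              rw [neg_mul_neg, ← hy u, pow_two, Module.End.mul_apply]) hu).elim
      have hrodd := hrp.odd_of_ne_two hr2
      obtain ⟨j, hjodd, hjn, hrj⟩ := CfsgLib.Geo.UnitPairDer.index_cases hq
        (fun h => hrp' (hdvdq r hrp h)) hk0 (by omega) hD hDs hΩ
      by_cases hr1 : r ∣ q + 1
      · obtain ⟨ω, hω0, hωr, hω⟩ := CfsgLib.Geo.FormDer.exists_root (F := F)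
          (hN1 ▸ hr1.trans (Dvd.intro _ rfl) : r ∣ Fintype.card F - 1)
        have hω1 : ω ≠ 1 := fun h => hrp.ne_one (Nat.dvd_one.1 ((hω 1).1 (by rw [pow_one, h])))
        have hωω : ω ≠ ω⁻¹ := fun h => by
          have := (hω 2).1 (by rw [pow_two]; nth_rewrite 2 [h]; exact mul_inv_cancel₀ hω0)
          exact hr2 ((Nat.prime_dvd_prime_iff_eq hrp Nat.prime_two).1 this)
        let i₀ : Fin n := ⟨0, by omega⟩
        let i₁ : Fin n := ⟨1, by omega⟩
        have hωq : ω ^ (q + 1) = 1 := (hω _).2 hr1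
        refine diag (fun i => if i = i₀ then ω else if i = i₁ then ω⁻¹ else 1) i₀ 1 (fun i => ?_) ?_ (fun i hi => ?_)
          (fun i => ?_) (fun y hy hys v _ => CfsgLib.Geo.UnitPairDer.stab_fix hp.compl.disjoint hD0 hys hrodd
            one_ne_zero hy)
        · split_ifs <;> simp [inv_pow, hωq]
        · rw [Fintype.prod_eq_mul i₀ i₁ (by simp [i₀, i₁, Fin.ext_iff]) (fun i hi => by simp [hi.1, hi.2])]
          simp [i₀, i₁, Fin.ext_iff, hω0]
        · simp only [if_true] at hi
          by_contra h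
          rw [if_neg h] at hi
          split_ifs at hi
          · exact hωω hi.symm
          · exact hω1 hi.symm
        · split_ifs <;> simp [inv_pow, hωr]
      · set Q : ZMod r := -(q : ZMod r) with hQ
        have hQj : Q ^ j = 1 := by
          have h := (ZMod.natCast_eq_zero_iff _ r).2 hrj
          push_cast at h
          rw [hQ, hjodd.neg_pow]
          linear_combination -h
        have hdvd := orderOf_dvd_of_pow_eq_one hQj
        have hb : Odd (orderOf Q) := hjodd.of_dvd_nat hdvd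
        have hrb : r ∣ q ^ orderOf Q + 1 := by
          rw [← ZMod.natCast_eq_zero_iff]
          have h := pow_orderOf_eq_one Q
          rw [show Q ^ orderOf Q = (-(q : ZMod r)) ^ orderOf Q from rfl, hb.neg_pow] at h
          push_cast
          linear_combination -h
        have hord : orderOf (Nat.card F : ZMod r) = orderOf Q := by
          rw [Nat.card_eq_fintype_card, hq, Nat.cast_pow, show (q : ZMod r) ^ 2 = Q ^ 2 by rw [hQ, neg_sq],
            Nat.Coprime.orderOf_pow (Nat.coprime_two_right.2 hb)]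
        have hr1' : ¬ r ∣ Fintype.card F - 1 := fun h => by
          have h1 := (ZMod.natCast_eq_zero_iff _ r).2 h
          rw [Nat.cast_sub Fintype.card_pos, Nat.cast_one, sub_eq_zero, ← Nat.card_eq_fintype_card] at h1
          rw [h1, orderOf_one, eq_comm, orderOf_eq_one_iff] at hord
          refine hr1 ((ZMod.natCast_eq_zero_iff _ r).1 ?_)
          push_cast
          linear_combination -hord
        obtain ⟨x, hx, hxr, hns, hrest⟩ := CfsgLib.Geo.UnitPairDer.exists_block_elem (n := n) hq hrF hr1' hb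
          ((Nat.le_of_dvd hjodd.pos hdvd).trans hjn) hrb
        refine ⟨x, hx, 1, by rw [hxr, Units.val_one, one_smul], hns, fun g hg hy => ?_⟩
        obtain ⟨hTr, h0, h1⟩ := hfix hrodd hxr g hy
        exact CfsgLib.Geo.UnitPairDer.no_block hherm hp (CfsgLib.Geo.UnitPairDer.conj_GU hq hx.1 hg) hTr hrF h0 h1
          (hrest g).1 (hord.symm ▸ (hrest g).2)
    obtain ⟨g, hg, hgm⟩ := hall x hx ⟨z, hz⟩ hns
    exact hder g hg hgm
  · rintro ⟨rfl, hqodd, hv⟩ x hx ⟨z, hz⟩ -
    have h2 : (2 : F) ≠ 0 := CfsgLib.Geo.InvClass.two_ne_zero_iff_odd_card.2 (hq.symm ▸ hqodd.pow)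
    have hT := (CfsgLib.Geo.UnitPairDer.mem_GU_iff hq).1 hx.1
    set T := CfsgLib.Geo.PrimeSp.toEnd x
    have hTT : ∀ v, T (T v) = z • v := fun v => by
      rw [← Module.End.mul_apply, ← CfsgLib.Geo.PrimeSp.toEnd_mul, ← pow_two, CfsgLib.Geo.PrimeSp.toEnd_apply, hz,
        Matrix.smul_mulVec, Matrix.one_mulVec]
    obtain ⟨v, hv'⟩ := hherm.exists_apply_eq_one (x := Pi.single ⟨0, by omega⟩ 1) (by simp)
    have hzN : z ^ (q + 1) = 1 := by
      have e := hT (T (Pi.single ⟨0, by omega⟩ 1)) (T v)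
      rw [hTT, hTT, hT, CfsgLib.Classical.Herm.smul_left, CfsgLib.Classical.Herm.smul_right, hv', mul_one,
        CfsgLib.Classical.Herm.powHom_apply] at e
      rw [pow_succ, e]
    have hz0 : z ≠ 0 := fun h => by rw [h, zero_pow (by omega)] at hzN; exact zero_ne_one hzN
    obtain ⟨t, ht⟩ := hqodd
    have hR : ringChar F ≠ 2 := fun h => h2 (by haveI := ringChar.eq_iff.1 h; exact CharTwo.two_eq_zero)
    obtain ⟨w, hw⟩ : IsSquare z := (FiniteField.isSquare_iff hR hz0).2 (by
      rw [show Fintype.card F / 2 = (q + 1) * t by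
        rw [hq, ht, show (2 * t + 1) ^ 2 = 2 * ((2 * t + 1 + 1) * t) + 1 by ring]; omega, pow_mul, hzN, one_pow])
    have hwn : (CfsgLib.Classical.Herm.powHom hq) w * w = 1 → w ^ n ≠ -1 := fun hN hwn => by
      rw [CfsgLib.Classical.Herm.powHom_apply, ← pow_succ] at hN
      obtain ⟨o, ho⟩ := pow_padicValNat_dvd (p := 2) (n := q + 1)
      obtain ⟨c, hc⟩ : 2 ^ padicValNat 2 (q + 1) ∣ n := (pow_dvd_pow 2 hv).trans pow_padicValNat_dvd
      have hodd : Odd o := by
        by_contra h
        obtain ⟨o', rfl⟩ := even_iff_two_dvd.1 (Nat.not_odd_iff_even.1 h)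
        exact pow_succ_padicValNat_not_dvd (p := 2) (n := q + 1) (by omega) ⟨o', by rw [pow_succ, mul_assoc]; exact ho⟩
      have e : (w ^ n) ^ o = 1 := by
        rw [← pow_mul, hc, mul_right_comm, ← ho, pow_mul, hN, one_pow]
      rw [hwn, hodd.neg_one_pow] at e
      exact h2 (by linear_combination (-1) * e)
    obtain ⟨c, ev, hgram, hev⟩ := CfsgLib.Geo.UnitPairDer.exists_eigen_hyp hherm h2 hk hT
      (by rw [CfsgLib.Geo.FormDer.det_toEnd]; exact CfsgLib.Geo.FormDer.mem_SL_iff.1 hx.2)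
      (fun h => hz0 (by rw [hw, h, mul_zero])) hwn (fun u => by rw [hTT, hw])
    exact CfsgLib.Geo.UnitPairDer.exists_conj_pair hq hk0 hD hDs c hgram ev hev

end Cfsg.Agent.S5984
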