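import Cfsg.Statements.S5985
import Cfsg.Agent.Lib.Geo.QuadPointFixed

set_option autoImplicit false
open scoped MatrixGroups
open Cfsg

namespace Cfsg.Agent.S5985

/-- Elements of prime order of Ω⁺_n(q), q even, with no fixed nonsingular 1-space. Here `T = PΩ⁺_n(F)`, `n = 2d ≥ 8`, realised through `Ω⁺_n(q)`, the commutator subgroup of the isometry group of `Q = Σ xᵢyᵢ` over the field `F` with `q` elements; an element of `T` of prime order `r` is an element `x` of `Ω⁺_n(q)` with `x^r` scalar and `x` not scalar; `q` is even (so the centre is trivial). Let Ω be the set of 1-dimensional subspaces spanned by a vector `v` with `Q(v) ≠ 0`, and let `r` be a prime dividing their number. Then every element of `T` of order `r` fixes some nonsingular 1-space if and only if `r = 2` and `n ≡ 2 (mod 4)` (that is, `d` is odd). -/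
theorem result {F : Type*} [Field F] [Fintype F] {p : ℕ} [Fact p.Prime] [CharP F p] {q : ℕ} (hq : Fintype.card F = q)
    (hp : p = 2) (d : ℕ) (hd : 4 ≤ d) (r : ℕ) [Fact r.Prime]
    (hrΩ : r ∣ Nat.card {W : Submodule F (Fin d ⊕ Fin d → F) // Module.finrank F ↥W = 1 ∧ ∃ v ∈ W, Cfsg.quadFormPlus d F v ≠ 0}) :
    (∀ x : GL (Fin d ⊕ Fin d) F, x ∈ Cfsg.Geo.omegaGL (Cfsg.quadFormPlus d F) →
      (∃ z : F, ((x ^ r : GL (Fin d ⊕ Fin d) F) : Matrix (Fin d ⊕ Fin d) (Fin d ⊕ Fin d) F) = z • (1 : Matrix (Fin d ⊕ Fin d) (Fin d ⊕ Fin d) F)) →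
      (∀ z : F, (x : Matrix (Fin d ⊕ Fin d) (Fin d ⊕ Fin d) F) ≠ z • (1 : Matrix (Fin d ⊕ Fin d) (Fin d ⊕ Fin d) F)) →
      ∃ W : Submodule F (Fin d ⊕ Fin d → F), (Module.finrank F ↥W = 1 ∧ ∃ v ∈ W, Cfsg.quadFormPlus d F v ≠ 0) ∧ W.map (Matrix.toLin' (x : Matrix (Fin d ⊕ Fin d) (Fin d ⊕ Fin d) F)) ≤ W) ↔ (r = 2 ∧ Odd d) := by
  classical
  subst hp hq
  rw [← CfsgLib.Classical.Quad.coe_qPlus] at hrΩ ⊢
  have hnd := CfsgLib.Classical.Quad.qPlus_nondeg (F := F) d
  have hι : Fintype.card (Fin d ⊕ Fin d) = 2 * d := by rw [Fintype.card_sum, Fintype.card_fin]; ring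
  constructor
  · intro hall
    have refute : ∀ g : (Fin d ⊕ Fin d → F) →ₗ[F] (Fin d ⊕ Fin d → F), g ^ r = 1 →
        (∀ v, CfsgLib.Classical.Quad.qPlus d F (g v) = CfsgLib.Classical.Quad.qPlus d F v) →
        Even (Module.finrank F (LinearMap.range (g - 1))) →
        (∀ v, g v = v → CfsgLib.Classical.Quad.qPlus d F v = 0) → False := by
      intro g h1 h2 h3 h4
      obtain ⟨x, hx, hxr, hns, hno⟩ := CfsgLib.Geo.QuadPoint.exists_witness hnd (by omega)
        (Fact.out : r.Prime).ne_zero g h1 h2 h3 h4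
      exact hno (hall x hx hxr hns)
    have hr : r = 2 := by
      by_contra hr2
      have hrp : r.Prime := Fact.out
      have hq1 : 1 < Fintype.card F := Fintype.one_lt_card
      have h := CfsgLib.Geo.QuadPoint.card_points (CfsgLib.Classical.Quad.qPlus d F)
      have h0 := CfsgLib.Known.QuadClassify.card_zeros_plus (F := F) d
      rw [← CfsgLib.Classical.Quad.coe_qPlus] at h0
      rw [CfsgLib.Geo.QuadPolar.card_carrier] at h
      set N := Nat.card {W : Submodule F (Fin d ⊕ Fin d → F) //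
        Module.finrank F W = 1 ∧ ∃ v ∈ W, CfsgLib.Classical.Quad.qPlus d F v ≠ 0}
      have hN : (Fintype.card F : ℤ) * N = (Fintype.card F : ℤ) ^ d * ((Fintype.card F : ℤ) ^ d - 1) := by
        have h' := congrArg (Nat.cast : ℕ → ℤ) h
        have h0' := congrArg (Nat.cast : ℕ → ℤ) h0
        push_cast [Nat.cast_sub hq1.le] at h' h0'
        refine mul_left_cancel₀ (show (Fintype.card F : ℤ) - 1 ≠ 0 by omega) ?_
        linear_combination (Fintype.card F : ℤ) * h' - h0'
      have hd' : (r : ℤ) ∣ (Fintype.card F : ℤ) ^ d * ((Fintype.card F : ℤ) ^ d - 1) :=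
        hN ▸ (Int.natCast_dvd_natCast.2 hrΩ).mul_left _
      rcases (Nat.prime_iff_prime_int.1 hrp).dvd_or_dvd hd' with hd' | hd'
      · obtain ⟨k, hk, hk'⟩ := FiniteField.card F 2
        rw [hk', ← Nat.cast_pow, Int.natCast_dvd_natCast, ← pow_mul] at hd'
        exact hr2 ((Nat.prime_dvd_prime_iff_eq hrp Nat.prime_two).1 (hrp.dvd_of_dvd_pow hd'))
      · obtain ⟨g, h1, h2, h3⟩ := CfsgLib.Geo.QuadPoint.exists_free_isometry hr2 (by omega) 1 (Or.inl rfl) hd' hnd
          CfsgLib.Geo.QuadPolar.finrank_carrier (by rw [CfsgLib.Classical.CharTwo.signSum_qPlus, one_mul])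
        exact refute g h1 h3 (CfsgLib.Geo.QuadPoint.even_range_of_free hι g h2)
          fun v hv => by rw [h2 v hv, QuadraticMap.map_zero]
    refine ⟨hr, ?_⟩
    by_contra hcon
    subst hr
    obtain ⟨f, h1, h2, h3, h4⟩ := CfsgLib.Geo.QuadPoint.exists_involution_plus (F := F) (d := d)
      (Nat.not_odd_iff_even.1 hcon)
    exact refute f h1 h2 h3 h4
  · rintro ⟨rfl, hodd⟩ x hx ⟨z, hz⟩ -
    rcases CfsgLib.Geo.QuadPoint.involution_point hnd (m := d) (by omega) hι x hx z hz with h | ⟨he, -⟩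
    · exact h
    · exact absurd he (Nat.not_even_iff_odd.2 hodd)

end Cfsg.Agent.S5985
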