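import Cfsg.Statements.S5986
import Cfsg.Agent.Lib.Geo.QuadPointFixed

set_option autoImplicit false
open scoped MatrixGroups
open Cfsg

namespace Cfsg.Agent.S5986

theorem core {F : Type*} [Field F] [Fintype F] [CharP F 2] (k : ℕ) (hk : 3 ≤ k) (a b : F)
    (hab : ∀ x y : F, x ^ 2 + a * x * y + b * y ^ 2 = 0 → x = 0 ∧ y = 0) (r : ℕ) [Fact r.Prime]
    (hrΩ : r ∣ Nat.card {W : Submodule F ((Fin k ⊕ Fin k) ⊕ Fin 2 → F) //
      Module.finrank F ↥W = 1 ∧ ∃ v ∈ W, Cfsg.quadFormMinus k F a b v ≠ 0}) :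
    (∀ x : GL ((Fin k ⊕ Fin k) ⊕ Fin 2) F, x ∈ Cfsg.Geo.omegaGL (Cfsg.quadFormMinus k F a b) →
      (∃ z : F, ((x ^ r : GL ((Fin k ⊕ Fin k) ⊕ Fin 2) F) : Matrix ((Fin k ⊕ Fin k) ⊕ Fin 2) ((Fin k ⊕ Fin k) ⊕ Fin 2) F) = z • (1 : Matrix ((Fin k ⊕ Fin k) ⊕ Fin 2) ((Fin k ⊕ Fin k) ⊕ Fin 2) F)) →
      (∀ z : F, (x : Matrix ((Fin k ⊕ Fin k) ⊕ Fin 2) ((Fin k ⊕ Fin k) ⊕ Fin 2) F) ≠ z • (1 : Matrix ((Fin k ⊕ Fin k) ⊕ Fin 2) ((Fin k ⊕ Fin k) ⊕ Fin 2) F)) →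
      ∃ W : Submodule F ((Fin k ⊕ Fin k) ⊕ Fin 2 → F), (Module.finrank F ↥W = 1 ∧ ∃ v ∈ W, Cfsg.quadFormMinus k F a b v ≠ 0) ∧
        W.map (Matrix.toLin' (x : Matrix ((Fin k ⊕ Fin k) ⊕ Fin 2) ((Fin k ⊕ Fin k) ⊕ Fin 2) F)) ≤ W) ↔ r = 2 := by
  classical
  rw [← CfsgLib.Classical.Quad.coe_qMinus] at hrΩ ⊢
  have hnd := CfsgLib.Classical.Quad.qMinus_nondeg hab k
  have hι : Fintype.card ((Fin k ⊕ Fin k) ⊕ Fin 2) = 2 * (k + 1) := by
    simp only [Fintype.card_sum, Fintype.card_fin]; ring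
  have hV : Module.finrank F ((Fin k ⊕ Fin k) ⊕ Fin 2 → F) = 2 * (k + 1) := by rw [Module.finrank_pi, hι]
  have hq1 : 1 < Fintype.card F := Fintype.one_lt_card
  constructor
  · intro hall
    by_contra hr2
    have hrp : r.Prime := Fact.out
    have h := CfsgLib.Geo.QuadPoint.card_points (CfsgLib.Classical.Quad.qMinus k F a b)
    have h0 := CfsgLib.Known.QuadClassify.card_zeros_minus k a b hab
    rw [← CfsgLib.Classical.Quad.coe_qMinus] at h0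
    rw [Fintype.card_fun, hι] at h
    set N := Nat.card {W : Submodule F ((Fin k ⊕ Fin k) ⊕ Fin 2 → F) //
      Module.finrank F W = 1 ∧ ∃ v ∈ W, CfsgLib.Classical.Quad.qMinus k F a b v ≠ 0}
    have hN : (Fintype.card F : ℤ) * N =
        (Fintype.card F : ℤ) ^ (k + 1) * ((Fintype.card F : ℤ) ^ (k + 1) - -1) := by
      have h' := congrArg (Nat.cast : ℕ → ℤ) h
      have h0' := congrArg (Nat.cast : ℕ → ℤ) h0
      push_cast [Nat.cast_sub hq1.le] at h' h0'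
      refine mul_left_cancel₀ (show (Fintype.card F : ℤ) - 1 ≠ 0 by omega) ?_
      linear_combination (Fintype.card F : ℤ) * h' - h0'
    have hd' : (r : ℤ) ∣ (Fintype.card F : ℤ) ^ (k + 1) * ((Fintype.card F : ℤ) ^ (k + 1) - -1) :=
      hN ▸ (Int.natCast_dvd_natCast.2 hrΩ).mul_left _
    rcases (Nat.prime_iff_prime_int.1 hrp).dvd_or_dvd hd' with hd' | hd'
    · obtain ⟨e, he, he'⟩ := FiniteField.card F 2
      rw [he', ← Nat.cast_pow, Int.natCast_dvd_natCast, ← pow_mul] at hd'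
      exact hr2 ((Nat.prime_dvd_prime_iff_eq hrp Nat.prime_two).1 (hrp.dvd_of_dvd_pow hd'))
    · obtain ⟨g, h1, h2, h3⟩ := CfsgLib.Geo.QuadPoint.exists_free_isometry hr2 (by omega) (-1) (Or.inr rfl) hd' hnd
        hV (by rw [CfsgLib.Classical.CharTwo.signSum_qMinus hab, neg_one_mul])
      obtain ⟨x, hx, hxr, hns, hno⟩ := CfsgLib.Geo.QuadPoint.exists_witness hnd (by omega)
        (Fact.out : r.Prime).ne_zero g h1 h3 (CfsgLib.Geo.QuadPoint.even_range_of_free hι g h2)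
        (fun v hv => by rw [h2 v hv, QuadraticMap.map_zero])
      exact hno (hall x hx hxr hns)
  · rintro rfl x hx ⟨z, hz⟩ -
    rcases CfsgLib.Geo.QuadPoint.involution_point hnd (m := k + 1) (by omega) hι x hx z hz with h | ⟨-, U, hU, hU0⟩
    · exact h
    · exfalso
      have h1 := CfsgLib.Geo.QuadPolar.signSum_of_singular hnd _
        (fun u v => CfsgLib.Classical.Quad.apply_add u v) U hU0 hV hU
      rw [CfsgLib.Classical.CharTwo.signSum_qMinus hab] at h1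
      have : (0 : ℤ) < (Fintype.card F : ℤ) ^ (k + 1) := pow_pos (by omega) _
      omega

/-- Elements of prime order of Ω⁻_n(q), q even, with no fixed nonsingular 1-space. Here `T = PΩ⁻_n(F)`, `n = 2d ≥ 8`, realised through `Ω⁻_n(q)`, the commutator subgroup of the isometry group of `Q = Σ_{i<d−1} xᵢyᵢ + z₁² + a z₁z₂ + b z₂²` with `z₁² + a z₁z₂ + b z₂²` anisotropic, over the field `F` with `q` elements; an element of `T` of prime order `r` is an element `x` of `Ω⁻_n(q)` with `x^r` scalar and `x` not scalar; `q` is even (so the centre is trivial). Let Ω be the set of 1-dimensional subspaces spanned by a vector `v` with `Q(v) ≠ 0`, and let `r` be a prime dividing their number. Then every element of `T` of order `r` fixes some nonsingular 1-space if and only if `r = 2`. -/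
theorem result {F : Type*} [Field F] [Fintype F] {p : ℕ} [Fact p.Prime] [CharP F p] {q : ℕ} (hq : Fintype.card F = q)
    (hp : p = 2) (d : ℕ) (hd : 4 ≤ d) (a b : F) (hab : ∀ x y : F, x ^ 2 + a * x * y + b * y ^ 2 = 0 → x = 0 ∧ y = 0) (r : ℕ) [Fact r.Prime]
    (hrΩ : r ∣ Nat.card {W : Submodule F ((Fin (d - 1) ⊕ Fin (d - 1)) ⊕ Fin 2 → F) // Module.finrank F ↥W = 1 ∧ ∃ v ∈ W, Cfsg.quadFormMinus (d - 1) F a b v ≠ 0}) :
    (∀ x : GL ((Fin (d - 1) ⊕ Fin (d - 1)) ⊕ Fin 2) F, x ∈ Cfsg.Geo.omegaGL (Cfsg.quadFormMinus (d - 1) F a b) →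
      (∃ z : F, ((x ^ r : GL ((Fin (d - 1) ⊕ Fin (d - 1)) ⊕ Fin 2) F) : Matrix ((Fin (d - 1) ⊕ Fin (d - 1)) ⊕ Fin 2) ((Fin (d - 1) ⊕ Fin (d - 1)) ⊕ Fin 2) F) = z • (1 : Matrix ((Fin (d - 1) ⊕ Fin (d - 1)) ⊕ Fin 2) ((Fin (d - 1) ⊕ Fin (d - 1)) ⊕ Fin 2) F)) →
      (∀ z : F, (x : Matrix ((Fin (d - 1) ⊕ Fin (d - 1)) ⊕ Fin 2) ((Fin (d - 1) ⊕ Fin (d - 1)) ⊕ Fin 2) F) ≠ z • (1 : Matrix ((Fin (d - 1) ⊕ Fin (d - 1)) ⊕ Fin 2) ((Fin (d - 1) ⊕ Fin (d - 1)) ⊕ Fin 2) F)) →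
      ∃ W : Submodule F ((Fin (d - 1) ⊕ Fin (d - 1)) ⊕ Fin 2 → F), (Module.finrank F ↥W = 1 ∧ ∃ v ∈ W, Cfsg.quadFormMinus (d - 1) F a b v ≠ 0) ∧ W.map (Matrix.toLin' (x : Matrix ((Fin (d - 1) ⊕ Fin (d - 1)) ⊕ Fin 2) ((Fin (d - 1) ⊕ Fin (d - 1)) ⊕ Fin 2) F)) ≤ W) ↔ r = 2 := by
  subst hp hq
  obtain ⟨k, rfl⟩ : ∃ k, d = k + 1 := ⟨d - 1, by omega⟩
  exact core k (by omega) a b hab r hrΩ

end Cfsg.Agent.S5986
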