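import Cfsg.Statements.S5987
import Cfsg.Agent.Lib.Geo.Elusive.SingularArith
import Cfsg.Agent.Lib.Geo.Elusive.SingularTwo
import Cfsg.Agent.Lib.Geo.Elusive.SingularCount
import Cfsg.Agent.Lib.Geo.Elusive.NDFinal


set_option autoImplicit false
set_option maxHeartbeats 800000
open scoped MatrixGroups
open Cfsg

namespace Cfsg.Agent.S5987

/-- Elements of prime order of PΩ⁻_n(q) with no fixed totally singular `m`-space. Here `T = PΩ⁻_n(F)`, `n = 2d ≥ 8`, realised through `Ω⁻_n(q)`, the commutator subgroup of the isometry group of `Q = Σ_{i<d−1} xᵢyᵢ + z₁² + a z₁z₂ + b z₂²` with `z₁² + a z₁z₂ + b z₂²` anisotropic, over the field `F` with `q` elements; an element of `T` of prime order `r` is an element `x` of `Ω⁻_n(q)` with `x^r` scalar and `x` not scalar. Let `1 ≤ m ≤ d − 1` and let `r` be a prime dividing the number of totally singular `m`-spaces (subspaces of dimension `m` on which `Q` vanishes);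 for `r ≠ p` let `i` be the multiplicative order of `q` modulo `r`, `c = i` for `i` even and `c = 2i` for `i` odd, and write `k = n mod c`, `ℓ = m mod i`, `n' = ⌊n/i⌋`, `m' = ⌊m/i⌋`, `t = (r−1)/i`. Then every element of `T` of order `r` fixes some totally singular `m`-space if and only if one of: (i) `r = 2 ≠ p` and (`n ≡ 0 (mod 4)`, or `m` is even, or `q ≢ 7 (mod 8)`); (ii) `r ≠ p` odd, `i` odd, `i ≤ m` and (`k = 0` or `k > 2ℓ`); (iii) `r ≠ p` odd, `i` even, `i ≤ m`, `n' − 2m' ≥ t`, and one of: (a) `i ≥ 2ℓ`, `k = 0`, `n/i` even and `n' − 2m' > t` (all four); (b) `k ≥ 2ℓ` and `n'` odd; (c) `k > 2ℓ` and `n'` even. -/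
theorem result {F : Type*} [Field F] [Fintype F] {p : ℕ} [Fact p.Prime] [CharP F p] {q : ℕ} (hq : Fintype.card F = q)
    (d m : ℕ) (hd : 4 ≤ d) (hm : 1 ≤ m) (hmd : m + 1 ≤ d) (a b : F) (hab : ∀ x y : F, x ^ 2 + a * x * y + b * y ^ 2 = 0 → x = 0 ∧ y = 0)
    (r : ℕ) [Fact r.Prime]
    (hrΩ : r ∣ Nat.card {W : Submodule F ((Fin (d - 1) ⊕ Fin (d - 1)) ⊕ Fin 2 → F) // Module.finrank F ↥W = m ∧ Cfsg.Geo.IsTotallySingularQuad (Cfsg.quadFormMinus (d - 1) F a b) W})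
    (i c : ℕ) (hi : i = orderOf (q : ZMod r)) (hc : c = if Even i then i else 2 * i) :
    (∀ x : GL ((Fin (d - 1) ⊕ Fin (d - 1)) ⊕ Fin 2) F, x ∈ Cfsg.Geo.omegaGL (Cfsg.quadFormMinus (d - 1) F a b) →
      (∃ z : F, ((x ^ r : GL ((Fin (d - 1) ⊕ Fin (d - 1)) ⊕ Fin 2) F) : Matrix ((Fin (d - 1) ⊕ Fin (d - 1)) ⊕ Fin 2) ((Fin (d - 1) ⊕ Fin (d - 1)) ⊕ Fin 2) F) = z • (1 : Matrix ((Fin (d - 1) ⊕ Fin (d - 1)) ⊕ Fin 2) ((Fin (d - 1) ⊕ Fin (d - 1)) ⊕ Fin 2) F)) →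
      (∀ z : F, (x : Matrix ((Fin (d - 1) ⊕ Fin (d - 1)) ⊕ Fin 2) ((Fin (d - 1) ⊕ Fin (d - 1)) ⊕ Fin 2) F) ≠ z • (1 : Matrix ((Fin (d - 1) ⊕ Fin (d - 1)) ⊕ Fin 2) ((Fin (d - 1) ⊕ Fin (d - 1)) ⊕ Fin 2) F)) →
      ∃ W : Submodule F ((Fin (d - 1) ⊕ Fin (d - 1)) ⊕ Fin 2 → F), (Module.finrank F ↥W = m ∧ Cfsg.Geo.IsTotallySingularQuad (Cfsg.quadFormMinus (d - 1) F a b) W) ∧ W.map (Matrix.toLin' (x : Matrix ((Fin (d - 1) ⊕ Fin (d - 1)) ⊕ Fin 2) ((Fin (d - 1) ⊕ Fin (d - 1)) ⊕ Fin 2) F)) ≤ W) ↔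
    ((r = 2 ∧ p ≠ 2 ∧ (Even d ∨ Even m ∨ q % 8 ≠ 7)) ∨
     (r ≠ p ∧ 2 < r ∧ Odd i ∧ i ≤ m ∧ ((2 * d) % c = 0 ∨ 2 * (m % i) < (2 * d) % c)) ∨
     (r ≠ p ∧ 2 < r ∧ Even i ∧ i ≤ m ∧ (r - 1) / i + 2 * (m / i) ≤ (2 * d) / i ∧
       ((2 * (m % i) ≤ i ∧ (2 * d) % c = 0 ∧ Even ((2 * d) / i) ∧ (r - 1) / i + 2 * (m / i) < (2 * d) / i) ∨
        (2 * (m % i) ≤ (2 * d) % c ∧ Odd ((2 * d) / i)) ∨
        (2 * (m % i) < (2 * d) % c ∧ Even ((2 * d) / i))))) := by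
  have hQ := CfsgLib.Classical.Quad.qMinus_nondeg hab (d - 1)
  set Q := CfsgLib.Classical.Quad.qMinus (d - 1) F a b with hQdef
  have hco : ⇑Q = Cfsg.quadFormMinus (d - 1) F a b := CfsgLib.Classical.Quad.coe_qMinus (d - 1) F a b
  rw [← hco] at hrΩ ⊢
  have hn : Module.finrank F ((Fin (d - 1) ⊕ Fin (d - 1)) ⊕ Fin 2 → F) = 2 * d := by
    rw [Module.finrank_pi]; simp only [Fintype.card_sum, Fintype.card_fin, Fintype.card_unit]; omega
  have hT : ¬ CfsgLib.Geo.Elusive.Plus Q (⊤ : Submodule F ((Fin (d - 1) ⊕ Fin (d - 1)) ⊕ Fin 2 → F)) :=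
    CfsgLib.Geo.Elusive.not_plus_top_qMinus hab (d - 1)
  obtain ⟨W₀, -, hW₀, hW₀m⟩ := (CfsgLib.Geo.Elusive.tsIn_iff (CfsgLib.Geo.Elusive.nondeg_top hQ) m).2
    (Or.inl (by rw [finrank_top, hn]; omega))
  have hP : ∀ W : Submodule F ((Fin (d - 1) ⊕ Fin (d - 1)) ⊕ Fin 2 → F),
      (Module.finrank F W = m ∧ (∀ w ∈ W, Q w = 0)) ↔ CfsgLib.Geo.Elusive.Iso Q W W₀ := fun W => by
    rw [CfsgLib.Geo.Elusive.iso_singular hW₀, hW₀m]
  simp only [Cfsg.Geo.IsTotallySingularQuad, hP] at hrΩ ⊢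
  have hcard : 5 ≤ Fintype.card ((Fin (d - 1) ⊕ Fin (d - 1)) ⊕ Fin 2) := by
    simp only [Fintype.card_sum, Fintype.card_fin, Fintype.card_unit]; omega
  by_cases hrp : r = p
  · subst hrp
    refine absurd hrΩ ?_
    simp only [← hP]
    exact CfsgLib.Geo.Elusive.not_dvd_card_singular (p := r) hQ (by rw [hn]; omega)
  have hrF : (r : F) ≠ 0 := CfsgLib.Geo.PrimeAct.natCast_ne_zero_of_ringChar (Fact.out : r.Prime) hrp
  by_cases hr2 : r = 2
  · subst hr2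
    have hp2 : p ≠ 2 := fun h => hrp h.symm
    have h2 : (2 : F) ≠ 0 := by exact_mod_cast hrF
    have hq2 : q % 2 = 1 := by
      have h := FiniteField.odd_card_of_char_ne_two (F := F) (by rw [ringChar.eq F p]; exact hp2)
      rwa [hq] at h
    rw [CfsgLib.Geo.Elusive.two_iff_ts h2 hQ (d := d) (m := m)
      (by simp only [Fintype.card_sum, Fintype.card_fin]; omega) (by omega) (by omega) hW₀ hW₀m]
    simp only [hT, true_iff, false_iff, true_implies, false_implies, CfsgLib.Geo.Elusive.isSquare_neg_one_iff_mod hq,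
      CfsgLib.Geo.Elusive.isSquare_two_iff_mod hq, hp2, ne_eq, not_false_eq_true, lt_irrefl, false_and, and_false,
      or_false, true_and, Nat.even_iff]
    omega
  have hq' : Nat.card F = q := by rw [Nat.card_eq_fintype_card, hq]
  have hi' : orderOf (Nat.card F : ZMod r) = i := by rw [hq', hi]
  have hcs : CfsgLib.Geo.Elusive.cstep i = c := by rw [hc]; rfl
  have hi0 : 0 < i := hi' ▸ CfsgLib.Geo.Elusive.ord_pos hrF
  have ht : (r - 1) / i = (CfsgLib.Classical.ClassTheory.cycFactors F r).card := by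
    have h := (CfsgLib.Geo.Elusive.cyc_facts (F := F) (r := r) hrF).2
    rw [hi'] at h
    rw [← h, Nat.mul_div_cancel _ hi0]
  have hr3 : 2 < r := lt_of_le_of_ne (Fact.out : r.Prime).two_le (Ne.symm hr2)
  rw [CfsgLib.Geo.Elusive.allFix_scalar_iff _ hQ hcard hr2]
  have key := fun him => CfsgLib.Geo.Elusive.ts_iff (F := F) (r := r) hr2 hrF (c := c) (i := i) (n := 2 * d) (m := m)
    (T := CfsgLib.Geo.Elusive.Plus Q (⊤ : Submodule F ((Fin (d - 1) ⊕ Fin (d - 1)) ⊕ Fin 2 → F)))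
    hcs.symm hi'.symm rfl (by omega) (fun h => absurd h (by omega)) him
  refine (CfsgLib.Geo.Elusive.main_ts hr2 hrF hQ hW₀ hW₀m hrΩ
    (Crit := CfsgLib.Geo.Elusive.TSCrit c i ((r - 1) / i) (2 * d) m
      (CfsgLib.Geo.Elusive.Plus Q (⊤ : Submodule F ((Fin (d - 1) ⊕ Fin (d - 1)) ⊕ Fin 2 → F)))) ?_ ?_).trans ?_
  · rw [hi', hcs, hn, ht]; exact fun h => (key h.1).2 h
  · rw [hi', hcs, hn, ht]; exact fun him h => (key him).1 h
  simp only [CfsgLib.Geo.Elusive.TSCrit, hT, hr2, hr3, hrp, ne_eq, not_false_eq_true, false_and, false_or, true_and,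
    and_false, or_false, false_iff, true_iff, not_true_eq_false, not_not]
  rcases Nat.even_or_odd i with hie | hio
  · obtain rfl : c = i := by rw [hc, if_pos hie]
    simp only [hie, Nat.not_odd_iff_even.2 hie, false_and, false_or, true_and, or_false]
    rw [Nat.even_iff, Nat.odd_iff]
    omega
  · simp only [hio, Nat.not_even_iff_odd.2 hio, false_and, false_or, true_and, or_false, true_or, and_true]
    omega

end Cfsg.Agent.S5987
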