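import Cfsg.Statements.S5988
import Cfsg.Agent.Lib.Geo.Elusive.NDFinal
import Cfsg.Agent.Lib.Geo.Elusive.TwoPrime
import Cfsg.Agent.Lib.Geo.Elusive.PlusOnly
import Cfsg.Agent.Lib.Geo.QuadPointFixed


set_option autoImplicit false
set_option maxHeartbeats 800000
open scoped MatrixGroups
open Cfsg

namespace Cfsg.Agent.S5988

/-- Elements of prime order of PΩ⁺_n(q) with no fixed elliptic `m`-space. Here `T = PΩ⁺_n(F)`, `n = 2d ≥ 8`, realised through `Ω⁺_n(q)`, the commutator subgroup of the isometry group of `Q = Σ xᵢyᵢ` over the field `F` with `q` elements; an element of `T` of prime order `r` is an element `x` of `Ω⁺_n(q)` with `x^r` scalar and `x` not scalar; a nondegenerate `m`-space (even `m`) is a subspace on which the polar form of `Q` is nondegenerate; it is hyperbolic if it contains an `m/2`-dimensional subspace on which `Q` vanishes, elliptic otherwise. Let `m` be even with `2 ≤ m < n/2` and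 let `r` be a prime dividing the number of elliptic `m`-spaces; for `r ≠ p` let `i` be the multiplicative order of `q` modulo `r`, `c = i` for `i` even and `c = 2i` for `i` odd, and write `k = n mod c`, `ℓ = m mod i`, `ℓ' = m mod c`, `n' = ⌊n/i⌋`, `m' = ⌊m/i⌋`, `t = (r−1)/i`. Then every element of `T` of order `r` fixes some elliptic `m`-space if and only if one of: (i) `r = 2 ≠ p` and either `n ≡ 0 (mod 4)`, `q ≡ 3 (mod 4)` and `m ≡ 2 (mod 4)`, or `n ≡ 2 (mod 4)` and `q ≢ 1 (mod 8)`; (ii) `r ≠ p` odd, `i` odd, `c ≤ m` and `k > ℓ' > 0`; (iii) `r ≠ p` odd, `i` even, and either `k = 0` and (`n/i` odd, or `ℓ' = 0` and `m/i` odd), or `i ≤ m` and (`k > ℓ' > 0`, or `k = ℓ' > 0` and `(n + m − 2k)/i` odd, or `k > ℓ' = 0` and `m/i` odd). (For `r = p` there is always an element of order `p` fixing no elliptic `m`-space.) -/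
theorem result {F : Type*} [Field F] [Fintype F] {p : ℕ} [Fact p.Prime] [CharP F p] {q : ℕ} (hq : Fintype.card F = q)
    (d m : ℕ) (hd : 4 ≤ d) (hm : 2 ≤ m) (hme : Even m) (hmd : m < d)
    (r : ℕ) [Fact r.Prime]
    (hrΩ : r ∣ Nat.card {W : Submodule F (Fin d ⊕ Fin d → F) // Module.finrank F ↥W = m ∧ Cfsg.Geo.IsNondegenerateOn (QuadraticMap.polar (Cfsg.quadFormPlus d F)) W ∧ ¬ Cfsg.Geo.IsPlusTypeOn (Cfsg.quadFormPlus d F) W})
    (i c : ℕ) (hi : i = orderOf (q : ZMod r)) (hc : c = if Even i then i else 2 * i) :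
    (∀ x : GL (Fin d ⊕ Fin d) F, x ∈ Cfsg.Geo.omegaGL (Cfsg.quadFormPlus d F) →
      (∃ z : F, ((x ^ r : GL (Fin d ⊕ Fin d) F) : Matrix (Fin d ⊕ Fin d) (Fin d ⊕ Fin d) F) = z • (1 : Matrix (Fin d ⊕ Fin d) (Fin d ⊕ Fin d) F)) →
      (∀ z : F, (x : Matrix (Fin d ⊕ Fin d) (Fin d ⊕ Fin d) F) ≠ z • (1 : Matrix (Fin d ⊕ Fin d) (Fin d ⊕ Fin d) F)) →
      ∃ W : Submodule F (Fin d ⊕ Fin d → F), (Module.finrank F ↥W = m ∧ Cfsg.Geo.IsNondegenerateOn (QuadraticMap.polar (Cfsg.quadFormPlus d F)) W ∧ ¬ Cfsg.Geo.IsPlusTypeOn (Cfsg.quadFormPlus d F) W) ∧ W.map (Matrix.toLin' (x : Matrix (Fin d ⊕ Fin d) (Fin d ⊕ Fin d) F)) ≤ W) ↔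
    ((r = 2 ∧ p ≠ 2 ∧ ((Even d ∧ q % 4 = 3 ∧ m % 4 = 2) ∨ (Odd d ∧ q % 8 ≠ 1))) ∨
     (r ≠ p ∧ 2 < r ∧ Odd i ∧ c ≤ m ∧ 0 < m % c ∧ m % c < (2 * d) % c) ∨
     (r ≠ p ∧ 2 < r ∧ Even i ∧
       (((2 * d) % c = 0 ∧ (Odd ((2 * d) / i) ∨ (m % c = 0 ∧ Odd (m / i)))) ∨
        (i ≤ m ∧ ((0 < m % c ∧ m % c < (2 * d) % c) ∨
                  (0 < m % c ∧ m % c = (2 * d) % c ∧ Odd ((2 * d + m - 2 * ((2 * d) % c)) / i)) ∨
                  (m % c = 0 ∧ 0 < (2 * d) % c ∧ Odd (m / i))))))) := by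
  have hQ := CfsgLib.Classical.Quad.qPlus_nondeg (F := F) d
  set Q := CfsgLib.Classical.Quad.qPlus d F with hQdef
  have hco : ⇑Q = Cfsg.quadFormPlus d F := CfsgLib.Classical.Quad.coe_qPlus d F
  rw [← hco] at hrΩ ⊢
  have hT : CfsgLib.Geo.Elusive.Plus Q (⊤ : Submodule F (Fin d ⊕ Fin d → F)) := CfsgLib.Geo.Elusive.plus_top_qPlus d
  have hn : Module.finrank F (Fin d ⊕ Fin d → F) = 2 * d := by
    rw [Module.finrank_pi]; simp only [Fintype.card_sum, Fintype.card_fin]; omega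
  obtain ⟨k, hk⟩ := hme
  obtain ⟨W₀, -, hW₀, hW₀p, hW₀d⟩ := CfsgLib.Geo.Elusive.exists_minus_sub
    (CfsgLib.Geo.Elusive.nondeg_top hQ) (k := k) (by omega) (by rw [finrank_top, hn]; omega)
  have hW₀m : Module.finrank F W₀ = m := by omega
  have hP : ∀ W : Submodule F (Fin d ⊕ Fin d → F),
      (Module.finrank F W = m ∧ Cfsg.Geo.IsNondegenerateOn (QuadraticMap.polar ⇑Q) W ∧
        ¬ Cfsg.Geo.IsPlusTypeOn (⇑Q) W) ↔ CfsgLib.Geo.Elusive.Iso Q W W₀ := fun W => by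
    rw [← CfsgLib.Geo.Elusive.type_iff_iso hW₀ ⟨k, by omega⟩, hW₀m, CfsgLib.Geo.Elusive.isNondegenerateOn_iff]
    exact ⟨fun h => ⟨h.1, h.2.1, iff_of_false h.2.2 hW₀p⟩, fun h => ⟨h.1, h.2.1, fun hp => hW₀p (h.2.2.1 hp)⟩⟩
  simp only [hP] at hrΩ ⊢
  have hcard : 5 ≤ Fintype.card (Fin d ⊕ Fin d) := by simp only [Fintype.card_sum, Fintype.card_fin]; omega
  by_cases hrp : r = p
  · subst hrp
    refine iff_of_false (fun hall => ?_) (by
      rintro (⟨h, h', -⟩ | ⟨h, -⟩ | ⟨h, -⟩) <;> first | exact h' h | exact h rfl)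
    obtain ⟨g, hgp, hg1, hg, hev, hplus⟩ :=
      CfsgLib.Geo.Elusive.exists_plus_only_even (p := r) hQ hn (by omega) hT
    obtain ⟨x, hx, hxr, hxg⟩ : ∃ x : GL (Fin d ⊕ Fin d) F, x ∈ Cfsg.Geo.omegaGL (⇑Q) ∧ x ^ r = 1 ∧
        ∀ v, (x : Matrix (Fin d ⊕ Fin d) (Fin d ⊕ Fin d) F).mulVec v = g v := by
      by_cases hr2 : r = 2
      · subst hr2
        exact CfsgLib.Geo.QuadPoint.exists_omega hQ (by omega) two_ne_zero g hgp hg hev
      · obtain ⟨x, hx, hxr, hxg⟩ := CfsgLib.Geo.Elusive.exists_omega_of_odd hQ hcard hr2 g hgp hg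
        exact ⟨x, hx, hxr, fun v => by rw [← hxg, Matrix.toLinAlgEquiv'_apply]⟩
    have hne : ∀ z : F, (x : Matrix (Fin d ⊕ Fin d) (Fin d ⊕ Fin d) F) ≠
        z • (1 : Matrix (Fin d ⊕ Fin d) (Fin d ⊕ Fin d) F) := by
      intro z hz
      have hgz : g = z • (1 : Module.End F (Fin d ⊕ Fin d → F)) := LinearMap.ext fun v => by
        rw [← hxg, hz, Matrix.smul_mulVec, Matrix.one_mulVec]; rfl
      haveI : Nontrivial (Fin d ⊕ Fin d → F) := Module.nontrivial_of_finrank_pos (R := F) (by omega)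
      obtain ⟨v, hv⟩ := exists_ne (0 : Fin d ⊕ Fin d → F)
      have h1 := LinearMap.congr_fun hgp v
      rw [hgz, smul_pow, one_pow, LinearMap.smul_apply, Module.End.one_apply] at h1
      have hzr : z ^ r = 1 := smul_left_injective F hv (h1.trans (one_smul F v).symm)
      have h0 : (z - 1) ^ r = 0 := by rw [sub_pow_char, hzr, one_pow, sub_self]
      exact hg1 (by rw [hgz, sub_eq_zero.1 (eq_zero_of_pow_eq_zero h0), one_smul])
    obtain ⟨W, hiso, hmap⟩ := hall x hx ⟨1, by rw [hxr, Units.val_one, one_smul]⟩ hne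
    refine hW₀p (hiso.plus (hplus W (fun v hv => ?_) (hiso.symm.nondeg hW₀) ⟨k, by rw [hiso.finrank_eq, hW₀m, hk]⟩))
    rw [← hxg, ← Matrix.toLin'_apply]
    exact hmap (Submodule.mem_map_of_mem hv)
  have hrF : (r : F) ≠ 0 := CfsgLib.Geo.PrimeAct.natCast_ne_zero_of_ringChar (Fact.out : r.Prime) hrp
  by_cases hr2 : r = 2
  · subst hr2
    have hp2 : p ≠ 2 := fun h => hrp h.symm
    have h2 : (2 : F) ≠ 0 := by exact_mod_cast hrF
    have hq2 : q % 2 = 1 := by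
      have h := FiniteField.odd_card_of_char_ne_two (F := F) (by rw [ringChar.eq F p]; exact hp2)
      rwa [hq] at h
    rw [CfsgLib.Geo.Elusive.two_iff_nd h2 hQ (d := d) (by simp only [Fintype.card_sum, Fintype.card_fin]; omega)
      (by omega) hW₀ (by omega) (by omega)]
    have hme : Even m := ⟨k, hk⟩
    simp only [hW₀m, hW₀p, hT, true_iff, false_iff, hme, CfsgLib.Geo.Elusive.isSquare_neg_one_iff_mod hq,
      CfsgLib.Geo.Elusive.isSquare_two_iff_mod hq, hp2, ne_eq, not_false_eq_true, lt_irrefl, false_and, and_false,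
      or_false, true_and]
    rw [Nat.even_iff, Nat.even_iff, Nat.odd_iff]
    omega
  have hq' : Nat.card F = q := by rw [Nat.card_eq_fintype_card, hq]
  have hi' : orderOf (Nat.card F : ZMod r) = i := by rw [hq', hi]
  have hcs : CfsgLib.Geo.Elusive.cstep i = c := by rw [hc]; rfl
  have hi0 : 0 < i := hi' ▸ CfsgLib.Geo.Elusive.ord_pos hrF
  have hr3 : 2 < r := lt_of_le_of_ne (Fact.out : r.Prime).two_le (Ne.symm hr2)
  rw [CfsgLib.Geo.Elusive.allFix_scalar_iff _ hQ hcard hr2]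
  refine CfsgLib.Geo.Elusive.main_crit hQ hr2 hrF hW₀ (by omega) (by omega) (Or.inl ⟨k, by omega⟩) hrΩ ?_ ?_
  all_goals simp only [hi', hcs, hn, hW₀m, hr2, hr3, hrp, ne_eq, not_false_eq_true, false_and, false_or, true_and,
    CfsgLib.Geo.Elusive.GenCrit, CfsgLib.Geo.Elusive.Sgn, hT, hW₀p, false_iff, true_iff, iff_true]
  all_goals (have hme : Even m := ⟨k, hk⟩)
  all_goals rcases Nat.even_or_odd i with hie | hio
  all_goals first
    | (obtain rfl : c = i := by rw [hc, if_pos hie]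
       have hkc := Nat.mod_lt m hi0
       have hkn := Nat.mod_add_div (2 * d) c
       have hkm := Nat.mod_add_div m c
       have hsum : m % c = (2 * d) % c →
           (2 * d + m - 2 * ((2 * d) % c)) / c = (2 * d) / c + m / c := fun h => by
         rw [show 2 * d + m - 2 * ((2 * d) % c) = c * ((2 * d) / c + m / c) by rw [mul_add]; omega,
           Nat.mul_div_cancel_left _ hi0]
       simp only [Nat.not_odd_iff_even.2 hie, hie, false_and, false_or, true_and, Nat.not_even_iff_odd, hme])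
    | (simp only [hio, Nat.not_even_iff_odd.2 hio, true_or, not_true_eq_false, false_and, and_false, false_or,
        or_false, true_and])
  · rintro (⟨h0, h1 | ⟨h2, h3⟩⟩ | ⟨-, h | ⟨h0, h1, h2⟩ | ⟨h0, -, h2⟩⟩)
    · exact Or.inl ⟨h0, h1⟩
    · exact Or.inr (Or.inl ⟨h2, h3⟩)
    · exact Or.inr (Or.inr ⟨h.1, Or.inl h.2⟩)
    · refine Or.inr (Or.inr ⟨h0, Or.inr ⟨h1, ?_⟩⟩)
      rw [hsum h1, Nat.odd_iff] at h2
      rw [Nat.even_iff, Nat.even_iff]
      omega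
    · exact Or.inr (Or.inl ⟨h0, h2⟩)
  · rintro ⟨-, h0, h1⟩
    exact ⟨h0, h1⟩
  · intro hcm h
    rcases h with ⟨h0, h1⟩ | ⟨h0, h1⟩ | ⟨h0, h1 | ⟨h1, h2⟩⟩
    · exact Or.inl ⟨h0, Or.inl h1⟩
    · rcases Nat.eq_zero_or_pos ((2 * d) % c) with hz | hz
      · exact Or.inl ⟨hz, Or.inr ⟨h0, h1⟩⟩
      · exact Or.inr ⟨hcm, Or.inr (Or.inr ⟨h0, hz, h1⟩)⟩
    · exact Or.inr ⟨hcm, Or.inl ⟨h0, h1⟩⟩
    · refine Or.inr ⟨hcm, Or.inr (Or.inl ⟨h0, h1, ?_⟩)⟩
      rw [hsum h1, Nat.odd_iff]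
      rw [Nat.even_iff, Nat.even_iff] at h2
      omega
  · rintro hcm ⟨h0, h1⟩
    exact ⟨hcm, h0, h1⟩

end Cfsg.Agent.S5988
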