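import Cfsg.Statements.S5989
import Cfsg.Agent.Lib.Geo.Elusive.NDFinal
import Cfsg.Agent.Lib.Geo.Elusive.TwoPrime
import Cfsg.Agent.Lib.Geo.Elusive.UnipotentOdd


set_option autoImplicit false
set_option maxHeartbeats 800000
open scoped MatrixGroups
open Cfsg

namespace Cfsg.Agent.S5989

/-- Elements of prime order of PΩ⁺_n(q), q odd, with no fixed nondegenerate `m`-space of odd dimension. Here `T = PΩ⁺_n(F)`, `n = 2d ≥ 8`, realised through `Ω⁺_n(q)`, the commutator subgroup of the isometry group of `Q = Σ xᵢyᵢ` over the field `F` with `q` elements; an element of `T` of prime order `r` is an element `x` of `Ω⁺_n(q)` with `x^r` scalar and `x` not scalar; `q` and `m` are odd, `1 ≤ m < n/2`. The nondegenerate `m`-spaces (subspaces on which the polar form is nondegenerate) fall into two isometry classes, each an orbit of `T`, and the two actions are equivalent; fix one such space `W₀` and let Ω be the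 set of nondegenerate `m`-spaces isometric to `W₀` (some linear isomorphism preserves `Q`). Let `r` be a prime dividing the size of Ω; for `r ≠ p` let `i` be the multiplicative order of `q` modulo `r`, `c = i` for `i` even and `c = 2i` for `i` odd, and write `k = n mod c`, `ℓ = m mod i`, `ℓ' = m mod c`, `n' = ⌊n/i⌋`, `m' = ⌊m/i⌋`, `t = (r−1)/i`. Then every element of `T` of order `r` fixes a member of Ω if and only if one of: (i) `r = 2`, `n ≡ 2 (mod 4)` and `q ≢ 1 (mod 8)`; (ii) `r ≠ p` odd, `i` odd, `c ≤ m` and `k > ℓ' > 0`; (iii) `r ≠ p` odd, `i` even, and either `k = 0` and `n/i` odd, or `i ≤ m` and `k > ℓ' > 0`. (For `r = p` there is always an element of order `p` fixing no member of Ω.) -/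
theorem result {F : Type*} [Field F] [Fintype F] {p : ℕ} [Fact p.Prime] [CharP F p] {q : ℕ} (hq : Fintype.card F = q)
    (hodd : Odd q) (d m : ℕ) (hd : 4 ≤ d) (hm : Odd m) (hmd : m < d)
    (W₀ : Submodule F (Fin d ⊕ Fin d → F)) (hW₀ : Module.finrank F ↥W₀ = m ∧ Cfsg.Geo.IsNondegenerateOn (QuadraticMap.polar (Cfsg.quadFormPlus d F)) W₀)
    (r : ℕ) [Fact r.Prime]
    (hrΩ : r ∣ Nat.card {W : Submodule F (Fin d ⊕ Fin d → F) // Module.finrank F ↥W = m ∧ Cfsg.Geo.IsNondegenerateOn (QuadraticMap.polar (Cfsg.quadFormPlus d F)) W ∧ Cfsg.Geo.AreIsometricFor (Cfsg.quadFormPlus d F) W W₀})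
    (i c : ℕ) (hi : i = orderOf (q : ZMod r)) (hc : c = if Even i then i else 2 * i) :
    (∀ x : GL (Fin d ⊕ Fin d) F, x ∈ Cfsg.Geo.omegaGL (Cfsg.quadFormPlus d F) →
      (∃ z : F, ((x ^ r : GL (Fin d ⊕ Fin d) F) : Matrix (Fin d ⊕ Fin d) (Fin d ⊕ Fin d) F) = z • (1 : Matrix (Fin d ⊕ Fin d) (Fin d ⊕ Fin d) F)) →
      (∀ z : F, (x : Matrix (Fin d ⊕ Fin d) (Fin d ⊕ Fin d) F) ≠ z • (1 : Matrix (Fin d ⊕ Fin d) (Fin d ⊕ Fin d) F)) →
      ∃ W : Submodule F (Fin d ⊕ Fin d → F), (Module.finrank F ↥W = m ∧ Cfsg.Geo.IsNondegenerateOn (QuadraticMap.polar (Cfsg.quadFormPlus d F)) W ∧ Cfsg.Geo.AreIsometricFor (Cfsg.quadFormPlus d F) W W₀) ∧ W.map (Matrix.toLin' (x : Matrix (Fin d ⊕ Fin d) (Fin d ⊕ Fin d) F)) ≤ W) ↔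
    ((r = 2 ∧ Odd d ∧ q % 8 ≠ 1) ∨
     (r ≠ p ∧ 2 < r ∧ Odd i ∧ c ≤ m ∧ 0 < m % c ∧ m % c < (2 * d) % c) ∨
     (r ≠ p ∧ 2 < r ∧ Even i ∧ (((2 * d) % c = 0 ∧ Odd ((2 * d) / i)) ∨ (i ≤ m ∧ 0 < m % c ∧ m % c < (2 * d) % c)))) := by
  have h2 : (2 : F) ≠ 0 := CfsgLib.Classical.Quad.two_ne_zero_of_odd hq hodd
  have hQ := CfsgLib.Classical.Quad.qPlus_nondeg (F := F) d
  set Q := CfsgLib.Classical.Quad.qPlus d F with hQdef
  have hco : ⇑Q = Cfsg.quadFormPlus d F := CfsgLib.Classical.Quad.coe_qPlus d F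
  rw [← hco] at hrΩ hW₀ ⊢
  have hT : CfsgLib.Geo.Elusive.Plus Q (⊤ : Submodule F (Fin d ⊕ Fin d → F)) := CfsgLib.Geo.Elusive.plus_top_qPlus d
  have hn : Module.finrank F (Fin d ⊕ Fin d → F) = 2 * d := by
    rw [Module.finrank_pi]; simp only [Fintype.card_sum, Fintype.card_fin]; omega
  have hW₀' := CfsgLib.Geo.Elusive.isNondegenerateOn_iff.1 hW₀.2
  have hP : ∀ W : Submodule F (Fin d ⊕ Fin d → F),
      (Module.finrank F W = m ∧ Cfsg.Geo.IsNondegenerateOn (QuadraticMap.polar ⇑Q) W ∧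
        Cfsg.Geo.AreIsometricFor (⇑Q) W W₀) ↔ CfsgLib.Geo.Elusive.Iso Q W W₀ := fun W =>
    ⟨fun h => h.2.2, fun h => ⟨h.finrank_eq.trans hW₀.1,
      CfsgLib.Geo.Elusive.isNondegenerateOn_iff.2 (h.symm.nondeg hW₀'), h⟩⟩
  simp only [hP] at hrΩ ⊢
  have hcard : 5 ≤ Fintype.card (Fin d ⊕ Fin d) := by simp only [Fintype.card_sum, Fintype.card_fin]; omega
  by_cases hr2 : r = 2
  · subst hr2
    rw [CfsgLib.Geo.Elusive.two_iff_nd h2 hQ (d := d) (by simp only [Fintype.card_sum, Fintype.card_fin]; omega)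
      (by omega) hW₀' (by rw [hW₀.1]; exact hm.pos) (by rw [hW₀.1]; omega)]
    have hq2 : q % 2 = 1 := Nat.odd_iff.1 hodd
    simp only [hW₀.1, hT, true_iff, Nat.not_even_iff_odd.2 hm, false_and, CfsgLib.Geo.Elusive.isSquare_neg_one_iff_mod hq,
      CfsgLib.Geo.Elusive.isSquare_two_iff_mod hq, lt_irrefl, false_and, and_false, or_false, true_and]
    rcases Nat.even_or_odd d with he | ho
    · simp [he, Nat.not_odd_iff_even.2 he]
    · simp only [ho, Nat.not_even_iff_odd.2 ho, false_or, or_false, true_and, imp_false]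
      omega
  by_cases hrp : r = p
  · subst hrp
    refine iff_of_false (fun hall => ?_) (by
      rintro (⟨h, -⟩ | ⟨h, -⟩ | ⟨h, -⟩) <;> first | exact hr2 h | exact h rfl)
    obtain ⟨g, hgp, hg1, hg, hno⟩ :=
      CfsgLib.Geo.Elusive.exists_no_odd hr2 h2 hQ hn (by omega) hm (Or.inl hT)
    obtain ⟨W, hinv, hiso⟩ := (CfsgLib.Geo.Elusive.allFix_scalar_iff _ hQ hcard hr2).1 hall g hgp hg1 hg
    exact hno W hinv (hiso.symm.nondeg hW₀') (hiso.finrank_eq.trans hW₀.1)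
  have hrF : (r : F) ≠ 0 := CfsgLib.Geo.PrimeAct.natCast_ne_zero_of_ringChar (Fact.out : r.Prime) hrp
  have hq' : Nat.card F = q := by rw [Nat.card_eq_fintype_card, hq]
  have hi' : orderOf (Nat.card F : ZMod r) = i := by rw [hq', hi]
  have hcs : CfsgLib.Geo.Elusive.cstep i = c := by rw [hc]; rfl
  have hi0 : 0 < i := hi' ▸ CfsgLib.Geo.Elusive.ord_pos hrF
  have hr3 : 2 < r := lt_of_le_of_ne (Fact.out : r.Prime).two_le (Ne.symm hr2)
  rw [CfsgLib.Geo.Elusive.allFix_scalar_iff _ hQ hcard hr2]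
  refine CfsgLib.Geo.Elusive.main_crit hQ hr2 hrF hW₀' (by rw [hW₀.1]; exact hm.pos)
    (by rw [hW₀.1, hn]; omega) (Or.inr ⟨d, by omega⟩) hrΩ ?_ ?_
  all_goals simp only [hi', hcs, hn, hW₀.1, hr2, hr3, hrp, ne_eq, not_false_eq_true, false_and, false_or, true_and,
    CfsgLib.Geo.Elusive.GenCrit, CfsgLib.Geo.Elusive.Sgn, hT, true_iff]
  all_goals (have hdvd : 2 ∣ c := hcs ▸ even_iff_two_dvd.1 (CfsgLib.Geo.Elusive.cstep_even i))
  all_goals (have hmc : m % c % 2 = 1 := (Nat.mod_mod_of_dvd m hdvd).trans (Nat.odd_iff.1 hm))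
  all_goals rcases Nat.even_or_odd i with hie | hio
  · obtain rfl : c = i := by rw [hc, if_pos hie]
    rintro (⟨ho, -⟩ | ⟨-, ⟨h0, h1⟩ | ⟨-, h2, h3⟩⟩)
    · exact absurd ho (Nat.not_odd_iff_even.2 hie)
    · exact Or.inl ⟨h0, not_or.2 ⟨Nat.not_odd_iff_even.2 hie, Nat.not_even_iff_odd.2 h1⟩⟩
    · exact Or.inr (Or.inr ⟨by omega, Or.inl h3⟩)
  · rintro (⟨-, -, h1, h3⟩ | ⟨he, -⟩)
    · exact Or.inr (Or.inr ⟨h1, Or.inl h3⟩)
    · exact absurd he (Nat.not_even_iff_odd.2 hio)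
  · obtain rfl : c = i := by rw [hc, if_pos hie]
    intro hcm h
    refine Or.inr ⟨hie, ?_⟩
    rcases h with ⟨h0, h1⟩ | ⟨h0, -⟩ | ⟨h0, h1 | ⟨h1, -⟩⟩
    · exact Or.inl ⟨h0, Nat.not_even_iff_odd.1 (not_or.1 h1).2⟩
    · omega
    · exact Or.inr ⟨hcm, h0, h1⟩
    · exact absurd hm (Nat.not_odd_iff_even.2 h1)
  · intro hcm h
    refine Or.inl ⟨hio, hcm, ?_⟩
    rcases h with ⟨-, h1⟩ | ⟨h0, -⟩ | ⟨h0, h1 | ⟨h1, -⟩⟩
    · exact absurd (Or.inl hio) h1
    · omega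
    · exact ⟨h0, h1⟩
    · exact absurd hm (Nat.not_odd_iff_even.2 h1)

end Cfsg.Agent.S5989
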