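import Cfsg.Statements.S5990
import Cfsg.Agent.Lib.Geo.Elusive.NDFinal
import Cfsg.Agent.Lib.Geo.Elusive.TwoPrime
import Cfsg.Agent.Lib.Geo.Elusive.InvolutionTwoOmega


set_option autoImplicit false
set_option maxHeartbeats 800000
open scoped MatrixGroups
open Cfsg

namespace Cfsg.Agent.S5990

/-- Elements of prime order of PΩ⁻_n(q) with no fixed elliptic `m`-space. Here `T = PΩ⁻_n(F)`, `n = 2d ≥ 8`, realised through `Ω⁻_n(q)`, the commutator subgroup of the isometry group of `Q = Σ_{i<d−1} xᵢyᵢ + z₁² + a z₁z₂ + b z₂²` with `z₁² + a z₁z₂ + b z₂²` anisotropic, over the field `F` with `q` elements; an element of `T` of prime order `r` is an element `x` of `Ω⁻_n(q)` with `x^r` scalar and `x` not scalar; a nondegenerate `m`-space (even `m`) is a subspace on which the polar form of `Q` is nondegenerate; it is hyperbolic if it contains an `m/2`-dimensional subspace on which `Q` vanishes, elliptic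 otherwise. Let `m` be even with `2 ≤ m ≤ n − 2` (no restriction `m < n/2`: fixing an elliptic `m`-space is the same as fixing its hyperbolic orthogonal complement) and let `r` be a prime dividing the number of elliptic `m`-spaces, with `r = 2` or `r ≠ p`; for `r ≠ p` let `i` be the multiplicative order of `q` modulo `r`, `c = i` for `i` even and `c = 2i` for `i` odd, and write `k = n mod c`, `ℓ = m mod i`, `ℓ' = m mod c`, `n' = ⌊n/i⌋`, `m' = ⌊m/i⌋`, `t = (r−1)/i`. Then every element of `T` of order `r` fixes some elliptic `m`-space if and only if one of: (i) `r = p = 2` and (`n ≡ 0 (mod 4)` or `m ≡ 2 (mod 4)`); (ii) `r = 2 ≠ p` and (`n ≡ 0 (mod 4)`, or `q ≢ 7 (mod 8)`, or `m ≡ 2 (mod 4)`); (iii) `r ≠ p` odd, `i` odd, and `k = 0` or (`c ≤ m` and `k ≥ ℓ' > 0`); (iv) `r ≠ p` odd, `i` even, and either `k = 0` and (`n/i` even, or `ℓ' = 0` and `m/i` odd), or `k > 0`, `i ≤ m` and (`k > ℓ' > 0`, or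 `ℓ' = 0` and `m/i` odd, or `k = ℓ'` and `(n + m − 2k)/i` even). (Odd `r = p` is not covered by this statement.) -/
theorem result {F : Type*} [Field F] [Fintype F] {p : ℕ} [Fact p.Prime] [CharP F p] {q : ℕ} (hq : Fintype.card F = q)
    (d m : ℕ) (hd : 4 ≤ d) (hm : 2 ≤ m) (hme : Even m) (hmn : m + 2 ≤ 2 * d) (a b : F) (hab : ∀ x y : F, x ^ 2 + a * x * y + b * y ^ 2 = 0 → x = 0 ∧ y = 0)
    (r : ℕ) [Fact r.Prime] (hr : r = 2 ∨ r ≠ p)
    (hrΩ : r ∣ Nat.card {W : Submodule F ((Fin (d - 1) ⊕ Fin (d - 1)) ⊕ Fin 2 → F) // Module.finrank F ↥W = m ∧ Cfsg.Geo.IsNondegenerateOn (QuadraticMap.polar (Cfsg.quadFormMinus (d - 1) F a b)) W ∧ ¬ Cfsg.Geo.IsPlusTypeOn (Cfsg.quadFormMinus (d - 1) F a b) W})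
    (i c : ℕ) (hi : i = orderOf (q : ZMod r)) (hc : c = if Even i then i else 2 * i) :
    (∀ x : GL ((Fin (d - 1) ⊕ Fin (d - 1)) ⊕ Fin 2) F, x ∈ Cfsg.Geo.omegaGL (Cfsg.quadFormMinus (d - 1) F a b) →
      (∃ z : F, ((x ^ r : GL ((Fin (d - 1) ⊕ Fin (d - 1)) ⊕ Fin 2) F) : Matrix ((Fin (d - 1) ⊕ Fin (d - 1)) ⊕ Fin 2) ((Fin (d - 1) ⊕ Fin (d - 1)) ⊕ Fin 2) F) = z • (1 : Matrix ((Fin (d - 1) ⊕ Fin (d - 1)) ⊕ Fin 2) ((Fin (d - 1) ⊕ Fin (d - 1)) ⊕ Fin 2) F)) →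
      (∀ z : F, (x : Matrix ((Fin (d - 1) ⊕ Fin (d - 1)) ⊕ Fin 2) ((Fin (d - 1) ⊕ Fin (d - 1)) ⊕ Fin 2) F) ≠ z • (1 : Matrix ((Fin (d - 1) ⊕ Fin (d - 1)) ⊕ Fin 2) ((Fin (d - 1) ⊕ Fin (d - 1)) ⊕ Fin 2) F)) →
      ∃ W : Submodule F ((Fin (d - 1) ⊕ Fin (d - 1)) ⊕ Fin 2 → F), (Module.finrank F ↥W = m ∧ Cfsg.Geo.IsNondegenerateOn (QuadraticMap.polar (Cfsg.quadFormMinus (d - 1) F a b)) W ∧ ¬ Cfsg.Geo.IsPlusTypeOn (Cfsg.quadFormMinus (d - 1) F a b) W) ∧ W.map (Matrix.toLin' (x : Matrix ((Fin (d - 1) ⊕ Fin (d - 1)) ⊕ Fin 2) ((Fin (d - 1) ⊕ Fin (d - 1)) ⊕ Fin 2) F)) ≤ W) ↔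
    ((r = 2 ∧ p = 2 ∧ (Even d ∨ m % 4 = 2)) ∨
     (r = 2 ∧ p ≠ 2 ∧ (Even d ∨ q % 8 ≠ 7 ∨ m % 4 = 2)) ∨
     (r ≠ p ∧ 2 < r ∧ Odd i ∧ ((2 * d) % c = 0 ∨ (c ≤ m ∧ 0 < m % c ∧ m % c ≤ (2 * d) % c))) ∨
     (r ≠ p ∧ 2 < r ∧ Even i ∧
       (((2 * d) % c = 0 ∧ (Even ((2 * d) / i) ∨ (m % c = 0 ∧ Odd (m / i)))) ∨
        (0 < (2 * d) % c ∧ i ≤ m ∧ ((0 < m % c ∧ m % c < (2 * d) % c) ∨ (m % c = 0 ∧ Odd (m / i)) ∨
                                    (m % c = (2 * d) % c ∧ Even ((2 * d + m - 2 * ((2 * d) % c)) / i))))))) := by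
  have hQ := CfsgLib.Classical.Quad.qMinus_nondeg hab (d - 1)
  set Q := CfsgLib.Classical.Quad.qMinus (d - 1) F a b with hQdef
  have hco : ⇑Q = Cfsg.quadFormMinus (d - 1) F a b := CfsgLib.Classical.Quad.coe_qMinus (d - 1) F a b
  rw [← hco] at hrΩ ⊢
  have hT : ¬ CfsgLib.Geo.Elusive.Plus Q (⊤ : Submodule F ((Fin (d - 1) ⊕ Fin (d - 1)) ⊕ Fin 2 → F)) :=
    CfsgLib.Geo.Elusive.not_plus_top_qMinus hab (d - 1)
  have hn : Module.finrank F ((Fin (d - 1) ⊕ Fin (d - 1)) ⊕ Fin 2 → F) = 2 * d := by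
    rw [Module.finrank_pi]; simp only [Fintype.card_sum, Fintype.card_fin]; omega
  obtain ⟨k, hk⟩ := hme
  obtain ⟨W₀, -, hW₀, hW₀p, hW₀d⟩ := CfsgLib.Geo.Elusive.exists_minus_sub
    (CfsgLib.Geo.Elusive.nondeg_top hQ) (k := k) (by omega) (by rw [finrank_top, hn]; omega)
  have hW₀m : Module.finrank F W₀ = m := by omega
  have hP : ∀ W : Submodule F ((Fin (d - 1) ⊕ Fin (d - 1)) ⊕ Fin 2 → F),
      (Module.finrank F W = m ∧ Cfsg.Geo.IsNondegenerateOn (QuadraticMap.polar ⇑Q) W ∧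
        ¬ Cfsg.Geo.IsPlusTypeOn (⇑Q) W) ↔ CfsgLib.Geo.Elusive.Iso Q W W₀ := fun W => by
    rw [← CfsgLib.Geo.Elusive.type_iff_iso hW₀ ⟨k, by omega⟩, hW₀m, CfsgLib.Geo.Elusive.isNondegenerateOn_iff]
    exact ⟨fun h => ⟨h.1, h.2.1, iff_of_false h.2.2 hW₀p⟩, fun h => ⟨h.1, h.2.1, fun hp => hW₀p (h.2.2.1 hp)⟩⟩
  simp only [hP] at hrΩ ⊢
  have hcard : 5 ≤ Fintype.card ((Fin (d - 1) ⊕ Fin (d - 1)) ⊕ Fin 2) := by simp only [Fintype.card_sum, Fintype.card_fin]; omega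
  by_cases hr2 : r = 2
  · subst hr2
    have hme : Even m := ⟨k, hk⟩
    by_cases hp2 : p = 2
    · subst hp2
      simp only [lt_irrefl, false_and, and_false, or_false, true_and, ne_eq, not_true_eq_false]
      refine ⟨fun hall => ?_, fun hc x hx ⟨z, hz⟩ _ => ?_⟩
      · by_contra hc
        rw [Nat.even_iff] at hc
        obtain ⟨g, hgg, hg1, hg, hev, hno⟩ := CfsgLib.Geo.Elusive.exists_two_minus hQ hn (by omega)
          (Nat.odd_iff.2 (by omega))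
        refine CfsgLib.Geo.Elusive.not_allFix_two hQ (by omega) hgg hg1 hg hev (fun W hinv hiso => ?_) hall
        rcases hno W hinv (hiso.symm.nondeg hW₀) (by rw [hiso.finrank_eq, hW₀m]; exact hme) with h | h
        · exact hW₀p (hiso.plus h)
        · rw [hiso.finrank_eq, hW₀m] at h
          omega
      · haveI : Nonempty ((Fin (d - 1) ⊕ Fin (d - 1)) ⊕ Fin 2) := ⟨Sum.inr 0⟩
        obtain ⟨W, hinv, hW, hWd, hWp⟩ := CfsgLib.Geo.Elusive.involution_two_fix CharTwo.two_eq_zero hQ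
          (g := Matrix.toLinAlgEquiv' (x : Matrix _ _ F)) (CfsgLib.Geo.Elusive.isometry_of_mem_lin hx)
          (CfsgLib.Geo.Elusive.involution_of_scalar_sq hQ hx hz) hn (e := k) (by omega) (by omega)
          False (iff_of_false not_false hT)
          (Or.inr ⟨not_false, hc.imp id fun h => Nat.odd_iff.2 (by omega)⟩)
        refine ⟨W, (CfsgLib.Geo.Elusive.type_iff_iso hW₀ ⟨k, by omega⟩ W).1
          ⟨by omega, hW, iff_of_false (fun h => hWp.1 h) hW₀p⟩, ?_⟩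
        rintro _ ⟨v, hv, rfl⟩
        simpa only [Matrix.toLin'_apply, Matrix.toLinAlgEquiv'_apply] using hinv v hv
    have hrF : ((2 : ℕ) : F) ≠ 0 :=
      CfsgLib.Geo.PrimeAct.natCast_ne_zero_of_ringChar (Fact.out : Nat.Prime 2) (Ne.symm hp2)
    have h2 : (2 : F) ≠ 0 := by exact_mod_cast hrF
    have hq2 : q % 2 = 1 := by
      have h := FiniteField.odd_card_of_char_ne_two (F := F) (by rw [ringChar.eq F p]; exact hp2)
      rwa [hq] at h
    rw [CfsgLib.Geo.Elusive.two_iff_nd h2 hQ (d := d) (by simp only [Fintype.card_sum, Fintype.card_fin]; omega)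
      (by omega) hW₀ (by omega) (by omega)]
    simp only [hW₀m, hW₀p, hT, false_iff, hme, hp2, ne_eq, not_false_eq_true,
      CfsgLib.Geo.Elusive.isSquare_neg_one_iff_mod hq,
      CfsgLib.Geo.Elusive.isSquare_two_iff_mod hq, lt_irrefl, false_and, and_false,
      false_or, or_false, true_and]
    rw [Nat.even_iff, Nat.even_iff]
    omega
  have hrp : r ≠ p := hr.resolve_left hr2
  have hrF : (r : F) ≠ 0 := CfsgLib.Geo.PrimeAct.natCast_ne_zero_of_ringChar (Fact.out : r.Prime) hrp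
  have hq' : Nat.card F = q := by rw [Nat.card_eq_fintype_card, hq]
  have hi' : orderOf (Nat.card F : ZMod r) = i := by rw [hq', hi]
  have hcs : CfsgLib.Geo.Elusive.cstep i = c := by rw [hc]; rfl
  have hi0 : 0 < i := hi' ▸ CfsgLib.Geo.Elusive.ord_pos hrF
  have hr3 : 2 < r := lt_of_le_of_ne (Fact.out : r.Prime).two_le (Ne.symm hr2)
  rw [CfsgLib.Geo.Elusive.allFix_scalar_iff _ hQ hcard hr2]
  refine CfsgLib.Geo.Elusive.main_crit hQ hr2 hrF hW₀ (by omega) (by omega) (Or.inl ⟨k, by omega⟩) hrΩ ?_ ?_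
  all_goals simp only [hi', hcs, hn, hW₀m, hr2, hr3, hrp, ne_eq, not_false_eq_true, false_and, false_or, true_and,
    CfsgLib.Geo.Elusive.GenCrit, CfsgLib.Geo.Elusive.Sgn, hT, hW₀p, false_iff, iff_false, not_not]
  all_goals (have hme : Even m := ⟨k, hk⟩)
  all_goals rcases Nat.even_or_odd i with hie | hio
  all_goals first
    | (obtain rfl : c = i := by rw [hc, if_pos hie]
       have hkc := Nat.mod_lt m hi0
       have hkn := Nat.mod_add_div (2 * d) c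
       have hkm := Nat.mod_add_div m c
       have hsum : m % c = (2 * d) % c →
           (2 * d + m - 2 * ((2 * d) % c)) / c = (2 * d) / c + m / c := fun h => by
         rw [show 2 * d + m - 2 * ((2 * d) % c) = c * ((2 * d) / c + m / c) by rw [mul_add]; omega,
           Nat.mul_div_cancel_left _ hi0]
       simp only [Nat.not_odd_iff_even.2 hie, hie, false_and, false_or, true_and, Nat.not_even_iff_odd, hme])
    | (simp only [hio, Nat.not_even_iff_odd.2 hio, true_or, not_true_eq_false, not_false_eq_true, false_and, and_false,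
        false_or, or_false, true_and, and_true, iff_true, hme, true_iff, false_iff])
  · rintro (⟨h0, h1 | ⟨h2, h3⟩⟩ | ⟨hk0, -, h | ⟨h0, h2⟩ | ⟨h1, h2⟩⟩)
    · exact Or.inl ⟨h0, h1⟩
    · exact Or.inr (Or.inl ⟨h2, h3⟩)
    · exact Or.inr (Or.inr ⟨h.1, Or.inl h.2⟩)
    · exact Or.inr (Or.inl ⟨h0, h2⟩)
    · refine Or.inr (Or.inr ⟨by omega, Or.inr ⟨h1, ?_⟩⟩)
      rw [hsum h1, Nat.even_iff] at h2
      simp only [Nat.odd_iff, Nat.even_iff]
      omega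
  · rintro (h | ⟨-, h0, h1⟩)
    · exact Or.inl h
    · exact Or.inr ⟨h0, h1.lt_or_eq⟩
  · intro hcm h
    rcases h with ⟨h0, h1⟩ | ⟨h0, h1⟩ | ⟨h0, h1 | ⟨h1, h2⟩⟩
    · exact Or.inl ⟨h0, Or.inl h1⟩
    · rcases Nat.eq_zero_or_pos ((2 * d) % c) with hz | hz
      · exact Or.inl ⟨hz, Or.inr ⟨h0, h1⟩⟩
      · exact Or.inr ⟨hz, hcm, Or.inr (Or.inl ⟨h0, h1⟩)⟩
    · exact Or.inr ⟨by omega, hcm, Or.inl ⟨h0, h1⟩⟩
    · refine Or.inr ⟨by omega, hcm, Or.inr (Or.inr ⟨h1, ?_⟩)⟩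
      rw [hsum h1, Nat.even_iff]
      simp only [Nat.odd_iff, Nat.even_iff] at h2
      omega
  · intro hcm h
    omega

end Cfsg.Agent.S5990
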