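import Cfsg.Statements.S5991
import Cfsg.Agent.Lib.Geo.Elusive.NDFinal
import Cfsg.Agent.Lib.Geo.Elusive.TwoPrime
import Cfsg.Agent.Lib.Geo.Elusive.UnipotentOdd


set_option autoImplicit false
set_option maxHeartbeats 800000
open scoped MatrixGroups
open Cfsg

namespace Cfsg.Agent.S5991

/-- Elements of prime order of PΩ⁻_n(q), q odd, with no fixed nondegenerate `m`-space of odd dimension. Here `T = PΩ⁻_n(F)`, `n = 2d ≥ 8`, realised through `Ω⁻_n(q)`, the commutator subgroup of the isometry group of `Q = Σ_{i<d−1} xᵢyᵢ + z₁² + a z₁z₂ + b z₂²` with `z₁² + a z₁z₂ + b z₂²` anisotropic, over the field `F` with `q` elements; an element of `T` of prime order `r` is an element `x` of `Ω⁻_n(q)` with `x^r` scalar and `x` not scalar; `q` and `m` are odd, `1 ≤ m < n/2`. The nondegenerate `m`-spaces fall into two isometry classes, each an orbit of `T`, with equivalent actions; fix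 one such space `W₀` and let Ω be the set of nondegenerate `m`-spaces isometric to `W₀`. Let `r` be a prime dividing the size of Ω; for `r ≠ p` let `i` be the multiplicative order of `q` modulo `r`, `c = i` for `i` even and `c = 2i` for `i` odd, and write `k = n mod c`, `ℓ = m mod i`, `ℓ' = m mod c`, `n' = ⌊n/i⌋`, `m' = ⌊m/i⌋`, `t = (r−1)/i`. Then every element of `T` of order `r` fixes a member of Ω if and only if one of: (i) `r = 2` and (`n ≡ 0 (mod 4)` or `q ≢ 7 (mod 8)`); (ii) `r ≠ p` odd, `i` odd, and `k = 0` or (`c ≤ m` and `k > ℓ' > 0`); (iii) `r ≠ p` odd, `i` even, and either `k = 0` and `n/i` even, or `k > 0`, `i ≤ m` and `k > ℓ' > 0`. (For `r = p` there is always an element of order `p` fixing no member of Ω.) -/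
theorem result {F : Type*} [Field F] [Fintype F] {p : ℕ} [Fact p.Prime] [CharP F p] {q : ℕ} (hq : Fintype.card F = q)
    (hodd : Odd q) (d m : ℕ) (hd : 4 ≤ d) (hm : Odd m) (hmd : m < d) (a b : F) (hab : ∀ x y : F, x ^ 2 + a * x * y + b * y ^ 2 = 0 → x = 0 ∧ y = 0)
    (W₀ : Submodule F ((Fin (d - 1) ⊕ Fin (d - 1)) ⊕ Fin 2 → F)) (hW₀ : Module.finrank F ↥W₀ = m ∧ Cfsg.Geo.IsNondegenerateOn (QuadraticMap.polar (Cfsg.quadFormMinus (d - 1) F a b)) W₀)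
    (r : ℕ) [Fact r.Prime]
    (hrΩ : r ∣ Nat.card {W : Submodule F ((Fin (d - 1) ⊕ Fin (d - 1)) ⊕ Fin 2 → F) // Module.finrank F ↥W = m ∧ Cfsg.Geo.IsNondegenerateOn (QuadraticMap.polar (Cfsg.quadFormMinus (d - 1) F a b)) W ∧ Cfsg.Geo.AreIsometricFor (Cfsg.quadFormMinus (d - 1) F a b) W W₀})
    (i c : ℕ) (hi : i = orderOf (q : ZMod r)) (hc : c = if Even i then i else 2 * i) :
    (∀ x : GL ((Fin (d - 1) ⊕ Fin (d - 1)) ⊕ Fin 2) F, x ∈ Cfsg.Geo.omegaGL (Cfsg.quadFormMinus (d - 1) F a b) →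
      (∃ z : F, ((x ^ r : GL ((Fin (d - 1) ⊕ Fin (d - 1)) ⊕ Fin 2) F) : Matrix ((Fin (d - 1) ⊕ Fin (d - 1)) ⊕ Fin 2) ((Fin (d - 1) ⊕ Fin (d - 1)) ⊕ Fin 2) F) = z • (1 : Matrix ((Fin (d - 1) ⊕ Fin (d - 1)) ⊕ Fin 2) ((Fin (d - 1) ⊕ Fin (d - 1)) ⊕ Fin 2) F)) →
      (∀ z : F, (x : Matrix ((Fin (d - 1) ⊕ Fin (d - 1)) ⊕ Fin 2) ((Fin (d - 1) ⊕ Fin (d - 1)) ⊕ Fin 2) F) ≠ z • (1 : Matrix ((Fin (d - 1) ⊕ Fin (d - 1)) ⊕ Fin 2) ((Fin (d - 1) ⊕ Fin (d - 1)) ⊕ Fin 2) F)) →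
      ∃ W : Submodule F ((Fin (d - 1) ⊕ Fin (d - 1)) ⊕ Fin 2 → F), (Module.finrank F ↥W = m ∧ Cfsg.Geo.IsNondegenerateOn (QuadraticMap.polar (Cfsg.quadFormMinus (d - 1) F a b)) W ∧ Cfsg.Geo.AreIsometricFor (Cfsg.quadFormMinus (d - 1) F a b) W W₀) ∧ W.map (Matrix.toLin' (x : Matrix ((Fin (d - 1) ⊕ Fin (d - 1)) ⊕ Fin 2) ((Fin (d - 1) ⊕ Fin (d - 1)) ⊕ Fin 2) F)) ≤ W) ↔
    ((r = 2 ∧ (Even d ∨ q % 8 ≠ 7)) ∨
     (r ≠ p ∧ 2 < r ∧ Odd i ∧ ((2 * d) % c = 0 ∨ (c ≤ m ∧ 0 < m % c ∧ m % c < (2 * d) % c))) ∨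
     (r ≠ p ∧ 2 < r ∧ Even i ∧ (((2 * d) % c = 0 ∧ Even ((2 * d) / i)) ∨ (0 < (2 * d) % c ∧ i ≤ m ∧ 0 < m % c ∧ m % c < (2 * d) % c)))) := by
  have h2 : (2 : F) ≠ 0 := CfsgLib.Classical.Quad.two_ne_zero_of_odd hq hodd
  have hQ := CfsgLib.Classical.Quad.qMinus_nondeg hab (d - 1)
  set Q := CfsgLib.Classical.Quad.qMinus (d - 1) F a b with hQdef
  have hco : ⇑Q = Cfsg.quadFormMinus (d - 1) F a b := CfsgLib.Classical.Quad.coe_qMinus (d - 1) F a b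
  rw [← hco] at hrΩ hW₀ ⊢
  have hT : ¬ CfsgLib.Geo.Elusive.Plus Q (⊤ : Submodule F ((Fin (d - 1) ⊕ Fin (d - 1)) ⊕ Fin 2 → F)) :=
    CfsgLib.Geo.Elusive.not_plus_top_qMinus hab (d - 1)
  have hn : Module.finrank F ((Fin (d - 1) ⊕ Fin (d - 1)) ⊕ Fin 2 → F) = 2 * d := by
    rw [Module.finrank_pi]; simp only [Fintype.card_sum, Fintype.card_fin]; omega
  have hW₀' := CfsgLib.Geo.Elusive.isNondegenerateOn_iff.1 hW₀.2
  have hP : ∀ W : Submodule F ((Fin (d - 1) ⊕ Fin (d - 1)) ⊕ Fin 2 → F),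
      (Module.finrank F W = m ∧ Cfsg.Geo.IsNondegenerateOn (QuadraticMap.polar ⇑Q) W ∧
        Cfsg.Geo.AreIsometricFor (⇑Q) W W₀) ↔ CfsgLib.Geo.Elusive.Iso Q W W₀ := fun W =>
    ⟨fun h => h.2.2, fun h => ⟨h.finrank_eq.trans hW₀.1,
      CfsgLib.Geo.Elusive.isNondegenerateOn_iff.2 (h.symm.nondeg hW₀'), h⟩⟩
  simp only [hP] at hrΩ ⊢
  have hcard : 5 ≤ Fintype.card ((Fin (d - 1) ⊕ Fin (d - 1)) ⊕ Fin 2) := by simp only [Fintype.card_sum, Fintype.card_fin]; omega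
  by_cases hr2 : r = 2
  · subst hr2
    rw [CfsgLib.Geo.Elusive.two_iff_nd h2 hQ (d := d) (by simp only [Fintype.card_sum, Fintype.card_fin]; omega)
      (by omega) hW₀' (by rw [hW₀.1]; exact hm.pos) (by rw [hW₀.1]; omega)]
    have hq2 : q % 2 = 1 := Nat.odd_iff.1 hodd
    simp only [hW₀.1, hT, false_iff, Nat.not_even_iff_odd.2 hm, false_and, CfsgLib.Geo.Elusive.isSquare_neg_one_iff_mod hq,
      CfsgLib.Geo.Elusive.isSquare_two_iff_mod hq, lt_irrefl, and_false, or_false, true_and]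
    rcases Nat.even_or_odd d with he | ho
    · simp [he, Nat.not_odd_iff_even.2 he]
    · simp only [ho, Nat.not_even_iff_odd.2 ho, false_or, or_false, true_and, imp_false]
      omega
  by_cases hrp : r = p
  · subst hrp
    refine iff_of_false (fun hall => ?_) (by
      rintro (⟨h, -⟩ | ⟨h, -⟩ | ⟨h, -⟩) <;> first | exact hr2 h | exact h rfl)
    rcases Nat.even_or_odd d with hde | hdo
    · obtain ⟨g, hgp, hg1, hg, hno⟩ :=
        CfsgLib.Geo.Elusive.exists_no_class hr2 h2 hQ hn hd hde hW₀' (by rw [hW₀.1]; exact hm)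
      obtain ⟨W, hinv, hiso⟩ := (CfsgLib.Geo.Elusive.allFix_scalar_iff _ hQ hcard hr2).1 hall g hgp hg1 hg
      exact hno W hinv hiso
    · obtain ⟨g, hgp, hg1, hg, hno⟩ :=
        CfsgLib.Geo.Elusive.exists_no_odd hr2 h2 hQ hn (by omega) hm (Or.inr hdo)
      obtain ⟨W, hinv, hiso⟩ := (CfsgLib.Geo.Elusive.allFix_scalar_iff _ hQ hcard hr2).1 hall g hgp hg1 hg
      exact hno W hinv (hiso.symm.nondeg hW₀') (hiso.finrank_eq.trans hW₀.1)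
  have hrF : (r : F) ≠ 0 := CfsgLib.Geo.PrimeAct.natCast_ne_zero_of_ringChar (Fact.out : r.Prime) hrp
  have hq' : Nat.card F = q := by rw [Nat.card_eq_fintype_card, hq]
  have hi' : orderOf (Nat.card F : ZMod r) = i := by rw [hq', hi]
  have hcs : CfsgLib.Geo.Elusive.cstep i = c := by rw [hc]; rfl
  have hi0 : 0 < i := hi' ▸ CfsgLib.Geo.Elusive.ord_pos hrF
  have hr3 : 2 < r := lt_of_le_of_ne (Fact.out : r.Prime).two_le (Ne.symm hr2)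
  rw [CfsgLib.Geo.Elusive.allFix_scalar_iff _ hQ hcard hr2]
  refine CfsgLib.Geo.Elusive.main_crit hQ hr2 hrF hW₀' (by rw [hW₀.1]; exact hm.pos)
    (by rw [hW₀.1, hn]; omega) (Or.inr ⟨d, by omega⟩) hrΩ ?_ ?_
  all_goals simp only [hi', hcs, hn, hW₀.1, hr2, hr3, hrp, ne_eq, not_false_eq_true, false_and, false_or, true_and,
    CfsgLib.Geo.Elusive.GenCrit, CfsgLib.Geo.Elusive.Sgn, hT, false_iff, not_not]
  all_goals (have hdvd : 2 ∣ c := hcs ▸ even_iff_two_dvd.1 (CfsgLib.Geo.Elusive.cstep_even i))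
  all_goals (have hmc : m % c % 2 = 1 := (Nat.mod_mod_of_dvd m hdvd).trans (Nat.odd_iff.1 hm))
  all_goals rcases Nat.even_or_odd i with hie | hio
  · obtain rfl : c = i := by rw [hc, if_pos hie]
    rintro (⟨ho, -⟩ | ⟨-, ⟨h0, h1⟩ | ⟨-, -, h2, h3⟩⟩)
    · exact absurd ho (Nat.not_odd_iff_even.2 hie)
    · exact Or.inl ⟨h0, Or.inr h1⟩
    · exact Or.inr (Or.inr ⟨by omega, Or.inl h3⟩)
  · rintro (⟨-, h0 | ⟨-, h1, h3⟩⟩ | ⟨he, -⟩)
    · exact Or.inl ⟨h0, Or.inl hio⟩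
    · exact Or.inr (Or.inr ⟨h1, Or.inl h3⟩)
    · exact absurd he (Nat.not_even_iff_odd.2 hio)
  · obtain rfl : c = i := by rw [hc, if_pos hie]
    intro hcm h
    refine Or.inr ⟨hie, ?_⟩
    rcases h with ⟨h0, h1⟩ | ⟨h0, -⟩ | ⟨h0, h1 | ⟨h1, -⟩⟩
    · exact Or.inl ⟨h0, h1.resolve_left (Nat.not_odd_iff_even.2 hie)⟩
    · omega
    · exact Or.inr ⟨by omega, hcm, h0, h1⟩
    · exact absurd hm (Nat.not_odd_iff_even.2 h1)
  · intro hcm h
    refine Or.inl ⟨hio, ?_⟩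
    rcases h with ⟨h0, -⟩ | ⟨h0, -⟩ | ⟨h0, h1 | ⟨h1, -⟩⟩
    · exact Or.inl h0
    · omega
    · exact Or.inr ⟨hcm, h0, h1⟩
    · exact absurd hm (Nat.not_odd_iff_even.2 h1)

end Cfsg.Agent.S5991
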