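import Cfsg.Statements.S5993
import Cfsg.Agent.Lib.Geo.Elusive.NDFinal
import Cfsg.Agent.Lib.Geo.Elusive.Involution
import Cfsg.Agent.Lib.Geo.Elusive.UnipotentWitness
-- import your own Cfsg.Agent.* helpers here

set_option autoImplicit false
set_option maxHeartbeats 800000
open scoped MatrixGroups
open Cfsg

namespace Cfsg.Agent.S5993

/-- Elements of prime order of Ω_n(q), nq odd, with no fixed elliptic `m`-space. Here `T = Ω_n(F)`, `n = 2d+1 ≥ 7`, `q` odd, realised as the commutator subgroup of the isometry group of `Q = x₀² + Σ xᵢyᵢ` over the field `F` with `q` elements (trivial centre, so its elements of prime order `r` are used directly); a nondegenerate `m`-space (even `m`) is a subspace on which the polar form of `Q` is nondegenerate; it is hyperbolic if it contains an `m/2`-dimensional subspace on which `Q` vanishes, elliptic otherwise. Let `m` be even with `2 ≤ m ≤ n − 1` (no restriction `m < n/2`)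 and let `r` be a prime dividing the number of elliptic `m`-spaces; for `r ≠ p` let `i` be the multiplicative order of `q` modulo `r`, `c = i` for `i` even and `c = 2i` for `i` odd, and write `k = n mod c`, `ℓ' = m mod c`. Then every element of `T` of order `r` fixes some elliptic `m`-space if and only if `r = 2`, or `r ≠ p` is odd and one of: (i) `i` odd, `c ≤ m` and `k > ℓ' > 0`; (ii) `i` even, `i ≤ m`, `k > ℓ'`, and `m/i` odd whenever `ℓ' = 0`. (For `r = p` there is always an element of order `p` fixing no elliptic `m`-space.) -/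
theorem result {F : Type*} [Field F] [Fintype F] {p : ℕ} [Fact p.Prime] [CharP F p] {q : ℕ} (hq : Fintype.card F = q) (hqodd : Odd q)
    (d m : ℕ) (hd : 3 ≤ d) (hm : 2 ≤ m) (hme : Even m) (hmn : m ≤ 2 * d)
    (r : ℕ) [Fact r.Prime]
    (hrΩ : r ∣ Nat.card {W : Submodule F (Unit ⊕ (Fin d ⊕ Fin d) → F) // Module.finrank F ↥W = m ∧ Cfsg.Geo.IsNondegenerateOn (QuadraticMap.polar (Cfsg.quadFormOdd d F)) W ∧ ¬ Cfsg.Geo.IsPlusTypeOn (Cfsg.quadFormOdd d F) W})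
    (i c : ℕ) (hi : i = orderOf (q : ZMod r)) (hc : c = if Even i then i else 2 * i) :
    (∀ x : GL (Unit ⊕ (Fin d ⊕ Fin d)) F, x ∈ Cfsg.Geo.omegaGL (Cfsg.quadFormOdd d F) → orderOf x = r →
      ∃ W : Submodule F (Unit ⊕ (Fin d ⊕ Fin d) → F), (Module.finrank F ↥W = m ∧ Cfsg.Geo.IsNondegenerateOn (QuadraticMap.polar (Cfsg.quadFormOdd d F)) W ∧ ¬ Cfsg.Geo.IsPlusTypeOn (Cfsg.quadFormOdd d F) W) ∧ W.map (Matrix.toLin' (x : Matrix (Unit ⊕ (Fin d ⊕ Fin d)) (Unit ⊕ (Fin d ⊕ Fin d)) F)) ≤ W) ↔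
    (r = 2 ∨
     (r ≠ p ∧ 2 < r ∧ Odd i ∧ c ≤ m ∧ 0 < m % c ∧ m % c < (2 * d + 1) % c) ∨
     (r ≠ p ∧ 2 < r ∧ Even i ∧ i ≤ m ∧ m % c < (2 * d + 1) % c ∧ (0 < m % c ∨ Odd (m / i)))) := by
  have h2 : (2 : F) ≠ 0 := CfsgLib.Classical.Quad.two_ne_zero_of_odd hq hqodd
  have hQ := CfsgLib.Classical.Quad.qOdd_nondeg (F := F) h2 d
  set Q := CfsgLib.Classical.Quad.qOdd d F with hQdef
  have hco : ⇑Q = Cfsg.quadFormOdd d F := CfsgLib.Classical.Quad.coe_qOdd d F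
  rw [← hco] at hrΩ ⊢
  have hn : Module.finrank F (Unit ⊕ (Fin d ⊕ Fin d) → F) = 2 * d + 1 := by
    rw [Module.finrank_pi]; simp only [Fintype.card_sum, Fintype.card_fin, Fintype.card_unit]; omega
  obtain ⟨k, hk⟩ := hme
  obtain ⟨W₀, -, hW₀, hW₀p, hW₀d⟩ := CfsgLib.Geo.Elusive.exists_minus_sub
    (CfsgLib.Geo.Elusive.nondeg_top hQ) (k := k) (by omega) (by rw [finrank_top, hn]; omega)
  have hW₀m : Module.finrank F W₀ = m := by omega
  have hP : ∀ W : Submodule F (Unit ⊕ (Fin d ⊕ Fin d) → F),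
      (Module.finrank F W = m ∧ Cfsg.Geo.IsNondegenerateOn (QuadraticMap.polar ⇑Q) W ∧
        ¬ Cfsg.Geo.IsPlusTypeOn (⇑Q) W) ↔ CfsgLib.Geo.Elusive.Iso Q W W₀ := fun W => by
    rw [← CfsgLib.Geo.Elusive.type_iff_iso hW₀ ⟨k, by omega⟩, hW₀m, CfsgLib.Geo.Elusive.isNondegenerateOn_iff]
    exact ⟨fun h => ⟨h.1, h.2.1, iff_of_false h.2.2 hW₀p⟩, fun h => ⟨h.1, h.2.1, fun hp => hW₀p (h.2.2.1 hp)⟩⟩
  simp only [hP] at hrΩ ⊢
  by_cases hr2 : r = 2
  · refine iff_of_true ?_ (Or.inl hr2)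
    intro x hx ho
    obtain ⟨W, hinv, hiso⟩ := CfsgLib.Geo.Elusive.involution_fix h2 hQ (by omega)
      (g := Matrix.toLinAlgEquiv' (x : Matrix _ _ F)) (CfsgLib.Geo.Elusive.isometry_of_mem_lin hx)
      (by rw [← map_mul, ← Units.val_mul, ← pow_two, show x ^ 2 = 1 from hr2 ▸ ho ▸ pow_orderOf_eq_one x,
        Units.val_one, map_one])
      hW₀ (by omega) (by omega)
    refine ⟨W, hiso, ?_⟩
    rintro _ ⟨v, hv, rfl⟩
    simpa only [Matrix.toLin'_apply, Matrix.toLinAlgEquiv'_apply] using hinv v hv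
  by_cases hrp : r = p
  · subst hrp
    refine iff_of_false (fun hall => ?_) (by rintro (h | ⟨h, -⟩ | ⟨h, -⟩) <;> first | exact hr2 h | exact h rfl)
    obtain ⟨g, hgp, hg1, hg, hplus⟩ := CfsgLib.Geo.Elusive.exists_plus_only_odd hr2 h2 hQ (d := d) hn (by omega)
    have hcard : 5 ≤ Fintype.card (Unit ⊕ (Fin d ⊕ Fin d)) := by
      simp only [Fintype.card_sum, Fintype.card_fin, Fintype.card_unit]
      omega
    obtain ⟨W, hinv, hiso⟩ := (CfsgLib.Geo.Elusive.allFix_order_iff _ hQ hcard hr2).1 hall g hgp hg1 hg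
    exact hW₀p (hiso.plus (hplus W hinv (hiso.symm.nondeg hW₀) ⟨k, by rw [hiso.finrank_eq, hW₀m, hk]⟩))
  have hrF : (r : F) ≠ 0 := CfsgLib.Geo.PrimeAct.natCast_ne_zero_of_ringChar (Fact.out : r.Prime) hrp
  have hq' : Nat.card F = q := by rw [Nat.card_eq_fintype_card, hq]
  have hi' : orderOf (Nat.card F : ZMod r) = i := by rw [hq', hi]
  have hcs : CfsgLib.Geo.Elusive.cstep i = c := by rw [hc]; rfl
  have hi0 : 0 < i := hi' ▸ CfsgLib.Geo.Elusive.ord_pos hrF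
  have hr3 : 2 < r := lt_of_le_of_ne (Fact.out : r.Prime).two_le (Ne.symm hr2)
  have hcard : 5 ≤ Fintype.card (Unit ⊕ (Fin d ⊕ Fin d)) := by
    simp only [Fintype.card_sum, Fintype.card_fin, Fintype.card_unit]
    omega
  rw [CfsgLib.Geo.Elusive.allFix_order_iff _ hQ hcard hr2]
  refine CfsgLib.Geo.Elusive.main_crit hQ hr2 hrF hW₀ (by omega) (by omega) (Or.inl ⟨k, by omega⟩) hrΩ ?_ ?_
  all_goals simp only [hi', hcs, hn, hW₀m, hr2, hr3, hrp, ne_eq, not_false_eq_true, false_or, true_and,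
    CfsgLib.Geo.Elusive.GenCrit, CfsgLib.Geo.Elusive.Sgn, hW₀p, false_iff, not_or]
  all_goals rcases Nat.even_or_odd i with hie | hio
  · obtain rfl : c = i := by rw [hc, if_pos hie]
    rintro (⟨ho, -⟩ | ⟨-, h1, h2, h3⟩)
    · exact absurd ho (Nat.not_odd_iff_even.2 hie)
    · rcases Nat.eq_zero_or_pos (m % c) with h0 | h0
      · exact Or.inr (Or.inl ⟨h0, Nat.not_odd_iff_even.2 hie, Nat.not_even_iff_odd.2 (h3.resolve_left (by omega))⟩)
      · exact Or.inr (Or.inr ⟨h0, Or.inl h2⟩)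
  · rintro (⟨-, -, h0, h1⟩ | ⟨he, -⟩)
    · exact Or.inr (Or.inr ⟨h0, Or.inl h1⟩)
    · exact absurd he (Nat.not_even_iff_odd.2 hio)
  · obtain rfl : c = i := by rw [hc, if_pos hie]
    intro hcm h
    have hdvd : 2 ∣ c := even_iff_two_dvd.1 hie
    have hk2 := Nat.mod_mod_of_dvd (2 * d + 1) hdvd
    have hm2 := Nat.mod_mod_of_dvd m hdvd
    refine Or.inr ⟨hie, hcm, ?_⟩
    rcases h with ⟨h0, -⟩ | ⟨h0, -, h1⟩ | ⟨h0, h1 | ⟨-, h1, -⟩⟩
    · omega
    · exact ⟨by omega, Or.inr (Nat.not_even_iff_odd.1 h1)⟩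
    · exact ⟨h1, Or.inl h0⟩
    · omega
  · intro hcm h
    refine Or.inl ⟨hio, hcm, ?_⟩
    have hdvd : 2 ∣ c := ⟨i, by rw [hc, if_neg (Nat.not_even_iff_odd.2 hio)]⟩
    have hk2 := Nat.mod_mod_of_dvd (2 * d + 1) hdvd
    have hm2 := Nat.mod_mod_of_dvd m hdvd
    rcases h with ⟨h0, -⟩ | ⟨-, h1, -⟩ | ⟨h0, h1 | ⟨-, h1, -⟩⟩
    · omega
    · exact absurd hio h1
    · exact ⟨h0, h1⟩
    · omega

end Cfsg.Agent.S5993
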